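import Cfsg.Agent.Char.SymCore
import Mathlib.NumberTheory.Padics.PadicVal.Basic

/-!
# Characters of symmetric groups with small quotient

We move three beads of a core: the two top beads `a`, `a'` of one runner and the top bead `b` of
another one, and evaluate the Murnaghan-Nakayama recursion.
-/

set_option autoImplicit false

open Equiv Finset Cfsg Cfsg.Lib.Char

namespace Cfsg.Lib.SymChar

variable {ι : Type*} [Fintype ι] [DecidableEq ι] {p : ℕ} {κ : ι → ℕ} {a a' b : ι}

/-- The removal rule for a core with beads pushed up by multiples of `p`. -/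
theorem IsCore.A_add (hκ : IsCore p κ) {f : (ι → ℕ) → ℂ} (hf : Anti f) {r : ℕ} {c : ι → ℕ}
    (hc : ∀ i k, κ k % p = κ i % p → κ k < κ i → c i < r → c k = 0) (hp : 0 < p) :
    A (p * r) f (fun i => κ i + p * c i) =
      ∑ i, if r ≤ c i then f (fun k => κ k + p * dn c i r k) else 0 := by
  unfold A
  refine Finset.sum_congr rfl fun i _ => ?_
  by_cases h : r ≤ c i
  · rw [if_pos h, if_pos ((Nat.mul_le_mul_left p h).trans (Nat.le_add_left _ _))]
    congr 1
    funext k
    rcases eq_or_ne k i with rfl | hk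
    · rw [dn_self, dn_self, Nat.mul_sub, Nat.add_sub_assoc (Nat.mul_le_mul_left p h)]
    · rw [dn_of_ne _ hk, dn_of_ne _ hk]
  rw [if_neg h]
  split_ifs with h'
  · obtain ⟨s, rfl⟩ := Nat.exists_eq_add_of_lt (not_le.1 h)
    have h1 : p * (s + 1) ≤ κ i := by nlinarith
    obtain ⟨k, hk⟩ := hκ.exists_eq_sub i h1
    have h2 : κ k < κ i := by
      have : 0 < p * (s + 1) := by positivity
      omega
    have h3 := hc i k (by rw [hk, sub_mod_of_le h1]) h2 (by omega)
    have hki : k ≠ i := fun e => by rw [e] at h2; exact lt_irrefl _ h2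
    refine hf.eq_zero fun e => hki (e ?_)
    rw [dn_of_ne _ hki, dn_self, h3, hk]
    have : p * (c i + s + 1) = p * c i + p * (s + 1) := by ring
    omega
  · rfl

/-- Two top beads on one runner and a top bead on another runner. -/
structure Tops (p : ℕ) (κ : ι → ℕ) (a a' b : ι) : Prop where
  core : IsCore p κ
  pos : 0 < p
  top_a : ∀ k, κ k % p = κ a % p → κ k ≤ κ a
  top_b : ∀ k, κ k % p = κ b % p → κ k ≤ κ b
  add : κ a' + p = κ a
  ne : κ a % p ≠ κ b % p

/-- The displacement vector of the three beads. -/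
def tri (a a' b : ι) (x z y : ℕ) (i : ι) : ℕ :=
  if i = a then x else if i = a' then z else if i = b then y else 0

/-- The core with three beads moved. -/
def mv (p : ℕ) (κ : ι → ℕ) (a a' b : ι) (x z y : ℕ) (i : ι) : ℕ := κ i + p * tri a a' b x z y i

omit [Fintype ι] in
theorem mv_zero : mv p κ a a' b 0 0 0 = κ := by
  funext i; simp [mv, tri]

omit [DecidableEq ι] in
theorem IsCore.exists_tops (h : IsCore p κ) (hp : 0 < p) {j k : ℕ} (hj : j < p) (hk : k < p)
    (hjk : j ≠ k) (h2 : 2 ≤ cnt p κ j) (h1 : 1 ≤ cnt p κ k) :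
    ∃ a a' b, Tops p κ a a' b ∧ κ a % p = j := by
  have key : ∀ {j : ℕ}, j < p → ∀ m < cnt p κ j, ∃ i, κ i = p * m + j := fun {j} hj m hm =>
    (h.exists_eq_iff hp _).2 (by
      rwa [Nat.mul_add_mod, Nat.mod_eq_of_lt hj, Nat.mul_add_div hp, Nat.div_eq_of_lt hj, add_zero])
  have top : ∀ {j : ℕ}, j < p → ∀ i l, κ i = p * (cnt p κ j - 1) + j → κ l % p = κ i % p →
      κ l ≤ κ i := fun {j} hj i l hi hl => by
    have h3 := (h.exists_eq_iff hp _).1 ⟨l, rfl⟩
    rw [hi, Nat.mul_add_mod, Nat.mod_eq_of_lt hj] at hl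
    rw [hl] at h3
    rw [hi, ← Nat.div_add_mod (κ l) p, hl]
    exact Nat.add_le_add_right (Nat.mul_le_mul_left p (by omega)) _
  obtain ⟨a, ha⟩ := key hj (cnt p κ j - 1) (by omega)
  obtain ⟨a', ha'⟩ := key hj (cnt p κ j - 2) (by omega)
  obtain ⟨b, hb⟩ := key hk (cnt p κ k - 1) (by omega)
  have e1 : κ a % p = j := by rw [ha, Nat.mul_add_mod, Nat.mod_eq_of_lt hj]
  refine ⟨a, a', b, ⟨h, hp, fun l => top hj a l ha, fun l => top hk b l hb, ?_, ?_⟩, e1⟩
  · rw [ha, ha', show cnt p κ j - 1 = cnt p κ j - 2 + 1 by omega]; ring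
  · rwa [e1, hb, Nat.mul_add_mod, Nat.mod_eq_of_lt hk]

namespace Tops

variable (h : Tops p κ a a' b)
include h

omit [Fintype ι] [DecidableEq ι] in
theorem mod_a' : κ a' % p = κ a % p := by rw [← h.add, Nat.add_mod_right]

omit [Fintype ι] [DecidableEq ι] in
theorem a'_ne : a' ≠ a := fun e => by have := h.add; have := h.pos; rw [e] at *; omega

omit [Fintype ι] [DecidableEq ι] in
theorem b_ne : b ≠ a := fun e => h.ne (by rw [e])

omit [Fintype ι] [DecidableEq ι] in
theorem b_ne' : b ≠ a' := fun e => h.ne (by rw [e, h.mod_a'])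

theorem sum_tri {R : Type*} [AddCommMonoid R] (g : ι → R)
    (hg : ∀ i, i ≠ a → i ≠ a' → i ≠ b → g i = 0) : ∑ i, g i = g a + g a' + g b := by
  rw [← Finset.sum_subset (Finset.subset_univ {a, a', b}) fun i _ hi => by
    simp only [mem_insert, mem_singleton, not_or] at hi
    exact hg i hi.1 hi.2.1 hi.2.2,
    Finset.sum_insert (by simp [h.a'_ne.symm, h.b_ne.symm]), Finset.sum_pair h.b_ne'.symm, add_assoc]

theorem A_mv {f : (ι → ℕ) → ℂ} (hf : Anti f) {r x z y : ℕ} (hr : 0 < r) (hx : r ≤ x ∨ z = 0) :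
    A (p * r) f (mv p κ a a' b x z y) = (if r ≤ x then f (mv p κ a a' b (x - r) z y) else 0) +
      (if r ≤ z then f (mv p κ a a' b x (z - r) y) else 0) +
      (if r ≤ y then f (mv p κ a a' b x z (y - r)) else 0) := by
  have h1 := h.a'_ne
  have h2 := h.b_ne
  have h3 := h.b_ne'
  refine (h.core.A_add hf (c := tri a a' b x z y) (fun i k hm hlt hi => ?_) h.pos).trans ?_
  · unfold tri
    split_ifs with e1 e2 e3
    · subst e1; exact absurd (h.top_a i hm.symm) (not_le.2 hlt)
    · subst e2
      have := add_le_of_mod h.pos hm hlt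
      have h4 := h.top_a i (hm.symm.trans h.mod_a')
      have h5 : i = a := h.core.1 (by have := h.add; omega)
      rw [h5, tri, if_pos rfl] at hi
      omega
    · subst e3; exact absurd (h.top_b i hm.symm) (not_le.2 hlt)
    · rfl
  rw [h.sum_tri _ fun i e1 e2 e3 => by simp [tri, e1, e2, e3, hr.ne']]
  simp only [tri, if_pos, if_neg h1, if_neg h2, if_neg h3]
  congr 2 <;> [congr 2; congr 2; congr 1] <;> funext k <;> simp only [mv, dn, tri] <;>
    congr 2 <;> rw [Function.update_apply] <;> split_ifs <;> simp_all [tri]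

theorem F_mv_two (μ : Multiset ℕ) (n x y : ℕ) (hn : x + y = n) :
    F (Multiset.replicate n p + μ) (mv p κ a a' b x 0 y) = (n.choose y : ℂ) * F μ κ := by
  induction n generalizing x y with
  | zero =>
    obtain ⟨rfl, rfl⟩ := Nat.add_eq_zero_iff.1 hn
    simp [mv_zero]
  | succ n ih =>
    rw [Multiset.replicate_succ, Multiset.cons_add, F_cons]
    have := h.A_mv (anti_F (Multiset.replicate n p + μ)) (x := x) (z := 0) (y := y) one_pos
      (Or.inr rfl)
    rw [mul_one] at this
    rw [this, if_neg (by omega : ¬ 1 ≤ 0), add_zero]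
    rcases x with _ | x <;> rcases y with _ | y
    · omega
    · obtain rfl : y = n := by omega
      simp [ih 0 y (by simp)]
    · simp [ih x 0 (by omega)]
    · simp only [le_add_iff_nonneg_left, zero_le, if_true, add_tsub_cancel_right,
        ih x (y + 1) (by omega), ih (x + 1) y (by omega), Nat.choose_succ_succ']
      push_cast; ring

theorem F_mv_three (μ : Multiset ℕ) (n x y : ℕ) (hn : x + y = n) :
    F (Multiset.replicate (n + 1) p + μ) (mv p κ a a' b x 1 y) =
      ((x * (n + 1).choose y : ℕ) : ℂ) * F μ κ := by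
  have zero : ∀ ν y, F ν (mv p κ a a' b 0 1 y) = 0 := fun ν y =>
    (anti_F _).eq_zero fun e => h.a'_ne (e (by simp [mv, tri, h.a'_ne, h.add]))
  induction n generalizing x y with
  | zero =>
    obtain ⟨rfl, rfl⟩ := Nat.add_eq_zero_iff.1 hn
    simp [zero]
  | succ n ih =>
    rcases x with _ | x
    · simp [zero]
    rw [Multiset.replicate_succ, Multiset.cons_add, F_cons]
    have := h.A_mv (anti_F (Multiset.replicate (n + 1) p + μ)) (x := x + 1) (z := 1) (y := y)
      one_pos (Or.inl (by omega))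
    rw [mul_one] at this
    rw [this, if_pos (by omega), if_pos le_rfl, add_tsub_cancel_right, ih x y (by omega),
      Nat.sub_self, h.F_mv_two μ _ _ _ hn]
    rcases y with _ | y
    · simp; ring
    · rw [if_pos (by omega), add_tsub_cancel_right, ih (x + 1) y (by omega),
        Nat.choose_succ_succ' (n + 1)]
      push_cast; ring

theorem F_mv_cons (μ : Multiset ℕ) (r n x y : ℕ) (hr : 0 < r) (hn : x + y = n + r) :
    F ((p * r) ::ₘ (Multiset.replicate n p + μ)) (mv p κ a a' b x 0 y) =
      (((if r ≤ x then n.choose y else 0) + (if r ≤ y then n.choose (y - r) else 0) : ℕ) : ℂ) *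
        F μ κ := by
  rw [F_cons, h.A_mv (anti_F _) hr (Or.inr rfl), if_neg (by omega : ¬ r ≤ 0), add_zero]
  split_ifs with h1 h2 h2
  · rw [h.F_mv_two μ n _ _ (by omega), h.F_mv_two μ n _ _ (by omega)]; push_cast; ring
  · rw [h.F_mv_two μ n _ _ (by omega)]; simp
  · rw [h.F_mv_two μ n _ _ (by omega)]; simp
  · simp

omit h in
theorem cnt_mv (x z y : ℕ) : cnt p (mv p κ a a' b x z y) = cnt p κ :=
  cnt_congr fun i => by rw [mv, Nat.add_mul_mod_self_left]

theorem sum_mv (x z y : ℕ) : ∑ i, mv p κ a a' b x z y i = ∑ i, κ i + p * (x + z + y) := by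
  simp only [mv, Finset.sum_add_distrib, ← Finset.mul_sum]
  rw [h.sum_tri (tri a a' b x z y) fun i e1 e2 e3 => by simp [tri, e1, e2, e3]]
  simp [tri, h.a'_ne, h.b_ne, h.b_ne']

theorem wt_mv {x z y : ℕ} (hi : Function.Injective (mv p κ a a' b x z y)) :
    wt p (mv p κ a a' b x z y) = x + z + y := by
  have h1 := h.core.sum_add h.pos hi (cnt_mv x z y)
  rw [h.sum_mv] at h1
  exact Nat.eq_of_mul_eq_mul_left h.pos (by omega)

end Tops

theorem F_replicate_one_ne_zero (hκ : Function.Injective κ) :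
    F (Multiset.replicate (wt 1 κ) 1) κ ≠ 0 := by
  have := chi_one_ne_zero (Ω := Fin (wt 1 κ)) hκ (mem_T.2 (by
    rw [Fintype.card_fin, sum_del_add hκ]))
  rwa [chi_apply, parts_one, Fintype.card_fin] at this

/-- Reading off the number of ways to strip the `p`-hooks from a character value. -/
theorem IsCore.NP_eq (hp : 0 < p) (hκ : IsCore p κ) {β : ι → ℕ} (hβ : Function.Injective β)
    (hc : cnt p β = cnt p κ) {m : ℕ}
    (h : ∀ μ, F (Multiset.replicate (wt p β) p + μ) β = (m : ℂ) * F μ κ) : NP p β = m := by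
  obtain ⟨w, hw⟩ := hκ.exists_perm hp (isCore_core hp hβ) ((cnt_core β).trans hc)
  have h1 := h (Multiset.replicate (wt 1 κ) 1)
  rw [F_replicate_add hp hβ, hw, anti_F, ← mul_assoc] at h1
  have h2 := congrArg norm (mul_right_cancel₀ (F_replicate_one_ne_zero hκ.1) h1)
  rcases sg_eq w with e | e <;> simpa [e] using h2

theorem factorization_choose_mul_add (hp : p.Prime) {A B r s : ℕ} (hB : B ≤ A) (hs : s ≤ r)
    (hr : r < p) :
    ((p * A + r).choose (p * B + s)).factorization p = (A.choose B).factorization p := by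
  have := Fact.mk hp
  have key : ∀ A r, r < p → (p * A + r).factorial.factorization p =
      A + A.factorial.factorization p := fun A r hr => by
    rw [Nat.factorization_def _ hp, Nat.factorization_def _ hp,
      padicValNat_factorial_mul_add _ hr, padicValNat_factorial_mul, add_comm]
  have ch : ∀ {n k : ℕ}, k ≤ n → (n.choose k).factorization p + k.factorial.factorization p +
      (n - k).factorial.factorization p = n.factorial.factorization p := fun {n k} h => by
    rw [← Nat.choose_mul_factorial_mul_factorial h, Nat.factorization_mul (by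
        have := Nat.choose_pos h; positivity) (Nat.factorial_ne_zero _),
      Nat.factorization_mul (Nat.choose_pos h).ne' (Nat.factorial_ne_zero _)]
    rfl
  have h1 := ch hB
  have h2 := ch (n := p * A + r) (k := p * B + s) (add_le_add (Nat.mul_le_mul_left p hB) hs)
  obtain ⟨C, rfl⟩ := Nat.exists_eq_add_of_le hB
  obtain ⟨t, rfl⟩ := Nat.exists_eq_add_of_le hs
  rw [show p * (B + C) + (s + t) - (p * B + s) = p * C + t by rw [mul_add]; omega, key _ _ hr,
    key _ _ (by omega), key _ _ (by omega)] at h2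
  rw [add_tsub_cancel_left] at h1
  omega

theorem exists_choose_of_dvd (hp : p.Prime) {q : ℕ} (h0 : 0 < q) (h : p ∣ q) :
    ∃ y ≤ q, (q.choose y).factorization p = 1 := by
  induction q using Nat.strong_induction_on with
  | _ q ih =>
    obtain ⟨q, rfl⟩ := h
    have hq : 0 < q := Nat.pos_of_mul_pos_left h0
    by_cases h : p ∣ q
    · obtain ⟨y, h1, h2⟩ := ih q (lt_mul_of_one_lt_left hq hp.one_lt) hq h
      exact ⟨p * y, Nat.mul_le_mul_left p h1,
        (factorization_choose_mul_add hp h1 le_rfl hp.pos).trans h2⟩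
    · refine ⟨1, h0, ?_⟩
      rw [Nat.choose_one_right, Nat.factorization_mul hp.pos.ne' hq.ne', Finsupp.add_apply,
        hp.factorization_self, Nat.factorization_eq_zero_of_not_dvd h]

theorem exists_choose_or (hp : p.Prime) {w : ℕ} (hw : p ≤ w) :
    (∃ y ≤ w, (w.choose y).factorization p = 1) ∨
      (p + 1 ≤ w ∧ ¬ p ∣ w ∧ (w.choose (p + 1)).factorization p = 0) := by
  by_cases h1 : p ∣ w
  · exact Or.inl (exists_choose_of_dvd hp (hp.pos.trans_le hw) h1)
  have h2 : 0 < w % p := Nat.pos_of_ne_zero fun e => h1 (Nat.dvd_of_mod_eq_zero e)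
  have h3 : 0 < w / p := Nat.div_pos hw hp.pos
  by_cases h4 : p ∣ w / p
  · obtain ⟨y, h5, h6⟩ := exists_choose_of_dvd hp h3 h4
    refine Or.inl ⟨p * y, (Nat.mul_le_mul_left p h5).trans (Nat.mul_div_le w p), ?_⟩
    rw [← h6, ← factorization_choose_mul_add hp h5 (Nat.zero_le _) (Nat.mod_lt w hp.pos),
      Nat.div_add_mod, add_zero]
  · refine Or.inr ⟨lt_of_le_of_ne hw fun e => h1 (e ▸ dvd_rfl), h1, ?_⟩
    have := factorization_choose_mul_add hp (A := w / p) (B := 1) h3 h2 (Nat.mod_lt w hp.pos)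
    rw [Nat.div_add_mod, mul_one, Nat.choose_one_right] at this
    rw [this, Nat.factorization_eq_zero_of_not_dvd h4]

end Cfsg.Lib.SymChar
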