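import Cfsg.Agent.Char.SymIrr
import Cfsg.Agent.Char.Central
import Cfsg.Agent.Block.BrauerMap
import Mathlib.Data.ZMod.Basic
import Mathlib.Data.Nat.Choose.Factorization

/-!
# Young subgroups with two factors and centralizers of products of `p`-cycles
-/

set_option autoImplicit false

open Equiv Finset Cfsg Cfsg.Lib.Char Subgroup

namespace Cfsg.Lib.SymChar

variable {Ω : Type*} [Fintype Ω] [DecidableEq Ω] {P : Ω → Prop} [DecidablePred P] {p w : ℕ}

/-- The embedding of the Young subgroup of a predicate. -/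
abbrev jj {Ω : Type*} (P : Ω → Prop) [DecidablePred P] :
    Perm {x // P x} × Perm {x // ¬ P x} →* Perm Ω := Perm.subtypeCongrHom P

omit [Fintype Ω] [DecidableEq Ω] in
theorem jj_left (a : Perm {x // P x}) (b : Perm {x // ¬ P x}) {x : Ω} (h : P x) :
    jj P (a, b) x = a ⟨x, h⟩ := Perm.subtypeCongr.left_apply a b h

omit [Fintype Ω] [DecidableEq Ω] in
theorem jj_right (a : Perm {x // P x}) (b : Perm {x // ¬ P x}) {x : Ω} (h : ¬ P x) :
    jj P (a, b) x = b ⟨x, h⟩ := Perm.subtypeCongr.right_apply a b h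

omit [Fintype Ω] [DecidableEq Ω] in
theorem jj_injective : Function.Injective (jj P) := Perm.subtypeCongrHom_injective P

omit [Fintype Ω] [DecidableEq Ω] in
theorem jj_eq (a : Perm {x // P x}) (b : Perm {x // ¬ P x}) :
    jj P (a, b) = Perm.ofSubtype a * Perm.ofSubtype b := by
  ext x
  by_cases h : P x
  · rw [jj_left a b h, Perm.mul_apply, Perm.ofSubtype_apply_of_not_mem b (not_not.2 h),
      Perm.ofSubtype_apply_of_mem a h]
  · rw [jj_right a b h, Perm.mul_apply, Perm.ofSubtype_apply_of_mem b h,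
      Perm.ofSubtype_apply_of_not_mem a (b ⟨x, h⟩).2]

omit [Fintype Ω] [DecidableEq Ω] in
theorem jj_one_right (a : Perm {x // P x}) : jj P (a, 1) = Perm.ofSubtype a := by
  rw [jj_eq, map_one, mul_one]

omit [Fintype Ω] [DecidableEq Ω] in
theorem exists_jj {h : Perm Ω} (hh : ∀ x, P (h x) ↔ P x) : ∃ a b, h = jj P (a, b) := by
  refine ⟨h.subtypePerm hh, h.subtypePerm fun x => not_congr (hh x), ?_⟩
  ext x
  by_cases hx : P x
  · rw [jj_left _ _ hx]; rfl
  · rw [jj_right _ _ hx]; rfl

omit [Fintype Ω] [DecidableEq Ω] in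
theorem exists_jj_of_fix_left {h : Perm Ω} (hh : ∀ x, P x → h x = x) : ∃ b, h = jj P (1, b) := by
  obtain ⟨a, b, rfl⟩ := exists_jj (P := P) (h := h) fun x => ⟨fun hx => by
    rwa [← h.injective (hh _ hx)], fun hx => by rwa [hh x hx]⟩
  refine ⟨b, ?_⟩
  congr 2
  ext x
  rw [← jj_left a b x.2, hh x x.2]; rfl

omit [Fintype Ω] [DecidableEq Ω] in
theorem exists_jj_of_fix_right {h : Perm Ω} (hh : ∀ x, ¬ P x → h x = x) :
    ∃ a, h = jj P (a, 1) := by
  obtain ⟨a, b, rfl⟩ := exists_jj (P := P) (h := h) fun x => not_iff_not.1 ⟨fun hx => by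
    rwa [← h.injective (hh _ hx)], fun hx => by rwa [hh x hx]⟩
  refine ⟨a, ?_⟩
  congr 2
  ext x
  rw [← jj_right a b x.2, hh x x.2]; rfl

theorem cycleType_jj (a : Perm {x // P x}) (b : Perm {x // ¬ P x}) :
    (jj P (a, b)).cycleType = a.cycleType + b.cycleType := by
  rw [jj_eq, Perm.Disjoint.cycleType_mul, Perm.cycleType_ofSubtype, Perm.cycleType_ofSubtype]
  intro x
  by_cases h : P x
  · exact Or.inr (Perm.ofSubtype_apply_of_not_mem b (not_not.2 h))
  · exact Or.inl (Perm.ofSubtype_apply_of_not_mem a h)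

theorem parts_jj (a : Perm {x // P x}) (b : Perm {x // ¬ P x}) :
    parts (jj P (a, b)) = parts a + parts b := by
  have h1 := a.sum_cycleType_le
  have h2 := b.sum_cycleType_le
  have h3 := Fintype.card_subtype_compl P
  have h4 := Fintype.card_subtype_le P
  rw [parts_def, parts_def, parts_def, ← Perm.sum_cycleType, ← Perm.sum_cycleType,
    ← Perm.sum_cycleType, cycleType_jj, Multiset.sum_add, add_add_add_comm,
    ← Multiset.replicate_add]
  congr 2
  omega

theorem sign_jj (a : Perm {x // P x}) (b : Perm {x // ¬ P x}) :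
    Perm.sign (jj P (a, b)) = Perm.sign a * Perm.sign b := Perm.sign_subtypeCongr a b

omit [DecidableEq Ω] in
theorem exists_pred_card {m : ℕ} (hm : m ≤ Fintype.card Ω) :
    ∃ (P : Ω → Prop) (_ : DecidablePred P), Fintype.card {x // P x} = m := by
  classical
  obtain ⟨S, -, hS⟩ := Finset.exists_subset_card_eq (s := (univ : Finset Ω)) hm
  exact ⟨(· ∈ S), inferInstance, by rw [← hS, ← Fintype.card_coe S]; congr!⟩

section Full

variable {v : Perm Ω}

theorem cycleType_of_parts (hp : p.Prime) (hv : parts v = Multiset.replicate w p) :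
    v.cycleType = Multiset.replicate w p ∧ v.support = univ := by
  have h1 : Fintype.card Ω - #v.support = 0 := by
    by_contra h
    have : 1 ∈ parts v := by
      rw [parts_def]; exact Multiset.mem_add.2 (Or.inr (Multiset.mem_replicate.2 ⟨h, rfl⟩))
    rw [hv] at this
    exact hp.one_lt.ne (Multiset.eq_of_mem_replicate this)
  rw [parts_def, h1, Multiset.replicate_zero, add_zero] at hv
  exact ⟨hv, Finset.eq_univ_of_card _ (le_antisymm (card_le_univ _) (by omega))⟩

theorem pow_eq_one_of_parts (hp : p.Prime) (hv : parts v = Multiset.replicate w p) :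
    v ^ p = 1 := by
  have := Fact.mk hp
  rw [Perm.pow_prime_eq_one_iff, (cycleType_of_parts hp hv).1]
  exact fun c hc => Multiset.eq_of_mem_replicate hc

theorem apply_ne_of_parts (hp : p.Prime) (hv : parts v = Multiset.replicate w p) (x : Ω) :
    v x ≠ x := by
  rw [← Perm.mem_support, (cycleType_of_parts hp hv).2]; exact mem_univ x

theorem card_of_parts (hv : parts v = Multiset.replicate w p) : Fintype.card Ω = p * w := by
  rw [← sum_parts v, hv, Multiset.sum_replicate, smul_eq_mul, mul_comm]

theorem exists_parts_replicate (hp : 0 < p) (h : Fintype.card Ω = p * w) :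
    ∃ v : Perm Ω, parts v = Multiset.replicate w p :=
  exists_parts_eq (fun h0 => hp.ne (Multiset.eq_of_mem_replicate h0))
    (by rw [h, Multiset.sum_replicate, smul_eq_mul, mul_comm])

theorem factorization_factorial_mul' (hp : p.Prime) (w : ℕ) :
    (p * w).factorial.factorization p = w + w.factorial.factorization p := by
  rw [Nat.factorization_factorial_mul hp, add_comm]

theorem factorization_card_centralizer_of_parts (hp : p.Prime)
    (hv : parts v = Multiset.replicate w p) :
    (Nat.card (centralizer ({v} : Set (Perm Ω)))).factorization p =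
      (p * w).factorial.factorization p := by
  have := zz_add_replicate (μ := 0) (r := p) (by simp) w
  rw [add_zero, zz_zero, mul_one] at this
  rw [card_centralizer_eq_zz, hv, this, factorization_factorial_mul' hp,
    Nat.factorization_mul (pow_ne_zero _ hp.ne_zero) (Nat.factorial_ne_zero _), Finsupp.add_apply,
    Nat.factorization_pow_self hp]

open Classical in
/-- The conjugates of `v` commuting with `v`. -/
theorem not_dvd_card_commute (hp : p.Prime) (hv : parts v = Multiset.replicate w p) :
    ¬ p ∣ #(univ.filter fun a : Perm Ω => Commute v a ∧ IsConj v a) := by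
  have := Fact.mk hp
  have h1 := Block.sum_eq_sum_centralizer (k := ZMod p) (P := zpowers v)
    (IsPGroup.of_card (n := (orderOf v).factorization p) (by
      rw [Nat.card_zpowers]
      rcases (Nat.dvd_prime hp).1 (orderOf_dvd_of_pow_eq_one (pow_eq_one_of_parts hp hv)) with h | h
      · simp [h]
      · rw [h, hp.factorization_self, pow_one])) (ZMod.natCast_self p)
    (fun a => if IsConj v a then 1 else 0) fun x _ g => by
      congr 1
      exact propext ⟨fun h => h.trans (isConj_iff.2 ⟨x, rfl⟩).symm,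
        fun h => h.trans (isConj_iff.2 ⟨x, rfl⟩)⟩
  rw [Finset.sum_boole, card_filter_isConj,
    Finset.sum_congr rfl (g := fun a => if Commute v a ∧ IsConj v a then 1 else 0) fun a _ => by
      have : a ∈ centralizer (zpowers v : Set (Perm Ω)) ↔ Commute v a := by
        refine ⟨fun h => h v (mem_zpowers v), fun h => ?_⟩
        rintro _ ⟨k, rfl⟩
        exact h.zpow_left k
      by_cases h : Commute v a <;> simp [this, h], Finset.sum_boole] at h1
  rw [← ZMod.natCast_eq_zero_iff, ← h1, ZMod.natCast_eq_zero_iff]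
  intro h
  have h2 := (centralizer ({v} : Set (Perm Ω))).index_mul_card
  have h3 := congrArg (fun n => n.factorization p) h2
  simp only [Nat.factorization_mul index_ne_zero_of_finite Nat.card_pos.ne', Finsupp.add_apply,
    factorization_card_centralizer_of_parts hp hv] at h3
  rw [Nat.card_eq_fintype_card, Fintype.card_perm, card_of_parts hv] at h3
  have := (hp.dvd_iff_one_le_factorization index_ne_zero_of_finite).1 h
  omega

end Full

/-- A `p`-regular element commuting with all the cycles of `u` fixes the support of `u`. -/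
theorem apply_eq_of_commute_cycleOf (hp : p.Prime) {u g : Perm Ω} (hu : u ^ p = 1)
    (hg : Commute u g) (hreg : ¬ p ∣ orderOf g) {x : Ω} (hc : Commute (u.cycleOf x) g)
    (hx : u x ≠ x) : g x = x := by
  have h1 : u.SameCycle x (g x) := by
    have : u.cycleOf x (g x) ≠ g x := by
      rw [← Perm.mul_apply, hc.eq, Perm.mul_apply, Perm.cycleOf_apply_self]
      exact fun h => hx (g.injective h)
    exact (Perm.mem_support_cycleOf_iff.1 (Perm.mem_support.2 this)).1
  obtain ⟨k, -, hk⟩ := h1.exists_pow_eq'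
  have h2 : ∀ m : ℕ, (g ^ m) x = (u ^ (k * m)) x := by
    intro m
    induction m with
    | zero => simp
    | succ m ih =>
      rw [pow_succ', Perm.mul_apply, ih, ← Perm.mul_apply, ← (hg.pow_left _).eq, Perm.mul_apply,
        ← hk, ← Perm.mul_apply, ← pow_add, mul_add, mul_one]
  by_cases hk' : p ∣ k
  · obtain ⟨c, rfl⟩ := hk'
    rw [← hk, pow_mul, hu, one_pow]; rfl
  · have h3 := h2 (orderOf g)
    rw [pow_orderOf_eq_one] at h3
    have h4 : Function.IsPeriodicPt u (k * orderOf g) x := by
      rw [Function.IsPeriodicPt, Function.IsFixedPt, ← Perm.coe_pow]; exact h3.symm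
    have h5 : Function.IsPeriodicPt u p x := by
      rw [Function.IsPeriodicPt, Function.IsFixedPt, ← Perm.coe_pow, hu]; rfl
    have h6 := h5.gcd h4
    rw [(hp.coprime_iff_not_dvd.2 (hp.not_dvd_mul hk' hreg)).gcd_eq_one] at h6
    exact (hx h6).elim

/-- The subgroup of the centralizer of `u` fixing all the cycles of `u`. -/
def cycQ (u : Perm Ω) : Subgroup (centralizer ({u} : Set (Perm Ω))) where
  carrier := {h | ∀ z, u.SameCycle z (h.1 z)}
  one_mem' z := Perm.SameCycle.refl u z
  mul_mem' {a b} ha hb z := (hb z).trans (ha _)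
  inv_mem' {a} ha z := by
    have := (ha (a.1⁻¹ z)).symm
    rwa [← Perm.mul_apply, mul_inv_cancel, Perm.one_apply] at this

omit [Fintype Ω] [DecidableEq Ω] in
theorem commute_coe {u : Perm Ω} (h : centralizer ({u} : Set (Perm Ω))) : Commute u h.1 :=
  (mem_centralizer_singleton_iff.1 h.2).symm

omit [Fintype Ω] [DecidableEq Ω] in
theorem normal_cycQ (u : Perm Ω) : (cycQ u).Normal := ⟨fun h hh g z => by
  obtain ⟨k, hk⟩ := hh (g.1⁻¹ z)
  refine ⟨k, ?_⟩
  change _ = g.1 (h.1 (g.1⁻¹ z))
  rw [← hk, ← Perm.mul_apply g.1, ← ((commute_coe g).zpow_left k).eq, Perm.mul_apply,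
    ← Perm.mul_apply g.1, mul_inv_cancel, Perm.one_apply]⟩

omit [Fintype Ω] [DecidableEq Ω] in
theorem isPGroup_cycQ {u : Perm Ω} (hu : u ^ p = 1) : IsPGroup p (cycQ u) := by
  rintro ⟨h, hh⟩
  refine ⟨1, Subtype.ext (Subtype.ext ?_)⟩
  ext z
  obtain ⟨k, hk⟩ := hh z
  have : ∀ m : ℕ, (h.1 ^ m) z = ((u ^ k) ^ m) z := by
    intro m
    induction m with
    | zero => simp
    | succ m ih =>
      rw [pow_succ', Perm.mul_apply, ih, ← Perm.mul_apply,
        ← (((commute_coe h).zpow_left k).pow_left m).eq, Perm.mul_apply, ← hk, ← Perm.mul_apply,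
        ← pow_succ]
  simp only [pow_one, Subgroup.coe_pow, Subgroup.coe_one]
  rw [this, ← zpow_natCast, ← zpow_mul, mul_comm, zpow_mul, zpow_natCast, hu, one_zpow]

theorem cycleOf_mem_centralizer (u : Perm Ω) (x : Ω) :
    u.cycleOf x ∈ centralizer ({u} : Set (Perm Ω)) :=
  mem_centralizer_singleton_iff.2 (by
    by_cases h : u x = x
    · rw [(Perm.cycleOf_eq_one_iff u).2 h]; simp
    · exact (Perm.self_mem_cycle_factors_commute
        (Perm.cycleOf_mem_cycleFactorsFinset_iff.2 (Perm.mem_support.2 h))).eq)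

theorem cycleOf_mem_cycQ (u : Perm Ω) (x : Ω) :
    (⟨u.cycleOf x, cycleOf_mem_centralizer u x⟩ : centralizer ({u} : Set (Perm Ω))) ∈ cycQ u := by
  intro z
  change u.SameCycle z (u.cycleOf x z)
  rw [Perm.cycleOf_apply]
  split_ifs
  · exact ⟨1, by simp⟩
  · exact Perm.SameCycle.refl u z

omit [Fintype Ω] [DecidableEq Ω] in
theorem self_mem_cycQ (u : Perm Ω) :
    (⟨u, mem_centralizer_singleton_iff.2 rfl⟩ : centralizer ({u} : Set (Perm Ω))) ∈ cycQ u :=
  fun _ => ⟨1, by simp⟩

section Cent

variable {v : Perm {x // P x}}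

omit [Fintype Ω] [DecidableEq Ω] in
theorem jj_apply_ne_iff (hv : ∀ x, v x ≠ x) {x : Ω} : jj P (v, 1) x ≠ x ↔ P x := by
  by_cases h : P x
  · rw [jj_left _ _ h]
    exact iff_of_true (fun e => hv ⟨x, h⟩ (Subtype.ext e)) h
  · rw [jj_right _ _ h]
    exact iff_of_false (not_not.2 rfl) h

omit [Fintype Ω] [DecidableEq Ω] in
theorem exists_jj_of_commute (hv : ∀ x, v x ≠ x) {h : Perm Ω} (hh : Commute (jj P (v, 1)) h) :
    ∃ a b, h = jj P (a, b) := by
  refine exists_jj fun x => ?_
  rw [← jj_apply_ne_iff hv, ← jj_apply_ne_iff hv, ← Perm.mul_apply, hh.eq, Perm.mul_apply]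
  exact h.injective.ne_iff

omit [Fintype Ω] [DecidableEq Ω] in
theorem commute_jj_iff {a : Perm {x // P x}} {b : Perm {x // ¬ P x}} :
    Commute (jj P (v, 1)) (jj P (a, b)) ↔ Commute v a := by
  rw [commute_iff_eq, ← map_mul, ← map_mul, jj_injective.eq_iff, commute_iff_eq]
  simp

/-- The centralizer of a permutation with support `P`. -/
noncomputable def centEquiv (hv : ∀ x, v x ≠ x) :
    centralizer ({v} : Set (Perm {x // P x})) × Perm {x // ¬ P x} ≃*
      centralizer ({jj P (v, 1)} : Set (Perm Ω)) :=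
  MulEquiv.ofBijective (((jj P).comp ((Subgroup.subtype _).prodMap (MonoidHom.id _))).codRestrict _
    fun t => mem_centralizer_singleton_iff.2 (commute_jj_iff.2 (commute_coe t.1)).symm)
    ⟨fun s t h => by
      have := jj_injective (congrArg Subtype.val h)
      have h2 := congrArg Prod.snd this
      exact Prod.ext (Subtype.ext (congrArg Prod.fst this)) h2,
    fun h => by
      obtain ⟨a, b, e⟩ := exists_jj_of_commute hv (commute_coe h)
      have := commute_coe h
      rw [e, commute_jj_iff] at this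
      exact ⟨(⟨a, mem_centralizer_singleton_iff.2 this.symm⟩, b), Subtype.ext e.symm⟩⟩

omit [Fintype Ω] [DecidableEq Ω] in
theorem coe_centEquiv (hv : ∀ x, v x ≠ x) (a : centralizer ({v} : Set (Perm {x // P x})))
    (b : Perm {x // ¬ P x}) : (centEquiv hv (a, b) : Perm Ω) = jj P (a, b) := rfl

end Cent

end Cfsg.Lib.SymChar
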