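import Cfsg.Agent.Char.Clifford
import Cfsg.Agent.Char.SymPerm
import Cfsg.Agent.Block.IndPart
import Cfsg.Agent.Solv.PGroupNormal
import Mathlib.GroupTheory.SemidirectProduct
import Mathlib.Analysis.SpecialFunctions.Complex.CircleAddChar

/-!
# Irreducible characters of degree `p` of wreath products
-/

set_option autoImplicit false

open Equiv Finset Cfsg Cfsg.Lib.Char Subgroup

namespace Cfsg.Lib.SymChar

/-- The group has an irreducible character of degree `m`. -/
def HasDeg (m : ℕ) (G : Type*) [Group G] : Prop :=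
  ∃ φ : IrrCharacter G, charDegree (φ : G → ℂ) = m

variable {G H : Type*} [Group G] [Group H] {m p : ℕ}

theorem HasDeg.of_surjective (h : HasDeg m H) (f : G →* H) (hf : Function.Surjective f) :
    HasDeg m G := by
  obtain ⟨φ, rfl⟩ := h
  exact ⟨⟨_, φ.2.comp_of_surjective f hf⟩, by simp [charDegree]⟩

theorem HasDeg.of_injective [Finite G] (h : HasDeg m H) (f : H →* G) (hf : Function.Injective f)
    (hc : Nat.card G ≤ Nat.card H) : HasDeg m G :=
  let e := MulEquiv.ofBijective f (hf.bijective_of_nat_card_le hc)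
  h.of_surjective e.symm.toMonoidHom e.symm.surjective

theorem hasDeg_index [Finite G] (K : Subgroup G) [hK : K.Normal] (lam : K →* ℂ)
    (h : ∀ t ∉ K, ∃ n : K, lam ⟨t * n * t⁻¹, hK.conj_mem n n.2 t⟩ ≠ lam n) : HasDeg K.index G := by
  let := Fintype.ofFinite G
  have h1 := isIrrCharacter_monoidHom' lam
  refine ⟨⟨_, (isIrrCharacter_indFun_normal_iff h1).2 fun t ht => ?_⟩, ?_⟩
  · by_contra h2
    obtain ⟨n, hn⟩ := h t h2
    exact hn (mem_inertia'.1 ht n)
  · refine (Block.Ht.charDegree_indFun K h1.isCharacter).trans ?_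
    simp [charDegree]

variable {I : Type*} (Q : Subgroup (Perm I)) (V : Type*) [Group V]

/-- The wreath product of `V` with the permutation group `Q`. -/
abbrev Wr : Type _ := (I → V) ⋊[mulAutArrow] Q

/-- The imprimitive action of the wreath product. -/
def wrHom : Wr Q V →* Perm (I × V) where
  toFun x := (Equiv.prodCongrRight fun i => Equiv.mulLeft (x.left i)) *
    Equiv.prodCongrLeft fun _ => (x.right : Perm I)
  map_one' := by ext <;> simp
  map_mul' x y := by
    ext z
    · rfl
    · exact (congrArg (fun i => x.left _ * y.left i * z.2) (inv_smul_smul x.right _)).trans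
        (mul_assoc _ _ _)

theorem wrHom_apply (x : Wr Q V) (i : I) (v : V) :
    wrHom Q V x (i, v) = (x.right.1 i, x.left (x.right.1 i) * v) := rfl

theorem wrHom_injective : Function.Injective (wrHom Q V) := by
  rw [injective_iff_map_eq_one]
  intro x hx
  have h := fun i => (wrHom_apply Q V x i 1).symm.trans (DFunLike.congr_fun hx _)
  simp only [mul_one, Perm.coe_one, id_eq, Prod.mk.injEq] at h
  refine SemidirectProduct.ext (funext fun i => ?_) (Subtype.ext (Equiv.ext fun i => (h i).1))
  have := (h i).2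
  rwa [(h i).1] at this

theorem sign_wrHom [Fintype I] [DecidableEq I] [Fintype V] [DecidableEq V] (x : Wr Q V) :
    Perm.sign (wrHom Q V x) = (∏ i, Perm.sign (Equiv.mulLeft (x.left i))) *
      Perm.sign (x.right : Perm I) ^ Fintype.card V := by
  change Perm.sign (_ * _) = _
  rw [map_mul, Perm.sign_prodCongrRight, Perm.sign_prodCongrLeft, Finset.prod_const, card_univ]

theorem card_wr [Fintype I] [DecidableEq I] (hp : p.Prime) (hV : Nat.card V = p)
    (hQ : Nat.card Q = p ^ (Fintype.card I).factorial.factorization p) :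
    Nat.card (Wr Q V) = p ^ (p * Fintype.card I).factorial.factorization p := by
  rw [SemidirectProduct.card, hQ, factorization_factorial_mul' hp, pow_add, Nat.card_fun, hV,
    Nat.card_eq_fintype_card]

theorem hasDeg_wr [Finite I] [Finite V] [Fact p.Prime] (hQ : IsPGroup p Q) (hQ1 : Q ≠ ⊥)
    (χ : V →* ℂ) {v : V} (hv : χ v ≠ 1) : HasDeg p (Wr Q V) := by
  classical
  let := Fintype.ofFinite I
  have : Finite (Wr Q V) := Finite.of_equiv _ SemidirectProduct.equivProd.symm
  obtain ⟨i, hi⟩ : ∃ i : I, MulAction.stabilizer Q i ≠ ⊤ := by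
    by_contra! h
    exact hQ1 (eq_bot_iff.2 fun q hq => Equiv.ext fun i =>
      ((h i).ge (mem_top _) : (⟨q, hq⟩ : Q) ∈ MulAction.stabilizer Q i))
  obtain ⟨K, hK, h1, h2⟩ := Solv.PG.exists_normal_index_eq_prime hQ hi
  let O : Finset I := univ.filter fun j => ∃ k ∈ K, k • i = j
  have hO : ∀ j, j ∈ O ↔ ∃ k ∈ K, k • i = j := fun j => by simp [O]
  let K' : Subgroup (Wr Q V) := K.comap SemidirectProduct.rightHom
  let lam : K' →* ℂ :=
    { toFun := fun x => ∏ j ∈ O, χ (x.1.left j)
      map_one' := by simp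
      map_mul' := fun x y => by
        simp only [Subgroup.coe_mul, SemidirectProduct.mul_left, Pi.mul_apply, map_mul, prod_mul_distrib]
        congr 1
        refine Finset.prod_equiv (MulAction.toPerm x.1.right⁻¹) (fun j => ?_) fun j _ => rfl
        rw [hO, hO]
        constructor
        · rintro ⟨k, hk, rfl⟩
          exact ⟨_, K.mul_mem (K.inv_mem x.2) hk, mul_smul _ _ _⟩
        · rintro ⟨k, hk, e⟩
          exact ⟨_, K.mul_mem x.2 hk, by rw [mul_smul, e]; exact smul_inv_smul _ _⟩ }
  rw [← h2, ← index_comap_of_surjective K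
    (SemidirectProduct.rightHom_surjective (N := I → V) (φ := mulAutArrow))]
  refine hasDeg_index K' lam fun t ht => ⟨⟨SemidirectProduct.inl (Pi.mulSingle i v), by
    simp [K', K.one_mem]⟩, ?_⟩
  have e1 : ∏ j ∈ O, χ (Pi.mulSingle (M := fun _ => V) i v j) = χ v := by
    rw [Finset.prod_eq_single i (fun j _ hj => by simp [hj])
      fun h => (h ((hO i).2 ⟨1, K.one_mem, one_smul _ _⟩)).elim, Pi.mulSingle_eq_same]
  refine fun e => hv (e1.symm.trans (e.symm.trans (Finset.prod_eq_one fun j hj => ?_)))
  obtain ⟨k, hk, rfl⟩ := (hO j).1 hj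
  have e2 : t.right⁻¹ • k • i ≠ i := fun e => ht (by
    have := K.mul_mem hk (K.inv_mem (h1 (show t.right⁻¹ * k ∈ MulAction.stabilizer Q i from
      (mul_smul _ _ _).trans e)))
    simpa [K'] using this)
  have e3 : ∀ x y : Wr Q V, (x * y * x⁻¹).left = x.left * mulAutArrow x.right y.left *
      mulAutArrow (x.right * y.right * x.right⁻¹) x.left⁻¹ := fun x y => by
    simp only [SemidirectProduct.mul_left, SemidirectProduct.mul_right, SemidirectProduct.inv_left,
      map_mul, MulAut.mul_apply]
  rw [e3, SemidirectProduct.right_inl, mul_one, mul_inv_cancel, map_one, MulAut.one_apply,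
    Pi.mul_apply, Pi.mul_apply, SemidirectProduct.left_inl,
    show mulAutArrow t.right (Pi.mulSingle (M := fun _ => V) i v) (k • i) = 1 from
      Pi.mulSingle_eq_of_ne e2 _, mul_one, Pi.inv_apply, mul_inv_cancel, map_one]

theorem hasDeg_wr_zmod [Finite I] [hp : Fact p.Prime] (hQ : IsPGroup p Q) (hQ1 : Q ≠ ⊥) :
    HasDeg p (Wr Q (Multiplicative (ZMod p))) :=
  hasDeg_wr Q _ hQ hQ1 (ZMod.stdAddChar (N := p)).toMonoidHom (v := Multiplicative.ofAdd 1)
    fun e => one_ne_zero (ZMod.injective_stdAddChar (e.trans (AddChar.map_zero_eq_one _).symm))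

end Cfsg.Lib.SymChar
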