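import Cfsg.Agent.Char.LinSylow
import Cfsg.Agent.Char.GoingDown
import Cfsg.Agent.Char.DegChief
import Cfsg.Agent.Solv.CardModEq
import Cfsg.Agent.Solv.ClassSize
import Cfsg.Agent.Solv.FrobeniusComplement

/-!
# Degrees of solvable linear groups without normal Sylow subgroup
-/

set_option autoImplicit false

open Cfsg Cfsg.Lib.Solv Cfsg.Lib.Trans Subgroup
open scoped commutatorElement

namespace Cfsg.Lib.Char

universe u

variable {G : Type u} [Group G] [Finite G] {p : ℕ} [hp : Fact p.Prime]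

theorem commutator_le_charKer_of_not_dvd {χ : G → ℂ} (hχ : IsIrrCharacter G χ) {n : ℕ}
    (hn : χ 1 = n) (h : ¬ p ∣ n) {P : Subgroup G} [P.Normal] (hP : IsPGroup p P) {x y : G}
    (hx : x ∈ P) (hy : y ∈ P) : ⁅x, y⁆ ∈ charKer χ := by
  have := Fintype.ofFinite G
  have := Fintype.ofFinite P
  have h1 : ⁅(⟨x, hx⟩ : P), ⟨y, hy⟩⁆ ∈ charKer fun x : P => χ x := by
    refine (hχ.isCharacter.res P).mem_charKer_iff_forall.2 fun ψ hψ h2 => ?_
    obtain ⟨d, hd⟩ := hψ.isCharacter.exists_nat_degree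
    obtain ⟨e, -, -, h3⟩ := degree_dvd_of_lies_over hχ hψ h2 hn hd
    refine hψ.commutator_le_charKer_iff.2 ?_ (commutator_mem_commutator (mem_top _) (mem_top _))
    rw [hd, Nat.eq_one_of_dvd_coprimes (coprime_card_of_isPGroup hP
      (hp.out.coprime_iff_not_dvd.2 h).symm) (irr_degree_dvd_card hψ hd) (Dvd.intro_left _ h3.symm),
      Nat.cast_one]
  rwa [hχ.isCharacter.charKer_res] at h1

/-- Divisibility by a prime power congruent to `-1`, `0` or `1` modulo `p`. -/
def GoodDeg (p n : ℕ) : Prop := ∃ q : ℕ, IsPrimePow q ∧ q ∣ n ∧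
  ((q : ℤ) ≡ -1 [ZMOD p] ∨ (q : ℤ) ≡ 0 [ZMOD p] ∨ (q : ℤ) ≡ 1 [ZMOD p])

theorem goodDeg_or_pCl (m : ℕ) : ∀ (G : Type u) [Group G] [Finite G], Nat.card G = m →
    Group.IsSolvable G → ∀ χ : G → ℂ, IsIrrCharacter G χ → charKer χ = ⊥ → ∀ n : ℕ, χ 1 = n →
      ¬ GoodDeg p n → PCl p G := by
  induction m using Nat.strong_induction_on with | _ m ih => ?_
  intro G _ _ hm _ χ hχ hf n hn hg
  have := Fintype.ofFinite G
  have hpn : ¬ p ∣ n := fun h => hg ⟨p, hp.out.isPrimePow, h, Or.inr (Or.inl (by simp))⟩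
  have hres : ∀ H : Subgroup G, (charKer fun x : H => χ x) = ⊥ := fun H => by
    rw [hχ.isCharacter.charKer_res, hf, bot_subgroupOf]
  have h1 : ∀ N : Subgroup G, N.Normal → N ≠ ⊤ → PCl p N := fun N _ hN => by
    have := Fintype.ofFinite N
    refine pCl_of_constituents (hχ.isCharacter.res N) (hres N) fun ψ hψ h _ => ?_
    obtain ⟨d, hd⟩ := hψ.isCharacter.exists_nat_degree
    obtain ⟨e, -, -, h3⟩ := degree_dvd_of_lies_over hχ hψ h hn hd
    exact ih _ ((Nat.le_of_dvd Nat.card_pos (index_dvd_card _)).trans_lt (hm ▸ card_lt_of_ne_top hN))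
      _ rfl inferInstance _ (hψ.deflate le_rfl) (charKer_deflate_self hψ.isCharacter) d
      ((hψ.isClassFunction.deflate_mk le_rfl 1).trans hd)
      fun ⟨q, h4, h5, h6⟩ => hg ⟨q, h4, h5.trans (Dvd.intro_left _ h3.symm), h6⟩
  by_contra hG
  obtain ⟨P⟩ : Nonempty (Sylow p G) := inferInstance
  have h2 : ∀ N : Subgroup G, N.Normal → (P : Subgroup G) ≤ N → N = ⊤ := fun N hN h => by
    by_contra h3
    refine hG (pCl_iff_not_dvd.2 fun h4 => P.not_dvd_index (h4.trans (index_dvd_of_le fun x hx =>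
      map_pCore_le_of_normal N ⟨_, (h1 N hN h3).le P.isPGroup'.comap_subtype (x := ⟨x, h hx⟩) hx,
        rfl⟩)))
  set K := pResidual p G
  obtain ⟨L, _, -, hLK, hc⟩ := Deg.exists_chief_below (L := ⊥) (K := K) (bot_lt_iff_ne_bot.2
    fun h => hG fun x _ => (pCore_eq_top_iff.2 (pResidual_eq_bot_iff.1 h)).ge (mem_top x))
  obtain ⟨q, hq, hab, -, -, k, hk, hLq⟩ := Deg.chief_elementary hLK hc inferInstance
  have hπ := QuotientGroup.mk'_surjective L
  have h3 : L ⊔ P ≠ ⊤ := fun h => hLK.not_ge (pResidual_le_of_isPGroup_quotient L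
    ((P.isPGroup'.map (QuotientGroup.mk' L)).of_equiv ((MulEquiv.subgroupCongr (by
      have := congrArg (map (QuotientGroup.mk' L)) h
      rwa [Subgroup.map_sup, QuotientGroup.map_mk'_self, bot_sup_eq, map_top_of_surjective _ hπ] at this)).trans
        topEquiv)))
  have h4 : L.relIndex K ≡ 1 [MOD p] := by
    have : (K.map (QuotientGroup.mk' L)).Normal := Normal.map inferInstance _ hπ
    have h5 : K.map (QuotientGroup.mk' L) ⊔ (P : Subgroup G).map (QuotientGroup.mk' L) = ⊤ := by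
      rw [← Subgroup.map_sup, pResidual_sup_sylow, map_top_of_surjective _ hπ]
    rw [← card_map_mk']
    refine card_modEq_one_of_inf_centralizer_eq_bot (P.isPGroup'.map (QuotientGroup.mk' L))
      le_normalizer_of_normal ?_
    set C := K.map (QuotientGroup.mk' L) ⊓ centralizer ((P : Subgroup G).map (QuotientGroup.mk' L))
    have h6 : C ≤ center _ := fun c hc => by
      refine mem_center_iff.2 fun g => mem_centralizer_singleton_iff.1 ((h5.ge.trans (sup_le ?_
        fun y hy => mem_centralizer_singleton_iff.2 (hc.2 y hy))) (mem_top g))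
      obtain ⟨c, hc', rfl⟩ := hc.1
      rintro _ ⟨a, ha, rfl⟩
      rw [mem_centralizer_singleton_iff, ← commutatorElement_eq_one_iff_mul_comm,
        ← map_commutatorElement]
      exact (QuotientGroup.eq_one_iff _).2 (hab (commutator_mem_commutator ha hc'))
    have : C.Normal := ⟨fun c hc g => by rwa [mem_center_iff.1 (h6 hc), mul_inv_cancel_right]⟩
    rcases hc (C.comap (QuotientGroup.mk' L)) inferInstance (QuotientGroup.le_comap_mk' _ _)
      ((comap_mono inf_le_left).trans (by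
        rw [comap_map_eq, QuotientGroup.ker_mk', sup_eq_left.2 hLK.le])) with h | h
    · rw [← map_comap_eq_self_of_surjective hπ C, h, QuotientGroup.map_mk'_self]
    refine absurd (h2 _ ?_ le_sup_right) h3
    have : ((P : Subgroup G).map (QuotientGroup.mk' L)).Normal := normalizer_eq_top_iff.1
      (top_le_iff.1 (h5.ge.trans (sup_le ((map_le_iff_le_comap.2 h.ge).trans
        (inf_le_right.trans (centralizer_le_normalizer _))) le_normalizer)))
    rw [← QuotientGroup.comap_map_mk']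
    infer_instance
  have := Fintype.ofFinite K
  have := Fintype.ofFinite L
  obtain ⟨a, ha⟩ := exists_index_pResidual_eq (G := G) (p := p)
  obtain ⟨φ, hφ, h5⟩ := exists_irr_under L hχ
  obtain ⟨d, hd⟩ := hφ.isCharacter.exists_nat_degree
  rcases going_down hLK.le hc hab (irr_res_of_coprime hχ hn
    (ha ▸ (hp.out.coprime_iff_not_dvd.2 hpn).symm.pow_right a))
    (fun g n => hχ.isClassFunction n g) hφ h5 with h | ⟨e, h, he⟩ | h
  · subst h
    have h6 := (hχ.isCharacter.res (L ⊔ P)).isIrrCharacter_of_comp (inclusion le_sup_left) hφ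
    have h7 := ih _ (hm ▸ card_lt_of_ne_top h3) _ rfl inferInstance _ h6 (hres _) n hn hg
    have h8 := fun x (hx : x ∈ (P : Subgroup G)) =>
      h7.le P.isPGroup'.comap_subtype (x := ⟨x, mem_sup_right hx⟩) hx
    have h9 : centralizer ((pCore p L).map L.subtype : Set G) = ⊤ := by
      have := normal_map_subtype_of_char (pCore p L)
      refine h2 _ inferInstance fun x hx y hy => ?_
      have h10 := commutator_le_charKer_of_not_dvd h6 hn hpn (pCore_isPGroup p _)
        (h8 y (pCore_le_sylow P (map_pCore_le_of_normal L hy))) (h8 x hx)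
      rw [hres, mem_bot, commutatorElement_eq_one_iff_mul_comm] at h10
      exact congrArg Subtype.val h10
    have hL := h1 L inferInstance (hLK.trans_le le_top).ne
    have h10 := h2 (centralizer (L : Set G)) inferInstance fun x hx l hl => by
      have h11 : l * x * l⁻¹ * x⁻¹ ∈ L := by
        simpa only [mul_assoc] using mul_mem hl (Normal.conj_mem inferInstance _ (inv_mem hl) x)
      obtain ⟨j, hj⟩ := pCore_isPGroup p _ ⟨_, mul_mem (Normal.conj_mem inferInstance _ (h8 x hx)
        ⟨l, mem_sup_left hl⟩) (inv_mem (h8 x hx))⟩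
      replace hj : (l * x * l⁻¹ * x⁻¹) ^ p ^ j = 1 := congrArg (fun y => (y.1 : G)) hj
      have h13 := h9.ge (mem_top x) _ ⟨_, pow_index_mem (pCore p L) (⟨l, hl⟩ : L)⁻¹, rfl⟩
      have h14 : (l * x * l⁻¹ * x⁻¹) ^ (pCore p L).index = 1 := by
        have h15 : Commute l (l * x * l⁻¹ * x⁻¹) :=
          (h9.ge (mem_top _) _ ⟨_, hL ⟨_, h11⟩ ⟨j, Subtype.ext hj⟩, rfl⟩).symm
        have h16 : Commute l (x * l⁻¹ * x⁻¹) := by
          have := (Commute.refl l).inv_right.mul_right h15
          rwa [mul_assoc, mul_assoc, inv_mul_cancel_left, ← mul_assoc] at this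
        rw [mul_assoc, mul_assoc, ← mul_assoc x, h16.mul_pow, conj_pow]
        change l⁻¹ ^ _ * x = x * l⁻¹ ^ _ at h13
        rw [← h13, mul_inv_cancel_right, inv_pow, mul_inv_cancel]
      rw [← commutatorElement_eq_one_iff_mul_comm, commutatorElement_def]
      exact (pow_eq_one_iff_of_coprime
        ((hp.out.coprime_iff_not_dvd.2 (pCl_iff_not_dvd.1 hL)).pow_left j)).1 ⟨hj, h14⟩
    have h11 : commutator G ≤ charKer χ := hχ.commutator_le_charKer_iff.2
      (hφ.commutator_le_charKer_iff.1 (commutator_le.2 fun a _ b _ => by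
        rw [commutatorElement_eq_one_iff_mul_comm.2 (Subtype.ext (h10.ge (mem_top _) a a.2))]
        exact one_mem _))
    exact hG ((pCl_iff_normal P).2 (Normal.of_commutator_le G (h11.trans (hf.le.trans bot_le))))
  · have h6 : n = e * d := by
      have := congrFun h 1
      rw [Pi.smul_apply, hd, smul_eq_mul] at this
      exact_mod_cast hn.symm.trans this
    obtain ⟨i, -, rfl⟩ := (Nat.dvd_prime_pow hq).1 (hLq ▸ he ▸ dvd_pow_self e two_ne_zero)
    refine hg ⟨_, hq.isPrimePow.pow ?_, Dvd.intro _ h6.symm, ?_⟩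
    · rintro rfl
      rw [hLq, pow_zero, one_pow] at he
      exact (Nat.one_lt_pow hk.ne' hq.one_lt).ne he
    rw [← he, ← Int.natCast_modEq_iff, Int.modEq_iff_dvd, Nat.cast_pow, Nat.cast_one,
      show ∀ x : ℤ, 1 - x ^ 2 = -((-1 - x) * (1 - x)) from fun x => by ring, dvd_neg,
      (Nat.prime_iff_prime_int.1 hp.out).dvd_mul] at h4
    exact h4.imp Int.modEq_iff_dvd.2 fun h => Or.inr (Int.modEq_iff_dvd.2 h)
  · obtain ⟨e, -, -, h6⟩ := degree_dvd_of_lies_over hχ hφ h5 hn hd
    refine hg ⟨L.relIndex K, hLq ▸ hq.isPrimePow.pow hk.ne', ?_,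
      Or.inr (Or.inr (Int.natCast_modEq_iff.2 h4))⟩
    rw [← h, inf_comm, inf_relIndex_right, h6]
    exact ((ClassSize.relIndex_dvd_index_of_normal_right _ K).mul_left e).mul_right d

theorem irr_of_not_pCl (hG : IsPSolvable p G) {χ : G → ℂ} (hχ : IsCharacter G χ)
    (hf : charKer χ = ⊥) {n : ℕ} (hn : χ 1 = n) (h : n + 1 ≤ p) (hP : ¬ PCl p G) :
    IsIrrCharacter G χ := by
  have := Fintype.ofFinite G
  by_contra h1
  refine hP (pCl_of_constituents hχ hf fun ψ hψ h2 _ => ?_)
  obtain ⟨d, hd⟩ := hψ.isCharacter.exists_nat_degree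
  have h3 := hχ.sub_of_classInner_ne_zero hψ h2
  obtain ⟨e, he⟩ := h3.exists_nat_degree
  have h4 : e ≠ 0 := by
    rintro rfl
    exact h1 (sub_eq_zero.1 (h3.eq_zero_of_apply_one (by simpa using he)) ▸ hψ)
  rw [Pi.sub_apply, hn, hd, sub_eq_iff_eq_add] at he
  have h5 : n = e + d := by exact_mod_cast he
  exact pCl_of_degree_lt (hG.quotient _) (hψ.isCharacter.deflate le_rfl)
    (charKer_deflate_self hψ.isCharacter) ((hψ.isClassFunction.deflate_mk le_rfl 1).trans hd)
    (by omega)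

theorem exists_solvable_not_pCl (hG : IsPSolvable p G) (hP : ¬ PCl p G) :
    ∃ H : Subgroup G, Group.IsSolvable H ∧ ¬ PCl p H := by
  obtain ⟨K, P, h1, h2, h3, h4⟩ := exists_coprime_pair hG
  by_contra! h
  have := h2.isNilpotent
  have h5 := coprime_card_of_isPGroup h2 (hp.out.coprime_iff_not_dvd.2 h1).symm
  rw [relIndex_eq_one.2 (le_centralizer_iff.1 (Coprime.le_of_forall_invariant_pgroup_le h3 h5
    (Or.inl inferInstance) fun q _ Q hQK hQ hPQ => ?_)), Nat.le_one_iff_eq_zero_or_eq_one,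
    or_iff_right (pow_pos hp.out.pos _).ne', Nat.pow_eq_one, or_iff_right hp.out.ne_one,
    Nat.factorization_eq_zero_iff] at h4
  · exact hP (pCl_iff_not_dvd.2 ((h4.resolve_left (not_not.2 hp.out)).resolve_right
      index_ne_zero_of_finite))
  have := hQ.isNilpotent
  have h6 := h (Q ⊔ P) (Fpf.isSolvable_sup_of_le_normalizer hPQ inferInstance inferInstance)
  intro y hy x hx
  have h7 := h6.le h2.comap_subtype (x := ⟨x, mem_sup_right hx⟩) hx
  obtain ⟨j, hj⟩ := pCore_isPGroup p _ ⟨_, mul_mem h7 (Normal.conj_mem inferInstance _ (inv_mem h7)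
    ⟨y, mem_sup_left hy⟩)⟩
  replace hj : (x * (y * x⁻¹ * y⁻¹)) ^ p ^ j = 1 := congrArg (fun y => (y.1 : G)) hj
  have h8 : x * (y * x⁻¹ * y⁻¹) ∈ K := hQK (by
    simpa only [mul_assoc] using mul_mem ((mem_normalizer_iff.1 (hPQ hx) y).1 hy) (inv_mem hy))
  rw [← commutatorElement_eq_one_iff_mul_comm, commutatorElement_def, mul_assoc, mul_assoc,
    ← mul_assoc y]
  exact (pow_eq_one_iff_of_coprime ((hp.out.coprime_iff_not_dvd.2 h1).pow_left j)).1
    ⟨hj, congrArg Subtype.val (pow_card_eq_one' (x := (⟨_, h8⟩ : K)))⟩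

end Cfsg.Lib.Char
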