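import Cfsg.Agent.Char.SymCore

/-!
# Runner operators and dimension bounds

Antisymmetric functions supported on one class of tuples are separated by words in the lowering
operators of the single runners.
-/

set_option autoImplicit false

open Equiv Finset Cfsg Cfsg.Lib.Char

namespace Cfsg.Lib.SymChar

variable {ι : Type*} [Fintype ι] [DecidableEq ι] {p : ℕ} {β κ : ι → ℕ}

/-- A function killed by all lowering operators lives in the lowest degree. -/
theorem Anti.eq_zero_of_L {g : (ι → ℕ) → ℂ} (hg : Anti g) {m : ℕ} (hm : 0 < m)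
    (hN : m ≤ Fintype.card ι) (hs : ∀ γ, g γ ≠ 0 → ∑ i, γ i = ∑ i, del ι i + m)
    (hL : ∀ r, 0 < r → SymChar.L r g = 0) : g = 0 := by
  have h0 : ∑ γ ∈ TT ι (Fin m), g γ • chi (Fin m) γ = 0 := by
    funext σ
    have hsum := sum_parts σ
    have hne : parts σ ≠ 0 := by
      intro h; rw [h, Fintype.card_fin, Multiset.sum_zero] at hsum; omega
    obtain ⟨r, hr⟩ := Multiset.exists_mem_of_ne_zero hne
    have hr0 : 0 < r := Nat.pos_of_ne_zero fun h => zero_notMem_parts σ (h ▸ hr)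
    obtain ⟨ν, hν⟩ := Multiset.exists_cons_of_mem hr
    simp only [Finset.sum_apply, Pi.smul_apply, smul_eq_mul, chi_apply, Pi.zero_apply, TT]
    rw [← hsum, hν, Multiset.sum_cons, F_cons, add_comm r, ← add_assoc,
      Finset.sum_congr rfl fun _ _ => mul_comm _ _, sum_A_mul, hL r hr0]
    simp
  funext γ
  by_contra hγ
  have hT : γ ∈ TT ι (Fin m) := by rw [mem_T, hs γ hγ, Fintype.card_fin]
  have h1 := congrArg (fun θ => classInner θ (chi (Fin m) γ)) h0
  simp only [classInner_sum_left, classInner_smul_left, classInner_zero_left] at h1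
  rw [Finset.sum_congr rfl (g := fun δ => alt γ δ * g δ) fun δ _ => by
      rw [← conj_classInner, classInner_chi_eq_alt (by rwa [Fintype.card_fin])
        (chi_ne_zero (hg.injective hγ) hT), conj_alt, mul_comm],
    sum_alt_mul hT hg] at h1
  exact mul_ne_zero (Nat.cast_ne_zero.2 (Nat.factorial_ne_zero _)) hγ h1

/-- The lowering operator of runner `j`. -/
noncomputable def LR (p j r : ℕ) : ((ι → ℕ) → ℂ) →ₗ[ℂ] ((ι → ℕ) → ℂ) where
  toFun f β := ∑ i, if β i % p = j then f (up β i (p * r)) else 0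
  map_add' f g := by
    funext β
    simp only [Pi.add_apply, ← Finset.sum_add_distrib]
    exact Finset.sum_congr rfl fun i _ => by split_ifs <;> simp
  map_smul' c f := by
    funext β
    simp only [Pi.smul_apply, smul_eq_mul, RingHom.id_apply, Finset.mul_sum]
    exact Finset.sum_congr rfl fun i _ => by split_ifs <;> simp

theorem LR_apply (j r : ℕ) (f : (ι → ℕ) → ℂ) (β : ι → ℕ) :
    LR p j r f β = ∑ i, if β i % p = j then f (up β i (p * r)) else 0 := rfl

theorem Anti.LR {f : (ι → ℕ) → ℂ} (hf : Anti f) (j r : ℕ) : Anti (LR p j r f) := by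
  intro β w
  rw [LR_apply, LR_apply, Finset.mul_sum, ← Equiv.sum_comp w (fun i => sg w * _)]
  refine Finset.sum_congr rfl fun i _ => ?_
  rw [up_comp, hf, Function.comp_apply]
  split_ifs <;> simp

theorem L_eq_sum_LR (hp : 0 < p) (r : ℕ) (f : (ι → ℕ) → ℂ) :
    L (p * r) f = ∑ j ∈ range p, LR p j r f := by
  funext β
  simp only [L, Finset.sum_apply, LR_apply]
  rw [Finset.sum_comm]
  refine Finset.sum_congr rfl fun i _ => ?_
  rw [Finset.sum_ite_eq, if_pos (Finset.mem_range.2 (Nat.mod_lt _ hp))]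

omit [Fintype ι] in
theorem up_mod (β : ι → ℕ) (i : ι) (r : ℕ) (k : ι) : up β i (p * r) k % p = β k % p := by
  rcases eq_or_ne k i with rfl | h
  · simp
  · rw [up_of_ne _ h]

theorem LR_comm (j r k s : ℕ) (f : (ι → ℕ) → ℂ) :
    LR p j r (LR p k s f) = LR p k s (LR p j r f) := by
  funext β
  have e : ∀ (j r k s : ℕ), LR p j r (LR p k s f) β = ∑ a, ∑ b,
      if β a % p = j ∧ β b % p = k then f (up (up β a (p * r)) b (p * s)) else 0 := by
    intro j r k s
    rw [LR_apply]
    refine Finset.sum_congr rfl fun a _ => ?_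
    by_cases h : β a % p = j
    · simp only [h, if_true, true_and, LR_apply, up_mod]
    · simp [h]
  rw [e, e, Finset.sum_comm]
  refine Finset.sum_congr rfl fun a _ => Finset.sum_congr rfl fun b _ => ?_
  rw [up_up_comm]
  simp only [and_comm]

theorem exists_of_LR_ne_zero {j r : ℕ} {f : (ι → ℕ) → ℂ} (h : LR p j r f β ≠ 0) :
    ∃ i, β i % p = j ∧ f (up β i (p * r)) ≠ 0 := by
  rw [LR_apply] at h
  obtain ⟨i, -, hi⟩ := Finset.exists_ne_zero_of_sum_ne_zero h
  by_cases h' : β i % p = j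
  · exact ⟨i, h', by rwa [if_pos h'] at hi⟩
  · exact (hi (if_neg h')).elim

/-- The sum of the positions on runner `j`. -/
def rs (p : ℕ) (β : ι → ℕ) (j : ℕ) : ℕ := ∑ i, if β i % p = j then β i / p else 0

/-- The weight of runner `j`. -/
def rwt (p : ℕ) (β : ι → ℕ) (j : ℕ) : ℕ := wt 1 (run p (fun i => β i % p) j β)

omit [DecidableEq ι] in
theorem rs_eq_sum_run {ρ : ι → ℕ} (hρ : ∀ i, β i % p = ρ i) (j : ℕ) :
    rs p β j = ∑ i, run p ρ j β i := by
  rw [rs, ← Finset.sum_filter]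
  exact Finset.sum_subtype _ (by simp [hρ]) _

omit [DecidableEq ι] in
theorem sum_del : ∑ i, del ι i = ∑ k ∈ range (Fintype.card ι), k := by
  rw [Finset.sum_range]
  exact Equiv.sum_comp (Fintype.equivFin ι) fun k => (k : ℕ)

theorem rs_eq (hβ : Function.Injective β) (j : ℕ) :
    rs p β j = ∑ k ∈ range (cnt p β j), k + rwt p β j := by
  rw [rs_eq_sum_run (ρ := fun i => β i % p) fun _ => rfl,
    ← sum_del_add (run_injective (ρ := fun i => β i % p) hβ (fun _ => rfl) j), sum_del,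
    card_subtype_mod, rwt]

omit [DecidableEq ι] in
theorem wt_eq_sum_rwt (hp : 0 < p) (β : ι → ℕ) : wt p β = ∑ j ∈ range p, rwt p β j :=
  wt_eq_sum_run hp fun _ => rfl

omit [DecidableEq ι] in
theorem IsCore.rwt_eq_zero (hp : 0 < p) (h : IsCore p κ) {j : ℕ} (hj : j < p) : rwt p κ j = 0 := by
  have := h.wt_eq_zero hp
  rw [wt_eq_sum_rwt hp] at this
  exact Finset.sum_eq_zero_iff.1 this j (Finset.mem_range.2 hj)

theorem IsCore.rs_add (hp : 0 < p) (h : IsCore p κ) (hβ : Function.Injective β)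
    (hc : cnt p β = cnt p κ) {j : ℕ} (hj : j < p) : rs p β j = rs p κ j + rwt p β j := by
  rw [rs_eq hβ, rs_eq h.1, h.rwt_eq_zero hp hj, hc, add_zero]

omit [DecidableEq ι] in
theorem rs_comp (β : ι → ℕ) (w : Perm ι) : rs p (β ∘ w) = rs p β := by
  funext j
  exact Equiv.sum_comp w fun i => if β i % p = j then β i / p else 0

theorem rs_up (hp : 0 < p) (β : ι → ℕ) (i : ι) (r j : ℕ) :
    rs p (up β i (p * r)) j = rs p β j + if β i % p = j then r else 0 := by
  unfold rs
  rw [← Finset.add_sum_erase _ _ (mem_univ i), ← Finset.add_sum_erase _ _ (mem_univ i), up_mod,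
    up_self, Nat.add_mul_div_left _ _ hp,
    Finset.sum_congr rfl fun k hk => by rw [up_of_ne β (ne_of_mem_erase hk)]]
  split_ifs <;> ring

/-- A function killed by the lowering operators of a runner has no gap on that runner. -/
theorem Anti.rwt_eq_zero {a : (ι → ℕ) → ℂ} (ha : Anti a) {j : ℕ} (hj : j < p)
    (hL : ∀ r, 0 < r → SymChar.LR p j r a = 0) (h0 : a β ≠ 0)
    (hH : ∀ β', a β' ≠ 0 → (∀ i, β' i % p = β i % p) → (∀ i, β i % p ≠ j → β' i = β i) →
      rs p β' j = rs p β j) (hc : rwt p β j ≤ cnt p β j) : rwt p β j = 0 := by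
  have hp : 0 < p := by omega
  let E : ({i // β i % p = j} → ℕ) → ι → ℕ := fun γ i =>
    if h : β i % p = j then p * γ ⟨i, h⟩ + j else β i
  have E1 : ∀ γ (i : {i // β i % p = j}), E γ i = p * γ i + j := fun γ i => dif_pos i.2
  have E2 : ∀ γ i, β i % p ≠ j → E γ i = β i := fun γ i h => dif_neg h
  have E3 : ∀ γ i, E γ i % p = β i % p := by
    intro γ i
    by_cases h : β i % p = j
    · rw [E1 γ ⟨i, h⟩, Nat.mul_add_mod, Nat.mod_eq_of_lt hj, h]
    · rw [E2 γ i h]
  have E4 : ∀ γ, run p (fun i => β i % p) j (E γ) = γ := by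
    intro γ; funext i
    rw [run, E1, Nat.mul_add_div hp, Nat.div_eq_of_lt hj, add_zero]
  have E5 : E (run p (fun i => β i % p) j β) = β := by
    funext i
    by_cases h : β i % p = j
    · rw [E1 _ ⟨i, h⟩, run]; conv_rhs => rw [← Nat.div_add_mod (β i) p, h]
    · exact E2 _ i h
  by_contra hne
  have hg : (fun γ => a (E γ)) = 0 := by
    refine Anti.eq_zero_of_L (m := rwt p β j) (fun γ w => ?_) (Nat.pos_of_ne_zero hne)
      (by rwa [card_subtype_mod]) (fun γ hγ => ?_) fun r hr => ?_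
    · have : E (γ ∘ w) = E γ ∘ (Perm.ofSubtype w : Perm ι) := by
        funext i
        by_cases h : β i % p = j
        · rw [E1 _ ⟨i, h⟩, Function.comp_apply, Function.comp_apply,
            Perm.ofSubtype_apply_of_mem w h, E1]
        · rw [Function.comp_apply, Perm.ofSubtype_apply_of_not_mem w h, E2 _ i h, E2 _ i h]
      simp only [this, ha _ _, sg, Perm.sign_ofSubtype]
    · have h1 := hH (E γ) hγ (E3 γ) (E2 γ)
      rw [rs_eq_sum_run (ρ := fun i => β i % p) (E3 γ), E4,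
        rs_eq_sum_run (ρ := fun i => β i % p) fun _ => rfl] at h1
      rw [h1, rwt,
        sum_del_add (run_injective (ρ := fun i => β i % p) (ha.injective h0) (fun _ => rfl) j)]
    · funext γ
      have h1 := congrFun (hL r hr) (E γ)
      rw [LR_apply, ← Finset.sum_filter,
        Finset.sum_subtype (p := fun i => β i % p = j) _ (by simp [E3]), Pi.zero_apply] at h1
      rw [SymChar.L, Pi.zero_apply, ← h1]
      refine Finset.sum_congr rfl fun i _ => ?_
      congr 1
      funext k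
      rcases eq_or_ne k i with rfl | hk
      · rw [up_self, E1, E1, up_self]; ring
      · rw [up_of_ne _ hk]
        by_cases h : β k % p = j
        · rw [E1 _ ⟨k, h⟩, E1 _ ⟨k, h⟩, up_of_ne _ fun e => hk (congrArg Subtype.val e)]
        · rw [E2 _ k h, E2 _ k h]
  have := congrFun hg (run p (fun i => β i % p) j β)
  rw [E5] at this
  exact h0 this

/-- Words in the runner operators. -/
noncomputable def LW (p : ℕ) : List (ℕ × ℕ) → ((ι → ℕ) → ℂ) →ₗ[ℂ] ((ι → ℕ) → ℂ)
  | [] => LinearMap.id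
  | t :: l => (LW p l).comp (LR p t.1 t.2)

theorem LW_cons (t : ℕ × ℕ) (l : List (ℕ × ℕ)) (a : (ι → ℕ) → ℂ) :
    LW p (t :: l) a = LW p l (LR p t.1 t.2 a) := rfl

theorem LW_swap (s t : ℕ × ℕ) (l : List (ℕ × ℕ)) :
    LW (ι := ι) p (s :: t :: l) = LW p (t :: s :: l) := by
  ext1 a
  rw [LW_cons, LW_cons, LW_cons, LW_cons, LR_comm]

/-- A word of cost `w` in the colours `C`. -/
def IsWord (C : Finset ℕ) (c : ℕ → ℕ) (w : ℕ) (l : List (ℕ × ℕ)) : Prop :=
  (∀ t ∈ l, t.1 ∈ C ∧ 0 < t.2) ∧ (l.map fun t => c t.1 * t.2).sum = w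

/-- The support condition: class of `κ`, no gaps outside the runners `J`, cost `w`. -/
def Sup (p : ℕ) (κ : ι → ℕ) (J : Finset ℕ) (c : ℕ → ℕ) (w : ℕ) (β : ι → ℕ) : Prop :=
  cnt p β = cnt p κ ∧ (∀ j < p, j ∉ J → rs p β j = rs p κ j) ∧
    ∑ j ∈ J, c j * rs p β j = ∑ j ∈ J, c j * rs p κ j + w

omit [DecidableEq ι] in
theorem Sup.comp {J : Finset ℕ} {c : ℕ → ℕ} {w : ℕ} (h : Sup p κ J c w β) (v : Perm ι) :
    Sup p κ J c w (β ∘ v) := by
  unfold Sup; rwa [cnt_comp, rs_comp]

theorem Sup.sum_rwt (hp : 0 < p) (hκ : IsCore p κ) {J : Finset ℕ} (hJ : ∀ j ∈ J, j < p)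
    {c : ℕ → ℕ} {w : ℕ} (h : Sup p κ J c w β) (hβ : Function.Injective β) :
    ∑ j ∈ J, c j * rwt p β j = w := by
  have := h.2.2
  rw [Finset.sum_congr rfl fun j hj => by rw [hκ.rs_add hp hβ h.1 (hJ j hj), mul_add],
    Finset.sum_add_distrib] at this
  omega

/-- The words separate the functions. -/
theorem eq_zero_of_words (hp : 0 < p) (hκ : IsCore p κ) {J C : Finset ℕ} (hJ : ∀ j ∈ J, j < p)
    (hCJ : C ⊆ J) {c : ℕ → ℕ} (hc : ∀ j ∈ J, 0 < c j) {X : ((ι → ℕ) → ℂ) → Prop}
    (hX : ∀ a, X a → ∀ j ∈ C, ∀ r, 0 < r → X (LR p j r a))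
    (hX' : ∀ a, X a → (∀ j ∈ C, ∀ r, 0 < r → LR p j r a = 0) →
      ∀ j ∈ J, ∀ r, 0 < r → LR p j r a = 0)
    (w : ℕ) (hw : ∀ j ∈ J, w ≤ cnt p κ j) {a : (ι → ℕ) → ℂ} (ha : Anti a) (hXa : X a)
    (hs : ∀ β, a β ≠ 0 → Sup p κ J c w β)
    (h : ∀ l, IsWord C c w l → LW p l a κ = 0) : a = 0 := by
  induction w using Nat.strong_induction_on generalizing a with
  | _ w ih =>
  rcases Nat.eq_zero_or_pos w with rfl | hw0
  · funext β
    by_contra h0
    have hβ := ha.injective h0
    have h1 := (hs β h0).sum_rwt hp hκ hJ hβ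
    have h2 : wt p β = 0 := by
      rw [wt_eq_sum_rwt hp]
      refine Finset.sum_eq_zero fun j hj => ?_
      rw [Finset.mem_range] at hj
      by_cases hjJ : j ∈ J
      · exact (Nat.mul_eq_zero.1 (Finset.sum_eq_zero_iff.1 h1 j hjJ)).resolve_left (hc j hjJ).ne'
      · have := hκ.rs_add hp hβ (hs β h0).1 hj
        rw [(hs β h0).2.1 j hj hjJ] at this
        omega
    obtain ⟨v, rfl⟩ := hκ.exists_perm hp (isCore_of_wt hp hβ h2) (hs β h0).1
    have h3 : a κ = 0 := h [] ⟨by simp, rfl⟩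
    exact h0 (by rw [ha, h3, mul_zero]; rfl)
  have key : ∀ j ∈ C, ∀ r, 0 < r → LR p j r a = 0 := by
    intro j hj r hr
    have hsup : ∀ β, LR p j r a β ≠ 0 → c j * r ≤ w ∧ Sup p κ J c (w - c j * r) β := by
      intro β hβ
      obtain ⟨i, hi, h'⟩ := exists_of_LR_ne_zero hβ
      obtain ⟨h1, h2, h3⟩ := hs _ h'
      rw [cnt_up] at h1
      have h4 : ∑ k ∈ J, c k * rs p (up β i (p * r)) k = ∑ k ∈ J, c k * rs p β k + c j * r := by
        simp only [rs_up hp, mul_add, Finset.sum_add_distrib, hi, mul_ite, mul_zero]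
        rw [Finset.sum_ite_eq, if_pos (hCJ hj)]
      have h5 : ∑ k ∈ J, c k * rs p κ k ≤ ∑ k ∈ J, c k * rs p β k :=
        Finset.sum_le_sum fun k hk => Nat.mul_le_mul_left _ (by
          rw [hκ.rs_add hp ((ha.LR j r).injective hβ) h1 (hJ k hk)]; omega)
      refine ⟨by omega, h1, fun k hk hkJ => ?_, by omega⟩
      have := h2 k hk hkJ
      rwa [rs_up hp, if_neg (by rw [hi]; rintro rfl; exact hkJ (hCJ hj)), add_zero] at this
    by_cases hle : c j * r ≤ w
    · have hpos : 0 < c j * r := Nat.mul_pos (hc j (hCJ hj)) hr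
      refine ih (w - c j * r) (by omega) (fun k hk => le_trans (Nat.sub_le _ _) (hw k hk))
        (ha.LR j r) (hX a hXa j hj r hr) (fun β hβ => (hsup β hβ).2) fun l hl => ?_
      refine h ((j, r) :: l) ⟨fun t ht => ?_, ?_⟩
      · rcases List.mem_cons.1 ht with rfl | ht
        · exact ⟨hj, hr⟩
        · exact hl.1 t ht
      · rw [List.map_cons, List.sum_cons, hl.2]; dsimp only; omega
    · funext β
      by_contra hβ
      exact hle (hsup β hβ).1
  funext β
  by_contra h0
  have hβ := ha.injective h0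
  have h1 := (hs β h0).sum_rwt hp hκ hJ hβ
  rw [Finset.sum_eq_zero] at h1
  · omega
  intro j hj
  rw [ha.rwt_eq_zero (hJ j hj) (hX' a hXa key j hj) h0, mul_zero]
  · intro β' h' hm he
    have h2 := (hs β' h').2.2
    rw [← (hs β h0).2.2, ← Finset.add_sum_erase _ _ hj, ← Finset.add_sum_erase _ _ hj,
      Finset.sum_congr rfl (g := fun k => c k * rs p β k) fun k hk => ?_] at h2
    · exact Nat.eq_of_mul_eq_mul_left (hc j hj) (by omega)
    · congr 1
      refine Finset.sum_congr rfl fun i _ => ?_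
      rw [hm]
      split_ifs with hi
      · rw [he i (by rw [hi]; exact ne_of_mem_erase hk)]
      · rfl
  · rw [(hs β h0).1]
    refine le_trans ?_ (hw j hj)
    rw [← h1]
    exact le_trans (Nat.le_mul_of_pos_left _ (hc j hj))
      (Finset.single_le_sum (f := fun k => c k * rwt p β k) (fun _ _ => Nat.zero_le _) hj)

/-- Counting words. -/
theorem exists_words {C : Finset ℕ} {c : ℕ → ℕ} (hc : ∀ j ∈ C, 0 < c j) {t : ℕ → ℕ} (h0 : 1 ≤ t 0)
    (ht : ∀ w, 0 < w →
      ∑ j ∈ C, ∑ r ∈ Icc 1 w, (if c j * r ≤ w then t (w - c j * r) else 0) ≤ t w) (w : ℕ) :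
    ∃ W : Finset (List (ℕ × ℕ)), (∀ l, IsWord C c w l → l ∈ W) ∧ #W ≤ t w := by
  induction w using Nat.strong_induction_on with
  | _ w ih =>
  rcases Nat.eq_zero_or_pos w with rfl | hw0
  · refine ⟨{[]}, fun l hl => ?_, by simpa using h0⟩
    rcases l with _ | ⟨s, l⟩
    · simp
    · have h1 := hl.1 s List.mem_cons_self
      have h2 := hl.2
      have := Nat.mul_pos (hc _ h1.1) h1.2
      rw [List.map_cons, List.sum_cons] at h2
      omega
  have ih' : ∀ v, ∃ W : Finset (List (ℕ × ℕ)), v < w → (∀ l, IsWord C c v l → l ∈ W) ∧ #W ≤ t v :=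
    fun v => by
      by_cases hv : v < w
      · obtain ⟨W, hW⟩ := ih v hv; exact ⟨W, fun _ => hW⟩
      · exact ⟨∅, fun h => (hv h).elim⟩
  choose W hW using ih'
  refine ⟨C.biUnion fun j => (Icc 1 w).biUnion fun r =>
    if c j * r ≤ w then (W (w - c j * r)).image (List.cons (j, r)) else ∅, fun l hl => ?_, ?_⟩
  · rcases l with _ | ⟨⟨j, r⟩, l⟩
    · have := hl.2; simp at this; omega
    · have h1 := hl.1 (j, r) List.mem_cons_self
      have h2 := hl.2
      have h3 := Nat.mul_pos (hc _ h1.1) h1.2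
      have h4 := Nat.le_mul_of_pos_left r (hc _ h1.1)
      rw [List.map_cons, List.sum_cons] at h2
      dsimp only at h1 h2 h3 h4
      refine Finset.mem_biUnion.2 ⟨j, h1.1, Finset.mem_biUnion.2
        ⟨r, Finset.mem_Icc.2 ⟨h1.2, by omega⟩, ?_⟩⟩
      rw [if_pos (by omega)]
      exact Finset.mem_image_of_mem _ ((hW _ (by omega)).1 l
        ⟨fun s hs => hl.1 s (List.mem_cons_of_mem _ hs), by omega⟩)
  · refine le_trans Finset.card_biUnion_le (le_trans (Finset.sum_le_sum fun j hj => ?_) (ht w hw0))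
    refine le_trans Finset.card_biUnion_le (Finset.sum_le_sum fun r hr => ?_)
    split_ifs with h
    · have := Nat.mul_pos (hc _ hj) (Finset.mem_Icc.1 hr).1
      exact le_trans Finset.card_image_le (hW _ (by omega)).2
    · simp

theorem finrank_le_of_separating {V α : Type*} [AddCommGroup V] [Module ℂ V] (U : Submodule ℂ V)
    (φ : α → V →ₗ[ℂ] ℂ) (W : Finset α) (h : ∀ x ∈ U, (∀ l ∈ W, φ l x = 0) → x = 0) :
    Module.finrank ℂ U ≤ #W := by
  have := LinearMap.finrank_le_finrank_of_injective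
    (f := LinearMap.pi fun l : W => (φ l).comp U.subtype)
    ((injective_iff_map_eq_zero _).2 fun x hx =>
      Subtype.ext (h x x.2 fun l hl => congrFun hx ⟨l, hl⟩))
  simpa using this

theorem sum_Icc_sub (w : ℕ) (t : ℕ → ℕ) :
    ∑ r ∈ Icc 1 w, t (w - r) = ∑ v ∈ range w, t v := by
  refine Finset.sum_bij' (fun r _ => w - r) (fun v _ => w - v) ?_ ?_ ?_ ?_ ?_ <;>
    simp only [Finset.mem_Icc, Finset.mem_range] <;> intros <;> first | omega | trivial

/-- Words of cost one per step in `q` colours. -/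
theorem exists_words_one (C : Finset ℕ) (w : ℕ) (hw : 0 < w) :
    ∃ W : Finset (List (ℕ × ℕ)), (∀ l, IsWord C (fun _ => 1) w l → l ∈ W) ∧
      #W ≤ #C * (#C + 1) ^ (w - 1) := by
  have key : ∀ w, ∑ v ∈ range (w + 1), (if v = 0 then 1 else #C * (#C + 1) ^ (v - 1)) =
      (#C + 1) ^ w := by
    intro w
    induction w with
    | zero => simp
    | succ w ih => rw [Finset.sum_range_succ, ih, if_neg (Nat.succ_ne_zero w), pow_succ]; simp; ring
  obtain ⟨W, h1, h2⟩ := exists_words (C := C) (c := fun _ => 1) (fun _ _ => one_pos)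
    (t := fun v => if v = 0 then 1 else #C * (#C + 1) ^ (v - 1)) (by simp) (fun w hw => by
      obtain ⟨w, rfl⟩ := Nat.exists_eq_succ_of_ne_zero hw.ne'
      rw [Finset.sum_congr rfl (g := fun _ => (#C + 1) ^ w) fun j _ => by
        rw [← key, ← sum_Icc_sub]
        exact Finset.sum_congr rfl fun r hr => by
          rw [one_mul, if_pos (Finset.mem_Icc.1 hr).2]]
      simp) w
  exact ⟨W, h1, by rwa [if_neg hw.ne'] at h2⟩

end Cfsg.Lib.SymChar
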