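import Cfsg.Agent.Char.TIDegree
import Cfsg.Agent.Char.TI
import Cfsg.Agent.Char.Isometry
import Cfsg.Agent.Char.Clifford
import Cfsg.Agent.Char.CharCenter
import Mathlib.GroupTheory.Transfer

/-!
# Characters of small degree and abelian Sylow subgroups with equal centralizers
-/

set_option autoImplicit false

open Cfsg
open scoped ComplexConjugate

namespace Cfsg.Lib.Char

section Abelian

variable {P : Type*} [CommGroup P] [Fintype P]

omit [Fintype P] in
theorem lin_mul_inv_mul (κ ω : P →* ℂˣ) : κ * (κ⁻¹ * ω) = ω := by ext; simp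

theorem exists_ne_one_classInner_ne_zero {f : P → ℂ} (h : ¬ ∀ x, f x = f 1) :
    ∃ μ : P →* ℂˣ, μ ≠ 1 ∧ classInner f (fun x => (μ x : ℂ)) ≠ 0 := by
  by_contra hc
  push Not at hc
  have hf : IsClassFunction P f := fun a b => by simp
  refine h fun x => ?_
  rw [hf.apply_eq_sum_irr x, hf.apply_eq_sum_irr 1]
  refine Finset.sum_congr rfl fun χ _ => ?_
  obtain ⟨μ, hμ⟩ := χ.2.exists_monoidHom_of_comm mul_comm
  rw [hμ]
  by_cases h1 : μ = 1
  · simp [h1]
  · simp [hc μ h1]

theorem exists_mul_of_classInner_mul_ne_zero {f g : P → ℂ} {κ : P →* ℂˣ}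
    (h : classInner (f * g) (fun x => (κ x : ℂ)) ≠ 0) : ∃ μ ν : P →* ℂˣ,
      classInner f (fun x => (μ x : ℂ)) ≠ 0 ∧ classInner g (fun x => (ν x : ℂ)) ≠ 0 ∧
        κ = μ * ν := by
  have hf : IsClassFunction P f := fun a b => by simp
  rw [classInner_mul_left, hf.classInner_eq_sum_irr] at h
  obtain ⟨χ, -, hχ⟩ := Finset.exists_ne_zero_of_sum_ne_zero h
  obtain ⟨μ, hμ⟩ := χ.2.exists_monoidHom_of_comm mul_comm
  rw [hμ] at hχ
  refine ⟨μ, μ⁻¹ * κ, left_ne_zero_of_mul hχ, ?_, by rw [lin_mul_inv_mul]⟩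
  have h1 := right_ne_zero_of_mul hχ
  rw [← classInner_mul_left, mul_comm, classInner_mul_left] at h1
  convert h1 using 2
  funext x
  simp [← monoidHom_apply_inv]

theorem classInner_conj_monoidHom (f : P → ℂ) (κ : P →* ℂˣ) :
    classInner (fun x => conj (f x)) (fun x => (κ x : ℂ)) =
      conj (classInner f fun x => ((κ⁻¹ : P →* ℂˣ) x : ℂ)) := by
  rw [conj_classInner, ← classInner_conj_conj]
  congr 1
  · funext x
    simp [← monoidHom_apply_inv]
  · funext x
    simp

end Abelian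

theorem classInner_comp_ne_zero_of_constituent {G H : Type*} [Group G] [Group H] [Fintype G]
    [Fintype H] (f : H →* G) {χ η : G → ℂ} (hχ : IsCharacter G χ) (hη : IsIrrCharacter G η)
    (h : classInner χ η ≠ 0) {κ : H → ℂ} (hκ : IsCharacter H κ)
    (h' : classInner (fun x => η (f x)) κ ≠ 0) : classInner (fun x => χ (f x)) κ ≠ 0 := by
  obtain ⟨a, ha⟩ := ((hχ.sub_of_classInner_ne_zero hη h).comp f).exists_nat_classInner hκ
  obtain ⟨b, hb⟩ := (hη.isCharacter.comp f).exists_nat_classInner hκ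
  have e1 : (fun x => χ (f x)) = (fun x => (χ - η) (f x)) + fun x => η (f x) := by
    funext n; simp
  rw [e1, classInner_add_left, ha, hb]
  rw [hb] at h'
  have : b ≠ 0 := by exact_mod_cast h'
  exact_mod_cast (by omega : a + b ≠ 0)

/-- The local configuration: `P` is a central direct factor of the normal subgroup `C` of `N`,
`N / C` acts fixed point freely on `P`, and the elements of `C` with nontrivial component in `P`
form a trivial intersection set with normalizer `N`. -/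
structure BLData {G : Type*} [Group G] {N : Subgroup G} {C : Subgroup N} [hC : C.Normal]
    {P : Type*} [CommGroup P] (i : P →* C) (π : C →* P) (α : N →* MulAut P) : Prop where
  pi_i : ∀ x, π (i x) = x
  central : ∀ x c, c * i x = i x * c
  conj_i : ∀ n x, (i (α n x) : N) = n * i x * n⁻¹
  conj_pi : ∀ (n : N) (c : C), π ⟨n * c * n⁻¹, hC.conj_mem c c.2 n⟩ = α n (π c)
  fpf : ∀ n, n ∉ C → ∀ x, α n x = x → x = 1
  ti : ∀ g, g ∉ N → ∀ c c' : C, π c ≠ 1 → g * ((c : N) : G) * g⁻¹ = ((c' : N) : G) → π c' = 1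

namespace BLData

variable {G : Type*} [Group G] {N : Subgroup G} {C : Subgroup N} [hC : C.Normal]
  {P : Type*} [CommGroup P] {i : P →* C} {π : C →* P} {α : N →* MulAut P}

/-- `φ` has central character `μ` on `P`. -/
def Over (i : P →* C) (φ : C → ℂ) (μ : P →* ℂˣ) : Prop := ∀ x c, φ (i x * c) = μ x * φ c

/-- The conjugate of a linear character of `P`. -/
def cj (α : N →* MulAut P) (μ : P →* ℂˣ) (n : N) : P →* ℂˣ := μ.comp (α n).toMonoidHom

omit hC in
@[simp] theorem cj_apply (μ : P →* ℂˣ) (n : N) (x : P) : cj α μ n x = μ (α n x) := rfl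

omit hC in
theorem cj_cj (μ : P →* ℂˣ) (m n : N) : cj α (cj α μ m) n = cj α μ (m * n) := by
  ext x; simp

omit hC in
theorem cj_mul (μ ν : P →* ℂˣ) (n : N) : cj α (μ * ν) n = cj α μ n * cj α ν n := rfl

omit hC in
theorem cj_one (μ : P →* ℂˣ) : cj α μ 1 = μ := by ext x; simp

omit hC in
theorem cj_eq_one_iff {μ : P →* ℂˣ} {n : N} : cj α μ n = 1 ↔ μ = 1 := by
  refine ⟨fun h => ?_, fun h => by rw [h]; rfl⟩
  rw [← cj_one (α := α) μ, ← mul_inv_cancel n, ← cj_cj, h]; rfl

/-- Twisting a function on `C` by a linear character of `P`. -/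
def tw (π : C →* P) (φ : C → ℂ) (ν : P →* ℂˣ) : C → ℂ := φ * fun c => (ν.comp π c : ℂ)

omit hC in
theorem Over.apply {φ : C → ℂ} {μ : P →* ℂˣ} (h : Over i φ μ) (x : P) :
    φ (i x) = φ 1 * μ x := by
  rw [mul_comm, ← h, mul_one]

omit hC in
theorem Over.unique {φ : C → ℂ} {μ ν : P →* ℂˣ} (h : Over i φ μ) (h' : Over i φ ν)
    (h1 : φ 1 ≠ 0) : μ = ν := by
  ext x
  exact mul_left_cancel₀ h1 ((h.apply x).symm.trans (h'.apply x))

omit hC in
theorem Over.classInner_comp [Fintype P] {φ : C → ℂ} {μ : P →* ℂˣ} (h : Over i φ μ)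
    (κ : P →* ℂˣ) : classInner (fun x => φ (i x)) (fun x => (κ x : ℂ)) =
      φ 1 * open Classical in if μ = κ then 1 else 0 := by
  have : (fun x => φ (i x)) = φ 1 • fun x => (μ x : ℂ) := funext fun x => h.apply x
  rw [this, classInner_smul_left, classInner_monoidHom]

variable (D : BLData i π α)
include D

theorem exists_over [Finite G] {φ : C → ℂ} (hφ : IsIrrCharacter C φ) : ∃ μ, Over i φ μ := by
  obtain ⟨lam, -, h, -⟩ := hφ.exists_monoidHom_of_le_center (Z := i.range) (by
    rintro _ ⟨x, rfl⟩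
    exact Subgroup.mem_center_iff.2 (D.central x))
  exact ⟨lam.comp i.rangeRestrict, fun x c => h (i.rangeRestrict x) c⟩

theorem over_conjChar {φ : C → ℂ} {μ : P →* ℂˣ} (h : Over i φ μ) (n : N) :
    Over i (conjChar C φ n) (cj α μ n) := by
  intro x c
  rw [conjChar_apply, conjChar_apply, cj_apply, ← h]
  congr 1
  apply Subtype.ext
  simp only [Subgroup.coe_mul, D.conj_i]
  group

theorem over_tw {φ : C → ℂ} {μ : P →* ℂˣ} (h : Over i φ μ) (ν : P →* ℂˣ) :
    Over i (tw π φ ν) (μ * ν) := by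
  intro x c
  simp only [tw, Pi.mul_apply, MonoidHom.comp_apply, map_mul, D.pi_i, h x c,
    MonoidHom.mul_apply, Units.val_mul]
  ring

theorem cj_of_mem (μ : P →* ℂˣ) {n : N} (hn : n ∈ C) : cj α μ n = μ := by
  ext x
  have h1 : i (α n x) = i x := by
    apply Subtype.ext
    rw [D.conj_i]
    have := congrArg Subtype.val (D.central x ⟨n, hn⟩)
    simp only [Subgroup.coe_mul] at this
    rw [this]; group
  have h2 := congrArg π h1
  rw [D.pi_i, D.pi_i] at h2
  rw [cj_apply, h2]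

theorem mem_of_cj_eq [Finite P] {μ : P →* ℂˣ} (hμ : μ ≠ 1) {n : N} (h : cj α μ n = μ) :
    n ∈ C := by
  by_contra hn
  let f : P →* P := (α n).toMonoidHom / MonoidHom.id P
  have hf : Function.Injective f := (injective_iff_map_eq_one f).2 fun x hx =>
    D.fpf n hn x (div_eq_one.1 hx)
  apply hμ
  ext y
  obtain ⟨x, rfl⟩ := Finite.injective_iff_surjective.1 hf y
  have := DFunLike.congr_fun h x
  rw [cj_apply] at this
  simp [f, this]

variable [Fintype G] [Fintype N] [Fintype C] [Fintype P]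

omit [Fintype G] [Fintype C] in
theorem irr_indFun {φ : C → ℂ} (hφ : IsIrrCharacter C φ) {μ : P →* ℂˣ} (h : Over i φ μ)
    (hμ : μ ≠ 1) : IsIrrCharacter N (indFun C φ) := by
  refine (isIrrCharacter_indFun_normal_iff hφ).2 fun n hn => D.mem_of_cj_eq hμ ?_
  have := D.over_conjChar h n
  rw [mem_inertia.1 hn] at this
  exact this.unique h hφ.apply_one_ne_zero

omit [Fintype G] [Fintype P] in
theorem classInner_indFun_eq_zero {φ ψ : C → ℂ} (hφ : IsIrrCharacter C φ)
    (hψ : IsIrrCharacter C ψ) {μ ν : P →* ℂˣ} (h : Over i φ μ) (h' : Over i ψ ν)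
    (hne : ∀ n, cj α μ n ≠ ν) : classInner (indFun C φ) (indFun C ψ) = 0 := by
  refine classInner_indFun_indFun_of_notMem_conjSet hφ hψ fun hm => ?_
  obtain ⟨n, rfl⟩ := mem_conjSet.1 hm
  exact hne n ((D.over_conjChar h n).unique h' hψ.apply_one_ne_zero)

omit [Fintype G] [Fintype C] [Fintype P] in
theorem sub_tw_vanish (φ : C → ℂ) (ν : P →* ℂˣ) (n : N)
    (hn : (n : G) ∉ {s : G | ∃ c : C, π c ≠ 1 ∧ ((c : N) : G) = s}) :
    (indFun C φ - indFun C (tw π φ ν)) n = 0 := by
  rw [Pi.sub_apply, sub_eq_zero]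
  by_cases h : n ∈ C
  · have h1 : π ⟨n, h⟩ = 1 := by
      by_contra h1
      exact hn ⟨⟨n, h⟩, h1, rfl⟩
    rw [indFun_normal_apply C φ ⟨n, h⟩, indFun_normal_apply C _ ⟨n, h⟩]
    congr 1
    refine Finset.sum_congr rfl fun m _ => ?_
    simp only [tw, Pi.mul_apply, MonoidHom.comp_apply]
    rw [D.conj_pi m ⟨n, h⟩, h1, map_one, map_one, Units.val_one, mul_one]
  · rw [indFun_normal_of_notMem C _ h, indFun_normal_of_notMem C _ h]

/-- The induced difference of a character and a twist of it. -/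
noncomputable def T (π : C →* P) (φ : C → ℂ) (ν : P →* ℂˣ) : G → ℂ :=
  indFun N (indFun C φ - indFun C (tw π φ ν))

omit [Fintype C] [Fintype P] in
theorem classInner_T (φ ψ : C → ℂ) (ν κ : P →* ℂˣ) : classInner (T π φ ν) (T π ψ κ) =
    classInner (indFun C φ - indFun C (tw π φ ν)) (indFun C ψ - indFun C (tw π ψ κ)) := by
  refine classInner_indFun_indFun_of_TI' N {s : G | ∃ c : C, π c ≠ 1 ∧ ((c : N) : G) = s} ?_
    ((indFun_isClassFunction _ _).sub (indFun_isClassFunction _ _))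
    (D.sub_tw_vanish φ ν) (D.sub_tw_vanish ψ κ)
  rintro g hg _ ⟨c, hc, rfl⟩ ⟨c', hc', h⟩
  exact hc' (D.ti g hg c c' hc h.symm)

omit D hC [Fintype P] [Fintype C] [Fintype N] [Fintype G] in
theorem irr_tw [Finite G] {φ : C → ℂ} (hφ : IsIrrCharacter C φ) (ν : P →* ℂˣ) :
    IsIrrCharacter C (tw π φ ν) := hφ.mul_monoidHom _

omit D hC [Fintype P] [Fintype C] in
theorem gen_T {φ : C → ℂ} (hφ : IsIrrCharacter C φ) (ν : P →* ℂˣ) :
    IsGeneralizedCharacter G (T π φ ν) :=
  isGeneralizedCharacter_indFun ((isCharacter_indFun hφ.isCharacter).isGeneralizedCharacter.sub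
    (isCharacter_indFun (irr_tw hφ ν).isCharacter).isGeneralizedCharacter)

omit D hC [Fintype P] [Fintype C] in
theorem T_one (φ : C → ℂ) (ν : P →* ℂˣ) : T π φ ν 1 = 0 := by
  rw [T, indFun_one, Pi.sub_apply, indFun_one, indFun_one]
  simp [tw]

omit D hC [Fintype P] in
theorem classInner_T_left (φ : C → ℂ) (ν : P →* ℂˣ) {η : G → ℂ} (hη : IsClassFunction G η) :
    classInner (T π φ ν) η = classInner φ (fun c : C => η (c : N)) -
      classInner (tw π φ ν) (fun c : C => η (c : N)) := by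
  rw [T, classInner_indFun_left N _ hη, classInner_sub_left,
    classInner_indFun_left C _ (hη.res N), classInner_indFun_left C _ (hη.res N)]

theorem classInner_T_self {φ : C → ℂ} (hφ : IsIrrCharacter C φ) {μ ν : P →* ℂˣ}
    (h : Over i φ μ) (hμ : μ ≠ 1) (hμν : μ * ν ≠ 1) (hne : ∀ n, cj α μ n ≠ μ * ν) :
    classInner (T π φ ν) (T π φ ν) = 2 := by
  have h1 := D.classInner_indFun_eq_zero hφ (irr_tw hφ ν) h (D.over_tw h ν) hne
  rw [D.classInner_T, classInner_sub_left, classInner_sub_right, classInner_sub_right,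
    (D.irr_indFun hφ h hμ).classInner_self, h1, classInner_eq_zero_comm.1 h1,
    (D.irr_indFun (irr_tw hφ ν) (D.over_tw h ν) hμν).classInner_self]
  norm_num

/-- The linear characters of `P` occurring in `η`. -/
def Supp (i : P →* C) (η : G → ℂ) (κ : P →* ℂˣ) : Prop :=
  classInner (fun x => η ((i x : C) : N)) (fun x => (κ x : ℂ)) ≠ 0

omit [Fintype N] in
theorem supp_iff {η : G → ℂ} (hη : IsCharacter G η) {κ : P →* ℂˣ} : Supp i η κ ↔
    ∃ ψ, IsIrrCharacter C ψ ∧ Over i ψ κ ∧ classInner ψ (fun c : C => η (c : N)) ≠ 0 := by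
  have hηC : IsCharacter C fun c : C => η (c : N) := (hη.res N).res C
  constructor
  · intro h
    have e : (fun x => η ((i x : C) : N)) = ∑ ψ : IrrCharacter C,
        classInner (fun c : C => η (c : N)) ψ.1 • fun x => ψ.1 (i x) := by
      funext x
      rw [Finset.sum_apply]
      exact hηC.isClassFunction.apply_eq_sum_irr (i x)
    rw [Supp, e, classInner_sum_left] at h
    obtain ⟨ψ, -, hψ⟩ := Finset.exists_ne_zero_of_sum_ne_zero h
    rw [classInner_smul_left] at hψ
    obtain ⟨μ, hμ⟩ := D.exists_over ψ.2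
    have h2 := right_ne_zero_of_mul hψ
    rw [hμ.classInner_comp] at h2
    have h3 : μ = κ := by
      by_contra h3
      simp [h3] at h2
    exact ⟨ψ.1, ψ.2, h3 ▸ hμ, fun h => left_ne_zero_of_mul hψ (classInner_eq_zero_comm.1 h)⟩
  · rintro ⟨ψ, hψ, h1, h2⟩
    refine classInner_comp_ne_zero_of_constituent i hηC hψ
      (fun h => h2 (classInner_eq_zero_comm.1 h)) (isIrrCharacter_monoidHom κ).isCharacter ?_
    rw [h1.classInner_comp, if_pos rfl, mul_one]
    exact hψ.apply_one_ne_zero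

omit [Fintype G] [Fintype N] [Fintype C] in
theorem supp_cj {η : G → ℂ} (hη : IsClassFunction G η) {κ : P →* ℂˣ} (h : Supp i η κ) (n : N) :
    Supp i η (cj α κ n) := by
  rw [Supp, ← classInner_comp_equiv (α n)] at h
  have e : (fun x => η ((i x : C) : N)) = fun x => η ((i (α n x) : C) : N) := by
    funext x
    rw [D.conj_i, Subgroup.coe_mul, Subgroup.coe_mul, Subgroup.coe_inv, hη.apply_conj]
  rw [Supp, e]
  exact h

omit [Fintype G] [Fintype C] [Fintype P] in
theorem card_orbit_le (μ : P →* ℂˣ) [DecidableEq (P →* ℂˣ)] :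
    (Finset.univ.image (cj α μ)).card ≤ C.index := by
  classical
  have := Fintype.ofFinite (N ⧸ C)
  have h : Finset.univ.image (cj α μ) ⊆ Finset.univ.image fun q : N ⧸ C => cj α μ q.out := by
    intro ν hν
    obtain ⟨n, -, rfl⟩ := Finset.mem_image.1 hν
    obtain ⟨c, hc⟩ := QuotientGroup.mk_out_eq_mul C n
    refine Finset.mem_image.2 ⟨n, Finset.mem_univ _, ?_⟩
    rw [hc, ← cj_cj, D.cj_of_mem _ c.2]
  refine (Finset.card_le_card h).trans (Finset.card_image_le.trans ?_)
  rw [Finset.card_univ, Subgroup.index, Nat.card_eq_fintype_card]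

theorem exists_T_eq_sub {η : G → ℂ} (hη : IsIrrCharacter G η) {ψ : C → ℂ}
    (hψ : IsIrrCharacter C ψ) {κ ω : P →* ℂˣ} (ho : Over i ψ κ)
    (h2 : classInner ψ (fun c : C => η (c : N)) ≠ 0) (hk : κ ≠ 1) (hω1 : ω ≠ 1)
    (hω : ¬ Supp i η ω) :
    ∃ X, IsIrrCharacter G X ∧ X ≠ η ∧ T π ψ (κ⁻¹ * ω) = η - X := by
  classical
  have hκ : Supp i η κ := (D.supp_iff hη.isCharacter).2 ⟨ψ, hψ, ho, h2⟩
  have ho' := D.over_tw ho (κ⁻¹ * ω)
  have h3 := D.classInner_T_self (ν := κ⁻¹ * ω) hψ ho hk (by rwa [lin_mul_inv_mul])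
    (fun n h => hω (by
      rw [lin_mul_inv_mul] at h
      exact h ▸ D.supp_cj hη.isClassFunction hκ n))
  obtain ⟨a, b, ha, hb, hab, h4⟩ := exists_eq_sub_of_norm_two (gen_T hψ _) h3 (T_one _ _)
  have h5 := classInner_T_left (π := π) ψ (κ⁻¹ * ω) hη.isClassFunction
  have h6 : classInner (tw π ψ (κ⁻¹ * ω)) (fun c : C => η (c : N)) = 0 := by
    by_contra h6
    rw [lin_mul_inv_mul] at ho'
    exact hω ((D.supp_iff hη.isCharacter).2 ⟨_, irr_tw hψ _, ho', h6⟩)
  obtain ⟨m, hm⟩ := hψ.isCharacter.exists_nat_classInner ((hη.isCharacter.res N).res C)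
  rw [h6, sub_zero, h4, classInner_sub_left, hm, ha.classInner_eq_ite hη,
    hb.classInner_eq_ite hη] at h5
  rw [hm] at h2
  have h7 : a = η := by
    by_contra h7
    rw [if_neg h7] at h5
    split_ifs at h5
    · have : ((m + 1 : ℕ) : ℂ) = 0 := by push_cast; linear_combination -h5
      exact Nat.succ_ne_zero m (by exact_mod_cast this)
    · exact h2 (by linear_combination -h5)
  exact ⟨b, hb, fun h => hab (h7.trans h.symm), h7 ▸ h4⟩

/-- If the support of an irreducible character is small, its nontrivial members are conjugate. -/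
theorem conj_of_supp {η : G → ℂ} (hη : IsIrrCharacter G η) (S : Finset (P →* ℂˣ))
    (hS : ∀ κ, Supp i η κ → κ ∈ S) (h1 : 1 ∈ S) (hcard : S.card + C.index < Nat.card P)
    {κ₁ κ₂ : P →* ℂˣ} (hκ₁ : Supp i η κ₁) (hκ₂ : Supp i η κ₂) (hk₁ : κ₁ ≠ 1) (hk₂ : κ₂ ≠ 1) :
    ∃ n, cj α κ₁ n = κ₂ := by
  classical
  by_contra hne
  push Not at hne
  have := Fintype.ofFinite (P →* ℂˣ)
  have hL : (Finset.univ : Finset (P →* ℂˣ)).card = Nat.card P := by
    rw [Finset.card_univ, ← Nat.card_eq_fintype_card, card_monoidHom_units_of_comm mul_comm]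
  obtain ⟨ω₁, -, hω₁⟩ := Finset.exists_mem_notMem_of_card_lt_card (s := S) (t := Finset.univ)
    (by omega)
  obtain ⟨ω₂, -, hω₂⟩ := Finset.exists_mem_notMem_of_card_lt_card
    (s := S ∪ Finset.univ.image (cj α ω₁)) (t := Finset.univ) (by
      have := Finset.card_union_le S (Finset.univ.image (cj α ω₁))
      have := D.card_orbit_le ω₁
      omega)
  rw [Finset.mem_union, not_or] at hω₂
  have key : ∀ κ ω, Supp i η κ → κ ≠ 1 → ω ∉ S → ∃ ψ X, IsIrrCharacter C ψ ∧ Over i ψ κ ∧
      IsIrrCharacter G X ∧ X ≠ η ∧ T π ψ (κ⁻¹ * ω) = η - X := by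
    intro κ ω hκ hk hω
    obtain ⟨ψ, hψ, ho, h2⟩ := (D.supp_iff hη.isCharacter).1 hκ
    obtain ⟨X, h⟩ := D.exists_T_eq_sub hη hψ ho h2 hk (ω := ω) (fun h => hω (h ▸ h1))
      fun h => hω (hS _ h)
    exact ⟨ψ, X, hψ, ho, h⟩
  obtain ⟨ψ₁, X₁, hψ₁, ho₁, hX₁, hn₁, e₁⟩ := key κ₁ ω₁ hκ₁ hk₁ hω₁
  obtain ⟨ψ₂, X₂, hψ₂, ho₂, hX₂, hn₂, e₂⟩ := key κ₂ ω₂ hκ₂ hk₂ hω₂.1
  have ho₁' := D.over_tw ho₁ (κ₁⁻¹ * ω₁)
  have ho₂' := D.over_tw ho₂ (κ₂⁻¹ * ω₂)
  rw [lin_mul_inv_mul] at ho₁' ho₂'
  have h2 := D.classInner_T ψ₁ ψ₂ (κ₁⁻¹ * ω₁) (κ₂⁻¹ * ω₂)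
  rw [e₁, e₂, classInner_sub_left, classInner_sub_right, classInner_sub_right,
    classInner_sub_left, classInner_sub_right, classInner_sub_right, hη.classInner_self,
    hη.classInner_of_ne hX₂ hn₂.symm, hX₁.classInner_of_ne hη hn₁,
    D.classInner_indFun_eq_zero hψ₁ hψ₂ ho₁ ho₂ hne,
    D.classInner_indFun_eq_zero hψ₁ (irr_tw hψ₂ _) ho₁ ho₂'
      (fun n h => hω₂.1 (h ▸ hS _ (D.supp_cj hη.isClassFunction hκ₁ n))),
    classInner_eq_zero_comm.1 (D.classInner_indFun_eq_zero hψ₂ (irr_tw hψ₁ _) ho₂ ho₁'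
      (fun n h => hω₁ (h ▸ hS _ (D.supp_cj hη.isClassFunction hκ₂ n)))),
    D.classInner_indFun_eq_zero (irr_tw hψ₁ _) (irr_tw hψ₂ _) ho₁' ho₂'
      (fun n h => hω₂.2 (Finset.mem_image.2 ⟨n, Finset.mem_univ _, h⟩)),
    hX₁.classInner_eq_ite hX₂] at h2
  split_ifs at h2 <;> norm_num at h2

omit [Fintype N] in
theorem conj_of_res_irr {η : G → ℂ} (hη : IsCharacter G η)
    (hηN : IsIrrCharacter N fun n : N => η n) {κ₁ κ₂ : P →* ℂˣ} (hκ₁ : Supp i η κ₁)
    (hκ₂ : Supp i η κ₂) : ∃ n, cj α κ₁ n = κ₂ := by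
  have := Fintype.ofFinite N
  obtain ⟨ψ₁, h1, o1, e1⟩ := (D.supp_iff hη).1 hκ₁
  obtain ⟨ψ₂, h2, o2, e2⟩ := (D.supp_iff hη).1 hκ₂
  obtain ⟨n, rfl⟩ := exists_conjChar_eq_of_lies_over hηN h1 h2
    (fun h => e1 (classInner_eq_zero_comm.1 h)) (fun h => e2 (classInner_eq_zero_comm.1 h))
  exact ⟨n, (D.over_conjChar o1 n).unique o2 h2.apply_one_ne_zero⟩

omit [Fintype N] [Fintype C] in
/-- The theorem of Brauer and Leonard in local form. -/
theorem main {ζ : G → ℂ} (hζ : IsIrrCharacter G ζ) (hζN : IsIrrCharacter N fun n : N => ζ n)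
    (hd : charDegree ζ ^ 2 + 1 < Nat.card P) (h1 : ζ ≠ fun _ => 1)
    (hG : ∀ η, IsIrrCharacter G η → (∀ x, η ((i x : C) : N) = η 1) → η = fun _ => 1) :
    charDegree ζ = 1 ∧ C = ⊤ := by
  classical
  have := Fintype.ofFinite N
  have := Fintype.ofFinite C
  have := Fintype.ofFinite (P →* ℂˣ)
  have hL : (Finset.univ : Finset (P →* ℂˣ)).card = Nat.card P := by
    rw [Finset.card_univ, ← Nat.card_eq_fintype_card, card_monoidHom_units_of_comm mul_comm]
  have hex : ∀ η, IsIrrCharacter G η → (η ≠ fun _ => 1) → ∃ μ, μ ≠ 1 ∧ Supp i η μ :=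
    fun η hη h => exists_ne_one_classInner_ne_zero fun h' => h (hG η hη (by simpa using h'))
  obtain ⟨lam, hl1, hl⟩ := hex ζ hζ h1
  obtain ⟨φ, hφ, ho, hφζ⟩ := (D.supp_iff hζ.isCharacter).1 hl
  have hind : indFun C φ = fun n : N => ζ n :=
    (D.irr_indFun hφ ho hl1).eq_of_classInner_ne_zero hζN (by
      rwa [classInner_indFun_left C _ hζN.isClassFunction])
  have ht : C.index ≤ charDegree ζ := by
    rw [← Deg.deg_res N ζ, ← hind, Deg.deg_indFun C hφ.isCharacter]
    exact Nat.le_mul_of_pos_right _ (Deg.deg_pos hφ)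
  have ht2 : C.index ^ 2 + 1 < Nat.card P := by
    have := Nat.pow_le_pow_left ht 2
    omega
  let O := Finset.univ.image (cj α lam)
  have hO : ∀ μ, Supp i ζ μ → μ ∈ O := fun μ hμ => by
    obtain ⟨n, hn⟩ := D.conj_of_res_irr hζ.isCharacter hζN hl hμ
    exact Finset.mem_image.2 ⟨n, Finset.mem_univ _, hn⟩
  have hOc : O.card ≤ C.index := D.card_orbit_le lam
  have hα := hζ.isCharacter.mul hζ.isCharacter.conj
  have key : ∀ η, IsIrrCharacter G η → (η ≠ fun _ => 1) →
      classInner (ζ * fun g => conj (ζ g)) η ≠ 0 → ¬ Supp i η 1 := by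
    intro η hη hη1 hm
    have hS : ∀ κ, Supp i η κ → ∃ μ₁ ∈ O, ∃ μ₂ ∈ O, κ = μ₁ * μ₂⁻¹ := by
      intro κ hκ
      have h2 := classInner_comp_ne_zero_of_constituent (N.subtype.comp (C.subtype.comp i)) hα hη
        hm (isIrrCharacter_monoidHom κ).isCharacter hκ
      obtain ⟨μ, ν, h3, h4, rfl⟩ := exists_mul_of_classInner_mul_ne_zero
        (f := fun x => ζ ((i x : C) : N)) (g := fun x => conj (ζ ((i x : C) : N))) h2
      rw [classInner_conj_monoidHom, _root_.map_ne_zero] at h4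
      exact ⟨μ, hO μ h3, ν⁻¹, hO _ h4, by ext; simp⟩
    obtain ⟨κ₀, hk1, hk⟩ := hex η hη hη1
    have hconj : ∀ κ, Supp i η κ → κ ≠ 1 → ∃ n, cj α κ₀ n = κ := by
      intro κ hκ hκ1
      refine D.conj_of_supp hη (insert 1 (O.offDiag.image fun q => q.1 * q.2⁻¹)) (fun κ hκ => ?_)
        (Finset.mem_insert_self _ _) ?_ hk hκ hk1 hκ1
      · obtain ⟨μ₁, h₁, μ₂, h₂, rfl⟩ := hS κ hκ
        by_cases h : μ₁ = μ₂
        · exact Finset.mem_insert.2 (Or.inl (by rw [h]; ext; simp))
        · exact Finset.mem_insert_of_mem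
            (Finset.mem_image.2 ⟨(μ₁, μ₂), Finset.mem_offDiag.2 ⟨h₁, h₂, h⟩, rfl⟩)
      · have a1 := Finset.card_insert_le 1 (O.offDiag.image fun q => q.1 * q.2⁻¹)
        have a2 := Finset.card_image_le (s := O.offDiag) (f := fun q => q.1 * q.2⁻¹)
        rw [Finset.offDiag_card] at a2
        have a3 : O.card * O.card - O.card + C.index ≤ C.index ^ 2 := by
          obtain ⟨k, hk⟩ := Nat.exists_eq_add_of_le hOc
          have a4 : O.card ≤ O.card * O.card := Nat.le_mul_self _
          have a5 : k ≤ k * k := Nat.le_mul_self _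
          rw [hk]
          zify [a4] at a5 ⊢
          nlinarith [Nat.cast_nonneg (α := ℤ) k, Nat.cast_nonneg (α := ℤ) O.card]
        omega
    let E := insert 1 (Finset.image₂ (· * ·) O (Finset.univ.image (cj α κ₀)))
    obtain ⟨ω, -, hω⟩ := Finset.exists_mem_notMem_of_card_lt_card (s := E) (t := Finset.univ) (by
      have a1 := Finset.card_insert_le 1 (Finset.image₂ (· * ·) O (Finset.univ.image (cj α κ₀)))
      have a2 := Finset.card_image₂_le (· * ·) O (Finset.univ.image (cj α κ₀))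
      have a3 := Nat.mul_le_mul hOc (D.card_orbit_le κ₀)
      rw [← sq] at a3
      simp only [E]
      omega)
    have hOE : ∀ μ ∈ O, μ ∈ E := by
      intro μ hμ
      obtain ⟨μ₁, h₁, μ₂, h₂, e⟩ := hS κ₀ hk
      obtain ⟨a, -, rfl⟩ := Finset.mem_image.1 hμ
      obtain ⟨b, -, rfl⟩ := Finset.mem_image.1 h₁
      obtain ⟨c, -, rfl⟩ := Finset.mem_image.1 h₂
      refine Finset.mem_insert_of_mem (Finset.mem_image₂.2 ⟨cj α lam (c * (b⁻¹ * a)),
        Finset.mem_image.2 ⟨_, Finset.mem_univ _, rfl⟩, cj α κ₀ (b⁻¹ * a),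
        Finset.mem_image.2 ⟨_, Finset.mem_univ _, rfl⟩, ?_⟩)
      rw [← cj_cj, ← cj_mul, e]
      have : cj α lam c * (cj α lam b * (cj α lam c)⁻¹) = cj α lam b := by
        ext; simp
      rw [this, cj_cj, mul_inv_cancel_left]
    obtain ⟨X, hX, -, hT⟩ := D.exists_T_eq_sub hζ hφ ho hφζ hl1 (ω := ω)
      (fun h => hω (h ▸ Finset.mem_insert_self _ _)) fun h => hω (hOE _ (hO _ h))
    have hζη := hζ.isCharacter.mul hη.isCharacter
    have h2 := classInner_T_left (π := π) φ (lam⁻¹ * ω) hζη.isClassFunction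
    have h3 : classInner (tw π φ (lam⁻¹ * ω)) (fun c : C => (ζ * η) (c : N)) = 0 := by
      by_contra h3
      have ho' := D.over_tw ho (lam⁻¹ * ω)
      rw [lin_mul_inv_mul] at ho'
      obtain ⟨μ, κ, h4, h5, rfl⟩ := exists_mul_of_classInner_mul_ne_zero
        (f := fun x => ζ ((i x : C) : N)) (g := fun x => η ((i x : C) : N))
        ((D.supp_iff hζη).2 ⟨_, irr_tw hφ _, ho', h3⟩)
      by_cases hκ : κ = 1
      · exact hω (hOE _ (by rw [hκ]; exact hO _ (by convert h4; ext; simp)))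
      · obtain ⟨n, rfl⟩ := hconj κ h5 hκ
        exact hω (Finset.mem_insert_of_mem (Finset.mem_image₂.2
          ⟨μ, hO μ h4, _, Finset.mem_image.2 ⟨n, Finset.mem_univ _, rfl⟩, rfl⟩))
    rw [h3, sub_zero, hT, classInner_sub_left, classInner_mul_right,
      ← classInner_indFun_left C φ (hζη.isClassFunction.res N), hind] at h2
    have hβ := hα.sub_classInner_smul hη
    obtain ⟨m, hm'⟩ := hα.exists_nat_classInner hη.isCharacter
    obtain ⟨x, hx⟩ := hX.isCharacter.exists_nat_classInner hζη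
    obtain ⟨b, hb⟩ := (hβ.res N).exists_nat_classInner (hη.isCharacter.res N)
    obtain ⟨r, hr⟩ := (hη.isCharacter.res N).exists_nat_classInner (hη.isCharacter.res N)
    have h4 : classInner (fun n : N => ζ n) (fun n : N => (ζ * η) n) = b + m * r := by
      rw [← hb, ← hr, ← hm', ← classInner_smul_left, ← classInner_add_left]
      refine (classInner_mul_right (fun n : N => ζ n) (fun n : N => ζ n) fun n : N => η n).trans ?_
      congr 1
      funext n
      simp
    rw [h4, hm', hx] at h2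
    rw [hm'] at hm
    have h5 : m = x + b + m * r := by
      have : (m : ℂ) = x + b + m * r := by linear_combination h2
      exact_mod_cast this
    have hm0 : m ≠ 0 := by exact_mod_cast hm
    have hr0 : r ≠ 0 := by
      rintro rfl
      exact hη.apply_one_ne_zero (congrFun (classInner_self_eq_zero.1 (hr.trans Nat.cast_zero)) 1)
    have hr1 : r = 1 := by
      by_contra h
      have : m * 2 ≤ m * r := Nat.mul_le_mul_left _ (by omega)
      omega
    have hηN := (hη.isCharacter.res N).isIrrCharacter_of_classInner_self (by rw [hr, hr1]; simp)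
    intro h
    obtain ⟨n, hn⟩ := D.conj_of_res_irr hη.isCharacter hηN hk h
    exact hk1 (cj_eq_one_iff.1 hn)
  let j := N.subtype.comp (C.subtype.comp i)
  have h2 : classInner (fun x => ζ (j x)) (fun x => ζ (j x)) = 1 := by
    have e1 := classInner_mul_right (fun x => ζ (j x)) (fun x => ζ (j x)) (fun _ => 1)
    have e2 := classInner_mul_right ζ ζ (fun _ => 1)
    rw [show ζ * (fun _ => 1) = ζ from mul_one ζ, hζ.classInner_self] at e2
    rw [show (fun x => ζ (j x)) * (fun _ => 1) = (fun x => ζ (j x)) from mul_one _] at e1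
    have e3 : ((fun x => ζ (j x)) * fun g => conj (ζ (j g))) = ∑ η : IrrCharacter G,
        classInner (ζ * fun g => conj (ζ g)) η.1 • fun x => η.1 (j x) := by
      funext x
      rw [Finset.sum_apply]
      exact hα.isClassFunction.apply_eq_sum_irr (j x)
    rw [e1, e3, classInner_sum_left, Finset.sum_eq_single ⟨_, isIrrCharacter_one⟩,
      classInner_smul_left, ← e2, classInner_one_one, mul_one]
    · intro η _ hη
      rw [classInner_smul_left]
      by_cases h0 : classInner (ζ * fun g => conj (ζ g)) η.1 = 0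
      · rw [h0, zero_mul]
      · have := key η.1 η.2 (fun h => hη (Subtype.ext h)) h0
        rw [Supp, not_not] at this
        exact mul_eq_zero_of_right _ this
    · simp
  have h3 := ((hζ.isCharacter.comp j).isIrrCharacter_of_classInner_self h2).apply_one_of_comm
    mul_comm
  have h4 : charDegree ζ = 1 := (Deg.deg_eq_one_iff hζ.isCharacter).2 (by simpa using h3)
  refine ⟨h4, Subgroup.index_eq_one.1 ?_⟩
  have := Subgroup.index_ne_zero_of_finite (H := C)
  omega

end BLData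

theorem exists_proj_of_central {C P : Type*} [Group C] [Finite C] [CommGroup P] (i : P →* C)
    (hi : Function.Injective i) (hc : ∀ x c, c * i x = i x * c)
    (hcop : i.range.index.Coprime (Nat.card P)) :
    ∃ (π : C →* P) (m : ℕ), (∀ x, π (i x) = x) ∧ ∀ c, i (π c) = c ^ m := by
  have : Finite P := Finite.of_injective i hi
  let τ := MonoidHom.transfer (MonoidHom.ofInjective hi).symm.toMonoidHom
  have hτ : ∀ c, i (τ c) = c ^ i.range.index := fun c => by
    rw [MonoidHom.transfer_eq_pow _ c]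
    · exact MonoidHom.apply_ofInjective_symm hi _
    · rintro k g ⟨x, hx⟩
      calc g⁻¹ * c ^ k * g = g * (g⁻¹ * c ^ k * g) * g⁻¹ := by rw [← hx, hc]; group
        _ = _ := by group
  obtain ⟨k, hk⟩ : ∃ k, i.range.index * k ≡ 1 [MOD Nat.card P] := by
    refine ⟨i.range.index ^ (Nat.totient (Nat.card P) - 1), ?_⟩
    rw [← pow_succ', Nat.sub_add_cancel (Nat.totient_pos.2 Nat.card_pos)]
    exact Nat.ModEq.pow_totient hcop
  have h : ∀ c, i ((powMonoidHom k).comp τ c) = c ^ (i.range.index * k) := fun c => by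
    simp [hτ, pow_mul]
  refine ⟨(powMonoidHom k).comp τ, _, fun x => hi ?_, h⟩
  rw [h, ← map_pow, pow_eq_pow_of_modEq hk pow_card_eq_one', pow_one]

open scoped Pointwise in
/-- **Brauer–Leonard**: let all nonidentity elements of the Sylow subgroup `P` have the same
centralizer. If `P` lies in the kernel of no nonprincipal irreducible character, a nonprincipal
irreducible character `ζ` with `ζ(1)² + 1 < |P|` is linear, and then `N(P) = C(P)`. -/
theorem brauer_leonard {G : Type*} [Group G] [Finite G] {p : ℕ} [Fact p.Prime] (P : Sylow p G)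
    (hstar : ∀ x ∈ (P : Subgroup G), x ≠ 1 → Subgroup.centralizer ({x} : Set G) =
      Subgroup.centralizer ((P : Subgroup G) : Set G)) {ζ : G → ℂ} (hζ : IsIrrCharacter G ζ)
    (h1 : ζ ≠ fun _ => 1) (hd : charDegree ζ ^ 2 + 1 < Nat.card P)
    (hG : ∀ η, IsIrrCharacter G η → (P : Subgroup G) ≤ charKer η → η = fun _ => 1) :
    charDegree ζ = 1 ∧ Subgroup.normalizer ((P : Subgroup G) : Set G) ≤
      Subgroup.centralizer ((P : Subgroup G) : Set G) := by
  have := Fintype.ofFinite G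
  have := Fintype.ofFinite P
  have hPC : (P : Subgroup G) ≤ Subgroup.centralizer ((P : Subgroup G) : Set G) := by
    intro x hx
    by_cases hx1 : x = 1
    · rw [hx1]; exact Subgroup.one_mem _
    · rw [← hstar x hx hx1, Subgroup.mem_centralizer_singleton_iff]
  let _ : CommGroup P := { (inferInstance : Group P) with
    mul_comm := fun a b => Subtype.ext (hPC b.2 a a.2) }
  let N := Subgroup.normalizer ((P : Subgroup G) : Set G)
  let C := (Subgroup.centralizer ((P : Subgroup G) : Set G)).subgroupOf N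
  have hPN : (P : Subgroup G) ≤ N := Subgroup.le_normalizer
  have hCN : Subgroup.centralizer ((P : Subgroup G) : Set G) ≤ N :=
    Subgroup.centralizer_le_normalizer _
  have hC : C.Normal := by
    rw [show C = _ from (Subgroup.normalizerMonoidHom_ker (P : Subgroup G)).symm]
    infer_instance
  let i : P →* C := (Subgroup.inclusion hPN).codRestrict C fun x => hPC x.2
  have hi : Function.Injective i := fun a b h =>
    Subtype.ext (congrArg (fun c : C => ((c : N) : G)) h)
  have hc : ∀ x c, c * i x = i x * c := fun x c => Subtype.ext (Subtype.ext (c.2 x x.2).symm)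
  obtain ⟨π, m, hπ, hm⟩ := exists_proj_of_central i hi hc (by
    obtain ⟨k, hk⟩ := P.2.exists_card_eq
    rw [hk]
    refine Nat.Coprime.pow_right k (Nat.Coprime.symm
      ((Nat.Prime.coprime_iff_not_dvd Fact.out).2 fun h => P.not_dvd_index (h.trans ?_)))
    have h1 := Subgroup.index_map_of_injective i.range (f := N.subtype.comp C.subtype)
      (N.subtype_injective.comp C.subtype_injective)
    have h2 : i.range.map (N.subtype.comp C.subtype) = P := by
      rw [MonoidHom.map_range]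
      ext x
      exact ⟨fun ⟨y, hy⟩ => hy ▸ y.2, fun hx => ⟨⟨x, hx⟩, rfl⟩⟩
    rw [h2] at h1
    exact h1 ▸ Dvd.intro _ rfl)
  have hm' : ∀ c : C, (π c : G) = ((c : N) : G) ^ m := fun c =>
    congrArg (fun c : C => ((c : N) : G)) (hm c)
  have hmP : ∀ y ∈ (P : Subgroup G), y ^ m = y := fun y hy => by
    have := hm' (i ⟨y, hy⟩)
    rw [hπ] at this
    exact this.symm
  have hti : ∀ g, ∀ x ∈ (P : Subgroup G), x ≠ 1 → g * x * g⁻¹ ∈ (P : Subgroup G) → g ∈ N := by
    intro g x hx hx1 hg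
    refine Subgroup.mem_normalizer_fintype fun y hy => ?_
    have h2 : g * y * g⁻¹ ∈ Subgroup.centralizer ((P : Subgroup G) : Set G) := by
      rw [← hstar _ hg (by simpa using hx1), Subgroup.mem_centralizer_singleton_iff]
      calc g * y * g⁻¹ * (g * x * g⁻¹) = g * (y * x) * g⁻¹ := by group
        _ = _ := by rw [hPC hx y hy]; group
    have h3 := hm' ⟨⟨_, hCN h2⟩, h2⟩
    rw [conj_pow, hmP y hy] at h3
    exact h3 ▸ (π _).2
  have D : BLData i π (P : Subgroup G).normalizerMonoidHom :=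
    { pi_i := hπ
      central := hc
      conj_i := fun n x => rfl
      conj_pi := fun n c => Subtype.ext (by
        rw [hm']
        change ((n : G) * c * (n : G)⁻¹) ^ m = n * π c * (n : G)⁻¹
        rw [conj_pow, hm'])
      fpf := fun n hn x hx => by
        by_contra hx1
        refine hn (Subgroup.mem_subgroupOf.2 ?_)
        rw [← hstar x x.2 (fun h => hx1 (Subtype.ext h)), Subgroup.mem_centralizer_singleton_iff]
        exact mul_inv_eq_iff_eq_mul.1 (congrArg Subtype.val hx)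
      ti := fun g hg c c' hc h => by
        refine absurd (hti g (π c) (π c).2 (fun h => hc (Subtype.ext h)) ?_) hg
        rw [hm', ← conj_pow, h, ← hm']
        exact (π c').2 }
  have := Fintype.ofFinite N
  have hζN := isIrrCharacter_res_of_semiregular P.2 (semiregular_of_TI_sylow P (fun g hg => by
    rw [eq_bot_iff]
    rintro x ⟨hx, hx'⟩
    by_contra hx1
    refine hg (N.inv_mem_iff.1 (hti g⁻¹ x hx hx1 ?_))
    simpa using Subgroup.mem_pointwise_smul_iff_inv_smul_mem.1 hx') le_rfl) hPN hζ (by omega)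
  obtain ⟨h2, h3⟩ := D.main hζ hζN hd h1 fun η hη h =>
    hG η hη fun x hx => hη.mem_charKer_iff.2 (h ⟨x, hx⟩)
  exact ⟨h2, Subgroup.subgroupOf_eq_top.1 h3⟩

end Cfsg.Lib.Char
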