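import Cfsg.Agent.Char.Jordan
import Cfsg.Agent.Char.IndChar

/-!
# Eigenvalues and characters; Blichfeldt's theorem on eigenvalues in a short arc
-/

set_option autoImplicit false

open scoped ComplexConjugate InnerProductSpace
open Cfsg

namespace Cfsg.Lib.Char

section Line

variable {G V : Type*} [Group G] [AddCommGroup V] [Module ℂ V] [FiniteDimensional ℂ V]

/-- A stable line gives a linear constituent. -/
theorem exists_monoidHom_of_stable_line [Fintype G] (ρ : Representation ℂ G V) {v : V}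
    (hv : v ≠ 0) (h : ∀ g, ∃ c : ℂ, ρ g v = c • v) :
    ∃ lam : G →* ℂˣ, (∀ g, ρ g v = (lam g : ℂ) • v) ∧
      classInner ρ.character (fun g => (lam g : ℂ)) ≠ 0 := by
  choose c hc using h
  let l : G →* ℂ :=
    { toFun := c
      map_one' := smul_left_injective ℂ hv (by simp [← hc])
      map_mul' := fun a b => smul_left_injective ℂ hv (by
        simp only [← hc, map_mul, Module.End.mul_apply, mul_comm (c a), mul_smul]
        rw [hc b, map_smul]) }
  refine ⟨l.toHomUnits, hc, ?_⟩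
  let σ : Representation ℂ G ℂ := (algebraMap ℂ (Module.End ℂ ℂ) : ℂ →* _).comp l
  have h1 : (fun g => (l.toHomUnits g : ℂ)) = σ.character := by
    ext g
    simp [σ, Representation.character, Algebra.algebraMap_eq_smul_one]
  rw [h1, classInner_rep, Nat.cast_ne_zero, ← Nat.pos_iff_ne_zero, Module.finrank_pos_iff]
  refine ⟨⟨⟨LinearMap.toSpanSingleton ℂ V v, fun g => ?_⟩, 0, fun h0 => hv ?_⟩⟩
  · ext
    simp [σ, hc, l, Algebra.algebraMap_eq_smul_one]
  · simpa using congrArg (fun f : σ.IntertwiningMap ρ => f.toLinearMap 1) h0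

/-- A subgroup stabilising a line: the character is a constituent of a monomial one. -/
theorem exists_indFun_of_stable_line [Fintype G] (ρ : Representation ℂ G V) (T : Subgroup G)
    {v : V} (hv : v ≠ 0) (h : ∀ g ∈ T, ∃ c : ℂ, ρ g v = c • v) :
    ∃ lam : T →* ℂˣ, classInner (indFun T fun t => (lam t : ℂ)) ρ.character ≠ 0 := by
  have := Fintype.ofFinite T
  obtain ⟨lam, -, h1⟩ := exists_monoidHom_of_stable_line (ρ.comp T.subtype) hv fun g => h g g.2
  refine ⟨lam, ?_⟩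
  rw [classInner_indFun_left T _ (isCharacter_rep ρ).isClassFunction]
  exact fun h2 => h1 (classInner_eq_zero_comm.1 h2)

omit [FiniteDimensional ℂ V] in
theorem exists_eq_of_eigen_of_eigenbasis {ι : Type*} {f : Module.End ℂ V} (b : Module.Basis ι ℂ V)
    {ε : ι → ℂ} (h : ∀ i, f (b i) = ε i • b i) {v : V} (hv : v ≠ 0) {z : ℂ} (hz : f v = z • v) :
    ∃ i, ε i = z := by
  by_contra hne
  push Not at hne
  refine hv (b.ext_elem fun i => ?_)
  have h1 : (b.coord i) ∘ₗ f = ε i • b.coord i := b.ext fun j => by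
    by_cases hij : j = i
    · simp [h, hij]
    · simp [h, hij]
  have h2 := LinearMap.congr_fun h1 v
  simp only [LinearMap.comp_apply, hz, map_smul, Module.Basis.coord_apply, smul_eq_mul,
    LinearMap.smul_apply] at h2
  simpa using (mul_eq_mul_right_iff.1 h2).resolve_left (hne i).symm

open Classical in
theorem sum_pow_mul_inv_pow {n : ℕ} (hn : n ≠ 0) {w z : ℂ} (hw : w ^ n = 1) (hz : z ^ n = 1) :
    ∑ k ∈ Finset.range n, w ^ k * z⁻¹ ^ k = if w = z then (n : ℂ) else 0 := by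
  have hz0 : z ≠ 0 := by rintro rfl; simp [hn] at hz
  simp only [← mul_pow]
  split_ifs with h
  · simp [h, hz0]
  · have h1 : w * z⁻¹ ≠ 1 := fun h1 => h ((mul_inv_eq_one₀ hz0).1 h1)
    rw [geom_sum_eq h1, mul_pow, inv_pow, hw, hz]
    simp

open Classical in
/-- Fourier inversion for the multiplicity of an eigenvalue. -/
theorem sum_sum_pow_mul_inv_pow {J : Type*} [Fintype J] {n : ℕ} (hn : n ≠ 0) (c δ : J → ℂ)
    (hδ : ∀ j, δ j ^ n = 1) {z : ℂ} (hz : z ^ n = 1) :
    ∑ k ∈ Finset.range n, (∑ j, c j * δ j ^ k) * z⁻¹ ^ k = n * ∑ j with δ j = z, c j := by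
  simp only [Finset.sum_mul, mul_assoc]
  rw [Finset.sum_comm, Finset.sum_filter, Finset.mul_sum]
  refine Finset.sum_congr rfl fun j _ => ?_
  rw [← Finset.mul_sum, sum_pow_mul_inv_pow hn (hδ j) hz]
  split_ifs <;> simp [mul_comm]

/-- The eigenvalues of an element can be read off from the character values at its powers. -/
theorem exists_eq_of_eigen_of_char_pow (ρ : Representation ℂ G V) {g : G} {n : ℕ} (hn : n ≠ 0)
    (hg : g ^ n = 1) {J : Type*} [Fintype J] (c δ : J → ℂ) (hδ : ∀ j, δ j ^ n = 1)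
    (h : ∀ k : ℕ, ρ.character (g ^ k) = ∑ j, c j * δ j ^ k) {v : V} (hv : v ≠ 0) {z : ℂ}
    (hz : ρ g v = z • v) : ∃ j, δ j = z := by
  classical
  obtain ⟨b, ε, h1, h2, h3, -⟩ := exists_eigenbasis_rep ρ g (Nat.cast_ne_zero.mpr hn) hg
  obtain ⟨i, rfl⟩ := exists_eq_of_eigen_of_eigenbasis b h2 hv hz
  by_contra hne
  push Not at hne
  have h4 := sum_sum_pow_mul_inv_pow hn c δ hδ (h1 i)
  have h5 := sum_sum_pow_mul_inv_pow hn (fun _ => 1) ε h1 (h1 i)
  have h6 : ∀ k : ℕ, ∑ j, c j * δ j ^ k = ∑ j, 1 * ε j ^ k := fun k => by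
    rw [← h, Representation.character, trace_eq_sum_of_eigenbasis b _ (h3 k)]
    simp
  simp only [h6] at h4
  rw [h4, Finset.filter_false_of_mem (fun j _ => hne j), Finset.sum_empty, mul_zero,
    Finset.sum_const, nsmul_eq_mul, mul_one, eq_comm, mul_eq_zero, Nat.cast_eq_zero,
    Nat.cast_eq_zero, Finset.card_eq_zero] at h5
  exact h5.elim hn fun h7 => by simpa using Finset.filter_eq_empty_iff.1 h7 (Finset.mem_univ i)

end Line

section Blichfeldt

variable {E : Type*} [NormedAddCommGroup E] [InnerProductSpace ℂ E] [FiniteDimensional ℂ E]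

/-- The distance of the unit ball of `U₂` from `U₁`. -/
noncomputable def subspDist (U₁ U₂ : Submodule ℂ E) : ℝ :=
  ‖(1 - U₁.starProjection) * U₂.starProjection‖

theorem norm_sub_le_subspDist {U₁ U₂ : Submodule ℂ E} {u : E} (hu : u ∈ U₂) :
    ‖u - U₁.starProjection u‖ ≤ subspDist U₁ U₂ * ‖u‖ := by
  have := ((1 - U₁.starProjection) * U₂.starProjection).le_opNorm u
  simpa [Submodule.starProjection_eq_self_iff.2 hu, subspDist] using this

theorem subspDist_le {U₁ U₂ : Submodule ℂ E} {r : ℝ} (hr : 0 ≤ r)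
    (h : ∀ u ∈ U₂, ∃ w ∈ U₁, ‖u - w‖ ≤ r * ‖u‖) : subspDist U₁ U₂ ≤ r := by
  refine ContinuousLinearMap.opNorm_le_bound _ hr fun v => ?_
  obtain ⟨w, hw, h1⟩ := h _ (U₂.starProjection_apply_mem v)
  have h2 : ‖U₂.starProjection v - U₁.starProjection (U₂.starProjection v)‖ ≤
      ‖U₂.starProjection v - w‖ := by
    rw [Submodule.starProjection_minimal]
    exact ciInf_le (f := fun x : U₁ => ‖U₂.starProjection v - x‖)
      ⟨0, by rintro _ ⟨x, rfl⟩; exact norm_nonneg _⟩ ⟨w, hw⟩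
  exact (h2.trans h1).trans (mul_le_mul_of_nonneg_left (U₂.norm_starProjection_apply_le v) hr)

variable {G : Type*} [Group G] {ρ : Representation ℂ G E}

/-- The common eigenspace of a set of group elements. -/
def comEig (ρ : Representation ℂ G E) (μ : ℂ) (S : Set G) : Submodule ℂ E where
  carrier := {v | ∀ y ∈ S, ρ y v = μ • v}
  add_mem' ha hb y hy := by rw [map_add, ha y hy, hb y hy, smul_add]
  zero_mem' y _ := by simp
  smul_mem' c v hv y hy := by rw [map_smul, hv y hy, smul_comm]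

omit [FiniteDimensional ℂ E] in
theorem apply_mem_comEig_iff {μ : ℂ} {S : Set G} {g : G} {v : E} :
    v ∈ comEig ρ μ {y | g⁻¹ * y * g ∈ S} ↔ ρ g⁻¹ v ∈ comEig ρ μ S := by
  constructor
  · intro h y hy
    have := h (g * y * g⁻¹) (by simpa [mul_assoc] using hy)
    rw [← map_smul, ← this, ← Module.End.mul_apply, ← Module.End.mul_apply, ← map_mul, ← map_mul]
    simp [mul_assoc]
  · intro h y hy
    have := congrArg (ρ g) (h _ hy)
    simpa [← Module.End.mul_apply, ← map_mul, mul_assoc] using this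

/-- **Blichfeldt's theorem**: a conjugation invariant set of elements all of whose eigenvalues are
at distance less than one from a common eigenvalue `μ` stabilises a non-zero subspace on which
one of them is the scalar `μ`. -/
theorem exists_stable_of_norm_sub_lt [Finite G] (hρ : ∀ g v, ‖ρ g v‖ = ‖v‖) {Y : Set G}
    (hY : ∀ y ∈ Y, ∀ g, g * y * g⁻¹ ∈ Y) {μ : ℂ}
    (hlt : ∀ y ∈ Y, ‖opRep ρ y - algebraMap ℂ _ μ‖ < 1) {y₀ : G} (hy₀ : y₀ ∈ Y)
    {v₀ : E} (hv₀ : v₀ ≠ 0) (h₀ : ρ y₀ v₀ = μ • v₀) :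
    ∃ U : Submodule ℂ E, U ≠ ⊥ ∧ (∀ y ∈ Y, ∀ u ∈ U, ρ y u ∈ U) ∧ ∀ u ∈ U, ρ y₀ u = μ • u := by
  let Good : Set G → Prop := Maximal fun S => S ⊆ Y ∧ comEig ρ μ S ≠ ⊥
  let cj : G → Set G → Set G := fun g S => {y | g⁻¹ * y * g ∈ S}
  have hcj0 : ∀ g S, (S ⊆ Y ∧ comEig ρ μ S ≠ ⊥) → (cj g S ⊆ Y ∧ comEig ρ μ (cj g S) ≠ ⊥) := by
    rintro g S ⟨h1, h2⟩
    refine ⟨fun y hy => by simpa [mul_assoc] using hY _ (h1 hy) g, ?_⟩
    obtain ⟨v, hv, hv0⟩ := (Submodule.ne_bot_iff _).1 h2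
    refine (Submodule.ne_bot_iff _).2 ⟨ρ g v, apply_mem_comEig_iff.2 (by simpa using hv), ?_⟩
    rwa [← norm_ne_zero_iff, hρ, norm_ne_zero_iff]
  have hcj : ∀ g S, Good S → Good (cj g S) := fun g S hS =>
    ⟨hcj0 g S hS.1, fun S' hS' hle y hy => hS.2 (hcj0 g⁻¹ S' hS')
      (fun x hx => hle (by simpa [cj, mul_assoc] using hx)) (by simpa [cj, mul_assoc] using hy)⟩
  have hdisj : ∀ S S', Good S → Good S' → ∀ v ∈ comEig ρ μ S, v ∈ comEig ρ μ S' → v ≠ 0 →
      S = S' := fun S S' hS hS' v h1 h2 h0 => by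
    have h3 : S ∪ S' ⊆ Y ∧ comEig ρ μ (S ∪ S') ≠ ⊥ := ⟨Set.union_subset hS.1.1 hS'.1.1,
      (Submodule.ne_bot_iff _).2 ⟨v, fun y hy => hy.elim (h1 y) (h2 y), h0⟩⟩
    exact (hS.eq_of_le h3 Set.subset_union_left).trans (hS'.eq_of_le h3 Set.subset_union_right).symm
  have hmove : ∀ y ∈ Y, ∀ (S : Set G) (U : Submodule ℂ E), (∀ u ∈ U, ρ y u = μ • u) →
      subspDist (comEig ρ μ S) (comEig ρ μ (cj y S)) ≤
        ‖opRep ρ y - algebraMap ℂ _ μ‖ * subspDist U (comEig ρ μ S) := by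
    intro y hy S U hU
    refine subspDist_le (mul_nonneg (norm_nonneg _) (norm_nonneg _)) fun u hu => ?_
    rw [apply_mem_comEig_iff] at hu
    refine ⟨μ • ρ y⁻¹ u, Submodule.smul_mem _ _ hu, ?_⟩
    have h1 : u - μ • ρ y⁻¹ u = (opRep ρ y - algebraMap ℂ _ μ)
        (ρ y⁻¹ u - U.starProjection (ρ y⁻¹ u)) := by
      simp [hU _ (U.starProjection_apply_mem _), Algebra.algebraMap_eq_smul_one, smul_sub]
    rw [h1, mul_assoc, ← hρ y⁻¹ u]
    exact (ContinuousLinearMap.le_opNorm _ _).trans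
      (mul_le_mul_of_nonneg_left (norm_sub_le_subspDist hu) (norm_nonneg _))
  have key : ∀ S, Good S → ∀ y ∈ Y, cj y S = S := by
    by_contra hcon
    push Not at hcon
    obtain ⟨S₀, hS₀, y₁, hy₁, hne₀⟩ := hcon
    obtain ⟨⟨S, S'⟩, ⟨hS, hS', hne⟩, hmin⟩ := Set.exists_min_image
      {x : Set G × Set G | Good x.1 ∧ Good x.2 ∧ x.2 ≠ x.1}
      (fun x => subspDist (comEig ρ μ x.1) (comEig ρ μ x.2)) (Set.toFinite _)
      ⟨(S₀, cj y₁ S₀), hS₀, hcj _ _ hS₀, hne₀⟩
    obtain ⟨u, hu, hu0⟩ := (Submodule.ne_bot_iff _).1 hS'.1.2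
    have hpos : 0 < subspDist (comEig ρ μ S) (comEig ρ μ S') := by
      refine lt_of_le_of_ne (norm_nonneg _) fun h0 => hne (hdisj _ _ hS' hS u hu ?_ hu0)
      have := norm_sub_le_subspDist (U₁ := comEig ρ μ S) hu
      rw [← h0, zero_mul, norm_le_zero_iff, sub_eq_zero] at this
      exact this ▸ Submodule.starProjection_apply_mem _ _
    have hfix : ∀ y ∈ S, cj y S' = S' := fun y hy => by
      by_contra h
      have h1 := hmin (S', cj y S') ⟨hS', hcj _ _ hS', h⟩
      have h2 := hmove y (hS.1.1 hy) S' (comEig ρ μ S) fun u hu => hu y hy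
      exact absurd (h1.trans h2) (not_le.2 (mul_lt_of_lt_one_left hpos (hlt y (hS.1.1 hy))))
    have horth : ∀ w ∈ comEig ρ μ S, (comEig ρ μ S').starProjection w = 0 := fun w hw => by
      by_contra h0
      refine hne (hdisj _ _ hS' hS _ (Submodule.starProjection_apply_mem _ _) (fun y hy => ?_) h0)
      have h1 : ∀ v ∈ comEig ρ μ S', ρ y⁻¹ v ∈ comEig ρ μ S' := fun v hv =>
        apply_mem_comEig_iff.1 (show v ∈ comEig ρ μ (cj y S') by rwa [hfix y hy])
      have h2 : ∀ v ∈ comEig ρ μ S', ρ y v ∈ comEig ρ μ S' := fun v hv =>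
        hfix y hy ▸ apply_mem_comEig_iff.2 (by simpa using hv)
      rw [← map_smul, ← hw y hy]
      refine (Submodule.eq_starProjection_of_mem_of_inner_eq_zero
        (h2 _ (Submodule.starProjection_apply_mem _ _)) fun v hv => ?_).symm
      rw [← map_sub, ← unitary_inner hρ y⁻¹]
      simpa using Submodule.starProjection_inner_eq_zero w _ (h1 v hv)
    have hone : 1 ≤ subspDist (comEig ρ μ S) (comEig ρ μ S') := by
      have h1 : (comEig ρ μ S).starProjection u = 0 := by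
        rw [← inner_self_eq_zero (𝕜 := ℂ), ← Submodule.inner_starProjection_left_eq_right,
          Submodule.starProjection_eq_self_iff.2 (Submodule.starProjection_apply_mem _ _),
          ← Submodule.starProjection_eq_self_iff.2 hu,
          ← Submodule.inner_starProjection_left_eq_right,
          horth _ (Submodule.starProjection_apply_mem _ _), inner_zero_left]
      have := norm_sub_le_subspDist (U₁ := comEig ρ μ S) hu
      rw [h1, sub_zero] at this
      exact (le_mul_iff_one_le_left (norm_pos_iff.2 hu0)).1 this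
    have h1 := hmin (S₀, cj y₁ S₀) ⟨hS₀, hcj _ _ hS₀, hne₀⟩
    have h2 := hmove y₁ hy₁ S₀ ⊥ (by simp)
    have h3 : subspDist ⊥ (comEig ρ μ S₀) ≤ 1 :=
      subspDist_le zero_le_one fun u _ => ⟨0, Submodule.zero_mem _, by simp⟩
    have h4 := mul_le_of_le_one_right (norm_nonneg (opRep ρ y₁ - algebraMap ℂ _ μ)) h3
    exact absurd (((hone.trans h1).trans h2).trans h4) (not_le.2 (hlt y₁ hy₁))
  obtain ⟨S, hS₀, hS⟩ := Finite.exists_le_maximal (p := fun S => S ⊆ Y ∧ comEig ρ μ S ≠ ⊥)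
    (a := {y₀}) ⟨by simpa, (Submodule.ne_bot_iff _).2 ⟨v₀, by simpa [comEig], hv₀⟩⟩
  exact ⟨comEig ρ μ S, hS.1.2, fun y hy u hu =>
    key S hS y hy ▸ apply_mem_comEig_iff.2 (by simpa using hu), fun u hu => hu y₀ (hS₀ rfl)⟩

/-- Blichfeldt's theorem for an element whose conjugates generate the group. -/
theorem eq_smul_of_norm_sub_lt [Finite G] (hρ : ∀ g v, ‖ρ g v‖ = ‖v‖) [ρ.IsIrreducible] {x : G}
    (hx : Subgroup.normalClosure {x} = ⊤) {μ : ℂ} {v₀ : E} (hv₀ : v₀ ≠ 0) (h₀ : ρ x v₀ = μ • v₀)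
    (hlt : ∀ (z : ℂ) (v : E), v ≠ 0 → ρ x v = z • v → ‖z - μ‖ < 1) (v : E) : ρ x v = μ • v := by
  have : Nontrivial E := ⟨v₀, 0, hv₀⟩
  obtain ⟨U, hU, h1, h2⟩ := exists_stable_of_norm_sub_lt hρ (Y := Group.conjugatesOfSet {x})
    (fun y hy g => Group.conj_mem_conjugatesOfSet hy) (μ := μ) (fun y hy => by
      obtain ⟨z, w, hw, h1, h2⟩ := exists_eigen_norm_sub_eq hρ y μ
      obtain ⟨_, rfl, hc⟩ := Group.mem_conjugatesOfSet_iff.1 hy
      obtain ⟨g, rfl⟩ := isConj_iff.1 hc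
      rw [h2]
      refine hlt z (ρ g⁻¹ w) (by rwa [← norm_ne_zero_iff, hρ, norm_ne_zero_iff]) ?_
      rw [← map_smul, ← h1]
      simp [← Module.End.mul_apply, ← map_mul, mul_assoc])
    (Group.subset_conjugatesOfSet rfl) hv₀ h₀
  have h3 : ∀ g, ∀ u ∈ U, ρ g u ∈ U := fun g => by
    have hg : g ∈ Subgroup.normalClosure {x} := hx ▸ Subgroup.mem_top g
    rw [Subgroup.normalClosure, ← Subgroup.mem_toSubmonoid,
      Subgroup.closure_toSubmonoid_of_finite] at hg
    induction hg using Submonoid.closure_induction with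
    | mem y hy => exact h1 y hy
    | one => simp
    | mul a b _ _ ha hb => intro u hu; rw [map_mul]; exact ha _ (hb u hu)
  exact h2 v ((((isIrreducible_iff ρ).1 inferInstance).2 U h3).resolve_left hU ▸ Submodule.mem_top)

end Blichfeldt

end Cfsg.Lib.Char
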