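import Cfsg.Agent.Char.Linear
import Cfsg.Agent.Char.DegBasic
import Cfsg.Agent.Char.IndTransport
import Cfsg.Agent.Perm.PermModule
import Cfsg.Agent.Block.PrincBasic
import Cfsg.Agent.Block.Residue

/-!
# Degrees of constituents of a permutation character with a semiregular `p`-subgroup

If the `p`-subgroup `P ≤ H` acts semiregularly on the cosets of `H` other than `H`, every
nonprincipal constituent of the permutation character has degree at least `|P|`.
-/

set_option autoImplicit false

open Cfsg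
open scoped ComplexConjugate

namespace Cfsg.Lib.Char

theorem sum_eq_zero_of_free {P Ω A : Type*} [Group P] [Fintype P] [MulAction P Ω]
    [AddCommMonoid A] (T : Finset Ω) (hT : ∀ (x : P), ∀ ω ∈ T, x • ω ∈ T)
    (hfree : ∀ ω ∈ T, ∀ x : P, x • ω = ω → x = 1) (F : Ω → A)
    (h : ∀ ω ∈ T, ∑ x : P, F (x • ω) = 0) : ∑ ω ∈ T, F ω = 0 := by
  classical
  induction T using Finset.strongInduction with
  | H T ih =>
  rcases T.eq_empty_or_nonempty with rfl | ⟨ω₀, h₀⟩
  · simp
  let O : Finset Ω := Finset.univ.image fun x : P => x • ω₀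
  have hO : O ⊆ T := by
    intro ω hω
    obtain ⟨x, -, rfl⟩ := Finset.mem_image.1 hω
    exact hT x _ h₀
  have h1 : ∑ ω ∈ O, F ω = 0 := by
    rw [Finset.sum_image, h ω₀ h₀]
    intro x _ y _ hxy
    have := hfree ω₀ h₀ (y⁻¹ * x) (by rw [mul_smul, show x • ω₀ = y • ω₀ from hxy, inv_smul_smul])
    exact (inv_mul_eq_one.1 this).symm
  rw [← Finset.sum_sdiff hO, h1, add_zero]
  refine ih _ (Finset.sdiff_ssubset hO ⟨ω₀, Finset.mem_image.2 ⟨1, by simp, one_smul _ _⟩⟩)
    (fun x ω hω => ?_) (fun ω hω => hfree ω (Finset.mem_sdiff.1 hω).1)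
    (fun ω hω => h ω (Finset.mem_sdiff.1 hω).1)
  rw [Finset.mem_sdiff] at hω ⊢
  refine ⟨hT x ω hω.1, fun h' => hω.2 ?_⟩
  obtain ⟨y, -, hy⟩ := Finset.mem_image.1 h'
  exact Finset.mem_image.2 ⟨x⁻¹ * y, by simp, by rw [mul_smul, hy, inv_smul_smul]⟩

/-- A finite nonzero family of complex numbers can be scaled into a valuation ring so that one
of them becomes `1`. -/
theorem exists_scale_valuationSubring {ι : Type*} [Finite ι] (O : ValuationSubring ℂ)
    (a : ι → ℂ) (ha : a ≠ 0) : ∃ i₀, a i₀ ≠ 0 ∧ ∀ i, a i / a i₀ ∈ O := by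
  obtain ⟨j, hj⟩ := Function.ne_iff.1 ha
  have : Nonempty ι := ⟨j⟩
  obtain ⟨i₀, h⟩ := Finite.exists_max fun i => O.valuation (a i)
  have h0 : a i₀ ≠ 0 := by
    intro h0
    have := h j
    rw [h0, map_zero, le_zero_iff, map_eq_zero] at this
    exact hj this
  refine ⟨i₀, h0, fun i => ?_⟩
  rw [← O.valuation_le_one_iff, map_div₀]
  exact div_le_one_of_le₀ (h i) zero_le

theorem card_le_finrank_of_semiregular {G : Type*} [Group G] [Fintype G] {p : ℕ}
    [hp : Fact p.Prime] {P H : Subgroup G} (hP : IsPGroup p P)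
    (hfree : ∀ g, g ∉ H → ∀ x ∈ P, g⁻¹ * x * g ∈ H → x = 1) (hPH : P ≤ H)
    {V : Type*} [AddCommGroup V] [Module ℂ V] [FiniteDimensional ℂ V]
    (ρ : Representation ℂ G V) {v : V} (hv : v ≠ 0) (hvH : ∀ h ∈ H, ρ h v = v)
    (hsum : ∑ g, ρ g v = 0) : Nat.card P ≤ Module.finrank ℂ V := by
  classical
  obtain ⟨M, hM⟩ := Lib.Block.Princ.exists_isPModular hp.out
  have := Lib.Block.charP_kM hM
  set O := Lib.Block.OM M
  obtain ⟨l₀, hl₀⟩ : ∃ l₀ : Module.Dual ℂ V, l₀ v ≠ 0 := by
    by_contra hc
    push Not at hc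
    exact hv ((Module.forall_dual_apply_eq_zero_iff ℂ v).1 hc)
  obtain ⟨g₀, h0, hO⟩ := exists_scale_valuationSubring O (fun g => l₀ (ρ g v))
    (Function.ne_iff.2 ⟨1, by simpa using hl₀⟩)
  let l : Module.Dual ℂ V := (l₀ (ρ g₀ v))⁻¹ • l₀ ∘ₗ ρ g₀
  have hl1 : l v = 1 := by simp [l, inv_mul_cancel₀ h0]
  have hlO : ∀ g, l (ρ g v) ∈ O := fun g => by
    have := hO (g₀ * g)
    simpa [l, div_eq_inv_mul] using this
  let r : O →+* Lib.Block.kM M := IsLocalRing.residue O
  let f : G → O := fun g => ⟨l (ρ g v), hlO g⟩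
  have hfH : ∀ g, ∀ h ∈ H, f (g * h) = f g := fun g h hh => Subtype.ext (by simp [f, hvH h hh])
  have := Fintype.ofFinite P
  have := Fintype.ofFinite H
  have := Fintype.ofFinite (G ⧸ H)
  have hli : LinearIndependent ℂ fun x : P => l ∘ₗ ρ x := by
    by_contra hli
    obtain ⟨a, ha, x₁, hx₁⟩ := Fintype.not_linearIndependent_iff.1 hli
    obtain ⟨x₀, ha0, haO⟩ := exists_scale_valuationSubring O a (Function.ne_iff.2 ⟨x₁, hx₁⟩)
    let b : P → O := fun x => ⟨a x / a x₀, haO x⟩
    have hb : ∀ g, ∑ x, b x * f (x * g) = 0 := by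
      intro g
      apply Subtype.ext
      have h1 := congrArg (fun φ : Module.Dual ℂ V => φ (ρ g v) / a x₀) ha
      simp only [LinearMap.coe_sum, Finset.sum_apply, LinearMap.smul_apply, LinearMap.comp_apply,
        smul_eq_mul, LinearMap.zero_apply, zero_div, Finset.sum_div] at h1
      rw [ZeroMemClass.coe_zero, ← h1, AddSubmonoidClass.coe_finsetSum]
      refine Finset.sum_congr rfl fun x _ => ?_
      simp [b, f]; ring
    let σ : Representation (Lib.Block.kM M) P (P → Lib.Block.kM M) :=
      { toFun := fun y => LinearMap.funLeft _ _ (· * y)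
        map_one' := by ext; simp
        map_mul' := fun y z => by ext c x; simp [mul_assoc] }
    let W : Submodule (Lib.Block.kM M) (P → Lib.Block.kM M) :=
      { carrier := {c | ∀ g, ∑ x, c x * r (f (x * g)) = 0}
        add_mem' := fun {c d} hc hd g => by
          simp only [Pi.add_apply, add_mul, Finset.sum_add_distrib, hc g, hd g, add_zero]
        zero_mem' := fun g => by simp
        smul_mem' := fun t c hc g => by
          simp only [Pi.smul_apply, smul_eq_mul, mul_assoc, ← Finset.mul_sum, hc g, mul_zero] }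
    obtain ⟨c, hcW, hc0, hc⟩ := Lib.Perm.exists_fixed_vector_of_isPGroup hP σ W
      (fun y c hc g => by
        rw [← hc ((y : G)⁻¹ * g)]
        exact Fintype.sum_equiv (Equiv.mulRight y) _ _ fun x => by simp [σ, mul_assoc])
      (by
        refine (Submodule.ne_bot_iff _).2 ⟨fun x => r (b x), fun g => ?_, ?_⟩
        · simp only [← map_mul, ← map_sum, hb g, map_zero]
        · refine Function.ne_iff.2 ⟨x₀, ?_⟩
          have : b x₀ = 1 := Subtype.ext (div_self ha0)
          simp [this])
    have hc1 : ∀ y, c y = c 1 := fun y => by simpa [σ] using congrFun (hc y) 1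
    have hc2 : c 1 ≠ 0 := fun h => hc0 (funext fun y => (hc1 y).trans h)
    have hs : ∀ g, ∑ x : P, r (f (x * g)) = 0 := fun g => by
      have := hcW g
      simp only [hc1, ← Finset.mul_sum] at this
      exact (mul_eq_zero.1 this).resolve_left hc2
    let F : G ⧸ H → O := fun q => f q.out
    have hF : ∀ g : G, F (g : G ⧸ H) = f g := fun g => by
      obtain ⟨h, hh⟩ := QuotientGroup.mk_out_eq_mul H g
      simp only [F, hh, hfH g h h.2]
    have h1 : ∑ q, F q = 0 := by
      apply Subtype.ext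
      have h2 : ∑ g, l (ρ g v) = 0 := by rw [← map_sum, hsum, map_zero]
      rw [sum_eq_sum_leftCosets H] at h2
      have h3 : ∀ q : G ⧸ H, ∑ h : H, l (ρ (q.out * h) v) = Nat.card H * (F q : ℂ) := fun q => by
        rw [Nat.card_eq_fintype_card, ← Finset.card_univ, ← nsmul_eq_mul, ← Finset.sum_const]
        exact Finset.sum_congr rfl fun h _ => congrArg Subtype.val (hfH q.out h h.2)
      simp only [h3, ← Finset.mul_sum] at h2
      rw [AddSubmonoidClass.coe_finsetSum]
      exact (mul_eq_zero.1 h2).resolve_left (card_ne_zero H)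
    have h2 : ∑ q ∈ Finset.univ.erase ((1 : G) : G ⧸ H), r (F q) = 0 := by
      refine sum_eq_zero_of_free (P := P) _ (fun x q hq => ?_) (fun q hq x hx => ?_) _
        fun q _ => ?_
      · obtain ⟨g, rfl⟩ := QuotientGroup.mk_surjective q
        rw [Finset.mem_erase] at hq ⊢
        refine ⟨fun h => hq.1 ?_, Finset.mem_univ _⟩
        change (((x : G) * g : G) : G ⧸ H) = _ at h
        rw [QuotientGroup.eq] at h ⊢
        simpa using H.mul_mem h (hPH x.2)
      · obtain ⟨g, rfl⟩ := QuotientGroup.mk_surjective q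
        change (((x : G) * g : G) : G ⧸ H) = _ at hx
        refine Subtype.ext (hfree g (fun h => (Finset.mem_erase.1 hq).1 ?_) x x.2 ?_)
        · rw [QuotientGroup.eq]; simpa using h
        · rw [eq_comm, QuotientGroup.eq] at hx
          simpa [mul_assoc] using hx
      · obtain ⟨g, rfl⟩ := QuotientGroup.mk_surjective q
        rw [← hs g]
        exact Finset.sum_congr rfl fun x _ => congrArg r (hF (x * g))
    have h3 := congrArg r h1
    rw [map_sum, ← Finset.add_sum_erase _ _ (Finset.mem_univ ((1 : G) : G ⧸ H)), h2, hF,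
      map_zero, add_zero] at h3
    have h4 : f 1 = 1 := Subtype.ext (by simpa [f] using hl1)
    rw [h4, map_one] at h3
    exact one_ne_zero h3
  have := hli.fintype_card_le_finrank
  rwa [Subspace.dual_finrank_eq, ← Nat.card_eq_fintype_card] at this

/-- A nonprincipal irreducible constituent of the permutation character has degree at least
`|P|`. -/
theorem card_le_degree_of_semiregular {G : Type*} [Group G] [Finite G] {p : ℕ}
    [Fact p.Prime] {P H : Subgroup G} [Fintype H] (hP : IsPGroup p P)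
    (hfree : ∀ g, g ∉ H → ∀ x ∈ P, g⁻¹ * x * g ∈ H → x = 1) (hPH : P ≤ H) {η : G → ℂ}
    (hη : IsIrrCharacter G η) (h1 : η ≠ fun _ => 1)
    (h : classInner (fun x : H => η x) (fun _ => 1) ≠ 0) : Nat.card P ≤ charDegree η := by
  have := Fintype.ofFinite G
  have hs := IsIrrCharacter.sum_eq_zero hη h1
  obtain ⟨n, ρ, hρ, rfl⟩ := hη
  have hT : ∑ x : H, ρ x ≠ 0 := by
    intro h0
    apply h
    rw [classInner_one_right]
    have := congrArg (LinearMap.trace ℂ (Fin n → ℂ)) h0
    rw [map_sum, map_zero] at this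
    exact mul_eq_zero_of_right _ this
  obtain ⟨w, hw⟩ : ∃ w, (∑ x : H, ρ x) w ≠ 0 := by
    by_contra hc
    push Not at hc
    exact hT (LinearMap.ext hc)
  have h2 := card_le_finrank_of_semiregular hP hfree hPH ρ hw (fun y hy => by
      simp only [LinearMap.coe_sum, Finset.sum_apply, map_sum]
      exact Fintype.sum_equiv (Equiv.mulLeft (⟨y, hy⟩ : H)) _ _ fun x => by simp) (by
      have h3 := sum_smul_rep_eq_smul ρ (isClassFunction_const (G := G) 1)
      simp only [one_smul, one_mul, hs, zero_div, zero_smul] at h3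
      rw [← LinearMap.sum_apply, h3, LinearMap.zero_apply])
  rwa [Deg.deg_eq (n := Module.finrank ℂ (Fin n → ℂ)) (Representation.char_one ρ)]

open scoped Pointwise in
/-- A trivial intersection Sylow subgroup acts semiregularly on the cosets of an overgroup of its
normalizer other than the overgroup itself. -/
theorem semiregular_of_TI_sylow {G : Type*} [Group G] [Finite G] {p : ℕ} [Fact p.Prime]
    (P : Sylow p G) (hTI : ∀ g : G, g ∉ Subgroup.normalizer ((P : Subgroup G) : Set G) →
      (P : Subgroup G) ⊓ (MulAut.conj g • (P : Subgroup G)) = ⊥) {H : Subgroup G}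
    (hH : Subgroup.normalizer ((P : Subgroup G) : Set G) ≤ H) :
    ∀ g, g ∉ H → ∀ x ∈ (P : Subgroup G), g⁻¹ * x * g ∈ H → x = 1 := by
  intro g hg x hx hxg
  by_contra hx1
  have hPH : (P : Subgroup G) ≤ H := Subgroup.le_normalizer.trans hH
  obtain ⟨k, hk⟩ := P.2 ⟨x, hx⟩
  have hk' : x ^ p ^ k = 1 := congrArg Subtype.val hk
  have h1 : IsPGroup p (Subgroup.zpowers (⟨g⁻¹ * x * g, hxg⟩ : H)) := by
    rw [IsPGroup.iff_card, Nat.card_zpowers]
    have : (⟨g⁻¹ * x * g, hxg⟩ : H) ^ p ^ k = 1 := Subtype.ext (by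
      have := conj_pow (a := g⁻¹) (b := x) (i := p ^ k)
      rw [hk'] at this
      simpa using this)
    obtain ⟨j, -, hj⟩ := (Nat.dvd_prime_pow Fact.out).1 (orderOf_dvd_of_pow_eq_one this)
    exact ⟨j, hj⟩
  obtain ⟨Q, hQ⟩ := h1.exists_le_sylow
  obtain ⟨h, hh⟩ := MulAction.exists_smul_eq H (P.subtype hPH) Q
  have h2 := hQ (Subgroup.mem_zpowers _)
  rw [← hh, Sylow.coe_subgroup_smul, Subgroup.mem_pointwise_smul_iff_inv_smul_mem] at h2
  have h3 : (h : G)⁻¹ * (g⁻¹ * x * g) * h ∈ (P : Subgroup G) := by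
    simpa [Subgroup.mem_subgroupOf] using h2
  have h4 : g * h ∈ Subgroup.normalizer ((P : Subgroup G) : Set G) := by
    by_contra hn
    have : x ∈ (P : Subgroup G) ⊓ (MulAut.conj (g * h) • (P : Subgroup G)) := ⟨hx, by
      refine Subgroup.mem_pointwise_smul_iff_inv_smul_mem.2 ?_
      simpa [mul_assoc] using h3⟩
    rw [hTI _ hn] at this
    exact hx1 this
  exact hg (by simpa using H.mul_mem (hH h4) (H.inv_mem h.2))

section

variable {G : Type*} [Group G] [Fintype G] {p : ℕ} [Fact p.Prime] {P H : Subgroup G} [Fintype H]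

theorem classInner_res_one_of_semiregular (hP : IsPGroup p P)
    (hfree : ∀ g, g ∉ H → ∀ x ∈ P, g⁻¹ * x * g ∈ H → x = 1) (hPH : P ≤ H) {α : G → ℂ}
    (hα : IsCharacter G α) (hd : charDegree α < Nat.card P) :
    classInner (fun x : H => α x) (fun _ => 1) = classInner α (fun _ => 1) := by
  have key : ∀ η : IrrCharacter G, classInner α η.1 * classInner (fun x : H => η.1 x) (fun _ => 1)
      = classInner α η.1 * classInner η.1 (fun _ => 1) := by
    intro η
    by_cases h0 : classInner α η.1 = 0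
    · rw [h0, zero_mul, zero_mul]
    congr 1
    by_cases h1 : η.1 = fun _ => 1
    · rw [h1, classInner_one_one, classInner_one_one]
    · rw [η.2.classInner_of_ne isIrrCharacter_one h1]
      by_contra h
      have h2 := card_le_degree_of_semiregular hP hfree hPH η.2 h1 h
      have h3 := Deg.deg_le_of_classInner_ne_zero hα η.2 h0
      omega
  rw [hα.isClassFunction.classInner_eq_sum_irr, ← Finset.sum_congr rfl fun η _ => key η]
  have : (fun x : H => α x) = ∑ η : IrrCharacter G, classInner α η.1 • fun x : H => η.1 x := by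
    funext x
    rw [hα.isClassFunction.apply_eq_sum_irr, Finset.sum_apply]
    rfl
  rw [this, classInner_sum_left]
  exact Finset.sum_congr rfl fun η _ => classInner_smul_left _ _ _

theorem classInner_res_of_semiregular (hP : IsPGroup p P)
    (hfree : ∀ g, g ∉ H → ∀ x ∈ P, g⁻¹ * x * g ∈ H → x = 1) (hPH : P ≤ H) {χ ψ : G → ℂ}
    (hχ : IsCharacter G χ) (hψ : IsCharacter G ψ)
    (hd : charDegree χ * charDegree ψ < Nat.card P) :
    classInner (fun x : H => χ x) (fun x : H => ψ x) = classInner χ ψ := by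
  have h1 := classInner_res_one_of_semiregular hP hfree hPH (hχ.mul hψ.conj) (by
    rw [Deg.deg_mul hχ hψ.conj,
      Deg.deg_congr (φ := ψ) (χ := fun g => conj (ψ g)) (by rw [← hψ.apply_inv, inv_one])]
    exact hd)
  have h2 := classInner_mul_right χ ψ (fun _ => 1)
  have h3 := classInner_mul_right (fun x : H => χ x) (fun x : H => ψ x) (fun _ => 1)
  rw [show ψ * (fun _ => 1) = ψ from mul_one ψ] at h2
  rw [show (fun x : H => ψ x) * (fun _ => 1) = (fun x : H => ψ x) from mul_one _] at h3
  rw [h2, h3, ← h1]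
  rfl

theorem classInner_res_self_of_semiregular (hP : IsPGroup p P)
    (hfree : ∀ g, g ∉ H → ∀ x ∈ P, g⁻¹ * x * g ∈ H → x = 1) (hPH : P ≤ H) {χ : G → ℂ}
    (hχ : IsCharacter G χ) (hd : charDegree χ ^ 2 ≤ Nat.card P) :
    classInner (fun x : H => χ x) (fun x : H => χ x) = classInner χ χ := by
  have h2 := classInner_mul_right χ χ (fun _ => 1)
  have h3 := classInner_mul_right (fun x : H => χ x) (fun x : H => χ x) (fun _ => 1)
  rw [show χ * (fun _ => 1) = χ from mul_one χ] at h2
  rw [show (fun x : H => χ x) * (fun _ => 1) = (fun x : H => χ x) from mul_one _] at h3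
  by_cases h0 : χ = 0
  · subst h0
    exact (classInner_zero_left _).trans (classInner_zero_left _).symm
  have hα := hχ.mul hχ.conj
  have hβ := hα.sub_of_classInner_ne_zero isIrrCharacter_one
    (by rw [← h2]; exact fun h => h0 (classInner_self_eq_zero.1 h))
  have h1 := classInner_res_one_of_semiregular hP hfree hPH hβ (by
    have e1 := Deg.deg_add hβ isCharacter_one
    rw [sub_add_cancel, Deg.deg_mul hχ hχ.conj,
      Deg.deg_congr (φ := χ) (χ := fun g => conj (χ g)) (by rw [← hχ.apply_inv, inv_one]),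
      Deg.deg_const_one] at e1
    rw [sq, e1] at hd
    omega)
  rw [classInner_sub_left, classInner_one_one, ← h2] at h1
  have h4 : (fun x : H => ((χ * fun g => conj (χ g)) - fun _ => (1 : ℂ) : G → ℂ) x) =
      ((fun x : H => χ x) * fun x : H => conj (χ x)) - fun _ => 1 := rfl
  rw [h4, classInner_sub_left, classInner_one_one, ← h3] at h1
  linear_combination h1

theorem isIrrCharacter_res_of_semiregular (hP : IsPGroup p P)
    (hfree : ∀ g, g ∉ H → ∀ x ∈ P, g⁻¹ * x * g ∈ H → x = 1) (hPH : P ≤ H) {χ : G → ℂ}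
    (hχ : IsIrrCharacter G χ) (hd : charDegree χ ^ 2 ≤ Nat.card P) :
    IsIrrCharacter H fun x : H => χ x :=
  (hχ.isCharacter.res H).isIrrCharacter_of_classInner_self
    ((classInner_res_self_of_semiregular hP hfree hPH hχ.isCharacter hd).trans hχ.classInner_self)

end

end Cfsg.Lib.Char
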