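import Cfsg.Agent.Char.Schur
import Cfsg.Agent.Char.GlaubermanCyc
import Cfsg.Agent.Solv.PSolvable
import Cfsg.Agent.Solv.CoprimeSylow
import Cfsg.Agent.Solv.HallWielandt

/-!
# Sylow subgroups of `p`-solvable complex linear groups
-/

set_option autoImplicit false

open Cfsg Cfsg.Lib.Solv Subgroup
open scoped Pointwise commutatorElement

namespace Cfsg.Lib.Char

universe u

variable {G : Type u} [Group G] {p : ℕ}

/-- Every `p`-element lies in `O_p(G)`: the Sylow `p`-subgroups are normal. -/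
def PCl (p : ℕ) (G : Type*) [Group G] : Prop := ∀ x : G, (∃ k, x ^ p ^ k = 1) → x ∈ pCore p G

theorem PCl.le (h : PCl p G) {P : Subgroup G} (hP : IsPGroup p P) : P ≤ pCore p G := fun x hx =>
  h x ((hP ⟨x, hx⟩).imp fun _ hk => congrArg Subtype.val hk)

variable [Finite G]

theorem PCl.subgroup (h : PCl p G) (H : Subgroup G) : PCl p H := fun x hx =>
  pCore_subgroupOf_le H (h x (hx.imp fun _ hk => congrArg Subtype.val hk))

theorem pCl_of_family {ι : Type*} (K : ι → Subgroup G) [∀ i, (K i).Normal] [hp : Fact p.Prime]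
    (hK : ∀ x, (∀ i, x ∈ K i) → x = 1) (h : ∀ i, PCl p (G ⧸ K i)) : PCl p G := fun x hx => by
  refine le_pCore (N := ⨅ i, (pCore p (G ⧸ K i)).comap (QuotientGroup.mk' _))
    (normal_iInf_normal fun _ => inferInstance) (fun y => ⟨(Nat.card G).factorization p,
      Subtype.ext (hK _ fun i => (QuotientGroup.eq_one_iff _).1 ?_)⟩)
    (mem_iInf.2 fun i => h i _ (hx.imp fun k hk => by rw [← map_pow, hk, map_one]))
  obtain ⟨k, hk⟩ := IsPGroup.iff_orderOf.1 (pCore_isPGroup p (G ⧸ K i))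
    ⟨(y : G), mem_iInf.1 y.2 i⟩
  replace hk := (orderOf_mk _ _).symm.trans hk
  rw [coe_pow, QuotientGroup.mk_pow, ← orderOf_dvd_iff_pow_eq_one]
  refine hk.dvd.trans (pow_dvd_pow p ((hp.out.pow_dvd_iff_le_factorization Nat.card_pos.ne').1 ?_))
  exact hk.symm.dvd.trans ((orderOf_map_dvd (QuotientGroup.mk' _) _).trans (orderOf_dvd_natCard _))

variable [hp : Fact p.Prime]

theorem pCl_iff_normal (P : Sylow p G) : PCl p G ↔ (P : Subgroup G).Normal := by
  refine ⟨fun h => le_antisymm (pCore_le_sylow P) (h.le P.isPGroup') ▸ inferInstance,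
    fun h x ⟨k, hk⟩ => ?_⟩
  have := P.unique_of_normal h
  obtain ⟨Q, hQ⟩ := IsPGroup.exists_le_sylow (P := zpowers x) (p := p) (by
    rintro ⟨_, m, rfl⟩
    exact ⟨k, Subtype.ext (by rw [coe_pow, ← zpow_natCast, ← zpow_mul, mul_comm, zpow_mul,
      zpow_natCast, hk, one_zpow]; rfl)⟩)
  rw [pCore_eq_of_normal_sylow P h, Subsingleton.elim P Q]
  exact hQ (mem_zpowers x)

theorem pCl_iff_not_dvd : PCl p G ↔ ¬ p ∣ (pCore p G).index := by
  obtain ⟨P⟩ : Nonempty (Sylow p G) := inferInstance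
  rw [pCl_iff_normal P]
  refine ⟨fun h => pCore_eq_of_normal_sylow P h ▸ P.not_dvd_index, fun h => ?_⟩
  rw [le_antisymm (le_of_coprime_card_index (coprime_card_of_isPGroup P.isPGroup'
    (hp.out.coprime_iff_not_dvd.2 h).symm)) (pCore_le_sylow P)]
  infer_instance

theorem pCl_of_constituents [Fintype G] {χ : G → ℂ} (hχ : IsCharacter G χ) (hf : charKer χ = ⊥)
    (h : ∀ ψ, IsIrrCharacter G ψ → classInner χ ψ ≠ 0 → ∀ [(charKer ψ).Normal],
      PCl p (G ⧸ charKer ψ)) : PCl p G := by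
  have := fun ψ : {ψ // IsIrrCharacter G ψ ∧ classInner χ ψ ≠ 0} => ψ.2.1.charKer_normal
  exact pCl_of_family (fun ψ : {ψ // IsIrrCharacter G ψ ∧ classInner χ ψ ≠ 0} => charKer ψ.1)
    (fun x hx => hf.le (hχ.mem_charKer_iff_forall.2 fun ψ h1 h2 => hx ⟨ψ, h1, h2⟩))
    fun ψ => h _ ψ.2.1 ψ.2.2

omit hp in
theorem charKer_deflate_self {χ : G → ℂ} (hχ : IsCharacter G χ) [(charKer χ).Normal] :
    charKer (deflate (charKer χ) χ) = ⊥ := by
  rw [hχ.charKer_deflate le_rfl, Subgroup.map_eq_bot_iff, QuotientGroup.ker_mk']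

omit hp in
theorem exists_rational_model_irr {K : Subgroup G} [K.Normal] (hcop : (Nat.card K).Coprime K.index)
    {χ : G → ℂ} (hχ : IsIrrCharacter G χ) : ∃ ψ, IsCharacter G ψ ∧ (∃ e : ℕ, 0 < e ∧
      ∀ k : K, χ k = e * ψ k) ∧
      ∀ σ : RingAut ℂ, (∀ z : ℂ, z ^ Nat.card K = 1 → σ z = z) → ∀ x, σ (ψ x) = ψ x := by
  have := Fintype.ofFinite G
  have := Fintype.ofFinite K
  obtain ⟨θ, hθ, h1⟩ := exists_irr_under K hχ
  have hT := le_inertia (N := K) hθ.isClassFunction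
  have h2 : Nat.card (K.subgroupOf (inertia K θ)) = Nat.card K :=
    Nat.card_congr (subgroupOfEquivOfLe hT).toEquiv
  have h3 : (Nat.card (K.subgroupOf (inertia K θ))).Coprime (K.subgroupOf (inertia K θ)).index :=
    h2 ▸ hcop.coprime_dvd_right (relIndex_dvd_index_of_normal _ _)
  obtain ⟨ξ, hξ, h4, h5, -⟩ := exists_canonical_ext_hall h3 (hθ.subgroupOf hT)
    fun g n => mem_inertia'.1 g.2 ⟨n, n.2⟩
  have h6 : (fun n : K => ξ ⟨n, hT n.2⟩) = θ := funext fun n => h4 ⟨⟨n, hT n.2⟩, n.2⟩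
  obtain ⟨h7, h8⟩ := clifford_indFun_irr hT le_rfl hθ hξ (by rw [h6, hθ.classInner_self]; simp)
  rw [h6, hθ.classInner_self] at h8
  obtain ⟨e, he, -, h9⟩ := clifford_res_nat hχ hθ h1
  have h10 := clifford_res h7 hθ (by rw [h8]; simp)
  rw [h8, one_smul] at h10
  refine ⟨_, h7.isCharacter, ⟨e, he, fun k => ?_⟩, fun σ hσ x => ?_⟩
  · rw [← h10] at h9
    simpa using congrFun h9 k
  refine (congrFun (indFun_ringHom _ σ.toRingHom ξ) x).symm.trans (congrFun (congrArg _ ?_) x)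
  obtain ⟨m, hm, h11⟩ := exists_pow_of_ringHom (Nat.card_pos (α := inertia K θ)).ne' σ.toRingHom
  funext y
  rw [hξ.isGeneralizedCharacter.ringHom_pow y Nat.card_pos.ne' pow_card_eq_one' _ h11]
  refine canonical_ext_pow h3 hξ.isCharacter (funext h4 ▸ hθ.subgroupOf hT) h5
    (hm.coprime_dvd_right (index_dvd_card _)) ?_ y
  have hζ := Complex.isPrimitiveRoot_exp _ (Nat.card_pos (α := K)).ne'
  rw [h2, hζ.eq_orderOf, ← (hζ.isOfFinOrder Nat.card_pos.ne').pow_eq_pow_iff_modEq, pow_one, ← h11 _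
    ((hζ.pow_eq_one_iff_dvd _).2 (card_dvd_of_le hT))]
  exact hσ _ hζ.pow_eq_one

omit hp in
theorem exists_rational_model {K : Subgroup G} [K.Normal] (hcop : (Nat.card K).Coprime K.index)
    {χ : G → ℂ} (hχ : IsCharacter G χ) : ∃ ψ, IsCharacter G ψ ∧ (ψ 1).re ≤ (χ 1).re ∧
      charKer ψ ⊓ K ≤ charKer χ ∧
      ∀ σ : RingAut ℂ, (∀ z : ℂ, z ^ Nat.card K = 1 → σ z = z) → ∀ x, σ (ψ x) = ψ x := by
  refine hχ.induction_on (P := fun χ => ∃ ψ, IsCharacter G ψ ∧ (ψ 1).re ≤ (χ 1).re ∧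
      charKer ψ ⊓ K ≤ charKer χ ∧
      ∀ σ : RingAut ℂ, (∀ z : ℂ, z ^ Nat.card K = 1 → σ z = z) → ∀ x, σ (ψ x) = ψ x)
    ⟨0, isCharacter_zero, le_rfl, inf_le_left, by simp⟩ ?_
  rintro η θ hη hθ ⟨ψ, h1, h2, h3, h4⟩
  obtain ⟨φ, h5, ⟨e, he, h6⟩, h7⟩ := exists_rational_model_irr hcop hη
  refine ⟨φ + ψ, h5.add h1, ?_, ?_, fun σ hσ x => by simp [h4 σ hσ, h7 σ hσ]⟩
  · obtain ⟨d, hd⟩ := h5.exists_nat_degree
    have h8 : η 1 = e * φ 1 := h6 1
    simp only [Pi.add_apply, Complex.add_re, h8, hd, ← Nat.cast_mul, Complex.natCast_re]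
    exact add_le_add (Nat.cast_le.2 (Nat.le_mul_of_pos_left d he)) h2
  · rw [h5.charKer_add h1, hη.isCharacter.charKer_add hθ]
    refine fun x hx => ⟨hη.mem_charKer_iff.2 ?_, h3 ⟨hx.1.2, hx.2⟩⟩
    rw [h6 ⟨x, hx.2⟩, apply_of_mem_charKer hx.1.1]
    exact (h6 1).symm

/-- Schur's bound for the action of a `p`-group on a `p'`-group. -/
theorem coprime_schur_bound {K P : Subgroup G} (hK : ¬ p ∣ Nat.card K) (hP : IsPGroup p P)
    (hPK : P ≤ normalizer (K : Set G)) {χ : G → ℂ} (hχ : IsCharacter G χ) (hf : charKer χ = ⊥)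
    {n M : ℕ} (hn : χ 1 = n) (hM : n < M) : (centralizer (K : Set G)).relIndex P ≤
      p ^ ∑ i ∈ Finset.range M, n / ((p - 1) * p ^ i) := by
  have hN : (K.subgroupOf (K ⊔ P)).Normal :=
    (normal_subgroupOf_iff_le_normalizer le_sup_left).2 (sup_le le_normalizer hPK)
  have h1 : Nat.card (K.subgroupOf (K ⊔ P)) = Nat.card K :=
    Nat.card_congr (subgroupOfEquivOfLe le_sup_left).toEquiv
  obtain ⟨ψ, h2, h3, h4, h5⟩ := exists_rational_model (K := K.subgroupOf (K ⊔ P)) (by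
    rw [h1]
    exact (coprime_card_of_isPGroup hP (hp.out.coprime_iff_not_dvd.2 hK).symm).symm.coprime_dvd_right
      (relIndex_sup_dvd_card_of_le_normalizer' hPK)) (hχ.res (K ⊔ P))
  obtain ⟨d, hd⟩ := h2.exists_nat_degree
  have h6 : d ≤ n := by simpa [hd, hn] using h3
  have h7 := h2.comp (inclusion (le_sup_right : P ≤ K ⊔ P))
  refine (index_antitone fun x hx => ?_).trans ((schur_bound hP M d (h6.trans_lt hM) _ h7
    (galStab_comp_eq_top hp.out hP h7 hK fun σ hσ x => h5 σ (h1 ▸ hσ) _)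
    (by rw [map_one, hd])).trans (Nat.pow_le_pow_right hp.out.pos
      (Finset.sum_le_sum fun i _ => Nat.div_le_div_right h6)))
  rw [h2.charKer_comp] at hx
  refine mem_subgroupOf.2 fun k hk => ?_
  have h8 := h4 (x := ⁅(⟨k, mem_sup_left hk⟩ : (K ⊔ P : Subgroup G)), inclusion le_sup_right x⁆)
    (mem_inf.2 ⟨by
      rw [commutatorElement_def]
      exact mul_mem (h2.charKer_normal.conj_mem _ hx _) (inv_mem hx), by
      rw [commutatorElement_def, mul_assoc, mul_assoc]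
      exact mul_mem hk (by simpa only [mul_assoc] using hN.conj_mem _ (inv_mem hk) _)⟩)
  rw [hχ.charKer_res, hf, bot_subgroupOf, mem_bot, commutatorElement_eq_one_iff_mul_comm] at h8
  exact congrArg Subtype.val h8

theorem exists_coprime_pair (hG : IsPSolvable p G) : ∃ K P : Subgroup G, ¬ p ∣ Nat.card K ∧
    IsPGroup p P ∧ P ≤ normalizer (K : Set G) ∧
      p ^ (pCore p G).index.factorization p ≤ (centralizer (K : Set G)).relIndex P := by
  set N := pCore p G
  have hN := pCore_isPGroup p G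
  let L := (pPrimeCore p (G ⧸ N)).comap (QuotientGroup.mk' N)
  have h1 : N.relIndex L = Nat.card (pPrimeCore p (G ⧸ N)) := by
    rw [← card_map_mk', map_comap_eq_self_of_surjective (QuotientGroup.mk'_surjective N)]
  have h2 := not_dvd_card_pPrimeCore p (G ⧸ N)
  have h3 := coprime_card_of_isPGroup hN (hp.out.coprime_iff_not_dvd.2 h2).symm
  obtain ⟨K, -, h4, h5, h6⟩ := exists_complement_ambient N L (QuotientGroup.le_comap_mk' _ _)
    le_normalizer_of_normal (h1 ▸ h3)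
  rw [h1] at h6
  have h7 : N ⊔ normalizer (K : Set G) = ⊤ := eq_top_iff.2 fun g _ => by
    have := hN.isNilpotent
    obtain ⟨n, hn, h⟩ := schur_zassenhaus_conj_ambient N K (MulAut.conj g • K)
      le_normalizer_of_normal (h6 ▸ h3.symm) (Or.inr inferInstance)
      (by
        rw [h4, ← Normal.conj_smul_eq_self g L]
        exact pointwise_smul_le_pointwise_smul_iff.2 (h4 ▸ le_sup_right))
      (SZ.card_conj_smul g K)
    rw [← mul_inv_cancel_left n g]
    refine mul_mem_sup hn (mem_normalizer_iff_conj_smul_eq.2 ?_)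
    rw [map_mul, mul_smul, ← h, map_inv, inv_smul_smul]
  obtain ⟨P, -, h8, h9, h10⟩ := Coprime.exists_le_sylow_ambient (p := p) (K := normalizer (K : Set G))
    bot_le IsPGroup.of_bot
  refine ⟨K, P, h6 ▸ h2, h9, h8, (Nat.le_of_dvd (Nat.pos_of_ne_zero index_ne_zero_of_finite)
    (?_ : _ ∣ N.relIndex P)).trans (index_antitone fun x hx => ?_)⟩
  · refine ((hp.out.coprime_iff_not_dvd.2 h10).pow_left _).dvd_of_dvd_mul_right
      ((Nat.ordProj_dvd _ _).trans ?_)
    rw [← relIndex_top_right, ← h7, relIndex_sup_left, ← inf_relIndex_right N P,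
      relIndex_mul_relIndex _ _ _ inf_le_right h8]
    exact relIndex_dvd_of_le_left _ inf_le_left
  · have h11 : (x : G ⧸ N) ∈ pPrimeCore p (G ⧸ N) := by
      refine (hG.quotient N).centralizer_pPrimeCore_le (pCore_quotient_pCore p G) fun y hy => ?_
      obtain ⟨y, rfl⟩ := QuotientGroup.mk_surjective y
      obtain ⟨a, ha, b, hb, rfl⟩ := (mem_sup_of_normal_left).1 (h4.ge hy)
      rw [QuotientGroup.mk_mul, (QuotientGroup.eq_one_iff a).2 ha, one_mul,
        ← QuotientGroup.mk_mul, mem_subgroupOf.1 hx b hb, QuotientGroup.mk_mul]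
    obtain ⟨k, hk⟩ := IsPGroup.iff_orderOf.1 h9 x
    refine mem_subgroupOf.2 <| (QuotientGroup.eq_one_iff _).1 (orderOf_eq_one_iff.1 (Nat.eq_one_of_dvd_coprimes
      ((hp.out.coprime_iff_not_dvd.2 h2).pow_left k) ?_ (Subgroup.orderOf_dvd_natCard _ h11)))
    rw [← hk, ← orderOf_coe]
    exact orderOf_map_dvd (QuotientGroup.mk' N) _

theorem factorization_index_pCore_le (hG : IsPSolvable p G) {χ : G → ℂ} (hχ : IsCharacter G χ)
    (hf : charKer χ = ⊥) {n M : ℕ} (hn : χ 1 = n) (hM : n < M) :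
    (pCore p G).index.factorization p ≤ ∑ i ∈ Finset.range M, n / ((p - 1) * p ^ i) := by
  obtain ⟨K, P, h1, h2, h3, h4⟩ := exists_coprime_pair hG
  exact (Nat.pow_le_pow_iff_right hp.out.one_lt).1
    (h4.trans (coprime_schur_bound h1 h2 h3 hχ hf hn hM))

/-- Itô: a `p`-solvable linear group of degree less than `p - 1` has a normal Sylow `p`-subgroup. -/
theorem pCl_of_degree_lt (hG : IsPSolvable p G) {χ : G → ℂ} (hχ : IsCharacter G χ)
    (hf : charKer χ = ⊥) {n : ℕ} (hn : χ 1 = n) (h : n + 1 < p) : PCl p G := by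
  have h1 := factorization_index_pCore_le hG hχ hf hn n.lt_succ_self
  rw [Finset.sum_eq_zero fun i _ => Nat.div_eq_of_lt ((by omega : n < p - 1).trans_le
    (Nat.le_mul_of_pos_right _ (pow_pos hp.out.pos i)))] at h1
  exact pCl_iff_not_dvd.2 fun h2 => absurd
    ((hp.out.dvd_iff_one_le_factorization index_ne_zero_of_finite).1 h2) (by omega)

end Cfsg.Lib.Char
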