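import Cfsg.Agent.Perm.GK
import Cfsg.Agent.Solv.MinNormal
import Cfsg.Agent.Solv.Cores
import Cfsg.Agent.Trans.PClosure
import Cfsg.Agent.Solv.TwoPrimeCycles

/-! # Groups with the order and the spectrum of an alternating group -/

set_option autoImplicit false

namespace Cfsg.Lib.Char.AltSpec

open Subgroup Cfsg.Lib.Solv Cfsg.Lib.Trans
open scoped IsMulCommutative

theorem add_le_of_orderOf {α : Type*} [Fintype α] [DecidableEq α] {p q : ℕ} (hp : p.Prime)
    (hq : q.Prime) (hpq : p ≠ q) {σ : Equiv.Perm α} (h : orderOf σ = p * q) :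
    p + q ≤ Fintype.card α := by
  have key : ∀ r : ℕ, r.Prime → r ∣ p * q → ∃ a ∈ σ.cycleType, r ∣ a := fun r hr h' => by
    rw [← h, ← σ.lcm_cycleType] at h'
    exact hr.prime.exists_mem_multiset_dvd (h'.trans (Multiset.lcm_dvd.2 fun _ => Multiset.dvd_prod))
  obtain ⟨a, ha, h1⟩ := key p hp (dvd_mul_right _ _)
  obtain ⟨b, hb, h2⟩ := key q hq (dvd_mul_left _ _)
  have h3 := Equiv.Perm.two_le_of_mem_cycleType ha
  have h4 := Equiv.Perm.two_le_of_mem_cycleType hb
  refine le_trans ?_ σ.sum_cycleType_le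
  by_cases e : a = b
  · subst e
    have := Nat.le_of_dvd (by omega) (((Nat.coprime_primes hp hq).2 hpq).mul_dvd_of_dvd_of_dvd h1 h2)
    exact (Nat.add_le_mul hp.two_le hq.two_le).trans (this.trans (Multiset.le_sum_of_mem ha))
  · rw [← Multiset.cons_erase ha, Multiset.sum_cons]
    exact add_le_add (Nat.le_of_dvd (by omega) h1) ((Nat.le_of_dvd (by omega) h2).trans
      (Multiset.le_sum_of_mem ((Multiset.mem_erase_of_ne (Ne.symm e)).2 hb)))

variable {G : Type*} [Group G] [Finite G]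

theorem exists_orderOf_of_normalizer {p q : ℕ} (hp : p.Prime) (hq : q.Prime) (hpq : p ≠ q)
    {P : Subgroup G} (hP : Nat.card P = p) (h : q ∣ Nat.card (normalizer (P : Set G)))
    (h' : ¬ q ∣ p - 1) : ∃ z : G, orderOf z = p * q := by
  have := Fact.mk hp
  have := Fact.mk hq
  have := isCyclic_of_prime_card hP
  obtain ⟨y, hy⟩ := exists_prime_orderOf_dvd_card' q h
  obtain ⟨x, hx⟩ := exists_prime_orderOf_dvd_card' (G := P) p hP.symm.dvd
  have h1 : P.normalizerMonoidHom y = 1 := by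
    rw [← orderOf_eq_one_iff]
    refine ((Nat.dvd_prime hq).1 (hy ▸ orderOf_map_dvd _ y)).resolve_right fun e => h' ?_
    rw [← e, ← Nat.totient_prime hp, ← hP, ← IsCyclic.card_mulAut]
    exact orderOf_dvd_natCard _
  refine Perm.GK.exists_orderOf_mul_of_commute hp hq hpq (x := x) (y := y) (by simp [hx])
    (by simp [hy]) ?_
  have := congrArg (fun f : MulAut P => (f x : G)) h1
  exact (mul_inv_eq_iff_eq_mul.1 this).symm

theorem exists_section (s : ℕ → Prop) (h1 : ∀ p, s p → p.Prime ∧ p ∣ Nat.card G ∧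
      ¬ p ^ 2 ∣ Nat.card G) (h2 : ∀ p q, s p → s q → p ≠ q → ¬ q ∣ p - 1 ∧ ¬ ∃ z : G, orderOf z = p * q)
    {p q : ℕ} (hp : s p) (hq : s q) (hpq : p ≠ q) :
    ∃ (N H : Subgroup G) (_ : N.Normal), H.Normal ∧ N < H ∧
      IsSimpleGroup (H ⧸ N.subgroupOf H) ∧ ¬ IsMulCommutative (H ⧸ N.subgroupOf H) ∧
      ∀ p : ℕ, s p → p ∣ Nat.card (H ⧸ N.subgroupOf H) := by
  obtain ⟨N, ⟨hN, h3⟩, hmax⟩ := (Set.toFinite
    {N : Subgroup G | N.Normal ∧ ∀ r, s r → ¬ r ∣ Nat.card N}).exists_maximal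
    ⟨⊥, inferInstance, fun r hr => by simpa using (h1 r hr).1.ne_one⟩
  have : Nontrivial (G ⧸ N) := QuotientGroup.nontrivial_iff.2 fun e =>
    h3 p hp (by simpa [e] using (h1 p hp).2.1)
  obtain ⟨M, hM⟩ := exists_isMinNormal (G ⧸ N)
  have := hM.normal
  have hπ := QuotientGroup.mk'_surjective N
  set H := M.comap (QuotientGroup.mk' N)
  have hNH : N < H := by
    refine lt_of_le_of_ne ((QuotientGroup.ker_mk' N).ge.trans (ker_le_comap _ _)) fun e => hM.ne_bot ?_
    rw [← map_comap_eq_self_of_surjective hπ M, Subgroup.map_eq_bot_iff, QuotientGroup.ker_mk']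
    exact e.ge
  have e : (H ⧸ N.subgroupOf H) ≃* M := (QuotientGroup.quotientMulEquivOfEq (by
    ext x
    exact (QuotientGroup.eq_one_iff (x : G)).symm.trans (Subtype.ext_iff (a1 :=
      (QuotientGroup.mk' N).subgroupComap M x) (a2 := 1)).symm)).trans (QuotientGroup.quotientKerEquivOfSurjective
      ((QuotientGroup.mk' N).subgroupComap M) (MonoidHom.subgroupComap_surjective_of_surjective _ _ hπ))
  have h4 : ∀ q, s q → q ∣ Nat.card H := fun q hq => by
    by_contra hqH
    obtain ⟨p, hp, hpH⟩ : ∃ p, s p ∧ p ∣ Nat.card H := by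
      by_contra! h
      exact hNH.not_ge (hmax ⟨inferInstance, h⟩ hNH.le)
    obtain ⟨a, b, c⟩ := h1 p hp
    have := Fact.mk a
    obtain ⟨T, hT⟩ := exists_isSylowIn (p := p) H
    have hne : p ≠ q := fun e => hqH (e ▸ hpH)
    refine (h2 p q hp hq hne).2 (exists_orderOf_of_normalizer a (h1 q hq).1 hne (P := T) ?_ ?_
      (h2 p q hp hq hne).1)
    · have e1 := (a.pow_dvd_iff_le_factorization (k := 1) Nat.card_pos.ne').1 (by simpa using hpH)
      have e2 := (a.pow_dvd_iff_le_factorization (k := 2) Nat.card_pos.ne').not.1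
        fun h => c (h.trans (card_subgroup_dvd_card H))
      rw [hT.card_eq, show (Nat.card H).factorization p = 1 by omega, pow_one]
    · have h5 := Perm.GK.relIndex_dvd_frattini hT (L := ⊤) le_normalizer_of_normal le_top le_rfl
        le_normalizer_of_normal
      rw [relIndex_top_right, top_inf_eq] at h5
      refine .trans ?_ (h5 ▸ relIndex_dvd_card H _)
      exact ((h1 q hq).1.dvd_mul.1 (H.card_mul_index ▸ (h1 q hq).2.1)).resolve_left hqH
  have h5 : ∀ q, s q → q ∣ Nat.card M := fun q hq => by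
    rw [← Nat.card_congr e.toEquiv]
    exact ((h1 q hq).1.dvd_mul.1 (relIndex_mul_card_of_le hNH.le ▸ h4 q hq)).resolve_right (h3 q hq)
  have : IsSimpleGroup M := by
    obtain ⟨a, -, c⟩ := h1 p hp
    have := Fact.mk a
    have := (nontrivial_iff_ne_bot M).2 hM.ne_bot
    refine ⟨fun L hL => ?_⟩
    by_cases h : p ∣ Nat.card L
    · have h6 : ¬ p ∣ L.index := fun h' => c (by
        rw [sq]
        exact (mul_dvd_mul h h').trans (L.card_mul_index ▸ (card_subgroup_dvd_card M).trans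
          (card_quotient_dvd_card N)))
      have h7 := pec_le_of_le_normalizer (p := p) (K := L.map M.subtype) (H := M)
        (le_normalizer_map_subtype L) (by
          rwa [relIndex, subgroupOf, comap_map_eq_self_of_injective M.subtype_injective])
      have := pec_normal p M
      have h8 := hM.eq_of_le (M := pElementClosure p M)
        (fun e => a.coprime_iff_not_dvd.1 (pec_eq_bot_iff.1 e).symm (h5 p hp)) (pec_le _ _)
      exact Or.inr (top_unique fun x _ => by
        obtain ⟨y, hy, e⟩ := h7 (h8.ge x.2); exact Subtype.ext e ▸ hy)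
    · rcases hM.eq_bot_or_top_of_characteristic (pPrimeCore p M) with h6 | h6
      · exact Or.inl (eq_bot_iff.2 (h6 ▸ le_pPrimeCore hL ((a.coprime_iff_not_dvd.2 h).symm)))
      · have := coprime_card_pPrimeCore p M
        rw [h6, card_top] at this
        exact absurd (h5 p hp) (a.coprime_iff_not_dvd.1 this.symm)
  refine ⟨N, H, hN, inferInstance, hNH, e.isSimpleGroup, fun h => ?_,
    fun r hr => Nat.card_congr e.toEquiv ▸ h5 r hr⟩
  have := e.isSimpleGroup
  have h6 := IsSimpleGroup.prime_card (α := H ⧸ N.subgroupOf H)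
  rw [Nat.card_congr e.toEquiv] at h6
  exact hpq (((Nat.prime_dvd_prime_iff_eq (h1 p hp).1 h6).1 (h5 p hp)).trans
    ((Nat.prime_dvd_prime_iff_eq (h1 q hq).1 h6).1 (h5 q hq)).symm)

omit [Finite G] in
theorem not_exists_orderOf {n p q : ℕ} (hp : p.Prime) (hq : q.Prime) (hpq : p ≠ q) (h : n < p + q)
    (hspec : Set.range (orderOf : G → ℕ) = Set.range (orderOf : alternatingGroup (Fin n) → ℕ)) :
    ¬ ∃ z : G, orderOf z = p * q := fun hz => by
  obtain ⟨σ, hσ⟩ : p * q ∈ Set.range (orderOf : alternatingGroup (Fin n) → ℕ) := hspec ▸ hz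
  have := add_le_of_orderOf hp hq hpq ((orderOf_coe σ).trans hσ)
  rw [Fintype.card_fin] at this; omega

theorem alt_section {n : ℕ} (hn : 5 ≤ n) (hcard : Nat.card G = Nat.card (alternatingGroup (Fin n)))
    (hspec : Set.range (orderOf : G → ℕ) = Set.range (orderOf : alternatingGroup (Fin n) → ℕ))
    (h : ∃ p q : ℕ, p.Prime ∧ q.Prime ∧ n < 2 * p ∧ p < q ∧ q ≤ n) :
    ∃ (N H : Subgroup G) (_ : N.Normal), H.Normal ∧ N < H ∧
      IsSimpleGroup (H ⧸ N.subgroupOf H) ∧ ¬ IsMulCommutative (H ⧸ N.subgroupOf H) ∧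
      ∀ p : ℕ, p.Prime → n < 2 * p → p ≤ n → p ∣ Nat.card (H ⧸ N.subgroupOf H) := by
  obtain ⟨p, q, hp, hq, h1, h2, h3⟩ := h
  have : Nontrivial (Fin n) := Fin.nontrivial_iff_two_le.2 (by omega)
  have h4 : 2 * Nat.card G = n.factorial := by
    rw [hcard, two_mul_nat_card_alternatingGroup, Nat.card_perm, Nat.card_eq_fintype_card,
      Fintype.card_fin]
  obtain ⟨N, H, a, b, c, d, e, f⟩ := exists_section (G := G) (fun p => p.Prime ∧ n < 2 * p ∧ p ≤ n)
    (fun r ⟨a, b, c⟩ => ⟨a, (Nat.Coprime.dvd_mul_left ((Nat.coprime_primes a Nat.prime_two).2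
      (by omega))).1 (h4 ▸ a.dvd_factorial.2 c), fun h => by
        have := Fact.mk a
        have h5 := (a.pow_dvd_iff_le_factorization n.factorial_ne_zero).1
          (h4 ▸ h.mul_left 2 : r ^ 2 ∣ n.factorial)
        rw [Nat.factorization_factorial a (b := 2) (Nat.log_lt_of_lt_pow' (by omega)
          (by nlinarith))] at h5
        simp only [Nat.Ico_succ_singleton, Finset.sum_singleton, pow_one] at h5
        have := (Nat.le_div_iff_mul_le a.pos).1 h5
        omega⟩)
    (fun r s ⟨a, b, c⟩ ⟨a', b', c'⟩ h => ⟨fun ⟨k, hk⟩ => by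
      have := a.two_le
      obtain rfl : k = 1 := by
        rcases k with _ | _ | k
        · omega
        · rfl
        · nlinarith [Nat.sub_le r 1]
      have := a.eq_two_or_odd; have := a'.eq_two_or_odd; omega,
      not_exists_orderOf a a' h (by omega) hspec⟩)
    (p := p) (q := q) ⟨hp, h1, by omega⟩ ⟨hq, by omega, h3⟩ h2.ne
  exact ⟨N, H, a, b, c, d, e, fun p x y z => f p ⟨x, y, z⟩⟩

theorem exists_primes {n : ℕ} (hn : 11 ≤ n) :
    ∃ p q : ℕ, p.Prime ∧ q.Prime ∧ n < 2 * p ∧ p < q ∧ q ≤ n := by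
  by_cases h : 17 ≤ n
  · obtain ⟨p, q, a, b, c, d, e⟩ := TwoCyc.exists_two_primes h
    exact ⟨p, q, a, b, c, by omega, e⟩
  by_cases h' : n ≤ 13
  · exact ⟨7, 11, by norm_num, by norm_num, by omega, by omega, hn⟩
  · exact ⟨11, 13, by norm_num, by norm_num, by omega, by omega, by omega⟩

end Cfsg.Lib.Char.AltSpec
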