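import Cfsg.Agent.Char.Clifford
import Cfsg.Agent.Char.Kernel
import Mathlib.GroupTheory.Sylow
import Mathlib.GroupTheory.Nilpotent

/-!
# Camina elements and Gagola characters

An element `g` whose coset `gN` lies in one conjugacy class; irreducible characters that are
nonzero on exactly two conjugacy classes.
-/

set_option autoImplicit false
set_option linter.unusedSectionVars false

open scoped ComplexConjugate commutatorElement
open Cfsg

namespace Cfsg.Lib.Char

variable {G : Type*} [Group G] [Finite G]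

section Camina

variable {N : Subgroup G} [N.Normal]

/-- If the coset `gN` lies in the class of `g`, every irreducible character whose kernel does not
contain `N` vanishes at `g`. -/
theorem apply_eq_zero_of_isConj_mul {g : G} (h : ∀ n ∈ N, IsConj g (g * n)) {χ : G → ℂ}
    (hχ : IsIrrCharacter G χ) (hN : ¬ N ≤ charKer χ) : χ g = 0 := by
  have := Fintype.ofFinite N
  have h1 := hχ.sum_coset_eq_zero N hN g
  have h2 : ∀ n : N, χ (g * n) = χ g := fun n =>
    (hχ.isClassFunction.eq_of_isConj (h n n.2)).symm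
  simp only [h2, Finset.sum_const, Finset.card_univ, nsmul_eq_mul] at h1
  exact (mul_eq_zero.1 h1).resolve_left (by exact_mod_cast Fintype.card_ne_zero)

/-- Two elements are conjugate when every irreducible character either agrees on them or
vanishes at the first. -/
theorem isConj_of_forall_irr_eq_or_zero {g h : G}
    (H : ∀ χ : G → ℂ, IsIrrCharacter G χ → χ g = χ h ∨ χ g = 0) : IsConj g h := by
  classical
  by_contra hc
  have h1 := sum_irr_mul_conj_of_not_isConj hc
  have h2 : ∀ χ : IrrCharacter G, (χ : G → ℂ) g * conj ((χ : G → ℂ) h) =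
      (χ : G → ℂ) g * conj ((χ : G → ℂ) g) := fun χ => by
    rcases H χ χ.2 with e | e
    · rw [← e]
    · rw [e, zero_mul, zero_mul]
  simp only [h2] at h1
  rw [sum_irr_mul_conj_of_isConj (IsConj.refl g)] at h1
  exact Nat.card_pos.ne' (by exact_mod_cast h1)

/-- If every irreducible character whose kernel does not contain `N` vanishes at `g`, then the
coset `gN` lies in the class of `g`. -/
theorem isConj_mul_of_forall_vanish {g : G}
    (h : ∀ χ : G → ℂ, IsIrrCharacter G χ → ¬ N ≤ charKer χ → χ g = 0) {n : G} (hn : n ∈ N) :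
    IsConj g (g * n) := by
  refine isConj_of_forall_irr_eq_or_zero fun χ hχ => ?_
  by_cases hN : N ≤ charKer χ
  · exact Or.inl (hχ.isClassFunction.apply_mul_of_mem_charKer (hN hn) g).symm
  · exact Or.inr (h χ hχ hN)

open Classical in
theorem sum_irr_ker_normSq (N : Subgroup G) [N.Normal] (g : G) :
    ∑ χ ∈ Finset.univ.filter (fun χ : IrrCharacter G => N ≤ charKer (χ : G → ℂ)),
        ‖(χ : G → ℂ) g‖ ^ 2 =
      (Nat.card (Subgroup.centralizer ({(g : G ⧸ N)} : Set (G ⧸ N))) : ℝ) := by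
  rw [← sum_irr_quotient N (fun χ => ‖χ g‖ ^ 2)]
  exact sum_irr_normSq (G := G ⧸ N) (QuotientGroup.mk g)

/-- The centralizer of `g` has the order of the centralizer of `gN` exactly when the characters
whose kernel does not contain `N` vanish at `g`. -/
theorem card_centralizer_eq_quotient_iff {g : G} :
    Nat.card (Subgroup.centralizer ({g} : Set G)) =
        Nat.card (Subgroup.centralizer ({(g : G ⧸ N)} : Set (G ⧸ N))) ↔
      ∀ χ : G → ℂ, IsIrrCharacter G χ → ¬ N ≤ charKer χ → χ g = 0 := by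
  classical
  have h1 := sum_irr_normSq g
  rw [← Finset.sum_filter_add_sum_filter_not Finset.univ
    (fun χ : IrrCharacter G => N ≤ charKer (χ : G → ℂ)), sum_irr_ker_normSq] at h1
  constructor
  · intro h χ hχ hN
    rw [h, add_eq_left, Finset.sum_eq_zero_iff_of_nonneg (fun _ _ => by positivity)] at h1
    have := h1 ⟨χ, hχ⟩ (by simpa using hN)
    simpa using this
  · intro h
    rw [Finset.sum_eq_zero (fun χ hχ => by
      rw [h χ χ.2 (by simpa using hχ)]; simp), add_zero] at h1
    exact_mod_cast h1.symm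

theorem card_centralizer_eq_quotient_of_isConj_mul {g : G} (h : ∀ n ∈ N, IsConj g (g * n)) :
    Nat.card (Subgroup.centralizer ({g} : Set G)) =
        Nat.card (Subgroup.centralizer ({(g : G ⧸ N)} : Set (G ⧸ N))) :=
  card_centralizer_eq_quotient_iff.2 fun _ hχ hN => apply_eq_zero_of_isConj_mul h hχ hN

end Camina

/-! ### A normal subgroup whose nonidentity elements are conjugate -/

section Transitive

variable {N : Subgroup G}

theorem exists_prime_pow_eq_one_of_isConj (hN : N ≠ ⊥)
    (h : ∀ x ∈ N, ∀ y ∈ N, x ≠ 1 → y ≠ 1 → IsConj x y) :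
    ∃ p : ℕ, p.Prime ∧ ∀ x ∈ N, x ^ p = 1 := by
  have h1 : Nat.card N ≠ 1 := fun e => hN (Subgroup.eq_bot_of_card_eq N e)
  obtain ⟨p, hp, hpd⟩ := Nat.exists_prime_and_dvd h1
  have := Fact.mk hp
  obtain ⟨y, hy⟩ := exists_prime_orderOf_dvd_card' p hpd
  have hy' : orderOf (y : G) = p := by rw [Subgroup.orderOf_coe, hy]
  refine ⟨p, hp, fun x hx => ?_⟩
  by_cases hx1 : x = 1
  · rw [hx1, one_pow]
  have hy1 : (y : G) ≠ 1 := fun e => hp.one_lt.ne' (by rw [← hy', e, orderOf_one])
  obtain ⟨c, hc⟩ := isConj_iff.1 (h y y.2 x hx hy1 hx1)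
  rw [← hc, conj_pow, ← hy', pow_orderOf_eq_one, mul_one, mul_inv_cancel]

theorem comm_of_isConj_of_isPGroup [hNn : N.Normal] {p : ℕ} [Fact p.Prime] (hp : IsPGroup p N)
    (h : ∀ x ∈ N, ∀ y ∈ N, x ≠ 1 → y ≠ 1 → IsConj x y) :
    ∀ a ∈ N, ∀ b ∈ N, a * b = b * a := by
  by_cases hN : N = ⊥
  · subst hN
    intro a ha b _
    rw [Subgroup.mem_bot.1 ha, one_mul, mul_one]
  have : Nontrivial N := (Subgroup.nontrivial_iff_ne_bot N).2 hN
  have := hp.center_nontrivial
  obtain ⟨z, hz⟩ := exists_ne (1 : Subgroup.center N)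
  have hz1 : ((z : N) : G) ≠ 1 := fun e => hz (Subtype.ext (Subtype.ext e))
  have hzc : ∀ b ∈ N, b * ((z : N) : G) = (z : N) * b := fun b hb =>
    congrArg Subtype.val (Subgroup.mem_center_iff.1 z.2 ⟨b, hb⟩)
  intro a ha b hb
  by_cases ha1 : a = 1
  · rw [ha1, one_mul, mul_one]
  obtain ⟨c, rfl⟩ := isConj_iff.1 (h _ (z : N).2 a ha hz1 ha1)
  have h2 := hzc (c⁻¹ * b * c) (hNn.conj_mem' b hb c)
  calc c * (z : N) * c⁻¹ * b = c * ((z : N) * (c⁻¹ * b * c)) * c⁻¹ := by group
    _ = c * ((c⁻¹ * b * c) * (z : N)) * c⁻¹ := by rw [h2]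
    _ = b * (c * (z : N) * c⁻¹) := by group

omit [Finite G] in
theorem le_of_isConj_of_inf_ne_bot (h : ∀ x ∈ N, ∀ y ∈ N, x ≠ 1 → y ≠ 1 → IsConj x y)
    {K : Subgroup G} [hK : K.Normal] (hKN : K ⊓ N ≠ ⊥) : N ≤ K := by
  obtain ⟨⟨x, hx⟩, hx1⟩ := Subgroup.ne_bot_iff_exists_ne_one.1 hKN
  have hx1' : x ≠ 1 := fun e => hx1 (Subtype.ext e)
  intro y hy
  by_cases hy1 : y = 1
  · rw [hy1]; exact K.one_mem
  obtain ⟨c, rfl⟩ := isConj_iff.1 (h x hx.2 y hy hx1' hy1)
  exact hK.conj_mem x hx.1 c

theorem index_centralizer_add_one_of_isConj [hNn : N.Normal]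
    (h : ∀ x ∈ N, ∀ y ∈ N, x ≠ 1 → y ≠ 1 → IsConj x y) {x : G} (hx : x ∈ N) (hx1 : x ≠ 1) :
    (Subgroup.centralizer ({x} : Set G)).index + 1 = Nat.card N := by
  classical
  rw [← card_isConj_eq_index]
  have h1 : (N : Set G) = insert 1 {y | IsConj x y} := by
    ext y
    simp only [SetLike.mem_coe, Set.mem_insert_iff, Set.mem_ofPred_eq]
    constructor
    · intro hy
      by_cases hy1 : y = 1
      · exact Or.inl hy1
      · exact Or.inr (h x hx y hy hx1 hy1)
    · rintro (rfl | hy)
      · exact N.one_mem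
      · obtain ⟨c, rfl⟩ := isConj_iff.1 hy
        exact hNn.conj_mem x hx c
  have h2 : Nat.card N = (N : Set G).ncard := (Nat.card_coe_set_eq (N : Set G))
  rw [h2, h1, Set.ncard_insert_of_notMem (by simpa using hx1), ← Nat.card_coe_set_eq]
  rfl

end Transitive

/-! ### Gagola characters -/

/-- `χ` is an irreducible character that is nonzero exactly on the nontrivial normal subgroup `N`,
whose nonidentity elements are conjugate; it is faithful, and `N` lies in the kernel of every other
irreducible character. -/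
structure IsGagola (χ : G → ℂ) (N : Subgroup G) : Prop where
  irr : IsIrrCharacter G χ
  normal : N.Normal
  ne_bot : N ≠ ⊥
  mem_iff : ∀ g, g ∈ N ↔ χ g ≠ 0
  isConj : ∀ x ∈ N, ∀ y ∈ N, x ≠ 1 → y ≠ 1 → IsConj x y
  ker : charKer χ = ⊥
  le_ker : ∀ ψ, IsIrrCharacter G ψ → ψ ≠ χ → N ≤ charKer ψ

/-- A sum over the group of a function supported on the identity and one class. -/
theorem sum_eq_of_support_two_classes [Fintype G] {c : G} (hc : c ≠ 1) {F : G → ℂ}
    (hF : IsClassFunction G F) (h : ∀ g, F g ≠ 0 → g = 1 ∨ IsConj c g) :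
    ∑ g, F g = F 1 + (Subgroup.centralizer ({c} : Set G)).index * F c := by
  classical
  rw [← Finset.add_sum_erase _ _ (Finset.mem_univ 1), ← card_isConj_eq_index,
    ← Finset.sum_filter_add_sum_filter_not _ (fun g => IsConj c g)]
  have h1 : ∑ g ∈ (Finset.univ.erase (1 : G)).filter (fun g => ¬ IsConj c g), F g = 0 := by
    refine Finset.sum_eq_zero fun g hg => ?_
    by_contra h0
    simp only [Finset.mem_filter, Finset.mem_erase] at hg
    exact (h g h0).elim hg.1.1 hg.2
  have h2 : (Finset.univ.erase (1 : G)).filter (fun g => IsConj c g) =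
      Finset.univ.filter (fun g => IsConj c g) := by
    ext g
    simp only [Finset.mem_filter, Finset.mem_erase, Finset.mem_univ, and_true, true_and,
      and_iff_right_iff_imp]
    rintro hg rfl
    exact hc (isConj_one_left.1 hg)
  rw [h1, add_zero, h2, Finset.sum_congr rfl (fun g hg =>
    (hF.eq_of_isConj (Finset.mem_filter.1 hg).2).symm), Finset.sum_const, nsmul_eq_mul,
    Nat.card_eq_fintype_card, Fintype.card_subtype]

theorem exists_isGagola (hG : 2 < Nat.card G) {χ : G → ℂ} (hχ : IsIrrCharacter G χ)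
    (h2 : Nat.card {C : ConjClasses G // ∃ g ∈ C.carrier, χ g ≠ 0} = 2) :
    ∃ N : Subgroup G, IsGagola χ N := by
  classical
  have := Fintype.ofFinite G
  have h1 : χ 1 ≠ 0 := hχ.apply_one_ne_zero
  obtain ⟨⟨C, c, hcC, hc0⟩, hC1, hCu⟩ := (Nat.card_eq_two_iff'
    (⟨ConjClasses.mk 1, 1, ConjClasses.mem_carrier_mk, h1⟩ :
      {C : ConjClasses G // ∃ g ∈ C.carrier, χ g ≠ 0})).1 h2
  have hcC' : ConjClasses.mk c = C := ConjClasses.mem_carrier_iff_mk_eq.1 hcC
  have hc1 : c ≠ 1 := by
    rintro rfl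
    exact hC1 (Subtype.ext hcC'.symm)
  have hsupp : ∀ g, χ g ≠ 0 → g = 1 ∨ IsConj c g := by
    intro g hg
    by_cases hg1 : g = 1
    · exact Or.inl hg1
    right
    have := hCu ⟨ConjClasses.mk g, g, ConjClasses.mem_carrier_mk, hg⟩ (fun e => hg1 (by
      have := congrArg Subtype.val e
      exact isConj_one_left.1 (ConjClasses.mk_eq_mk_iff_isConj.1 this)))
    have h3 := congrArg Subtype.val this
    exact (ConjClasses.mk_eq_mk_iff_isConj.1 (h3.trans hcC'.symm)).symm
  set k := (Subgroup.centralizer ({c} : Set G)).index with hk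
  have hχ1 : χ ≠ fun _ => 1 := by
    rintro rfl
    have h3 := index_centralizer_add_one_of_isConj (N := (⊤ : Subgroup G)) (fun x _ y _ hx hy =>
      ((hsupp x one_ne_zero).resolve_left hx).symm.trans ((hsupp y one_ne_zero).resolve_left hy))
      (Subgroup.mem_top c) hc1
    rw [Subgroup.card_top, ← hk] at h3
    have h4 : k ∣ Nat.card G := Subgroup.index_dvd_card _
    rw [← h3, Nat.dvd_add_self_left, Nat.dvd_one] at h4
    omega
  have horth : ∀ ψ, IsIrrCharacter G ψ → ψ ≠ χ →
      ψ 1 * conj (χ 1) + k * (ψ c * conj (χ c)) = 0 := by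
    intro ψ hψ hne
    have h3 := card_mul_classInner ψ χ
    rw [hψ.classInner_of_ne hχ hne, mul_zero,
      sum_eq_of_support_two_classes (F := fun g => ψ g * conj (χ g)) hc1
        (hψ.isClassFunction.mul hχ.isClassFunction.conj)
        (fun g hg => hsupp g (fun e => hg (by simp [e])))] at h3
    exact h3.symm
  have h0 := horth _ isIrrCharacter_one hχ1.symm
  simp only [one_mul] at h0
  have h1' : conj (χ 1) ≠ 0 := by simpa using h1
  have hψc : ∀ ψ, IsIrrCharacter G ψ → ψ ≠ χ → ψ c = ψ 1 := by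
    intro ψ hψ hne
    have h3 := horth ψ hψ hne
    have h4 : conj (χ 1) * (ψ 1 - ψ c) = 0 := by linear_combination h3 - ψ c * h0
    exact (sub_eq_zero.1 ((mul_eq_zero.1 h4).resolve_left h1')).symm
  have hχc : χ c ≠ χ 1 := by
    intro e
    rw [e] at h0
    have h4 : ((1 + k : ℕ) : ℂ) * conj (χ 1) = 0 := by push_cast; linear_combination h0
    rcases mul_eq_zero.1 h4 with h5 | h5
    · exact absurd (by exact_mod_cast h5 : 1 + k = 0) (by omega)
    · exact h1' h5
  let N : Subgroup G := ⨅ ψ : {ψ : G → ℂ // IsIrrCharacter G ψ ∧ ψ ≠ χ}, charKer ψ.1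
  have hN : ∀ g, g ∈ N ↔ ∀ ψ, IsIrrCharacter G ψ → ψ ≠ χ → ψ g = ψ 1 := fun g => by
    simp only [N, Subgroup.mem_iInf, Subtype.forall, and_imp]
    exact forall₂_congr fun ψ hψ => imp_congr_right fun _ => hψ.mem_charKer_iff
  have hmem : ∀ g, g ∈ N ↔ χ g ≠ 0 := by
    intro g
    rw [hN]
    constructor
    · intro h h0
      have h3 : IsConj g 1 := isConj_of_forall_irr_eq_or_zero fun ψ hψ => by
        by_cases hne : ψ = χ
        · exact Or.inr (hne ▸ h0)
        · exact Or.inl (h ψ hψ hne)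
      rw [isConj_one_left.1 h3] at h0
      exact h1 h0
    · intro h ψ hψ hne
      rcases hsupp g h with rfl | h3
      · rfl
      · rw [← hψ.isClassFunction.eq_of_isConj h3, hψc ψ hψ hne]
  refine ⟨N, hχ, ⟨fun n hn g => ?_⟩, ?_, hmem, fun x hx y hy hx1 hy1 => ?_, ?_,
    fun ψ hψ hne n hn => hψ.mem_charKer_iff.2 ((hN n).1 hn ψ hψ hne)⟩
  · rw [hmem] at hn ⊢
    rwa [hχ.isClassFunction.apply_conj]
  · intro e
    have := (hmem c).2 hc0
    rw [e, Subgroup.mem_bot] at this
    exact hc1 this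
  · exact ((hsupp x ((hmem x).1 hx)).resolve_left hx1).symm.trans
      ((hsupp y ((hmem y).1 hy)).resolve_left hy1)
  · rw [eq_bot_iff]
    intro g hg
    rw [hχ.mem_charKer_iff] at hg
    rcases hsupp g (by rw [hg]; exact h1) with rfl | h3
    · exact Subgroup.one_mem _
    · rw [← hχ.isClassFunction.eq_of_isConj h3] at hg
      exact absurd hg hχc

theorem isGagola_of_mem_iff (hG : 2 < Nat.card G) {χ : G → ℂ} (hχ : IsIrrCharacter G χ)
    (h2 : Nat.card {C : ConjClasses G // ∃ g ∈ C.carrier, χ g ≠ 0} = 2) {N : Subgroup G}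
    (hN : ∀ g, g ∈ N ↔ χ g ≠ 0) : IsGagola χ N := by
  obtain ⟨M, hM⟩ := exists_isGagola hG hχ h2
  have : N = M := Subgroup.ext fun g => (hN g).trans (hM.mem_iff g).symm
  exact this ▸ hM

namespace IsGagola

variable {χ : G → ℂ} {N : Subgroup G}

theorem eq_of_not_le (h : IsGagola χ N) {ψ : G → ℂ} (hψ : IsIrrCharacter G ψ)
    (hN : ¬ N ≤ charKer ψ) : ψ = χ := by
  by_contra hne
  exact hN (h.le_ker ψ hψ hne)

theorem not_le_charKer (h : IsGagola χ N) : ¬ N ≤ charKer χ := by
  rw [h.ker, le_bot_iff]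
  exact h.ne_bot

/-- `N` lies in every nontrivial normal subgroup. -/
theorem le_of_ne_bot (h : IsGagola χ N) {K : Subgroup G} [K.Normal] (hK : K ≠ ⊥) : N ≤ K := by
  classical
  refine le_of_isConj_of_inf_ne_bot h.isConj fun hKN => ?_
  have := Fintype.ofFinite K
  have h1 := h.irr.sum_res_eq_zero K (by rw [h.ker, le_bot_iff]; exact hK)
  rw [Finset.sum_eq_single (1 : K)] at h1
  · exact h.irr.apply_one_ne_zero h1
  · intro k _ hk
    by_contra h0
    have h2 : (k : G) ∈ K ⊓ N := ⟨k.2, (h.mem_iff k).2 h0⟩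
    rw [hKN, Subgroup.mem_bot] at h2
    exact hk (Subtype.ext h2)
  · simp

theorem vanish (h : IsGagola χ N) {g : G} (hg : g ∉ N) (ψ : G → ℂ) (hψ : IsIrrCharacter G ψ)
    (hN : ¬ N ≤ charKer ψ) : ψ g = 0 := by
  rw [h.eq_of_not_le hψ hN]
  by_contra h0
  exact hg ((h.mem_iff g).2 h0)

theorem isConj_mul (h : IsGagola χ N) {g : G} (hg : g ∉ N) {n : G} (hn : n ∈ N) :
    IsConj g (g * n) := by
  have := h.normal
  exact isConj_mul_of_forall_vanish (h.vanish hg) hn

theorem card_centralizer_eq (h : IsGagola χ N) [N.Normal] {g : G} (hg : g ∉ N) :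
    Nat.card (Subgroup.centralizer ({g} : Set G)) =
      Nat.card (Subgroup.centralizer ({(g : G ⧸ N)} : Set (G ⧸ N))) :=
  card_centralizer_eq_quotient_iff.2 (h.vanish hg)

theorem exists_prime (h : IsGagola χ N) : ∃ p : ℕ, p.Prime ∧ ∀ x ∈ N, x ^ p = 1 :=
  exists_prime_pow_eq_one_of_isConj h.ne_bot h.isConj

theorem comm (h : IsGagola χ N) : ∀ a ∈ N, ∀ b ∈ N, a * b = b * a := by
  obtain ⟨p, hp, hpN⟩ := h.exists_prime
  have := Fact.mk hp
  have := h.normal
  exact comm_of_isConj_of_isPGroup (p := p)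
    (fun x => ⟨1, Subtype.ext (by simpa using hpN x x.2)⟩) h.isConj

theorem index_centralizer (h : IsGagola χ N) {x : G} (hx : x ∈ N) (hx1 : x ≠ 1) :
    (Subgroup.centralizer ({x} : Set G)).index + 1 = Nat.card N := by
  have := h.normal
  exact index_centralizer_add_one_of_isConj h.isConj hx hx1

variable {p : ℕ} [hp : Fact p.Prime]

theorem dvd_card (h : IsGagola χ N) (hN : IsPGroup p N) : p ∣ Nat.card N := by
  have : Nontrivial N := (Subgroup.nontrivial_iff_ne_bot N).2 h.ne_bot
  obtain ⟨n, hn0, hn⟩ := hN.nontrivial_iff_card.1 this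
  rw [hn]
  exact dvd_pow_self p hn0.ne'

theorem not_dvd_index_centralizer (h : IsGagola χ N) (hN : IsPGroup p N) {x : G} (hx : x ∈ N)
    (hx1 : x ≠ 1) : ¬ p ∣ (Subgroup.centralizer ({x} : Set G)).index := by
  intro hd
  have h1 := h.dvd_card hN
  rw [← h.index_centralizer hx hx1, Nat.dvd_add_right hd, Nat.dvd_one] at h1
  exact hp.out.one_lt.ne' h1

/-- The centralizer of a nonidentity element of `N` is a `p`-group. -/
theorem isPGroup_centralizer (h : IsGagola χ N) (hN : IsPGroup p N) {x : G} (hx : x ∈ N)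
    (hx1 : x ≠ 1) : IsPGroup p (Subgroup.centralizer ({x} : Set G)) := by
  rw [IsPGroup.iff_card]
  refine ⟨_, Nat.eq_prime_pow_of_unique_prime_dvd Nat.card_pos.ne' fun {q} hq hqd => ?_⟩
  by_contra hne
  have := Fact.mk hq
  obtain ⟨y, hy⟩ := exists_prime_orderOf_dvd_card' q hqd
  have hy' : orderOf (y : G) = q := by rw [Subgroup.orderOf_coe, hy]
  obtain ⟨k, hk⟩ := (IsPGroup.iff_orderOf.1 hN) ⟨x, hx⟩
  have hk' : orderOf x = p ^ k := by rw [← hk, ← Subgroup.orderOf_coe]
  have hcop : (orderOf (y : G)).Coprime (orderOf x) := by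
    rw [hy', hk']
    exact ((Nat.coprime_primes hq hp.out).2 hne).pow_right k
  have hyN : (y : G) ∉ N := by
    intro hyN
    obtain ⟨l, hl⟩ := (IsPGroup.iff_orderOf.1 hN) ⟨y, hyN⟩
    have hl' : orderOf (y : G) = p ^ l := by rw [← hl, ← Subgroup.orderOf_coe]
    rw [hy'] at hl'
    exact hne ((Nat.prime_dvd_prime_iff_eq hq hp.out).1 (hq.dvd_of_dvd_pow (n := l) (dvd_of_eq hl')))
  have hcomm : Commute (y : G) x :=
    (Subgroup.mem_centralizer_iff.1 y.2 x rfl).symm
  have h1 := hcomm.orderOf_mul_eq_mul_orderOf_of_coprime hcop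
  obtain ⟨c, hc⟩ := isConj_iff.1 (h.isConj_mul hyN hx)
  have h2 : orderOf ((y : G) * x) = orderOf (y : G) := by
    rw [← hc]
    exact (MulAut.conj c).orderOf_eq (y : G)
  rw [h2] at h1
  have h3 : orderOf x = 1 :=
    Nat.eq_of_mul_eq_mul_left (orderOf_pos (y : G)) (by rw [mul_one]; exact h1.symm)
  exact hx1 (orderOf_eq_one_iff.1 h3)

theorem card_centralizer (h : IsGagola χ N) (hN : IsPGroup p N) {x : G} (hx : x ∈ N)
    (hx1 : x ≠ 1) :
    Nat.card (Subgroup.centralizer ({x} : Set G)) = p ^ (Nat.card G).factorization p := by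
  have := (h.isPGroup_centralizer hN hx hx1).toSylow (h.not_dvd_index_centralizer hN hx hx1)
  exact ((h.isPGroup_centralizer hN hx hx1).toSylow
    (h.not_dvd_index_centralizer hN hx hx1)).card_eq_multiplicity

theorem isPGroup_centralizer_coe (h : IsGagola χ N) (hN : IsPGroup p N) :
    IsPGroup p (Subgroup.centralizer (N : Set G)) := by
  obtain ⟨⟨x, hx⟩, hx1⟩ := Subgroup.ne_bot_iff_exists_ne_one.1 h.ne_bot
  exact (h.isPGroup_centralizer hN hx (fun e => hx1 (Subtype.ext e))).to_le
    (Subgroup.centralizer_le (Set.singleton_subset_iff.2 hx))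

/-- Every nonprincipal irreducible character of `N` lies under `χ`. -/
theorem lies_over (h : IsGagola χ N) [Fintype N] {μ : N → ℂ} (hμ : IsIrrCharacter N μ)
    (hμ1 : μ ≠ fun _ => 1) : classInner (fun n : N => χ n) μ ≠ 0 := by
  have := Fintype.ofFinite G
  have := h.normal
  obtain ⟨ψ, hψ, hψμ⟩ := exists_irr_over hμ
  rwa [h.eq_of_not_le hψ fun hle => hμ1 ?_] at hψμ
  have h1 := mem_conjSet_of_lies_over hψ isIrrCharacter_one hμ
    ((lies_over_one_iff hψ).2 (hψ.isCharacter.le_charKer_iff.1 hle)) hψμ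
  rwa [conjSet_of_invariant (fun _ _ => rfl), Finset.mem_singleton] at h1

theorem index_inertia (h : IsGagola χ N) [N.Normal] {μ : N → ℂ} (hμ : IsIrrCharacter N μ)
    (hμ1 : μ ≠ fun _ => 1) : (inertia N μ).index + 1 = Nat.card N := by
  classical
  have := Fintype.ofFinite G
  have := Fintype.ofFinite N
  have h1 : insert (fun _ => 1) (conjSet N μ) =
      Finset.univ.image (fun φ : IrrCharacter N => (φ : N → ℂ)) := by
    ext φ
    simp only [Finset.mem_insert, Finset.mem_image, Finset.mem_univ, true_and, Subtype.exists,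
      exists_prop, exists_eq_right]
    constructor
    · rintro (rfl | hφ)
      · exact isIrrCharacter_one
      · exact hμ.of_mem_conjSet hφ
    · intro hφ
      by_cases hφ1 : φ = fun _ => 1
      · exact Or.inl hφ1
      · exact Or.inr (mem_conjSet_of_lies_over h.irr hμ hφ (h.lies_over hμ hμ1)
          (h.lies_over hφ hφ1))
  have h2 : (fun _ => 1) ∉ conjSet N μ := by
    rw [mem_conjSet_comm, conjSet_of_invariant (fun _ _ => rfl), Finset.mem_singleton]
    exact hμ1
  have h3 := sum_irr_degree_sq (G := N)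
  simp only [fun φ : IrrCharacter N => φ.2.apply_one_of_comm
    (fun a b => Subtype.ext (h.comm a a.2 b b.2)), one_pow, Finset.sum_const, nsmul_eq_mul,
    mul_one, Nat.cast_inj] at h3
  rw [← card_conjSet, ← Finset.card_insert_of_notMem h2, h1,
    Finset.card_image_of_injective _ Subtype.val_injective, h3]

theorem card_inertia (h : IsGagola χ N) [N.Normal] (hN : IsPGroup p N) {μ : N → ℂ}
    (hμ : IsIrrCharacter N μ) (hμ1 : μ ≠ fun _ => 1) :
    Nat.card (inertia N μ) = p ^ (Nat.card G).factorization p := by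
  obtain ⟨⟨x, hx⟩, hx1⟩ := Subgroup.ne_bot_iff_exists_ne_one.1 h.ne_bot
  have hx1' : x ≠ 1 := fun e => hx1 (Subtype.ext e)
  have h1 := h.index_inertia hμ hμ1
  rw [← h.index_centralizer hx hx1', add_left_inj] at h1
  have h2 := (inertia N μ).card_mul_index
  rw [← (Subgroup.centralizer ({x} : Set G)).card_mul_index, h1,
    h.card_centralizer hN hx hx1'] at h2
  exact Nat.eq_of_mul_eq_mul_right (Nat.pos_of_ne_zero Subgroup.index_ne_zero_of_finite) h2

/-- A `p`-subgroup centralizing an element outside `N` has order at most `|G|_p / |N|`. -/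
theorem card_mul_card_le (h : IsGagola χ N) (hN : IsPGroup p N) (P : Sylow p G) {x : G}
    (hx : x ∉ N) {Q : Subgroup G} (hQ : IsPGroup p Q)
    (hQx : Q ≤ Subgroup.centralizer ({x} : Set G)) :
    Nat.card Q * Nat.card N ≤ Nat.card P := by
  have := h.normal
  have h1 : Nat.card Q ∣ N.index := by
    refine (Subgroup.card_dvd_of_le hQx).trans ?_
    rw [h.card_centralizer_eq hx]
    exact Subgroup.card_subgroup_dvd_card _
  have h2 : Nat.card Q * Nat.card N ∣ Nat.card G := by
    rw [← N.index_mul_card]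
    exact Nat.mul_dvd_mul_right h1 _
  obtain ⟨a, ha⟩ := IsPGroup.iff_card.1 hQ
  obtain ⟨b, hb⟩ := IsPGroup.iff_card.1 hN
  rw [ha, hb, ← pow_add] at h2 ⊢
  rw [P.card_eq_multiplicity]
  exact Nat.pow_le_pow_right hp.out.pos
    ((hp.out.pow_dvd_iff_le_factorization Nat.card_pos.ne').1 h2)

theorem map_center_le (h : IsGagola χ N) (hN : IsPGroup p N) (P : Sylow p G) :
    (Subgroup.center (P : Subgroup G)).map (P : Subgroup G).subtype ≤ N := by
  rintro _ ⟨z, hz, rfl⟩
  by_contra hzN
  have h1 := h.card_mul_card_le hN P hzN P.isPGroup' (fun y hy => by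
    rw [Subgroup.mem_centralizer_singleton_iff]
    exact congrArg Subtype.val (Subgroup.mem_center_iff.1 hz ⟨y, hy⟩))
  have h2 : 1 < Nat.card N := (Subgroup.one_lt_card_iff_ne_bot N).2 h.ne_bot
  have h3 : 0 < Nat.card P := Nat.card_pos
  nlinarith

theorem map_center_eq_iff (h : IsGagola χ N) (hN : IsPGroup p N) (P : Sylow p G) :
    (Subgroup.center (P : Subgroup G)).map (P : Subgroup G).subtype = N ↔
      (P : Subgroup G).Normal := by
  have := h.normal
  constructor
  · intro e
    have h1 : (P : Subgroup G) ≤ Subgroup.centralizer (N : Set G) := by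
      intro y hy n hn
      rw [← e] at hn
      obtain ⟨z, hz, rfl⟩ := hn
      exact (congrArg Subtype.val (Subgroup.mem_center_iff.1 hz ⟨y, hy⟩)).symm
    rw [← P.is_maximal' (h.isPGroup_centralizer_coe hN) h1]
    infer_instance
  · intro hP
    refine le_antisymm (h.map_center_le hN P) (h.le_of_ne_bot ?_)
    have h1 : N ≤ P := hN.le_sylow_of_normal P
    have : Nontrivial (P : Subgroup G) :=
      (Subgroup.nontrivial_iff_ne_bot _).2 fun e => h.ne_bot (le_bot_iff.1 (e ▸ h1))
    have := P.isPGroup'.center_nontrivial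
    rw [Ne, Subgroup.map_eq_bot_iff_of_injective _ (Subgroup.subtype_injective _)]
    exact (Subgroup.nontrivial_iff_ne_bot _).1 this

theorem exists_upperCentralSeries_eq (h : IsGagola χ N) (hN : IsPGroup p N) (P : Sylow p G) :
    ∃ i : ℕ, Subgroup.upperCentralSeries (P : Subgroup G) i = N.subgroupOf P := by
  classical
  have := h.normal
  have hNP : N ≤ P := hN.le_sylow_of_normal P
  obtain ⟨c, hc⟩ := P.isPGroup'.isNilpotent.nilpotent'
  by_cases htop : N.subgroupOf P = ⊤
  · exact ⟨c, hc.trans htop.symm⟩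
  have hex : ∃ j, ¬ Subgroup.upperCentralSeries (P : Subgroup G) (j + 1) ≤ N.subgroupOf P := by
    refine ⟨c, fun hle => htop (top_le_iff.1 ?_)⟩
    rw [← hc]
    exact (Subgroup.upperCentralSeries_mono _ (Nat.le_succ c)).trans hle
  have hi := Nat.find_spec hex
  have hle : Subgroup.upperCentralSeries (P : Subgroup G) (Nat.find hex) ≤ N.subgroupOf P := by
    rcases Nat.eq_zero_or_pos (Nat.find hex) with h0 | h0
    · rw [h0]; exact bot_le
    · have := Nat.find_min hex (Nat.sub_one_lt h0.ne')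
      rw [not_not, Nat.sub_add_cancel h0] at this
      exact this
  refine ⟨Nat.find hex, Subgroup.eq_of_le_of_card_ge hle ?_⟩
  set Z := Subgroup.upperCentralSeries (P : Subgroup G) (Nat.find hex)
  obtain ⟨x, hxZ, hxN⟩ := SetLike.not_le_iff_exists.1 hi
  have h1 := h.card_mul_card_le hN P (x := x) hxN
    (Q := (Subgroup.centralizer ({x} : Set (P : Subgroup G))).map (P : Subgroup G).subtype)
    ((P.isPGroup'.to_subgroup _).map _) (by
      rintro _ ⟨y, hy, rfl⟩
      rw [SetLike.mem_coe, Subgroup.mem_centralizer_singleton_iff] at hy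
      rw [Subgroup.mem_centralizer_singleton_iff]
      exact congrArg Subtype.val hy)
  rw [Subgroup.card_map_of_injective (Subgroup.subtype_injective _)] at h1
  have h2 : (Subgroup.centralizer ({x} : Set (P : Subgroup G))).index ≤ Nat.card Z := by
    rw [← card_isConj_eq_index]
    refine Nat.card_le_card_of_injective (fun y => ⟨x * y.1⁻¹, ?_⟩) ?_
    · obtain ⟨c, hc⟩ := isConj_iff.1 y.2
      have := Subgroup.mem_upperCentralSeries_succ_iff.1 hxZ c
      rw [← hc]
      convert this using 1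
      rw [commutatorElement_def]
      group
    · intro a b hab
      have := congrArg Subtype.val hab
      simp only [mul_right_inj, inv_inj] at this
      exact Subtype.ext this
  rw [Nat.card_congr (Subgroup.subgroupOfEquivOfLe hNP).toEquiv]
  have h3 := (Subgroup.centralizer ({x} : Set (P : Subgroup G))).card_mul_index
  have h4 : 0 < Nat.card (Subgroup.centralizer ({x} : Set (P : Subgroup G))) := Nat.card_pos
  refine Nat.le_of_mul_le_mul_left (h1.trans ?_) h4
  rw [← h3]
  exact Nat.mul_le_mul_left _ h2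

end IsGagola

end Cfsg.Lib.Char
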