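import Cfsg.Agent.Char.CtDick
import Cfsg.Agent.Char.Kernel
import Cfsg.Agent.Perm.Huppert
import Cfsg.Agent.FT.Lift
import Cfsg.Prelude.Def_Blocks

/-! Irreducible elements of linear groups of order prime to the characteristic. -/

set_option autoImplicit false

namespace Cfsg.Lib.Char.Ct

open Subgroup Cfsg.Lib.Perm

theorem mem_zpowers_of_comm {G : Type*} [Group G] [Finite G] {r : ℕ} (hr : r.Prime)
    (h2 : ¬ r ^ 2 ∣ Nat.card G) {x y : G} (hx : orderOf x = r) (hy : y ^ r = 1)
    (h : Commute x y) : y ∈ zpowers x := by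
  have := Fact.mk hr
  have hx1 : x ^ r = 1 := hx ▸ pow_orderOf_eq_one x
  let K : Subgroup G := closure {x, y}
  have hc : IsMulCommutative K := isMulCommutative_closure (by
    rintro a (rfl | rfl) b (rfl | rfl)
    exacts [rfl, h.eq, h.symm.eq, rfl])
  have hK : IsPGroup r K := fun g => ⟨1, Subtype.ext (by
    obtain ⟨g, hg⟩ := g
    rw [pow_one]
    change g ^ r = 1
    induction hg using closure_induction with
    | mem a ha => rcases ha with rfl | rfl; exacts [hx1, hy]
    | one => exact one_pow r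
    | mul a b ha hb h1 h2 =>
      rw [Commute.mul_pow (setLike_mul_comm (s := K) ha hb), h1, h2, one_mul]
    | inv a _ h1 => rw [inv_pow, h1, inv_one])⟩
  obtain ⟨k, hk⟩ := IsPGroup.iff_card.1 hK
  have h1 : zpowers x ≤ K := zpowers_le.2 (subset_closure (by simp))
  have h3 : k ≤ 1 := by
    by_contra h3
    exact h2 ((pow_dvd_pow r (by omega)).trans (hk ▸ K.card_subgroup_dvd_card))
  have h4 : zpowers x = K := eq_of_le_of_card_ge h1 (by
    rw [Nat.card_zpowers, hx, hk]
    exact (Nat.pow_le_pow_right hr.pos h3).trans (pow_one r).le)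
  exact h4 ▸ subset_closure (by simp)

theorem mem_of_index_le_two {G : Type*} [Group G] [Finite G] {B : Subgroup G} (hB : B.index ≤ 2)
    {x : G} (hx : Odd (orderOf x)) : x ∈ B := by
  have h0 : B.index ≠ 0 := index_ne_zero_of_finite
  rcases (by omega : B.index = 1 ∨ B.index = 2) with h | h
  · rw [index_eq_one.1 h]; trivial
  · obtain ⟨k, hk⟩ := hx
    have h1 : x = (x * x) ^ (k + 1) := by
      rw [← pow_two, ← pow_mul, show 2 * (k + 1) = orderOf x + 1 by omega, pow_succ,
        pow_orderOf_eq_one, one_mul]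
    rw [h1]
    exact B.pow_mem (mul_self_mem_of_index_two h x) _

variable {p : ℕ} [hp : Fact p.Prime] {V G : Type*} [AddCommGroup V] [Module (ZMod p) V] [Finite V]
  [Group G] [Finite G] {ρ : G →* (V ≃ₗ[ZMod p] V)}

/-- The element `x` acts irreducibly. -/
def Irr (ρ : G →* (V ≃ₗ[ZMod p] V)) (x : G) : Prop :=
  ∀ W : Submodule (ZMod p) V, (∀ v ∈ W, ρ x v ∈ W) → W = ⊥ ∨ W = ⊤

/-- The complex lift. -/
theorem exists_rep (hρ : Function.Injective ρ) (hG : ¬ p ∣ Nat.card G) :
    ∃ τ : Representation ℂ G (Fin (Module.finrank (ZMod p) V) → ℂ), Function.Injective τ ∧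
      ∀ g : G, (∀ v, ρ g v = v → v = 0) → ∀ w, τ g w = w → w = 0 := by
  let σ : Representation (ZMod p) G V :=
    LinearEquiv.automorphismGroup.toLinearMapMonoidHom.comp ρ
  obtain ⟨n, τ, h⟩ := FT.exists_complex_lift hG σ
  have h1 := h ⊥
  rw [FT.fixDim_bot, FT.fixDim_bot, Module.finrank_fin_fun] at h1
  subst h1
  refine ⟨τ, (injective_iff_map_eq_one _).2 fun g hg => ?_, fun g hg w hw => ?_⟩
  · have h2 : zpowers g ≤ τ.ker := zpowers_le.2 hg
    rw [← FT.fixDim_eq_iff, h, Module.finrank_fin_fun, FT.fixDim_eq_iff] at h2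
    exact eq_one_of_rho hρ fun v => congrArg (· v) (h2 (mem_zpowers g))
  · have h2 : FT.fixSp σ (zpowers g) = ⊥ :=
      eq_bot_iff.2 fun v hv => hg v (FT.mem_fixSp.1 hv g (mem_zpowers g))
    rw [← FT.fixDim_eq_zero_iff, ← h, FT.fixDim_eq_zero_iff] at h2
    refine (eq_bot_iff.1 h2) (FT.mem_fixSp.2 ?_)
    rintro _ ⟨k, rfl⟩
    have h3 : ∀ n : ℕ, τ (g ^ n) w = w := fun n => by
      induction n with
      | zero => simp
      | succ n ih => rw [pow_succ, map_mul, Module.End.mul_apply, hw, ih]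
    simp only
    rw [← zpow_mod_orderOf, ← Int.toNat_of_nonneg (Int.emod_nonneg k
      (by exact_mod_cast (orderOf_pos g).ne')), zpow_natCast]
    exact h3 _

theorem exists_char (hρ : Function.Injective ρ) (hG : ¬ p ∣ Nat.card G) :
    ∃ χ : G → ℂ, IsCharacter G χ ∧ (∀ g, χ g = χ 1 → g = 1) ∧
      charDegree χ = Module.finrank (ZMod p) V := by
  obtain ⟨τ, h1, -⟩ := exists_rep hρ hG
  refine ⟨τ.character, isCharacter_rep τ, fun g hg => h1 ?_, ?_⟩
  · rw [map_one, ← mem_charKer_rep, (isCharacter_rep τ).mem_charKer_iff, hg]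
  · simp [charDegree, τ.char_one]

omit [Finite G] in
/-- An invariant subspace of an element of prime order. -/
theorem card_modEq {r : ℕ} (hr : r.Prime) {x : G} (hx : x ^ r = 1) {W : Submodule (ZMod p) V}
    (hW : ∀ v ∈ W, ρ x v ∈ W) :
    Nat.card W ≡ Nat.card (W ⊓ fixSp ρ x : Submodule (ZMod p) V) [MOD r] := by
  classical
  have := Fact.mk hr
  let f : Function.End W := fun v => ⟨ρ x v, hW v v.2⟩
  have h1 : ∀ (n : ℕ) (v : W), ((f ^ n) v : V) = ρ (x ^ n) v := fun n => by
    induction n with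
    | zero => intro v; simp; rfl
    | succ n ih => intro v; rw [pow_succ', pow_succ', rho_mul, ← ih]; rfl
  have h2 : f ^ r ^ 1 = 1 := by
    funext v
    refine Subtype.ext ?_
    rw [pow_one, h1, hx, rho_one]; rfl
  have := Fintype.ofFinite W
  have h3 := Equiv.Perm.card_fixedPoints_modEq (f := f) (p := r) (n := 1) h2
  rw [← Nat.card_eq_fintype_card, ← Nat.card_eq_fintype_card] at h3
  rw [← Nat.card_congr (show Function.fixedPoints f ≃ (W ⊓ fixSp ρ x : Submodule (ZMod p) V) from
    ⟨fun v => ⟨v.1.1, v.1.2, congrArg Subtype.val v.2⟩,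
      fun v => ⟨⟨v.1, v.2.1⟩, Subtype.ext v.2.2⟩, fun _ => rfl, fun _ => rfl⟩)]
  exact h3

omit [Finite G] in
theorem irr_of_ppd (hρ : Function.Injective ρ) {r : ℕ} (hr : r.Prime) (hrp : r ≠ p) {x : G}
    (hx : orderOf x = r)
    (h : ∀ i, 1 ≤ i → i < Module.finrank (ZMod p) V → ¬ r ∣ p ^ i - 1) : Irr ρ x := by
  have hx1 : x ^ r = 1 := hx ▸ pow_orderOf_eq_one x
  have hc : ∀ W : Submodule (ZMod p) V, Nat.card W = p ^ Module.finrank (ZMod p) W := fun W => by
    rw [Module.natCard_eq_pow_finrank (K := ZMod p), Nat.card_zmod]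
  have h1 : fixSp ρ x = ⊥ := by
    have h2 := card_modEq (ρ := ρ) hr hx1 (W := ⊤) fun _ _ => trivial
    rw [top_inf_eq, hc, hc, finrank_top] at h2
    have h3 : Module.finrank (ZMod p) (fixSp ρ x) < Module.finrank (ZMod p) V :=
      Submodule.finrank_lt fun e => hr.one_lt.ne' (hx ▸ orderOf_eq_one_iff.2
        (eq_one_of_rho hρ fun v => mem_fixSp.1 (e ▸ Submodule.mem_top)))
    rw [← Submodule.finrank_eq_zero]
    by_contra h4
    obtain ⟨k, hk⟩ := Nat.exists_eq_add_of_lt h3
    refine h (k + 1) (by omega) (by omega) ?_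
    rw [hk, add_assoc, pow_add] at h2
    have h5 : Nat.Coprime r (p ^ Module.finrank (ZMod p) (fixSp ρ x)) :=
      ((Nat.coprime_primes hr hp.out).2 hrp).pow_right _
    exact (Nat.modEq_iff_dvd' (Nat.one_le_pow _ _ hp.out.pos)).1
      (Nat.ModEq.cancel_left_of_coprime h5 (by rwa [mul_one])).symm
  intro W hW
  have h2 := card_modEq hr hx1 hW
  rw [h1, inf_bot_eq, hc, hc, finrank_bot, pow_zero] at h2
  by_contra h3
  push Not at h3
  exact h _ (Nat.one_le_iff_ne_zero.2 fun e => h3.1 (Submodule.finrank_eq_zero.1 e))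
    (Submodule.finrank_lt h3.2) ((Nat.modEq_iff_dvd' (Nat.one_le_pow _ _ hp.out.pos)).1 h2.symm)

variable [Nontrivial V]

omit [Finite G] in
theorem semilin_of_normal {A : Subgroup G} [A.Normal] [IsMulCommutative A] {x : G} (hxA : x ∈ A)
    (hx : Irr ρ x) : IsSemilin fun g v => ρ g v := by
  obtain ⟨F, _, _, e, -, -, h⟩ := exists_semilinear
    (LinearEquiv.automorphismGroup.toLinearMapMonoidHom.comp ρ) A fun W hW => hx W (hW x hxA)
  exact ⟨F, inferInstance, inferInstance, e, h⟩

omit [Finite G] in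
/-- The centraliser of an irreducible element consists of scalars of a field. -/
theorem field_of_irr {x : G} (hx : Irr ρ x) :
    ∃ (F : Type) (_ : Field F) (_ : Fintype F) (e : V ≃+ F),
      ∀ g, Commute g x → ∃ c : F, ∀ v, e (ρ g v) = c * e v := by
  let T := centralizer ({x} : Set G)
  let x' : T := ⟨x, mem_centralizer_singleton_iff.2 rfl⟩
  have hx' : zpowers x' ≤ center T := zpowers_le.2 (mem_center_iff.2 fun g =>
    Subtype.ext (mem_centralizer_singleton_iff.1 g.2))
  have : (zpowers x').Normal := ⟨fun a ha g => by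
    rwa [mem_center_iff.1 (hx' ha) g, mul_inv_cancel_right]⟩
  obtain ⟨F, _, _, e, -, h1, h2⟩ := exists_semilinear
    ((LinearEquiv.automorphismGroup.toLinearMapMonoidHom.comp ρ).comp T.subtype) (zpowers x')
    fun W hW => hx W (hW x' (mem_zpowers x'))
  refine ⟨F, inferInstance, inferInstance, e, fun g hg => ?_⟩
  let g' : T := ⟨g, mem_centralizer_singleton_iff.2 hg.eq⟩
  obtain ⟨a, σ, h⟩ := h2 g'
  change ∀ v, e (ρ g v) = _ at h
  have ha : a ≠ 0 := fun e0 => by
    have := h (e.symm 1)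
    rw [e0, zero_mul, e.map_eq_zero_iff, (ρ g).map_eq_zero_iff, e.symm.map_eq_zero_iff] at this
    exact one_ne_zero this
  have h3 : (σ : F →+* F) = RingHom.id F := by
    refine RingHom.eq_of_eqOn_set_dense h1 ?_
    rintro c ⟨b, hb, hc⟩
    change ∀ v, e (ρ b v) = _ at hc
    have h4 : g * b = b * g := congrArg Subtype.val (mem_center_iff.1 (hx' hb) g')
    have h5 := congrArg (fun u => e (ρ u (e.symm 1))) h4
    simp only [rho_mul, h, hc, e.apply_symm_apply, mul_one, map_one] at h5
    exact mul_left_cancel₀ ha (h5.trans (mul_comm _ _))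
  exact ⟨a, fun v => by rw [h, show σ (e v) = e v from DFunLike.congr_fun h3 _]⟩

omit [Finite G] in
theorem Irr.comm (hρ : Function.Injective ρ) {x : G} (hx : Irr ρ x) {g h : G} (hg : Commute g x)
    (hh : Commute h x) : Commute g h := by
  obtain ⟨F, _, _, e, he⟩ := field_of_irr hx
  obtain ⟨c, hc⟩ := he g hg
  obtain ⟨d, hd⟩ := he h hh
  exact eq_of_rho hρ fun v => e.injective (by simp only [rho_mul, hc, hd]; ring)

omit [Finite V] [Nontrivial V] in
theorem charP_of_equiv {F : Type*} [Field F] (e : V ≃+ F) : CharP F p := by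
  rw [CharP.charP_iff_prime_eq_zero hp.out, ← nsmul_one, ← e.apply_symm_apply 1, ← map_nsmul,
    ← Nat.cast_smul_eq_nsmul (ZMod p), ZMod.natCast_self, zero_smul, map_zero]

/-- A normal cyclic subgroup generating a subfield of index at most two. -/
theorem half (hρ : Function.Injective ρ) (hG : ¬ p ∣ Nat.card G) {r : ℕ} (hr : r.Prime)
    (h2 : ¬ r ^ 2 ∣ Nat.card G) (h24 : ¬ r ∣ 24) (h60 : r ∣ 60 → p ∣ 60) {x : G}
    (hx : orderOf x = r) (hi : Irr ρ x) {b : G} (hb : Commute b x) [(zpowers b).Normal]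
    (hV : Nat.card V < (orderOf b + 1) ^ 3) : (zpowers x).Normal := by
  let C := centralizer (zpowers b : Set G)
  have hC : ∀ g, g ∈ C ↔ Commute b g := fun g =>
    ⟨fun h => h b (mem_zpowers b), fun h _ ⟨k, hk⟩ => hk ▸ (h.zpow_left k).eq⟩
  have hxC : x ∈ C := (hC x).2 hb
  suffices h : ∃ B : Subgroup C, B.index ≤ 2 ∧ IsMulCommutative B by
    obtain ⟨B, h1, h3⟩ := h
    have ho : Odd r := hr.odd_of_ne_two fun e => h24 (by rw [e]; decide)
    have h4 : ∀ g, g * x * g⁻¹ ∈ zpowers x := fun g => by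
      have h5 : g * x * g⁻¹ ∈ C := Normal.conj_mem inferInstance x hxC g
      have h6 : orderOf (g * x * g⁻¹) = r := by
        rw [← hx]; exact (MulAut.conj g).orderOf_eq x
      refine mem_zpowers_of_comm hr h2 hx (h6 ▸ pow_orderOf_eq_one _) ?_
      exact congrArg Subtype.val (setLike_mul_comm (s := B)
        (mem_of_index_le_two h1 (x := ⟨x, hxC⟩) (by rwa [← Subgroup.orderOf_coe, hx]))
        (mem_of_index_le_two h1 (x := ⟨_, h5⟩) (by rwa [← Subgroup.orderOf_coe, h6])))
    refine ⟨?_⟩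
    rintro _ ⟨k, rfl⟩ g
    simp only
    rw [← conj_zpow]
    exact zpow_mem (h4 g) k
  obtain ⟨F, _, _, e, he⟩ := field_of_irr hi
  have := charP_of_equiv (p := p) e
  obtain ⟨c, hc⟩ := he b hb
  let L := Subfield.closure ({c} : Set F)
  have hcL : c ∈ L := Subfield.subset_closure rfl
  have hL : ∀ g ∈ C, ∀ l ∈ L, ∀ y, e (ρ g (e.symm (l * y))) = l * e (ρ g (e.symm y)) := by
    intro g hg l hl
    induction hl using Subfield.closure_induction with
    | mem l hl =>
      intro y
      obtain rfl : l = c := hl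
      rw [← hc, ← rho_mul, ((hC g).1 hg).eq, rho_mul]
      congr 2
      rw [e.symm_apply_eq, hc, e.apply_symm_apply]
    | one => simp
    | add a b _ _ h1 h3 => intro y; simp only [add_mul, map_add, h1, h3]
    | neg a _ h1 => intro y; simp only [neg_mul, map_neg, h1]
    | inv a _ h1 =>
      intro y
      by_cases h0 : a = 0
      · simp [h0]
      · rw [eq_inv_mul_iff_mul_eq₀ h0, ← h1, mul_inv_cancel_left₀ h0]
    | mul a b _ _ h1 h3 => intro y; rw [mul_assoc, h1, h3, mul_assoc]
  let ρ' : C →* (F ≃ₗ[L] F) := MonoidHom.mk' (fun g =>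
    { (e.symm.trans (ρ g).toAddEquiv).trans e with
      map_smul' := fun l y => hL g g.2 l l.2 y }) fun g h => by
    ext y
    change e (ρ (g * h) (e.symm y)) = e (ρ g (e.symm (e (ρ h (e.symm y)))))
    rw [e.symm_apply_apply, rho_mul]
  have hρ' : ∀ (g : C) y, ρ' g y = e (ρ g (e.symm y)) := fun _ _ => rfl
  have hi' : Function.Injective ρ' := fun g h e0 => Subtype.ext (eq_of_rho hρ fun v => by
    have := congrArg (fun u : F ≃ₗ[L] F => u (e v)) e0
    simpa [hρ'] using this)
  have hd : Module.finrank L F < 3 := by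
    have h1 : orderOf b + 1 ≤ Nat.card L := by
      have h3 : ∀ (n : ℕ) v, e (ρ (b ^ n) v) = c ^ n * e v := fun n => by
        induction n with
        | zero => simp
        | succ n ih => intro v; rw [pow_succ, rho_mul, ih, hc, pow_succ, mul_assoc]
      have h0 : (⟨c, hcL⟩ : L) ≠ 0 := fun e0 => by
        have := hc (e.symm 1)
        rw [show c = 0 from congrArg Subtype.val e0, zero_mul, e.map_eq_zero_iff,
          (ρ b).map_eq_zero_iff, e.symm.map_eq_zero_iff] at this
        exact one_ne_zero this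
      have := Fintype.ofFinite L
      have h4 : c ^ (Nat.card L - 1) = 1 := by
        rw [Nat.card_eq_fintype_card]
        exact congrArg Subtype.val (FiniteField.pow_card_sub_one_eq_one _ h0)
      have h5 : 1 < Nat.card L := Finite.one_lt_card
      have h6 := orderOf_le_of_pow_eq_one (x := b) (n := Nat.card L - 1) (by omega)
        (eq_one_of_rho hρ fun v => e.injective (by rw [h3, h4, one_mul]))
      omega
    rw [Nat.card_congr e.toEquiv, Module.natCard_eq_pow_finrank (K := L)] at hV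
    exact (Nat.pow_lt_pow_iff_right (by have := orderOf_pos b; omega)).1
      ((Nat.pow_le_pow_left h1 _).trans_lt hV)
  have hd0 : 0 < Module.finrank L F := Module.finrank_pos
  rcases (by omega : Module.finrank L F = 1 ∨ Module.finrank L F = 2) with hd | hd
  · refine ⟨⊤, by simp, ⟨⟨fun g h => Subtype.ext (hi' ?_)⟩⟩⟩
    have h1 := (finrank_eq_one_iff_of_nonzero' (K := L) (1 : F) one_ne_zero).1 hd
    have h3 : ∀ (g : C) y, ρ' g y = y * ρ' g 1 := fun g y => by
      obtain ⟨l, rfl⟩ := h1 y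
      rw [map_smul, smul_mul_assoc, one_mul]
    ext y
    rw [coe_mul, coe_mul, map_mul, map_mul, LinearEquiv.mul_apply, LinearEquiv.mul_apply, h3 g, h3 h, h3 h (ρ' g y),
      h3 g y, mul_right_comm]
  have hline : ∀ w : F, w ≠ 0 → ∀ l : L, ρ' ⟨x, hxC⟩ w ≠ l • w := fun w hw l hl => by
    let U := AddSubgroup.toZModSubmodule p ((L ∙ w).toAddSubgroup.comap e.toAddMonoidHom)
    have hU : ∀ v, v ∈ U ↔ e v ∈ L ∙ w := fun _ => Iff.rfl
    rcases hi U fun v hv => by
      obtain ⟨m, hm⟩ := Submodule.mem_span_singleton.1 ((hU v).1 hv)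
      have := hρ' ⟨x, hxC⟩ (e v)
      rw [e.symm_apply_apply] at this
      rw [hU, ← this, ← hm, map_smul, hl, smul_smul]
      exact Submodule.smul_mem _ _ (Submodule.mem_span_singleton_self w) with h | h
    · have : e.symm w ∈ U := (hU _).2 (by simp)
      rw [h, Submodule.mem_bot, e.symm.map_eq_zero_iff] at this
      exact hw this
    · have h1 : (L ∙ w) = ⊤ := eq_top_iff.2 fun y _ => by
        have : e.symm y ∈ U := h ▸ Submodule.mem_top
        simpa [hU] using this
      have h3 := finrank_span_singleton (K := L) hw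
      rw [h1, finrank_top] at h3
      omega
  have hpC : ¬ p ∣ Nat.card C := fun h => hG (h.trans C.card_subgroup_dvd_card)
  rcases dickson p hd hi' hpC with ⟨w, hw, h⟩ | h | h
  · obtain ⟨l, hl⟩ := h ⟨x, hxC⟩
    exact absurd hl (hline w hw l)
  · exact h
  · exfalso
    have := Fact.mk hr
    have h1 : orderOf ((⟨x, hxC⟩ : C) : C ⧸ scal ρ') = r := by
      refine orderOf_eq_prime ?_ fun e0 => ?_
      · rw [← QuotientGroup.mk_pow, show (⟨x, hxC⟩ : C) ^ r = 1 from
          Subtype.ext (hx ▸ pow_orderOf_eq_one x), QuotientGroup.mk_one]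
      · obtain ⟨l, hl⟩ := (QuotientGroup.eq_one_iff _).1 e0
        exact hline 1 one_ne_zero l (hl 1)
    have h3 : r ∣ Nat.card (C ⧸ scal ρ') := h1 ▸ orderOf_dvd_natCard _
    have h4 := card_quotient_dvd_card (scal ρ')
    rcases h.card with h5 | h5 | h5 <;> rw [h5] at h3 h4
    · exact h24 (h3.trans (by decide))
    · exact h24 h3
    · exact hpC ((h60 h3).trans h4)

end Cfsg.Lib.Char.Ct
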