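import Cfsg.Agent.Char.CtBase
import Cfsg.Agent.Char.SqFourA
import Cfsg.Agent.S4485
import Cfsg.Agent.S4503
import Cfsg.Agent.S4504
import Cfsg.Agent.S0899

/-! Transitive linear groups of order prime to the characteristic: large primitive primes. -/

set_option autoImplicit false

namespace Cfsg.Lib.Char.Ct

open Subgroup Cfsg.Lib.Perm Cfsg.Lib.Solv
open scoped MatrixGroups

theorem commute_of_coprime {G : Type*} [Group G] [Finite G] {B : Subgroup G} [B.Normal]
    [IsCyclic B] {x : G} (h : (orderOf x).Coprime (Nat.totient (Nat.card B))) {b : G}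
    (hb : b ∈ B) : Commute b x := by
  have h1 : orderOf (MulAut.conjNormal x : MulAut B) = 1 :=
    Nat.eq_one_of_dvd_coprimes h (orderOf_map_dvd _ x)
      (IsCyclic.card_mulAut B ▸ orderOf_dvd_natCard _)
  have h2 := congrArg (fun f : MulAut B => (f ⟨b, hb⟩ : G)) (orderOf_eq_one_iff.1 h1)
  simp only [MulAut.conjNormal_apply, MulAut.one_apply] at h2
  exact (mul_inv_eq_iff_eq_mul.1 h2).symm

theorem card_psl {G : Type*} [Group G] [Finite G] {n : ℕ} [Fact (2 * n + 1).Prime]
    (e : (G ⧸ center G) ≃* PSL(2, ZMod (2 * n + 1))) :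
    Nat.card G = Nat.card (center G) * (n * (2 * n + 1) * (2 * n + 2)) := by
  have h := Cfsg.Lib.Class.gcd_mul_card_PSL2 (F := ZMod (2 * n + 1))
  rw [Nat.card_zmod, Nat.add_sub_cancel, Nat.gcd_mul_right_right, ← Nat.card_congr e.toEquiv] at h
  rw [card_eq_card_quotient_mul_card_subgroup (center G), mul_comm]
  congr 1
  refine Nat.eq_of_mul_eq_mul_left two_pos (h.trans ?_)
  ring

theorem six_dvd (n : ℕ) : 6 ∣ n * (2 * n + 1) * (2 * n + 2) := by
  rw [← ZMod.natCast_eq_zero_iff]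
  push_cast
  generalize (n : ZMod 6) = m
  revert m
  decide

theorem arith_psl {p n m : ℕ} (hp : p.Prime) (h3 : 3 ≤ n) (hr : (2 * n + 1).Prime)
    (hM : ¬ p ∣ n * (2 * n + 1) * (2 * n + 2)) (h1 : (m + 1) ^ 3 ≤ p ^ n) (hm : 0 < m)
    (h2 : p ^ n - 1 ∣ m * (n * (2 * n + 1) * (2 * n + 2))) (h4 : 2 * n + 1 ∣ p ^ n - 1)
    (h5 : ∀ i, 1 ≤ i → i < n → ¬ 2 * n + 1 ∣ p ^ i - 1) : False := by
  have h6 : 5 ≤ p := hp.five_le_of_ne_two_of_ne_three
    (fun e => hM (e ▸ (by decide : 2 ∣ 6).trans (six_dvd n)))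
    (fun e => hM (e ▸ (by decide : 3 ∣ 6).trans (six_dvd n)))
  set M := n * (2 * n + 1) * (2 * n + 2) with hMd
  have h7 : p ^ n - 1 ≤ m * M := Nat.le_of_dvd (by positivity) h2
  have h8 : m ^ 3 ≤ p ^ n - 1 := by
    have : m ^ 3 + 1 ≤ (m + 1) ^ 3 := by nlinarith [sq_nonneg m]
    omega
  have h9 : (p ^ n - 1) ^ 2 ≤ M ^ 3 := by
    have h0 : 0 < p ^ n - 1 := (by positivity : 0 < m ^ 3).trans_le h8
    refine Nat.le_of_mul_le_mul_left ?_ h0
    calc (p ^ n - 1) * (p ^ n - 1) ^ 2 = (p ^ n - 1) ^ 3 := by ring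
      _ ≤ (m * M) ^ 3 := Nat.pow_le_pow_left h7 3
      _ = m ^ 3 * M ^ 3 := by ring
      _ ≤ _ := Nat.mul_le_mul_right _ h8
  have h10 : ∀ t, t ≤ p → (t ^ n - 1) ^ 2 ≤ M ^ 3 := fun t ht =>
    (Nat.pow_le_pow_left (Nat.sub_le_sub_right (Nat.pow_le_pow_left ht n) 1) 2).trans h9
  by_cases hn : 10 ≤ n
  · have h11 : ∀ k, 10 ≤ k → k * (2 * k + 1) * (2 * k + 2) ≤ 5 * 2 ^ k := fun k hk => by
      induction k, hk using Nat.le_induction with
      | base => norm_num
      | succ k hk ih => rw [pow_succ]; nlinarith [Nat.mul_le_mul hk hk]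
    have h12 : 4 ^ n ≤ 5 ^ n - 1 := by
      have := Nat.pow_lt_pow_left (by norm_num : 4 < 5) (by omega : n ≠ 0)
      omega
    have h13 := (Nat.pow_le_pow_left h12 2).trans ((h10 5 h6).trans
      (Nat.pow_le_pow_left (h11 n hn) 3))
    have h14 : 2 ^ 10 ≤ 2 ^ n := Nat.pow_le_pow_right two_pos hn
    rw [show 4 = 2 * 2 from rfl, mul_pow 2 2 n] at h13
    generalize 2 ^ n = y at h13 h14
    nlinarith [Nat.pow_le_pow_left h14 3, Nat.mul_le_mul_right (y ^ 3) h14]
  · push Not at hn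
    have h11 := h10 5 h6
    interval_cases n
    · have h12 : p < 13 := by
        by_contra h
        exact absurd (h10 13 (by omega)) (by norm_num [hMd])
      interval_cases p <;> first | (norm_num at hp; done) | (norm_num at h4; done) | skip
      have : m < 11 := by
        by_contra h
        have := Nat.pow_le_pow_left (show 12 ≤ m + 1 by omega) 3
        omega
      interval_cases m <;> norm_num [hMd] at h2
    · norm_num at hr
    · have h12 : p < 8 := by
        by_contra h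
        exact absurd (h10 8 (by omega)) (by norm_num [hMd])
      interval_cases p <;> first | (norm_num at hp; done) | (norm_num at h4; done) | skip
      exact hM (by norm_num [hMd])
    · have h12 : p < 6 := by
        by_contra h
        exact absurd (h10 6 (by omega)) (by norm_num [hMd])
      obtain rfl : p = 5 := by omega
      exact h5 4 (by norm_num) (by norm_num) (by norm_num)
    · norm_num at hr
    · norm_num [hMd] at h11
    · norm_num [hMd] at h11

variable {p : ℕ} [hp : Fact p.Prime] {V G : Type*} [AddCommGroup V] [Module (ZMod p) V] [Finite V]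
  [Nontrivial V] [Group G] [Finite G] {ρ : G →* (V ≃ₗ[ZMod p] V)}

omit [Nontrivial V] in
theorem card_eq : Nat.card V = p ^ Module.finrank (ZMod p) V := by
  rw [Module.natCard_eq_pow_finrank (K := ZMod p), Nat.card_zmod]

omit [Finite G] in
theorem card_sub_dvd (h : VTrans ρ) : Nat.card V - 1 ∣ Nat.card G := by
  obtain ⟨v, hv⟩ := exists_ne (0 : V)
  exact h.index_eq hv ▸ index_dvd_card _

theorem card_normal_dvd (h : VTrans ρ) (hρ : Function.Injective ρ) (A : Subgroup G) [A.Normal]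
    [IsMulCommutative A] : Nat.card A ∣ Nat.card V - 1 := by
  obtain ⟨v, hv⟩ := exists_ne (0 : V)
  have h1 := (h.halfTr A).index_dvd (U := ⊤) (fun _ _ _ => trivial) hv
  have h2 : vStab (ρ.comp A.subtype) v = ⊥ :=
    eq_bot_iff.2 fun a ha => Subtype.ext (h.semiregular hρ A a a.2 v hv ha)
  rwa [h2, index_bot, Nat.card_congr Submodule.topEquiv.toEquiv] at h1

omit [Finite G] in
theorem Irr.cyc (hρ : Function.Injective ρ) {x : G} (hx : Irr ρ x) {H : Subgroup G}
    (hH : ∀ g ∈ H, Commute g x) : IsCyclic H ∧ Nat.card H ∣ Nat.card V - 1 := by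
  obtain ⟨F, _, _, e, he⟩ := field_of_irr hx
  choose c hc using fun g : H => he g (hH g g.2)
  have h0 : ∀ g, c g ≠ 0 := fun g e0 => by
    have := hc g (e.symm 1)
    rw [e0, zero_mul, e.map_eq_zero_iff, (ρ g).map_eq_zero_iff, e.symm.map_eq_zero_iff] at this
    exact one_ne_zero this
  let f : H →* Fˣ := MonoidHom.mk' (fun g => Units.mk0 (c g) (h0 g)) fun a b => by
    ext
    have := hc (a * b) (e.symm 1)
    rw [coe_mul, rho_mul, hc, hc, e.apply_symm_apply, mul_one, mul_one] at this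
    exact this.symm
  have hf : Function.Injective f := (injective_iff_map_eq_one _).2 fun g hg =>
    Subtype.ext (eq_one_of_rho hρ fun v => e.injective (by
      rw [hc, show c g = 1 from congrArg Units.val hg, one_mul]))
  refine ⟨isCyclic_of_injective f hf, ?_⟩
  rw [Nat.card_congr e.toEquiv, ← Nat.card_units]
  exact card_dvd_of_injective f hf

/-- A Sylow subgroup for a primitive prime is cyclic, with an irreducible element. -/
theorem sylow_ppd (hρ : Function.Injective ρ) {r : ℕ} [hr : Fact r.Prime]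
    (hi : ∀ x, orderOf x = r → Irr ρ x) (hG : r ∣ Nat.card G) (P : Sylow r G) :
    (∃ x ∈ (P : Subgroup G), orderOf x = r) ∧ IsCyclic P ∧ Nat.card P ∣ Nat.card V - 1 := by
  obtain ⟨z, h1, h2, h3⟩ := Sq.exists_central P.2 (P.ne_bot_of_dvd_card hG)
  exact ⟨⟨z, h1, h2⟩, (hi z h2).cyc hρ fun g hg => (h3 g hg).symm⟩

theorem normal_of_card {G : Type*} [Group G] [Finite G] {r : ℕ} [hr : Fact r.Prime]
    (h2 : ¬ r ^ 2 ∣ Nat.card G) {H : Subgroup G} (hH : H.Normal) (hc : Nat.card H = r)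
    (P : Sylow r G) : (P : Subgroup G).Normal := by
  have h1 : H ≤ P := (le_pCore hH (IsPGroup.of_card (n := 1) (by simpa using hc))).trans
    (pCore_le_sylow P)
  obtain ⟨k, hk⟩ := IsPGroup.iff_card.1 P.2
  have h3 : k ≤ 1 := by
    by_contra h3
    exact h2 ((pow_dvd_pow r (by omega)).trans (hk ▸ card_subgroup_dvd_card _))
  rwa [← eq_of_le_of_card_ge h1 (by
    rw [hc, hk]; exact (Nat.pow_le_pow_right hr.out.pos h3).trans (pow_one r).le)]

/-- The case of a large primitive prime divisor. -/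
theorem big (h : VTrans ρ) (hρ : Function.Injective ρ) (hG : ¬ p ∣ Nat.card G) {n : ℕ}
    (hn : Module.finrank (ZMod p) V = n) (h3 : 3 ≤ n) {r : ℕ} (hr : r.Prime) (h1 : r ∣ p ^ n - 1)
    (h2 : ∀ i, 1 ≤ i → i < n → ¬ r ∣ p ^ i - 1) (h4 : n + 1 < r ∨ r ^ 2 ∣ p ^ n - 1) :
    IsSemilin fun g v => ρ g v := by
  have := Fact.mk hr
  have hV : Nat.card V = p ^ n := hn ▸ card_eq
  have hVG : p ^ n - 1 ∣ Nat.card G := hV ▸ card_sub_dvd h
  have hrG := h1.trans hVG
  have hrp : r ≠ p := fun e => hG (e ▸ hrG)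
  have hi : ∀ x, orderOf x = r → Irr ρ x := fun x hx => irr_of_ppd hρ hr hrp hx (hn ▸ h2)
  let P : Sylow r G := default
  obtain ⟨⟨x, hxP, hx⟩, hc, -⟩ := sylow_ppd hρ hi hrG P
  have hc' : IsMulCommutative P := IsCyclic.isMulCommutative
  suffices hP : (P : Subgroup G).Normal from semilin_of_normal hxP (hi x hx)
  by_contra hP
  obtain ⟨χ, hχ, hf, hd⟩ := exists_char hρ hG
  rw [hn] at hd
  have h5 : n ∣ r - 1 := by
    have h6 : ∀ i, (p : ZMod r) ^ i = 1 ↔ r ∣ p ^ i - 1 := fun i => by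
      rw [← Nat.modEq_iff_dvd' (Nat.one_le_pow _ _ hp.out.pos), Nat.ModEq.comm,
        ← ZMod.natCast_eq_natCast_iff]
      simp
    have h7 : orderOf (p : ZMod r) = n := by
      rw [orderOf_eq_iff (by omega)]
      exact ⟨(h6 n).2 h1, fun i hi hi0 e => h2 i hi0 hi ((h6 i).1 e)⟩
    refine h7 ▸ orderOf_dvd_of_pow_eq_one (ZMod.pow_card_sub_one_eq_one ?_)
    rw [Ne, ZMod.natCast_eq_zero_iff, Nat.prime_dvd_prime_iff_eq hr hp.out]
    exact hrp
  have hr2 := hr.two_le
  have h6 : n ≤ r - 1 := Nat.le_of_dvd (by omega) h5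
  by_cases hsq : r ^ 2 ∣ Nat.card G
  · obtain ⟨k, hk⟩ := IsPGroup.iff_card.1 P.2
    have h7 : r ^ 2 ≤ r ^ k := Nat.le_of_dvd (pow_pos hr.pos _)
      (hk ▸ P.pow_dvd_card_of_pow_dvd_card hsq)
    refine hP (Cfsg.Agent.S4485.result r hr hrG P (fun y hy hy1 => le_antisymm ?_ ?_) k hk χ hχ hf
      (by rw [hd]; obtain ⟨s, rfl⟩ : ∃ s, r = s + 1 := ⟨r - 1, by omega⟩
          simp only [Nat.add_sub_cancel] at h6; nlinarith))
    · obtain ⟨u, ⟨j, rfl⟩, hu⟩ := Sq.exists_pow_orderOf hr (Sq.dvd_orderOf_of_mem hr P.2 hy hy1)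
      intro g hg a ha
      exact (hi _ hu).comm hρ (Commute.zpow_right (setLike_mul_comm (s := (P : Subgroup G)) ha hy) j)
        (Commute.zpow_right (mem_centralizer_singleton_iff.1 hg) j)
    · exact centralizer_le (Set.singleton_subset_iff.2 hy)
  · have h7 : n + 1 < r := h4.resolve_right fun e => hsq (e.trans hVG)
    have hnn : ∀ H : Subgroup G, H.Normal → Nat.card H ≠ r := fun H hH e =>
      hP (normal_of_card hsq hH e P)
    have h8 := Cfsg.Agent.S4503.result r hr hrG hsq hnn χ hχ hf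
    rw [hd] at h8
    obtain rfl : r = 2 * n + 1 := by
      obtain ⟨k, hk⟩ := h5
      have : k = 2 := by
        rcases (by omega : k ≤ 1 ∨ k = 2 ∨ 3 ≤ k) with h | h | h
        · have := Nat.mul_le_mul_left n h; omega
        · exact h
        · have := Nat.mul_le_mul_left n h; omega
      subst this
      omega
    obtain ⟨e⟩ := Cfsg.Agent.S4504.result _ hr hrG hsq hnn χ hχ hf (by rw [hd])
    have h9 := card_psl e
    obtain ⟨b, hb⟩ := ((hi x hx).cyc hρ (H := center G) fun g hg =>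
      (mem_center_iff.1 hg x).symm).1.exists_generator
    have h10 : zpowers (b : G) = center G := le_antisymm (zpowers_le.2 b.2) fun g hg => by
      obtain ⟨k, hk⟩ := hb ⟨g, hg⟩
      exact ⟨k, congrArg Subtype.val hk⟩
    have h11 : orderOf (b : G) = Nat.card (center G) := by rw [← Nat.card_zpowers, h10]
    have : (zpowers (b : G)).Normal := by rw [h10]; infer_instance
    refine arith_psl hp.out h3 hr (fun e => hG (h9 ▸ e.mul_left _)) (m := Nat.card (center G)) ?_
      Nat.card_pos (h9 ▸ hVG) h1 h2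
    by_contra h12
    have h13 : ∀ k, k ∣ 120 → ¬ 2 * n + 1 ∣ k := fun k hk e => by
      have h14 := e.trans hk
      have := Nat.le_of_dvd (by norm_num) h14
      have h15 : n < 60 := by omega
      interval_cases n <;> first | (norm_num at h14; done) | (norm_num at hr; done)
    exact hnn _ (half hρ hG hr hsq (h13 24 (by decide)) (fun e => absurd e (h13 60 (by decide))) hx
      (hi x hx) (b := b) (mem_center_iff.1 b.2 x).symm (by rw [h11, hV]; omega))
      (by rw [Nat.card_zpowers, hx])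

omit [Nontrivial V] in
/-- Sylow subgroups for primes that are large compared with the dimension. -/
theorem sylow_normal (hρ : Function.Injective ρ) (hG : ¬ p ∣ Nat.card G) {n : ℕ}
    (hn : Module.finrank (ZMod p) V = n) {s : ℕ} [hs : Fact s.Prime] (h1 : n + 1 < s)
    (h2 : 2 * n + 1 < s ∨ (2 * n + 1 = s ∧ p = 3)) (S : Sylow s G) : (S : Subgroup G).Normal := by
  obtain ⟨τ, hτ, -⟩ := exists_rep hρ hG
  refine Cfsg.Agent.S0899.result _ τ hτ s (Or.inr ⟨hn ▸ h1, fun K hK Q => ?_⟩) S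
  by_cases h3 : s ∣ Nat.card K
  · by_contra hQ
    have hnn : ∀ H : Subgroup K, H.Normal → Nat.card H ≠ s := fun H hH e =>
      hQ (normal_of_card hK hH e Q)
    have hGK : ¬ p ∣ Nat.card K := fun e => hG (e.trans K.card_subgroup_dvd_card)
    obtain ⟨χ, hχ, hf, hd⟩ := exists_char (ρ := ρ.comp K.subtype) (hρ.comp K.subtype_injective) hGK
    rw [hn] at hd
    have h4 := Cfsg.Agent.S4503.result s hs.out h3 hK hnn χ hχ hf
    rw [hd] at h4
    obtain ⟨rfl, rfl⟩ := h2.resolve_left (by omega)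
    obtain ⟨e⟩ := Cfsg.Agent.S4504.result _ hs.out h3 hK hnn χ hχ hf (by rw [hd])
    exact hGK (card_psl e ▸ ((by decide : 3 ∣ 6).trans (six_dvd n)).mul_left _)
  · have : (Q : Subgroup K) = ⊥ := by
      by_contra h4
      exact h3 ((Sq.dvd_card_of_ne_bot Q.2 h4).trans (card_subgroup_dvd_card _))
    rw [this]; infer_instance

/-- A normal `s`-subgroup yields a normal subgroup of order `s`. -/
theorem exists_normal_zpowers (h : VTrans ρ) (hρ : Function.Injective ρ) {s : ℕ}
    [hs : Fact s.Prime] {S : Subgroup G} [S.Normal] (hS : IsPGroup s S) (h0 : S ≠ ⊥) :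
    s ∣ Nat.card V - 1 ∧
      (¬ s ^ 2 ∣ Nat.card V - 1 → ∃ b : G, orderOf b = s ∧ (zpowers b).Normal) := by
  let A := S ⊓ centralizer (S : Set G)
  have : IsMulCommutative A := ⟨⟨fun a b => Subtype.ext (b.2.2 a a.2.1)⟩⟩
  have h1 := card_normal_dvd h hρ A
  obtain ⟨b, hb, ho, hc⟩ := Sq.exists_central hS h0
  have hbA : zpowers b ≤ A := zpowers_le.2 ⟨hb, fun g hg => (hc g hg).symm.eq⟩
  have h2 : s ∣ Nat.card A := by
    rw [← ho, ← Nat.card_zpowers]; exact card_dvd_of_le hbA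
  refine ⟨h2.trans h1, fun h3 => ⟨b, ho, ?_⟩⟩
  obtain ⟨k, hk⟩ := IsPGroup.iff_card.1 (hS.to_inf_left (K := centralizer (S : Set G)))
  have h4 : k ≤ 1 := by
    by_contra h4
    exact h3 ((pow_dvd_pow s (by omega)).trans (hk ▸ h1))
  rw [eq_of_le_of_card_ge hbA (by
    rw [Nat.card_zpowers, ho, hk]
    exact (Nat.pow_le_pow_right hs.out.pos h4).trans (pow_one s).le)]
  infer_instance

/-- Dimension six over the fields with three and five elements. -/
theorem six (h : VTrans ρ) (hρ : Function.Injective ρ) (hG : ¬ p ∣ Nat.card G)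
    (hn : Module.finrank (ZMod p) V = 6) (h35 : p = 3 ∨ p = 5) : IsSemilin fun g v => ρ g v := by
  have hV : Nat.card V = p ^ 6 := hn ▸ card_eq
  have hVG : p ^ 6 - 1 ∣ Nat.card G := hV ▸ card_sub_dvd h
  have : Fact (Nat.Prime 7) := ⟨by norm_num⟩
  have h7 : 7 ∣ Nat.card G := Dvd.dvd.trans (by rcases h35 with rfl | rfl <;> norm_num) hVG
  have hi : ∀ x, orderOf x = 7 → Irr ρ x := fun x hx =>
    irr_of_ppd hρ this.out (by omega) hx fun i h1 h2 => by
      rw [hn] at h2
      rcases h35 with rfl | rfl <;> interval_cases i <;> norm_num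
  let P : Sylow 7 G := default
  obtain ⟨⟨x, -, hx⟩, -, hP⟩ := sylow_ppd hρ hi h7 P
  have h49 : ¬ 7 ^ 2 ∣ Nat.card G := fun e => by
    have := (P.pow_dvd_card_of_pow_dvd_card e).trans hP
    rw [hV] at this
    rcases h35 with rfl | rfl <;> norm_num at this
  obtain ⟨s, hs, h1, h2, h3, h4, h5⟩ : ∃ s : ℕ, s.Prime ∧ (13 < s ∨ 13 = s ∧ p = 3) ∧
      s ∣ p ^ 6 - 1 ∧ ¬ s ^ 2 ∣ p ^ 6 - 1 ∧ Nat.Coprime 7 (s - 1) ∧ p ^ 6 < (s + 1) ^ 3 := by
    rcases h35 with rfl | rfl
    · exact ⟨13, by norm_num⟩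
    · exact ⟨31, by norm_num⟩
  have := Fact.mk hs
  let S : Sylow s G := default
  have := sylow_normal hρ hG hn (by omega) h1 S
  obtain ⟨b, hb, hbn⟩ := (exists_normal_zpowers h hρ S.2 (S.ne_bot_of_dvd_card (h2.trans hVG))).2
    (hV ▸ h3)
  have := half hρ hG (by norm_num) h49 (by decide) (fun e => absurd e (by decide)) hx (hi x hx)
    (Sq.commute_of_normal_zpowers hs hb (hx ▸ h4)).symm (by rw [hV, hb]; exact h5)
  exact semilin_of_normal (mem_zpowers x) (hi x hx)

end Cfsg.Lib.Char.Ct
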