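import Cfsg.Agent.Class.PSL2Max

/-! Dickson's theorem for `p'`-groups acting on a plane in characteristic `p`. -/

set_option autoImplicit false

namespace Cfsg.Lib.Char.Ct

open Subgroup Cfsg.Lib.Class Matrix
open scoped MatrixGroups

theorem card_classes_A4 : Nat.card (ConjClasses (alternatingGroup (Fin 4))) = 4 := by
  have h := card_comm_eq_card_conjClasses_mul_card (alternatingGroup (Fin 4))
  have h1 : Nat.card {p : alternatingGroup (Fin 4) × alternatingGroup (Fin 4) //
      p.1 * p.2 = p.2 * p.1} = 48 := by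
    rw [Nat.card_eq_fintype_card]
    decide +kernel
  have h2 : Nat.card (alternatingGroup (Fin 4)) = 12 := by
    rw [Nat.card_eq_fintype_card]; decide +kernel
  rw [h2] at h
  have : (48 : ℕ) = _ := h1.symm.trans h
  omega

theorem card_classes_A5 : Nat.card (ConjClasses (alternatingGroup (Fin 5))) = 5 := by
  have h := card_comm_eq_card_conjClasses_mul_card (alternatingGroup (Fin 5))
  have h1 : Nat.card {p : alternatingGroup (Fin 5) × alternatingGroup (Fin 5) //
      p.1 * p.2 = p.2 * p.1} = 300 := by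
    rw [Nat.card_eq_fintype_card]
    decide +kernel
  have h2 : Nat.card (alternatingGroup (Fin 5)) = 60 := by
    rw [Nat.card_eq_fintype_card]; decide +kernel
  rw [h2] at h
  have : (300 : ℕ) = _ := h1.symm.trans h
  omega

/-- One of the three polyhedral groups. -/
def Poly (H : Type*) [Group H] : Prop :=
  Nonempty (H ≃* alternatingGroup (Fin 4)) ∨ Nonempty (H ≃* Equiv.Perm (Fin 4)) ∨
    Nonempty (H ≃* alternatingGroup (Fin 5))

theorem Poly.congr {H K : Type*} [Group H] [Group K] (h : Poly H) (e : K ≃* H) : Poly K := by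
  rcases h with ⟨⟨f⟩⟩ | ⟨⟨f⟩⟩ | ⟨⟨f⟩⟩
  · exact Or.inl ⟨e.trans f⟩
  · exact Or.inr (Or.inl ⟨e.trans f⟩)
  · exact Or.inr (Or.inr ⟨e.trans f⟩)

theorem Poly.card {H : Type*} [Group H] (h : Poly H) :
    Nat.card H = 12 ∨ Nat.card H = 24 ∨ Nat.card H = 60 := by
  rcases h with ⟨⟨f⟩⟩ | ⟨⟨f⟩⟩ | ⟨⟨f⟩⟩
  · left; rw [Nat.card_congr f.toEquiv, Nat.card_eq_fintype_card]; decide +kernel
  · right; left; rw [Nat.card_congr f.toEquiv, Nat.card_eq_fintype_card]; decide +kernel
  · right; right; rw [Nat.card_congr f.toEquiv, Nat.card_eq_fintype_card]; decide +kernel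

/-- The elements acting as scalars. -/
def scal {L W C : Type*} [Field L] [AddCommGroup W] [Module L W] [Group C]
    (ρ : C →* (W ≃ₗ[L] W)) : Subgroup C where
  carrier := {g | ∃ c : L, ∀ w, ρ g w = c • w}
  one_mem' := ⟨1, fun w => by simp⟩
  mul_mem' := by
    rintro a b ⟨c, hc⟩ ⟨d, hd⟩
    exact ⟨c * d, fun w => by rw [map_mul, LinearEquiv.mul_apply, hd, hc, mul_smul]⟩
  inv_mem' := by
    rintro a ⟨c, hc⟩
    refine ⟨c⁻¹, fun w => ?_⟩
    have h1 : w = c • ρ a⁻¹ w := by
      rw [← hc, ← LinearEquiv.mul_apply, ← map_mul, mul_inv_cancel, map_one]; rfl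
    by_cases h : c = 0
    · rw [h, zero_smul] at h1
      simp [h1]
    · conv_rhs => rw [h1]
      rw [smul_smul, inv_mul_cancel₀ h, one_smul]

section
variable {L W C : Type*} [Field L] [AddCommGroup W] [Module L W] [Group C]
  {ρ : C →* (W ≃ₗ[L] W)}

theorem mem_scal {g : C} : g ∈ scal ρ ↔ ∃ c : L, ∀ w, ρ g w = c • w := Iff.rfl

theorem scal_le_center (hρ : Function.Injective ρ) : scal ρ ≤ center C := by
  rintro g ⟨c, hc⟩
  refine mem_center_iff.2 fun h => hρ (LinearEquiv.ext fun w => ?_)
  simp only [map_mul, LinearEquiv.mul_apply, hc, map_smul]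

instance scal_normal : (scal ρ).Normal := ⟨by
  rintro g ⟨c, hc⟩ h
  refine ⟨c, fun w => ?_⟩
  rw [map_mul, map_mul, LinearEquiv.mul_apply, LinearEquiv.mul_apply, hc, map_smul,
    ← LinearEquiv.mul_apply, ← map_mul, mul_inv_cancel, map_one]
  rfl⟩

theorem card_scal_dvd [Finite L] [Nontrivial W] (hρ : Function.Injective ρ) :
    Nat.card (scal ρ) ∣ Nat.card L - 1 := by
  obtain ⟨w, hw⟩ := exists_ne (0 : W)
  choose c hc using fun g : scal ρ => g.2
  have h0 : ∀ g, c g ≠ 0 := fun g e => hw ((ρ g).map_eq_zero_iff.1 (by rw [hc, e, zero_smul]))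
  let f : scal ρ →* Lˣ := MonoidHom.mk' (fun g => Units.mk0 (c g) (h0 g)) fun a b => by
    ext
    refine smul_left_injective L hw ?_
    simp only [Units.val_mk0, Units.val_mul, mul_smul, ← hc]
    rw [coe_mul, map_mul, LinearEquiv.mul_apply]
  have hf : Function.Injective f := by
    rw [injective_iff_map_eq_one]
    intro g hg
    have : c g = 1 := congrArg Units.val hg
    exact Subtype.ext (hρ (LinearEquiv.ext fun v => by rw [hc, this]; simp))
  rw [← Nat.card_units]
  exact card_dvd_of_injective f hf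

theorem dickson [Finite L] [Finite C] (p : ℕ) [Fact p.Prime] [CharP L p]
    (h2 : Module.finrank L W = 2) (hρ : Function.Injective ρ) (hC : ¬ p ∣ Nat.card C) :
    (∃ w : W, w ≠ 0 ∧ ∀ g, ∃ c : L, ρ g w = c • w) ∨
      (∃ B : Subgroup C, B.index ≤ 2 ∧ IsMulCommutative B) ∨ Poly (C ⧸ scal ρ) := by
  have : Module.Finite L W := Module.finite_of_finrank_eq_succ h2
  let b : W ≃ₗ[L] (Fin 2 → L) := (Module.finBasisOfFinrankEq L W h2).equivFun
  let ψ : C →* LinearMap.GeneralLinearGroup L (Fin 2 → L) :=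
    (LinearMap.GeneralLinearGroup.generalLinearEquiv L _).symm.toMonoidHom.comp
      (MonoidHom.mk' (fun g => (b.symm.trans (ρ g)).trans b) fun g h => by
        ext v : 1
        simp)
  let φ : C →* GL (Fin 2) L := GeneralLinearGroup.toLin.symm.toMonoidHom.comp ψ
  have hφ : ∀ g v, φ g • v = b (ρ g (b.symm v)) := fun g v => by
    change (GeneralLinearGroup.toLin (φ g)).1 v = _
    simp [φ, ψ]
    rfl
  have hφi : Function.Injective φ := fun g h e => hρ (LinearEquiv.ext fun w => by
    have := (hφ g (b w)).symm.trans ((congrArg (· • b w) e).trans (hφ h (b w)))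
    simpa using this)
  let π : C →* PGL(2, L) := ProjGenLinGroup.mk.comp φ
  have hker : π.ker = scal ρ := by
    ext g
    rw [MonoidHom.mem_ker, mem_scal]
    change ProjGenLinGroup.mk (φ g) = 1 ↔ _
    rw [ProjGenLinGroup.mk_eq_one, GeneralLinearGroup.mem_center_iff_val_mem_range_scalar]
    refine exists_congr fun c => ⟨fun h w => b.injective ?_, fun h => ?_⟩
    · have := hφ g (b w)
      rw [b.symm_apply_apply] at this
      rw [← this, Units.smul_def, ← h, map_smul]
      ext i
      simp [Matrix.smul_eq_mulVec, Matrix.mulVec_diagonal]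
    · refine (Matrix.ext_iff_mulVec.2 fun v => ?_)
      have := hφ g v
      rw [h, Units.smul_def, Matrix.smul_eq_mulVec, map_smul, b.apply_symm_apply] at this
      rw [this]
      ext i
      simp [Matrix.mulVec_diagonal]
  have hp : ¬ p ∣ Nat.card π.range := fun h => hC (h.trans (card_range_dvd π))
  rcases dickson_pgl p π.range with ⟨x, hx⟩ | ⟨x, y, hxy, -, h⟩ | ⟨-, h⟩ | ⟨rfl, ⟨f⟩⟩ | ⟨F₀, c, -, h⟩
  · induction x using Projectivization.ind with | _ v hv =>
    refine Or.inl ⟨b.symm v, by simpa using hv, fun g => ?_⟩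
    have h1 := hx _ ⟨g, rfl⟩
    change ProjGenLinGroup.mk (φ g) • _ = _ at h1
    rw [Projectivization.PGL.mk_smul_mk, Projectivization.mk_eq_mk_iff'] at h1
    obtain ⟨c, hc⟩ := h1
    exact ⟨c, b.injective (by rw [← hφ, ← hc, map_smul, b.apply_symm_apply])⟩
  · right; left
    let _ : MulAction C (P1 (Kb L)) := MulAction.compHom _ (bar.comp π)
    refine ⟨MulAction.stabilizer C x, ?_, ⟨⟨fun g k => Subtype.ext (hφi ?_)⟩⟩⟩
    · rw [MulAction.index_stabilizer]
      refine (Set.ncard_le_ncard (t := {x, y}) ?_ (Set.toFinite _)).trans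
        (Set.ncard_pair hxy).le
      rintro _ ⟨g, rfl⟩
      rcases h _ ⟨g, rfl⟩ with h1 | h1
      · exact Or.inl h1.1
      · exact Or.inr h1.1
    · induction x using Projectivization.ind with | _ u hu =>
      induction y using Projectivization.ind with | _ w hw =>
      let m : C →* GL (Fin 2) (Kb L) := (GeneralLinearGroup.map (algebraMap L (Kb L))).comp φ
      have h3 : ∀ g : MulAction.stabilizer C (Projectivization.mk (Kb L) u hu),
          (∃ c : Kb L, c • u = m g • u) ∧ ∃ c : Kb L, c • w = m g • w := fun g => by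
        rcases h _ ⟨g, rfl⟩ with h1 | h1
        · obtain ⟨h1, h4⟩ := h1
          change ProjGenLinGroup.mk (m g) • _ = _ at h1 h4
          rw [Projectivization.PGL.mk_smul_mk, Projectivization.mk_eq_mk_iff'] at h1 h4
          exact ⟨h1, h4⟩
        · exact absurd (g.2.symm.trans h1.1) hxy
      have h4 : LinearIndependent (Kb L) ![u, w] := by
        rw [LinearIndependent.pair_iff' hu]
        intro a ha
        exact hxy ((Projectivization.mk_eq_mk_iff' _ _ _ _ _).2 ⟨a, ha⟩).symm
      let B := basisOfLinearIndependentOfCardEqFinrank h4 (by simp)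
      have h5 : m (g * k) = m (k * g) := by
        obtain ⟨⟨c1, e1⟩, c2, e2⟩ := h3 g
        obtain ⟨⟨d1, f1⟩, d2, f2⟩ := h3 k
        refine GeneralLinearGroup.toLin.injective (Units.ext (B.ext fun i => ?_))
        change m (g * k) • B i = m (k * g) • B i
        rw [map_mul, map_mul, mul_smul, mul_smul]
        fin_cases i
        · have : B 0 = u := by simp [B]
          simp only [Fin.zero_eta, this]
          rw [← e1, ← f1, smul_comm, ← e1, smul_comm (m k), ← f1, smul_comm]
        · have : B 1 = w := by simp [B]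
          simp only [Fin.mk_one, this]
          rw [← e2, ← f2, smul_comm, ← e2, smul_comm (m k), ← f2, smul_comm]
      ext i j
      exact (algebraMap L (Kb L)).injective (congrArg (fun M : GL (Fin 2) (Kb L) => M i j) h5)
  · exact Or.inr (Or.inr (Poly.congr h ((QuotientGroup.quotientMulEquivOfEq hker.symm).trans
      (QuotientGroup.quotientKerEquivRange π))))
  · refine absurd ?_ hp
    rw [Nat.card_congr f.toEquiv, Nat.card_eq_fintype_card]; decide +kernel
  · exact absurd (char_dvd_card_of_pslSub_le p (IsSubfieldType.ge h)) hp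

end

end Cfsg.Lib.Char.Ct
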