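import Cfsg.Agent.Char.CtBig
import Cfsg.Agent.Char.OrbitCount
import Cfsg.Agent.Char.Burnside
import Cfsg.Agent.Solv.CardModEq
import Cfsg.Agent.Solv.PGroupBasic
import Cfsg.Agent.S4200
import Cfsg.Agent.S4201

/-! Transitive `3'`-subgroups of `GL₄(3)`. -/

set_option autoImplicit false

namespace Cfsg.Lib.Char.Ct

open Subgroup Cfsg.Lib.Perm Cfsg.Lib.Solv
open scoped commutatorElement

theorem card_classes_le_card (G : Type*) [Group G] [Finite G] :
    Nat.card (ConjClasses G) ≤ Nat.card G :=
  Nat.card_le_card_of_surjective _ ConjClasses.mk_surjective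

theorem classes_80 {M : Type*} [Group M] [Finite M] (hM : Nat.card M = 80) {A : Subgroup M}
    [A.Normal] (hA : Nat.card A = 16)
    (h : ∀ y : M, orderOf y = 5 → ∀ a ∈ A, Commute a y → a = 1) :
    Nat.card (ConjClasses M) ≤ 8 := by
  classical
  have := Fintype.ofFinite M
  have h1 := sum_card_centralizer M
  have hq : Nat.card (M ⧸ A) = 5 := by
    have := card_eq_card_quotient_mul_card_subgroup A
    rw [hM, hA] at this
    omega
  have h2 : ∀ g : M, Nat.card (centralizer ({g} : Set M)) ≤
      5 + (if g ∈ A then 11 else 0) + if g = 1 then 64 else 0 := fun g => by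
    have h3 : Nat.card (centralizer ({g} : Set M)) ∣ 16 * 5 :=
      (card_subgroup_dvd_card _).trans (by rw [hM])
    by_cases hg : g = 1
    · have := Nat.le_of_dvd (by norm_num) h3
      simp only [hg, one_mem, if_true] at this ⊢
      exact this
    by_cases hgA : g ∈ A
    · rw [if_pos hgA, if_neg hg]
      refine Nat.le_of_dvd (by norm_num) (Nat.Coprime.dvd_of_dvd_mul_right
        ((Nat.Prime.coprime_iff_not_dvd (by norm_num)).2 fun h5 => ?_).symm h3)
      obtain ⟨y, hy, ho⟩ := Sq.exists_orderOf_mem (by norm_num) h5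
      exact hg (h y ho g hgA (mem_centralizer_singleton_iff.1 hy).symm)
    · rw [if_neg hgA, if_neg hg]
      refine Nat.le_of_dvd (by norm_num) (Nat.Coprime.dvd_of_dvd_mul_left
        (Nat.Coprime.pow_left 4 ((Nat.Prime.coprime_iff_not_dvd Nat.prime_two).2
          fun h5 => ?_)).symm h3)
      obtain ⟨t, ht, ho⟩ := Sq.exists_orderOf_mem Nat.prime_two h5
      have h6 : ∀ u : M, orderOf (u : M ⧸ A) ∣ 5 := fun u => hq ▸ orderOf_dvd_natCard _
      have h7 : ∀ u : M, orderOf (u : M ⧸ A) ∣ orderOf u := fun u =>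
        orderOf_map_dvd (QuotientGroup.mk' A) u
      have h8 : t ∈ A := (QuotientGroup.eq_one_iff t).1 (orderOf_eq_one_iff.1
        (Nat.eq_one_of_dvd_coprimes (by norm_num : Nat.Coprime 5 2) (h6 t) (ho ▸ h7 t)))
      have h9 : orderOf (g : M ⧸ A) = 5 := ((Nat.dvd_prime (by norm_num)).1 (h6 g)).resolve_left
        fun e => hgA ((QuotientGroup.eq_one_iff g).1 (orderOf_eq_one_iff.1 e))
      obtain ⟨y, ⟨k, rfl⟩, hy⟩ := Sq.exists_pow_orderOf (by norm_num) (h9 ▸ h7 g)
      have := h _ hy t h8 (Commute.zpow_right (mem_centralizer_singleton_iff.1 ht) k)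
      rw [this, orderOf_one] at ho
      omega
  have h3 := Finset.sum_le_sum fun g (_ : g ∈ Finset.univ) => h2 g
  have h4 : (Finset.univ.filter fun g : M => g ∈ A).card = 16 := by
    rw [← hA, Nat.card_eq_fintype_card, Fintype.card_subtype]
  rw [h1, Finset.sum_add_distrib, Finset.sum_add_distrib, ← Finset.sum_filter, Finset.sum_ite_eq'] at h3
  simp only [Finset.sum_const, Finset.card_univ, ← Nat.card_eq_fintype_card, hM, h4, smul_eq_mul,
    Finset.mem_univ, if_true] at h3
  omega

theorem pCore_eq_bot_of_not_dvd {H : Type*} [Group H] [Finite H] {s : ℕ} (hs : s.Prime)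
    (h : ¬ s ∣ Nat.card H) : pCore s H = ⊥ := by
  have := Fact.mk hs
  by_contra h1
  exact h ((Sq.dvd_card_of_ne_bot (pCore_isPGroup s H) h1).trans (card_subgroup_dvd_card _))

theorem card_le_20 {H : Type*} [Group H] [Finite H]
    (h1 : ∀ s : ℕ, s.Prime → s ∣ Nat.card H → s = 2 ∨ s = 5) (h25 : ¬ 5 ^ 2 ∣ Nat.card H)
    {x : H} (hx : orderOf x = 5) (h2 : pCore 2 H = ⊥) : Nat.card H ≤ 20 := by
  have hs := isSolvable_of_prime_dvd_card Nat.prime_two Nat.prime_five H h1
  have : Fact (Nat.Prime 5) := ⟨Nat.prime_five⟩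
  have h3 : ∀ y : H, y ∈ centralizer (pCore 5 H : Set H) → ∀ s : ℕ, s.Prime →
      y ∈ centralizer (pCore s H : Set H) := fun y hy s hs => by
    by_cases h5 : s = 5
    · rwa [h5]
    · have : pCore s H = ⊥ := by
        by_cases h6 : s = 2
        · rwa [h6]
        · exact pCore_eq_bot_of_not_dvd hs fun e => (h1 s hs e).elim h6 h5
      rw [this]
      rintro _ rfl
      simp
  have h4 : pCore 5 H ≠ ⊥ := fun e => by
    have := Sq.mem_pCore_of_forall hs Nat.prime_five hx (h3 x (by rw [e]; rintro _ rfl; simp))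
    rw [e, mem_bot] at this
    rw [this, orderOf_one] at hx
    omega
  have h5 : Nat.card (pCore 5 H) = 5 := by
    obtain ⟨k, hk⟩ := IsPGroup.iff_card.1 (pCore_isPGroup 5 H)
    have h6 : k ≠ 0 := fun e => h4 (card_eq_one.1 (by rw [hk, e, pow_zero]))
    have h7 : k < 2 := by
      by_contra h7
      exact h25 ((pow_dvd_pow 5 (by omega)).trans (hk ▸ card_subgroup_dvd_card _))
    rw [hk, show k = 1 by omega, pow_one]
  have := isCyclic_of_prime_card h5
  let f : H →* MulAut (pCore 5 H) := MulAut.conjNormal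
  have h6 : Nat.card f.range ≤ 4 := by
    have := Nat.le_of_dvd Nat.card_pos (card_subgroup_dvd_card f.range)
    rwa [IsCyclic.card_mulAut, h5] at this
  have h7 : IsPGroup 5 f.ker := by
    rw [IsPGroup.iff_card]
    refine ⟨_, Nat.eq_prime_pow_of_unique_prime_dvd Nat.card_pos.ne' fun {s} hs' e => ?_⟩
    refine (h1 s hs' (e.trans (card_subgroup_dvd_card _))).resolve_left ?_
    rintro rfl
    obtain ⟨t, ht, ho⟩ := Sq.exists_orderOf_mem hs' e
    have := Sq.mem_pCore_of_forall hs hs' ho (h3 t fun b hb => by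
      have := congrArg (fun u : MulAut (pCore 5 H) => (u ⟨b, hb⟩ : H)) ht
      simp only [f, MulAut.conjNormal_apply, MulAut.one_apply] at this
      exact (mul_inv_eq_iff_eq_mul.1 this).symm)
    rw [h2, mem_bot] at this
    rw [this, orderOf_one] at ho
    omega
  have h8 := card_le_of_le (le_pCore inferInstance h7)
  have h9 := f.ker.card_mul_index
  rw [index_ker] at h9
  nlinarith

theorem classes_320 {H : Type*} [Group H] [Finite H]
    (h1 : ∀ s : ℕ, s.Prime → s ∣ Nat.card H → s = 2 ∨ s = 5) (h25 : ¬ 5 ^ 2 ∣ Nat.card H)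
    (h5 : 5 ∣ Nat.card H) (h0 : pCore 5 H = ⊥) (h16 : Nat.card (pCore 2 H) ≤ 16)
    [IsMulCommutative (pCore 2 H)] : Nat.card (ConjClasses H) ≤ 32 ∧ Nat.card H ≤ 320 := by
  have hs := isSolvable_of_prime_dvd_card Nat.prime_two Nat.prime_five H h1
  have : Fact (Nat.Prime 5) := ⟨Nat.prime_five⟩
  set A := pCore 2 H with hA
  have h2 : ∀ y : H, orderOf y = 5 →
      Nat.card A = 16 ∧ A ⊓ centralizer (zpowers y : Set H) = ⊥ := fun y hy => by
    have h3 := card_modEq_card_inf_centralizer (L := A) (Sq.isPGroup_zpowers hy)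
      le_normalizer_of_normal
    have h4 : A ⊓ centralizer (zpowers y : Set H) < A := lt_of_le_of_ne inf_le_left fun e => by
      have := Sq.mem_pCore_of_forall hs Nat.prime_five hy fun s hs' => by
        by_cases h6 : s = 2
        · subst h6
          exact fun a ha => ((e.ge ha).2 y (mem_zpowers y)).symm
        · have : pCore s H = ⊥ := by
            by_cases h7 : s = 5
            · rwa [h7]
            · exact pCore_eq_bot_of_not_dvd hs' fun e => (h1 s hs' e).elim h6 h7
          rw [this]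
          rintro _ rfl
          simp
      rw [h0, mem_bot] at this
      rw [this, orderOf_one] at hy
      omega
    obtain ⟨a, ha⟩ := IsPGroup.iff_card.1 (pCore_isPGroup 2 H)
    obtain ⟨b, hb⟩ := IsPGroup.iff_card.1
      ((pCore_isPGroup 2 H).to_inf_left (K := centralizer (zpowers y : Set H)))
    have h6 := card_lt_of_lt h4
    rw [← card_eq_one]
    rw [← hA] at ha hb
    rw [ha] at h16
    rw [ha, hb] at h3 h6 ⊢
    have h7 : a < 5 := (Nat.pow_lt_pow_iff_right one_lt_two).1 (by omega)
    have h8 : b < a := (Nat.pow_lt_pow_iff_right one_lt_two).1 h6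
    interval_cases a <;> interval_cases b <;> first | (norm_num; done) | (revert h3; decide)
  obtain ⟨x, hx⟩ := exists_prime_orderOf_dvd_card' 5 h5
  obtain ⟨h3, h4⟩ := h2 x hx
  have h6 : Nat.card (H ⧸ A) ≤ 20 := by
    have h7 := card_quotient_dvd_card A
    refine card_le_20 (fun s hs e => h1 s hs (e.trans h7)) (fun e => h25 (e.trans h7))
      (x := (x : H ⧸ A)) (orderOf_eq_prime ?_ fun e => ?_) (pCore_quotient_pCore 2 H)
    · rw [← QuotientGroup.mk_pow, ← hx, pow_orderOf_eq_one, QuotientGroup.mk_one]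
    · have := A.orderOf_dvd_natCard ((QuotientGroup.eq_one_iff x).1 e)
      rw [hx, h3] at this
      omega
  have h7 := card_eq_card_quotient_mul_card_subgroup A
  let M := A ⊔ zpowers x
  have h8 : Nat.card M = 80 := by
    have h9 : A ⊓ zpowers x = ⊥ := (disjoint_of_coprime_natCard (by
      rw [h3, Nat.card_zpowers, hx]; norm_num)).eq_bot
    have := PG.card_sup_mul_card_inf (K := A) (H := zpowers x) le_normalizer_of_normal
    rwa [h9, card_bot, mul_one, h3, Nat.card_zpowers, hx] at this
  have h9 := classes_80 h8 (A := A.subgroupOf M)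
    (by rw [Nat.card_congr (subgroupOfEquivOfLe le_sup_left).toEquiv, h3]) fun y hy a ha hc => by
      have h10 := (h2 y (by rwa [Subgroup.orderOf_coe])).2
      refine Subtype.ext (h10.le ⟨ha, ?_⟩)
      rintro _ ⟨k, rfl⟩
      exact ((hc.map M.subtype).zpow_right k).symm.eq
  have h10 := (Cfsg.Agent.S4200.result M).2.1
  have h11 := M.card_mul_index
  rw [h8] at h11
  rw [h3] at h7
  refine ⟨?_, by omega⟩
  have h12 : M.index ≤ 4 := by omega
  nlinarith

theorem normal_zpowers_of_pCore {H : Type*} [Group H] [Finite H] {r : ℕ} (hr : r.Prime)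
    (h2 : ¬ r ^ 2 ∣ Nat.card H) (h0 : pCore r H ≠ ⊥) {x : H} (hx : orderOf x = r) :
    (zpowers x).Normal := by
  have := Fact.mk hr
  have h1 : ∀ Q : Subgroup H, IsPGroup r Q → Nat.card Q ≤ r := fun Q hQ => by
    obtain ⟨k, hk⟩ := IsPGroup.iff_card.1 hQ
    have h7 : k < 2 := by
      by_contra h7
      exact h2 ((pow_dvd_pow r (by omega)).trans (hk ▸ card_subgroup_dvd_card _))
    rw [hk]
    exact (Nat.pow_le_pow_right hr.pos (by omega)).trans (pow_one r).le
  obtain ⟨P, hP⟩ := (Sq.isPGroup_zpowers hx).exists_le_sylow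
  rw [eq_of_le_of_card_ge hP (by rw [Nat.card_zpowers, hx]; exact h1 _ P.2)]
  exact normal_of_card h2 inferInstance (le_antisymm (h1 _ (pCore_isPGroup r H))
    (Nat.le_of_dvd Nat.card_pos (Sq.dvd_card_of_ne_bot (pCore_isPGroup r H) h0))) P

theorem card_le_32 {E : Type*} [Group E] [Finite E] (τ : Representation ℂ E (Fin 4 → ℂ)) {z : E}
    (hz : ∀ w, τ z w = -w) (h : ∀ g : E, g = 1 ∨ g = z ∨ IsConj g (z * g)) : Nat.card E ≤ 32 := by
  classical
  have := Fintype.ofFinite E
  have h1 : ∀ g, τ.character (z * g) = -τ.character g := fun g => by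
    have : τ (z * g) = -τ g := LinearMap.ext fun w => by
      rw [map_mul, Module.End.mul_apply, hz]; rfl
    simp only [Representation.character, this, map_neg]
  have h2 : τ.character 1 = 4 := by simp
  have h3 : τ.character z = -4 := by rw [← h2, ← h1, mul_one]
  have hz1 : z ≠ 1 := fun e => by
    rw [e, h2] at h3
    norm_num at h3
  obtain ⟨n, hn⟩ := (isCharacter_rep τ).exists_nat_classInner (isCharacter_rep τ)
  have h4 : ∑ g, τ.character g * starRingEnd ℂ (τ.character g) = 32 := by
    rw [← Finset.sum_subset (Finset.subset_univ {1, z}) fun g _ hg => ?_,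
      Finset.sum_pair hz1.symm, h2, h3]
    · simp only [map_neg, map_ofNat]; norm_num
    · simp only [Finset.mem_insert, Finset.mem_singleton, not_or] at hg
      obtain ⟨c, hc⟩ := isConj_iff.1 (((h g).resolve_left hg.1).resolve_left hg.2)
      have := τ.char_conj g c
      rw [hc, h1] at this
      rw [show τ.character g = 0 by linear_combination -this / 2, zero_mul]
  rw [classInner, h4, inv_mul_eq_iff_eq_mul₀ (by exact_mod_cast Nat.card_pos.ne')] at hn
  have h5 : 32 = Nat.card E * n := by exact_mod_cast hn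
  exact Nat.le_of_dvd (by norm_num) ⟨n, h5⟩

variable {p : ℕ} [hp : Fact p.Prime] {V G : Type*} [AddCommGroup V] [Module (ZMod p) V] [Finite V]
  [Nontrivial V] [Group G] [Finite G] {ρ : G →* (V ≃ₗ[ZMod p] V)}

omit [Nontrivial V] in
theorem neg_of_mem (h : VTrans ρ) (hρ : Function.Injective ρ) {A : Subgroup G} [A.Normal]
    [IsMulCommutative A] {t : G} (ht : t ∈ A) (ho : orderOf t = 2) (v : V) : ρ t v = -v := by
  by_contra h1
  refine ne_one_of_orderOf_two ho (h.semiregular hρ A t ht (ρ t v + v)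
    (fun e => h1 (eq_neg_of_add_eq_zero_left e)) ?_)
  rw [map_add, ← rho_mul, mul_self_of_orderOf_two ho, rho_one, add_comm]

/-- Dimension four over the field with three elements. -/
theorem four (h : VTrans ρ) (hρ : Function.Injective ρ) (hG : ¬ p ∣ Nat.card G)
    (hn : Module.finrank (ZMod p) V = 4) (h3 : p = 3) :
    (IsSemilin fun g v => ρ g v) ∨ (Nat.card (ConjClasses G) ≤ 64 ∧ Nat.card G ≤ 640) := by
  have hV : Nat.card V = 81 := by rw [card_eq (p := p), hn, h3]; rfl
  have hVG : 80 ∣ Nat.card G := by have := card_sub_dvd h; rwa [hV] at this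
  have : Fact (Nat.Prime 5) := ⟨Nat.prime_five⟩
  have h5 : 5 ∣ Nat.card G := Dvd.dvd.trans (by norm_num) hVG
  have hi : ∀ x, orderOf x = 5 → Irr ρ x := fun x hx =>
    irr_of_ppd hρ this.out (by omega) hx fun i h1 h2 => by
      rw [hn] at h2
      subst h3
      interval_cases i <;> norm_num
  let P : Sylow 5 G := default
  obtain ⟨⟨x, -, hx⟩, -, hP⟩ := sylow_ppd hρ hi h5 P
  have h25 : ¬ 5 ^ 2 ∣ Nat.card G := fun e => by
    have := (P.pow_dvd_card_of_pow_dvd_card e).trans hP
    rw [hV] at this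
    norm_num at this
  by_cases hN : (zpowers x).Normal
  · exact Or.inl (semilin_of_normal (mem_zpowers x) (hi x hx))
  right
  have hpr : ∀ s : ℕ, s.Prime → s ∣ Nat.card G → s = 2 ∨ s = 5 := fun s hs e => by
    have := Fact.mk hs
    obtain ⟨y, hy⟩ := exists_prime_orderOf_dvd_card' s e
    have h80 : s ∣ 80 → s = 2 ∨ s = 5 := fun e => by
      rw [show 80 = 2 ^ 4 * 5 by norm_num, hs.dvd_mul] at e
      exact e.imp (fun e => (Nat.prime_dvd_prime_iff_eq hs Nat.prime_two).1 (hs.dvd_of_dvd_pow e))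
        (Nat.prime_dvd_prime_iff_eq hs Nat.prime_five).1
    by_cases h13 : s = 13
    · let S : Sylow s G := default
      have := sylow_normal hρ hG hn (by omega) (by omega) S
      have := (exists_normal_zpowers h hρ S.2 (S.ne_bot_of_dvd_card e)).1
      exact h80 (by rwa [hV] at this)
    by_cases h26 : s ∣ 26
    · rw [show 26 = 2 * 13 by norm_num, hs.dvd_mul] at h26
      exact Or.inl ((Nat.prime_dvd_prime_iff_eq hs Nat.prime_two).1 (h26.resolve_right fun e =>
        h13 ((Nat.prime_dvd_prime_iff_eq hs (by norm_num)).1 e)))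
    by_cases h8 : s ∣ 8
    · exact h80 (h8.trans (by norm_num))
    have h1 := ((irr_of_ppd hρ hs (fun e' => hG (e' ▸ e)) hy fun i h1 h2 => by
      rw [hn] at h2
      subst h3
      interval_cases i
      · exact fun e => h8 (e.trans (by norm_num))
      · exact h8
      · exact h26).cyc hρ (H := zpowers y) (by
        rintro _ ⟨k, rfl⟩
        exact (Commute.refl y).zpow_left k)).2
    rw [Nat.card_zpowers, hy, hV] at h1
    exact h80 h1
  have hs := isSolvable_of_prime_dvd_card Nat.prime_two Nat.prime_five G hpr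
  have hab : ∀ B : Subgroup G, B.Normal → IsMulCommutative B → IsPGroup 2 B → Nat.card B ≤ 2 := by
    intro B _ _ hB
    by_contra hlt
    obtain ⟨a, ha⟩ := IsPGroup.iff_card.1 hB
    obtain ⟨c, hc⟩ := IsPGroup.iff_card.1 (hB.to_inf_left (K := centralizer (zpowers x : Set G)))
    have h1 := card_normal_dvd h hρ B
    have h2 := card_modEq_card_inf_centralizer (L := B) (Sq.isPGroup_zpowers hx)
      le_normalizer_of_normal
    obtain ⟨t, ht, ho⟩ := Sq.exists_orderOf_mem Nat.prime_two (H := B)
      (Sq.dvd_card_of_ne_bot hB fun e => hlt (by simp [e]))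
    have h4 : 2 ∣ Nat.card (B ⊓ centralizer (zpowers x : Set G) : Subgroup G) :=
      ho ▸ Subgroup.orderOf_dvd_natCard _ ⟨ht, fun g _ => eq_of_rho hρ fun v => by
        simp only [rho_mul, neg_of_mem h hρ ht ho, map_neg]⟩
    have h6 := card_le_of_le (inf_le_left : B ⊓ centralizer (zpowers x : Set G) ≤ B)
    have h7 : B ⊓ centralizer (zpowers x : Set G) = B := by
      refine eq_of_le_of_card_ge inf_le_left ?_
      rw [hV] at h1
      rw [ha] at h1
      rw [ha, hc] at h2 h6 ⊢
      rw [hc] at h4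
      have h8 : a < 5 := by
        by_contra h8
        exact absurd ((pow_dvd_pow 2 (show 5 ≤ a by omega)).trans h1) (by norm_num)
      have h9 : c ≤ a := (Nat.pow_le_pow_iff_right one_lt_two).1 h6
      interval_cases a <;> interval_cases c <;>
        first | (norm_num; done) | (norm_num at h4; done) | (revert h2; decide)
    have h8 : ∀ g ∈ B, Commute g x := fun g hg => ((h7.ge hg).2 x (mem_zpowers x)).symm
    obtain ⟨b, hb⟩ := ((hi x hx).cyc hρ h8).1.exists_generator
    have h10 : zpowers (b : G) = B := le_antisymm (zpowers_le.2 b.2) fun g hg => by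
      obtain ⟨k, hk⟩ := hb ⟨g, hg⟩
      exact ⟨k, congrArg Subtype.val hk⟩
    have h11 : orderOf (b : G) = Nat.card B := by rw [← Nat.card_zpowers, h10]
    have : (zpowers (b : G)).Normal := by rw [h10]; infer_instance
    refine hN (half hρ hG Nat.prime_five h25 (by decide) (fun _ => by rw [h3]; decide) hx (hi x hx)
      (h8 b b.2) ?_)
    have h12 : 4 ≤ Nat.card B := by
      rw [ha] at hlt ⊢
      exact Nat.pow_le_pow_right (n := 2) (i := 2) two_pos (by
        by_contra h12
        exact hlt (Nat.pow_le_pow_right (n := 2) (j := 1) two_pos (by omega)))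
    rw [hV, h11]
    exact lt_of_lt_of_le (by norm_num) (Nat.pow_le_pow_left (Nat.succ_le_succ h12) 3)
  let Q := pCore 2 G
  have hQ : IsPGroup 2 Q := pCore_isPGroup 2 G
  have hQ0 : Q ≠ ⊥ := fun e => hN (normal_zpowers_of_pCore Nat.prime_five h25 (fun e5 => by
    have := Sq.mem_pCore_of_forall hs Nat.prime_five hx fun s hs' => by
      have : pCore s G = ⊥ := by
        by_cases h6 : s ∣ Nat.card G
        · rcases hpr s hs' h6 with rfl | rfl
          exacts [e, e5]
        · exact pCore_eq_bot_of_not_dvd hs' h6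
      rw [this]
      rintro _ rfl
      simp
    rw [e5, mem_bot] at this
    rw [this, orderOf_one] at hx
    omega) hx)
  obtain ⟨z, hzQ, hz, hzc⟩ := Sq.exists_central hQ hQ0
  have hzneg : ∀ v, ρ z v = -v := by
    have : IsMulCommutative (Q ⊓ centralizer (Q : Set G) : Subgroup G) :=
      ⟨⟨fun a b => Subtype.ext (b.2.2 a a.2.1)⟩⟩
    exact neg_of_mem h hρ (A := Q ⊓ centralizer (Q : Set G))
      ⟨hzQ, fun g hg => (hzc g hg).symm.eq⟩ hz
  let Z := zpowers z
  have hZc : Z ≤ center G := zpowers_le.2 (mem_center_iff.2 fun g => eq_of_rho hρ fun v => by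
    simp only [rho_mul, hzneg, map_neg])
  have : Z.Normal := ⟨fun a ha g => by
    rwa [mem_center_iff.1 (hZc ha) g, mul_inv_cancel_right]⟩
  have hZ : Nat.card Z = 2 := by rw [Nat.card_zpowers, hz]
  have hZ2 : ∀ g ∈ Z, g = 1 ∨ g = z := fun g hg => by
    obtain ⟨t, -, -, ht⟩ := exists_of_card_eq_two hZ
    rcases ht g hg with e | e
    · exact Or.inl e
    · exact Or.inr (e.trans ((ht z (mem_zpowers z)).resolve_left (ne_one_of_orderOf_two hz)).symm)
  let π := QuotientGroup.mk' Z
  have hπ := QuotientGroup.mk'_surjective Z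
  have hπ1 : ∀ g, π g = 1 ↔ g ∈ Z := fun g => QuotientGroup.eq_one_iff g
  let Q' := pCore 2 (G ⧸ Z)
  have hQ' : Q.map π = Q' := map_pCore_quotient Z (Sq.isPGroup_zpowers hz)
  let E := (Q' ⊓ centralizer (Q' : Set (G ⧸ Z))).comap π
  have hEQ : E ≤ Q := (comap_mono inf_le_left).trans
    (comap_pCore_quotient Z (Sq.isPGroup_zpowers hz)).le
  have hE : ⁅E, Q⁆ ≤ Z := commutator_le.2 fun a ha b hb => (hπ1 _).1 (by
    rw [map_commutatorElement, commutatorElement_eq_one_iff_mul_comm]
    exact (ha.2 _ (hQ'.le (mem_map_of_mem π hb))).symm)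
  have hZE : E ⊓ centralizer (E : Set G) = Z := by
    have : IsMulCommutative (E ⊓ centralizer (E : Set G) : Subgroup G) :=
      ⟨⟨fun a b => Subtype.ext (b.2.2 a a.2.1)⟩⟩
    refine (eq_of_le_of_card_ge (le_inf (fun g hg => ?_) (hZc.trans (center_le_centralizer _)))
      (hZ ▸ hab _ inferInstance this ((hQ.to_le hEQ).to_inf_left))).symm
    change π g ∈ Q' ⊓ centralizer (Q' : Set (G ⧸ Z))
    rw [(hπ1 g).2 hg]
    exact one_mem _
  have hzE : z ∈ E := (hZE.ge (mem_zpowers z)).1
  have hE32 : Nat.card E ≤ 32 := by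
    have h1 := exists_rep hρ hG
    rw [hn] at h1
    obtain ⟨τ, -, hτ⟩ := h1
    refine card_le_32 (τ.comp E.subtype) (z := ⟨z, hzE⟩) (fun w => ?_) fun g => ?_
    · refine eq_neg_of_add_eq_zero_left (hτ z (fun v hv => ?_) _ ?_)
      · by_contra h0
        have : IsMulCommutative Z := inferInstance
        exact ne_one_of_orderOf_two hz (h.semiregular hρ Z z (mem_zpowers z) v h0 hv)
      · change τ z (τ z w + w) = τ z w + w
        rw [map_add, ← Module.End.mul_apply, ← map_mul, mul_self_of_orderOf_two hz, map_one,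
          Module.End.one_apply, add_comm]
    · by_cases hg : (g : G) ∈ Z
      · rcases hZ2 g hg with e | e
        · exact Or.inl (Subtype.ext e)
        · exact Or.inr (Or.inl (Subtype.ext e))
      · right; right
        obtain ⟨c, hc, hcg⟩ : ∃ c ∈ E, c * g ≠ g * c := by
          by_contra h1
          push Not at h1
          exact hg (hZE.le ⟨g.2, h1⟩)
        have h1 := (hZ2 _ (hE (commutator_mem_commutator hc (hEQ g.2)))).resolve_left
          fun e => hcg (commutatorElement_eq_one_iff_mul_comm.1 e)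
        refine isConj_iff.2 ⟨⟨c, hc⟩, Subtype.ext ?_⟩
        change c * g * c⁻¹ = z * g
        rw [← h1, commutatorElement_def, inv_mul_cancel_right]
  have hcomm : IsMulCommutative Q' := by
    have h1 : ⁅⁅E, Q⁆, Q⁆ = ⊥ := eq_bot_iff.2
      ((commutator_mono (hE.trans hZc) le_rfl).trans (commutator_center_left Q).le)
    have h2 : ⁅⁅Q, Q⁆, E⁆ = ⊥ :=
      commutator_commutator_eq_bot_of_rotate (by rwa [commutator_comm Q E]) h1
    have := (pCore_isPGroup 2 (G ⧸ Z)).isNilpotent
    rw [← commutator_eq_bot_iff]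
    by_contra h4
    obtain ⟨⟨u, hu1, hu2⟩, hu⟩ := ne_bot_iff_exists_ne_one.1
      (PG.inf_center_ne_bot (commutator Q') h4)
    have h6 : (u : G ⧸ Z) ∈ (⁅Q, Q⁆).map π := by
      rw [map_commutator, hQ', ← Subgroup.map_subtype_commutator]
      exact mem_map_of_mem _ hu1
    obtain ⟨d, hd, hdu⟩ := h6
    refine hu (Subtype.ext (Subtype.ext (hdu.symm.trans ((hπ1 d).2 (hZE.le ⟨?_,
      commutator_eq_bot_iff_le_centralizer.1 h2 hd⟩)))))
    change π d ∈ Q' ⊓ centralizer (Q' : Set (G ⧸ Z))
    rw [hdu]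
    exact ⟨u.2, fun a ha => congrArg Subtype.val (mem_center_iff.1 hu2 ⟨a, ha⟩)⟩
  have hq := card_eq_card_quotient_mul_card_subgroup Z
  rw [hZ] at hq
  have hqd := card_quotient_dvd_card Z
  have h16 : Nat.card Q' ≤ 16 := by
    have h1 : E = Q'.comap π := by
      simp only [E, inf_eq_left.2 (le_centralizer Q')]
    have h2 := E.card_mul_index
    have h4 := Q'.card_mul_index
    rw [← index_comap_of_surjective Q' hπ, ← h1] at h4
    have h6 : 0 < E.index := Nat.pos_of_ne_zero index_ne_zero_of_finite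
    nlinarith
  have hx' : orderOf (π x) = 5 := orderOf_eq_prime
    (by rw [← map_pow, ← hx, pow_orderOf_eq_one, map_one]) fun e => by
      have := Z.orderOf_dvd_natCard ((hπ1 x).1 e)
      rw [hx, hZ] at this
      omega
  have h25' : ¬ 5 ^ 2 ∣ Nat.card (G ⧸ Z) := fun e => h25 (e.trans hqd)
  obtain ⟨h1, h2⟩ := classes_320 (H := G ⧸ Z) (fun s hs e => hpr s hs (e.trans hqd)) h25'
    (hx' ▸ orderOf_dvd_natCard _) (by
      by_contra h0
      have h1 := normal_zpowers_of_pCore Nat.prime_five h25' h0 hx'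
      have h2 : ∀ g, g * x * g⁻¹ ∈ zpowers x := fun g => by
        obtain ⟨k, hk⟩ := h1.conj_mem _ (mem_zpowers _) (π g)
        refine mem_zpowers_of_comm Nat.prime_five h25 hx
          (by rw [conj_pow, ← hx, pow_orderOf_eq_one]; simp) ?_
        have h4 : (x ^ k)⁻¹ * (g * x * g⁻¹) ∈ Z := QuotientGroup.eq.1 (by simpa [π] using hk)
        rw [← mul_inv_cancel_left (x ^ k) (g * x * g⁻¹)]
        exact ((Commute.refl x).zpow_right k).mul_right (mem_center_iff.1 (hZc h4) x)
      refine hN ⟨?_⟩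
      rintro _ ⟨k, rfl⟩ g
      simp only
      rw [← conj_zpow]
      exact zpow_mem (h2 g) k) h16
  have h4 := Cfsg.Agent.S4201.result Z
  have h6 := card_classes_le_card Z
  refine ⟨?_, by omega⟩
  nlinarith

end Cfsg.Lib.Char.Ct
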