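import Cfsg.Agent.Char.CtMain
import Cfsg.Agent.Char.Central
import Cfsg.Agent.Class.PSL2MaxList

/-! Lower bound for the class number of a transitive linear group of order prime to `p`. -/

set_option autoImplicit false

namespace Cfsg.Lib.Char.Ct

open Subgroup Cfsg.Lib.Perm Cfsg.Lib.Solv

theorem three_le_classes {H : Type*} [Group H] [Finite H] (h : 3 ≤ Nat.card H) :
    3 ≤ Nat.card (ConjClasses H) := by
  classical
  by_contra h1
  have : Nontrivial H := Finite.one_lt_card_iff_nontrivial.1 (by omega)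
  obtain ⟨x, hx⟩ := exists_ne (1 : H)
  have h2 : ∀ y : H, y ≠ 1 → IsConj x y := fun y hy => by
    by_contra h3
    have := Fintype.ofFinite (ConjClasses H)
    have h4 : ({ConjClasses.mk 1, ConjClasses.mk x, ConjClasses.mk y} :
        Finset (ConjClasses H)).card = 3 := by
      refine Finset.card_eq_three.2 ⟨_, _, _, ?_, ?_, ?_, rfl⟩ <;>
        simp only [ne_eq, ConjClasses.mk_eq_mk_iff_isConj, isConj_one_right, hx, hy, h3,
          not_false_eq_true]
    have h5 := Finset.card_le_univ ({ConjClasses.mk 1, ConjClasses.mk x, ConjClasses.mk y} :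
        Finset (ConjClasses H))
    rw [← Nat.card_eq_fintype_card] at h5
    omega
  have h3 := card_isConj_eq_index x
  have h4 : Nat.card {y // IsConj x y} = Nat.card {y : H // y ≠ 1} :=
    Nat.card_congr (Equiv.subtypeEquivRight fun y =>
      ⟨fun e f => hx (isConj_one_left.1 (f ▸ e)), h2 y⟩)
  have := Fintype.ofFinite H
  have h5 : Nat.card {y : H // y ≠ 1} = Nat.card H - 1 := by
    simp [Nat.card_eq_fintype_card]
  have h6 := (centralizer {x}).index_dvd_card
  rw [← h3, h4, h5] at h6
  have h7 : Nat.card H - 1 ∣ 1 := by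
    have := Nat.dvd_sub h6 (dvd_refl (Nat.card H - 1))
    rwa [show Nat.card H - (Nat.card H - 1) = 1 by omega] at this
  have := Nat.le_of_dvd one_pos h7
  omega

/-- Classes of a central extension lying over self-centralising elements do not fuse. -/
theorem classes_ge {G Q : Type*} [Group G] [Finite G] [Group Q] [DecidableEq Q] (π : G →* Q)
    (hπ : Function.Surjective π) (hZ : π.ker ≤ center G) (A B : Finset Q) (hAB : Disjoint A B)
    (hd : ∀ x ∈ A ∪ B, ∀ y ∈ A ∪ B, ∀ c, c * x = y * c → x = y)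
    (hA : ∀ x ∈ A, x = 1 ∨ ∀ y, y * x = x * y → ∃ k ∈ Finset.range 5, y = x ^ k) :
    A.card * Nat.card π.ker + B.card ≤ Nat.card (ConjClasses G) := by
  classical
  choose s hs using hπ
  let f : (A × π.ker) ⊕ B → ConjClasses G :=
    Sum.elim (fun a => ConjClasses.mk (s a.1 * a.2)) fun b => ConjClasses.mk (s b)
  have h1 : ∀ {g h : G}, ConjClasses.mk g = ConjClasses.mk h → π g ∈ A ∪ B → π h ∈ A ∪ B →
      π g = π h := fun e h1 h2 => by
    obtain ⟨c, hc⟩ := isConj_iff.1 (ConjClasses.mk_eq_mk_iff_isConj.1 e)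
    exact hd _ h1 _ h2 (π c) (by rw [← hc]; simp)
  have h2 : ∀ (a : Q) (c : π.ker), π (s a * c) = a := fun a c => by
    rw [map_mul, hs, MonoidHom.mem_ker.1 c.2, mul_one]
  have hf : Function.Injective f := by
    rintro (⟨a, c⟩ | a) (⟨b, d⟩ | b) e
    · have h3 := h1 e (by rw [h2]; simp) (by rw [h2]; simp)
      rw [h2, h2] at h3
      obtain rfl : a = b := Subtype.ext h3
      obtain ⟨g, hg⟩ := isConj_iff.1 (ConjClasses.mk_eq_mk_iff_isConj.1 e)
      have h4 : ∀ z ∈ π.ker, ∀ g, g * z = z * g := fun z hz g => mem_center_iff.1 (hZ hz) g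
      have h5 : g * s a = s a * g := by
        rcases hA a a.2 with h5 | h5
        · exact h4 _ (by rw [MonoidHom.mem_ker, hs, h5]) g
        · obtain ⟨k, -, hk⟩ := h5 (π g) (by
            have := congrArg π hg
            rw [map_mul, map_mul, h2, h2, map_inv, mul_inv_eq_iff_eq_mul] at this
            exact this)
          have h6 := h4 ((s a ^ k)⁻¹ * g) (by simp [MonoidHom.mem_ker, hs, hk]) (s a)
          calc g * s a = s a ^ k * (((s a ^ k)⁻¹ * g) * s a) := by group
            _ = s a * g := by rw [← h6]; group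
      simp only at hg
      rw [← mul_assoc, h5, mul_assoc, mul_assoc, ← mul_assoc g, h4 c c.2, mul_assoc,
        mul_inv_cancel, mul_one, mul_right_inj] at hg
      rw [Subtype.ext hg]
    · have h3 := h1 e (by rw [h2]; simp) (by rw [hs]; simp)
      rw [h2, hs] at h3
      exact absurd (h3 ▸ b.2) (Finset.disjoint_left.1 hAB a.2)
    · have h3 := h1 e (by rw [hs]; simp) (by rw [h2]; simp)
      rw [h2, hs] at h3
      exact absurd (h3 ▸ a.2) (Finset.disjoint_left.1 hAB b.2)
    · have h3 := h1 e (by rw [hs]; simp) (by rw [hs]; simp)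
      rw [hs, hs] at h3
      rw [Subtype.ext h3]
  simpa using Nat.card_le_card_of_injective f hf

theorem classes_ge_A4 {G : Type*} [Group G] [Finite G] (π : G →* alternatingGroup (Fin 4))
    (hπ : Function.Surjective π) (hZ : π.ker ≤ center G) :
    2 * Nat.card π.ker + 1 ≤ Nat.card (ConjClasses G) := by
  let a : alternatingGroup (Fin 4) := ⟨Equiv.swap 0 1 * Equiv.swap 1 2, by simp⟩
  let b : alternatingGroup (Fin 4) := ⟨Equiv.swap 0 1 * Equiv.swap 2 3, by simp⟩
  have := classes_ge π hπ hZ {1, a} {b} (by decide +kernel) (by decide +kernel)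
    (by decide +kernel)
  rwa [show ({1, a} : Finset _).card = 2 by decide +kernel] at this

theorem classes_ge_S4 {G : Type*} [Group G] [Finite G] (π : G →* Equiv.Perm (Fin 4))
    (hπ : Function.Surjective π) (hZ : π.ker ≤ center G) :
    3 * Nat.card π.ker + 2 ≤ Nat.card (ConjClasses G) := by
  let a : Equiv.Perm (Fin 4) := Equiv.swap 0 1 * Equiv.swap 1 2
  let b : Equiv.Perm (Fin 4) := Equiv.swap 0 1 * Equiv.swap 2 3
  have := classes_ge π hπ hZ {1, a, a * Equiv.swap 2 3} {Equiv.swap 0 1, b}
    (by decide +kernel) (by decide +kernel) (by decide +kernel)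
  rwa [show ({1, a, a * Equiv.swap 2 3} : Finset _).card = 3 by decide +kernel,
    show ({Equiv.swap 0 1, b} : Finset _).card = 2 by decide +kernel] at this

theorem classes_ge_A5 {G : Type*} [Group G] [Finite G] (π : G →* alternatingGroup (Fin 5))
    (hπ : Function.Surjective π) (hZ : π.ker ≤ center G) :
    3 * Nat.card π.ker + 1 ≤ Nat.card (ConjClasses G) := by
  let a : alternatingGroup (Fin 5) := ⟨Equiv.swap 0 1 * Equiv.swap 1 2, by simp⟩
  let b : alternatingGroup (Fin 5) := ⟨Equiv.swap 0 1 * Equiv.swap 2 3, by simp⟩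
  let c : alternatingGroup (Fin 5) := ⟨Equiv.swap 2 3 * Equiv.swap 3 4, by simp⟩
  have := classes_ge π hπ hZ {1, a, a * c} {b} (by decide +kernel) (by decide +kernel)
    (by decide +kernel)
  rwa [show ({1, a, a * c} : Finset _).card = 3 by decide +kernel] at this

variable {p : ℕ} [hp : Fact p.Prime] {V G : Type*} [AddCommGroup V] [Module (ZMod p) V] [Finite V]
  [Nontrivial V] [Group G] [Finite G] {ρ : G →* (V ≃ₗ[ZMod p] V)}

theorem lower (h : VTrans ρ) (hρ : Function.Injective ρ) (hG : ¬ p ∣ Nat.card G) :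
    p ≤ Nat.card (ConjClasses G) ∨ Nat.card V = p ∨
      (p = 11 ∧ Nat.card V = 121 ∧ Nat.card G = 120 ∧ ¬ Group.IsSolvable G) := by
  have h0 : 0 < Module.finrank (ZMod p) V := Module.finrank_pos
  have h1 := card_sub_dvd h
  have hV := card_eq (p := p) (V := V)
  by_cases h2 : Module.finrank (ZMod p) V = 1
  · exact Or.inr (Or.inl (by rw [hV, h2, pow_one]))
  have h3 := hp.out.two_le
  by_cases h5 : p < 5
  · have h6 : 2 ^ 2 ≤ Nat.card V :=
      hV ▸ (Nat.pow_le_pow_left h3 2).trans (Nat.pow_le_pow_right (by omega) (by omega))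
    have h7 := Nat.le_of_dvd Nat.card_pos h1
    have h8 := three_le_classes (H := G) (by omega)
    have h9 : p ≠ 4 := fun e => absurd hp.out (by rw [e]; norm_num)
    omega
  rcases classify h hρ hG with h6 | ⟨h6, h7⟩ | ⟨h6, -⟩
  · exact Or.inl (semi_lower h hρ h6 (by omega) (by omega))
  swap
  · omega
  obtain ⟨u, hu⟩ := card_scal_dvd hρ
  have h8 := card_eq_card_quotient_mul_card_subgroup (scal ρ)
  have h9 : 0 < Nat.card (scal ρ) := Nat.card_pos
  rw [Nat.card_zmod] at hu
  rw [h6] at hV
  have h10 : (p + 1) * u ∣ Nat.card (G ⧸ scal ρ) := by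
    rw [hV, h8, show p ^ 2 - 1 = (p + 1) * (p - 1) from Nat.sq_sub_sq p 1, hu, mul_comm _ u,
      ← mul_assoc] at h1
    exact Nat.dvd_of_mul_dvd_mul_right h9 h1
  have h11 : ∀ {Q : Type} [Group Q] (f : (G ⧸ scal ρ) ≃* Q),
      (f.toMonoidHom.comp (QuotientGroup.mk' (scal ρ))).ker = scal ρ := fun f => by
    ext g
    simp
  have h12 := Nat.le_of_dvd Nat.card_pos h10
  have h13 : 6 * u ≤ (p + 1) * u := Nat.mul_le_mul_right _ (by omega)
  have h14 : ∀ s, u ≤ s → Nat.card (scal ρ) * u ≤ s * Nat.card (scal ρ) := fun s hs => by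
    rw [mul_comm]; exact Nat.mul_le_mul_right _ hs
  rcases h7 with ⟨⟨f⟩⟩ | ⟨⟨f⟩⟩ | ⟨⟨f⟩⟩
  · have e1 := classes_ge_A4 _ (f.surjective.comp (QuotientGroup.mk'_surjective _))
      ((h11 f).le.trans (scal_le_center hρ))
    have e2 : Nat.card (G ⧸ scal ρ) = 12 := by
      rw [Nat.card_congr f.toEquiv, Nat.card_eq_fintype_card]; decide +kernel
    rw [h11] at e1
    have := h14 2 (by omega)
    omega
  · have e1 := classes_ge_S4 _ (f.surjective.comp (QuotientGroup.mk'_surjective _))
      ((h11 f).le.trans (scal_le_center hρ))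
    have e2 : Nat.card (G ⧸ scal ρ) = 24 := by
      rw [Nat.card_congr f.toEquiv, Nat.card_eq_fintype_card]; decide +kernel
    rw [h11] at e1
    by_cases e3 : u = 4
    · subst e3
      omega
    · have := h14 3 (by omega)
      omega
  · have e1 := classes_ge_A5 _ (f.surjective.comp (QuotientGroup.mk'_surjective _))
      ((h11 f).le.trans (scal_le_center hρ))
    have e2 : Nat.card (G ⧸ scal ρ) = 60 := by
      rw [Nat.card_congr f.toEquiv, Nat.card_eq_fintype_card]; decide +kernel
    rw [h11] at e1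
    by_cases e3 : u ≤ 3
    · have := h14 3 e3
      omega
    rw [e2] at h10 h12 h8
    have e4 : (p + 1) * 4 ≤ (p + 1) * u := Nat.mul_le_mul_left _ (by omega)
    have e5 : ¬ p ∣ 60 := fun e => hG (h8 ▸ e.mul_right _)
    have e6 : p = 11 := by
      have e7 := (dvd_mul_right _ _).trans h10
      have e8 := hp.out
      have : p ≤ 14 := by omega
      interval_cases p <;> first | rfl | omega | exact absurd e8 (by norm_num)
    subst e6
    have e7 : u = 5 := by
      have : u ≤ 5 := by omega
      interval_cases u <;> omega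
    subst e7
    refine Or.inr (Or.inr ⟨rfl, hV, by omega, fun e => Class.not_isSolvable_A5 ?_⟩)
    exact Group.isSolvable_of_surjective
      (f := f.toMonoidHom.comp (QuotientGroup.mk' (scal ρ)))
      (f.surjective.comp (QuotientGroup.mk'_surjective _))

end Cfsg.Lib.Char.Ct
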