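import Cfsg.Agent.Char.CtSemi
import Cfsg.Agent.FT.Final
import Cfsg.Agent.Ngrp.SadExt
import Cfsg.Agent.S3430

/-! Linear groups of order prime to the characteristic that are transitive on non-zero vectors. -/

set_option autoImplicit false

namespace Cfsg.Lib.Char.Ct

open Subgroup Cfsg.Lib.Perm Cfsg.Lib.Solv

theorem card_classes_congr {G H : Type*} [Group G] [Group H] (e : G ≃* H) :
    Nat.card (ConjClasses G) = Nat.card (ConjClasses H) := by
  refine Nat.card_congr ⟨ConjClasses.map e.toMonoidHom, ConjClasses.map e.symm.toMonoidHom,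
    fun c => ?_, fun c => ?_⟩ <;> obtain ⟨g, rfl⟩ := ConjClasses.mk_surjective c
  · exact congrArg ConjClasses.mk (e.symm_apply_apply g)
  · exact congrArg ConjClasses.mk (e.apply_symm_apply g)

theorem Poly.classes {H : Type*} [Group H] (h : Poly H) : Nat.card (ConjClasses H) ≤ 5 := by
  rcases h with ⟨⟨f⟩⟩ | ⟨⟨f⟩⟩ | ⟨⟨f⟩⟩ <;> rw [card_classes_congr f]
  · rw [card_classes_A4]; norm_num
  · rw [Ngrp.card_conjClasses_S4]
  · rw [card_classes_A5]

variable {p : ℕ} [hp : Fact p.Prime] {V G : Type*} [AddCommGroup V] [Module (ZMod p) V] [Finite V]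
  [Nontrivial V] [Group G] [Finite G] {ρ : G →* (V ≃ₗ[ZMod p] V)}

theorem plane (h : VTrans ρ) (hρ : Function.Injective ρ) (hG : ¬ p ∣ Nat.card G)
    (hn : Module.finrank (ZMod p) V = 2) :
    (IsSemilin fun g v => ρ g v) ∨ Poly (G ⧸ scal ρ) := by
  rcases dickson p hn hρ hG with ⟨w, hw, h1⟩ | ⟨B, h1, h2⟩ | h1
  · have h2 : ((ZMod p) ∙ w) = ⊤ := eq_top_iff.2 fun v _ => by
      by_cases hv : v = 0
      · simp [hv]
      · obtain ⟨g, rfl⟩ := h w v hw hv
        obtain ⟨c, hc⟩ := h1 g
        exact Submodule.mem_span_singleton.2 ⟨c, hc.symm⟩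
    have h3 := finrank_span_singleton (K := ZMod p) hw
    rw [h2, finrank_top] at h3
    omega
  · have h0 : B.index ≠ 0 := index_ne_zero_of_finite
    have : B.Normal := by
      rcases (by omega : B.index = 1 ∨ B.index = 2) with e | e
      · rw [index_eq_one.1 e]; infer_instance
      · exact normal_of_index_eq_two e
    obtain ⟨F, _, _, e, -, -, h3⟩ := exists_semilinear
      (LinearEquiv.automorphismGroup.toLinearMapMonoidHom.comp ρ) B fun W hW => by
        by_contra h3
        push Not at h3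
        obtain ⟨v, -, hv⟩ := (Submodule.ne_bot_iff W).1 h3.1
        have h4 := (h.halfTr B).index_dvd (U := W) (fun g => hW g g.2) hv
        have h5 : vStab (ρ.comp B.subtype) v = ⊥ :=
          eq_bot_iff.2 fun a ha => Subtype.ext (h.semiregular hρ B a a.2 v hv ha)
        have h6 := Submodule.finrank_lt h3.2
        have h7 : Module.finrank (ZMod p) W ≠ 0 := fun e => h3.1 (Submodule.finrank_eq_zero.1 e)
        rw [h5, index_bot, card_eq (p := p) (V := W), show Module.finrank (ZMod p) W = 1 by omega,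
          pow_one] at h4
        have h8 := hp.out.two_le
        have h9 := Nat.le_of_dvd (by omega) h4
        have h10 := Nat.le_of_dvd Nat.card_pos (card_sub_dvd h)
        rw [card_eq (p := p), hn, ← B.card_mul_index] at h10
        have h11 := Nat.mul_le_mul h9 h1
        have h12 : 2 * p ≤ p ^ 2 := by nlinarith
        omega
    exact Or.inl ⟨F, inferInstance, inferInstance, e, h3⟩
  · exact Or.inr h1

/-- The classification. -/
theorem classify (h : VTrans ρ) (hρ : Function.Injective ρ) (hG : ¬ p ∣ Nat.card G) :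
    (IsSemilin fun g v => ρ g v) ∨ (Module.finrank (ZMod p) V = 2 ∧ Poly (G ⧸ scal ρ)) ∨
      (p = 3 ∧ Nat.card V = 81 ∧ Nat.card (ConjClasses G) ≤ 64 ∧ Nat.card G ≤ 640) := by
  have h0 : 0 < Module.finrank (ZMod p) V := Module.finrank_pos
  by_cases h2 : p = 2
  · subst h2
    refine Or.inl ((h.huppert hρ (FT.odd_order_solvable (Nat.odd_iff.2 (by omega)))).resolve_right
      fun e => ?_)
    have h1 : 2 ∣ Nat.card V := by rw [card_eq (p := 2)]; exact dvd_pow_self 2 h0.ne'
    simp only [Set.mem_insert_iff, Set.mem_singleton_iff] at e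
    omega
  by_cases h1 : Module.finrank (ZMod p) V = 1
  · have := is_simple_module_of_finrank_eq_one (A := ZMod p) h1
    exact Or.inl (semilin_of_normal (A := ⊥) (one_mem _) fun W _ => eq_bot_or_eq_top W)
  by_cases h3 : Module.finrank (ZMod p) V = 2
  · exact (plane h hρ hG h3).imp_right fun e => Or.inl ⟨h3, e⟩
  by_cases h4 : p = 3 ∧ Module.finrank (ZMod p) V = 4
  · exact (four h hρ hG h4.2 h4.1).imp_right fun e =>
      Or.inr ⟨h4.1, by rw [card_eq (p := p), h4.2, h4.1]; rfl, e⟩
  by_cases h5 : (p = 3 ∨ p = 5) ∧ Module.finrank (ZMod p) V = 6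
  · exact Or.inl (six h hρ hG h5.2 h5.1)
  obtain ⟨r, hr, e1, e2, e3⟩ := Cfsg.Agent.S3430.result p (Module.finrank (ZMod p) V) hp.out.two_le
    (by omega) (fun e => h3 e.1) (fun e => h2 e.1) (by omega) (by omega)
  exact Or.inl (big h hρ hG rfl (by omega) hr e1 e2 e3)

theorem upper (h : VTrans ρ) (hρ : Function.Injective ρ) (hG : ¬ p ∣ Nat.card G) {v : V}
    (hv : v ≠ 0) :
    Nat.card (ConjClasses G) + Nat.card (vStab ρ v) ≤ Nat.card V ∧
      (Nat.card (ConjClasses G) + Nat.card (vStab ρ v) = Nat.card V → IsCyclic G ∨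
        (Nat.card V = 8 ∧ Nat.card G = 21) ∨ (Nat.card V = 9 ∧ Nat.card G = 16)) := by
  have h1 := card_eq_mul h hv
  rcases classify h hρ hG with h2 | ⟨h2, h3⟩ | ⟨-, h2, h3, h4⟩
  · exact semi_upper h hρ hG h2 hv
  · suffices Nat.card (ConjClasses G) + Nat.card (vStab ρ v) < Nat.card V from
      ⟨this.le, fun e => absurd e this.ne⟩
    have h4 := Cfsg.Agent.S4201.result (scal ρ)
    have h5 := card_scal_dvd hρ
    have h6 := card_eq_card_quotient_mul_card_subgroup (scal ρ)
    have h7 := card_quotient_dvd_card (scal ρ)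
    have h8 := hp.out.two_le
    rw [Nat.card_zmod] at h5
    have h9 := Nat.le_of_dvd (by omega) h5
    have h10 := h4.trans (Nat.mul_le_mul ((card_classes_le_card _).trans h9) h3.classes)
    rw [card_eq (p := p) (V := V), h2] at h1 ⊢
    have h11 : 5 ≤ p := hp.out.five_le_of_ne_two_of_ne_three
      (fun e => hG (e ▸ Dvd.dvd.trans (by rcases h3.card with e | e | e <;> simp [e]) h7))
      (fun e => hG (e ▸ Dvd.dvd.trans (by rcases h3.card with e | e | e <;> simp [e]) h7))
    obtain ⟨q, rfl⟩ : ∃ q, p = q + 1 := ⟨p - 1, by omega⟩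
    rw [show (q + 1) ^ 2 - 1 = (q + 2) * q by rw [Nat.sub_eq_iff_eq_add (by nlinarith)]; ring,
      ← mul_assoc] at h1
    simp only [Nat.add_sub_cancel] at h9 h10
    have h12 : Nat.card (vStab ρ v) * (q + 2) ≤ Nat.card (G ⧸ scal ρ) :=
      Nat.le_of_mul_le_mul_right (h1 ▸ h6 ▸ Nat.mul_le_mul_left _ h9) (by omega)
    by_cases h13 : q = 4
    · subst h13
      have : Nat.card (G ⧸ scal ρ) ≠ 60 := fun e => hG (Dvd.dvd.trans (by simp [e]) h7)
      have := h3.card
      omega
    · have h14 : q ≠ 5 := fun e => absurd hp.out (by rw [e]; norm_num)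
      have := h3.card
      have h15 : Nat.card (vStab ρ v) * 8 ≤ Nat.card (vStab ρ v) * (q + 2) :=
        Nat.mul_le_mul_left _ (by omega)
      have h16 : Nat.card (vStab ρ v) ≤ 7 := by omega
      have h17 : 6 ≤ q := by omega
      nlinarith
  · rw [h2] at h1 ⊢
    omega

end Cfsg.Lib.Char.Ct
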