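import Cfsg.Agent.Char.CtFour

/-! Class numbers of one-dimensional semilinear groups. -/

set_option autoImplicit false

namespace Cfsg.Lib.Char.Ct

open Subgroup Cfsg.Lib.Perm Cfsg.Lib.Solv

instance finite_ringAut {F : Type*} [Field F] [Finite F] : Finite (F ≃+* F) :=
  Finite.of_injective (fun σ : F ≃+* F => (σ : F → F)) DFunLike.coe_injective

theorem card_fixed {F : Type*} [Field F] [Finite F] (Γ : Subgroup (F ≃+* F)) :
    Nat.card F = Nat.card (FixedPoints.subfield Γ F) ^ Nat.card Γ := by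
  have := Fintype.ofFinite Γ
  rw [Module.natCard_eq_pow_finrank (K := FixedPoints.subfield Γ F), FixedPoints.finrank_eq_card,
    Nat.card_eq_fintype_card (α := Γ)]

/-- Counting commuting pairs with respect to an abelian subgroup. -/
theorem classes_le {G : Type*} [Group G] [Finite G] (A : Subgroup G) (c : ℕ)
    (h : ∀ g, g ∉ A → (A.index + 1) * Nat.card (A ⊓ centralizer {g} : Subgroup G) ≤ c) :
    Nat.card (ConjClasses G) * A.index ≤ Nat.card A + (A.index - 1) * c := by
  classical
  have := Fintype.ofFinite G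
  have h1 := sum_card_centralizer G
  have h2 : ∀ g : G, Nat.card (centralizer ({g} : Set G)) =
      ∑ x : G, if x * g = g * x then 1 else 0 := fun g => by
    rw [Finset.sum_boole, Nat.card_eq_fintype_card, Fintype.card_subtype]
    simp only [mem_centralizer_singleton_iff, Nat.cast_id]
  have h3 : ∀ g : G, Nat.card (A ⊓ centralizer {g} : Subgroup G) =
      ∑ x ∈ Finset.univ.filter (· ∈ A), if g * x = x * g then 1 else 0 := fun g => by
    rw [Finset.sum_boole, Nat.card_eq_fintype_card, Fintype.card_subtype, Finset.filter_filter]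
    simp only [mem_inf, mem_centralizer_singleton_iff, Nat.cast_id, eq_comm]
  have hA : (Finset.univ.filter (· ∈ A)).card = Nat.card A := by
    rw [Nat.card_eq_fintype_card, Fintype.card_subtype]
  have hB : (Finset.univ.filter (· ∉ A)).card = Nat.card A * (A.index - 1) := by
    have := Finset.card_filter_add_card_filter_not (s := Finset.univ) (fun g : G => g ∈ A)
    rw [hA, Finset.card_univ, ← Nat.card_eq_fintype_card, ← A.card_mul_index] at this
    rw [Nat.mul_sub, mul_one]
    omega
  have h4 : ∑ g ∈ Finset.univ.filter (· ∈ A), Nat.card (centralizer ({g} : Set G)) ≤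
      Nat.card A * Nat.card A +
        ∑ g ∈ Finset.univ.filter (· ∉ A), Nat.card (A ⊓ centralizer {g} : Subgroup G) := by
    simp only [h2, h3]
    rw [Finset.sum_comm, ← Finset.sum_filter_add_sum_filter_not Finset.univ (· ∈ A)]
    refine Nat.add_le_add_right ?_ _
    refine (Finset.sum_le_card_nsmul _ _ (Nat.card A) fun x _ => ?_).trans (by rw [hA]; rfl)
    rw [Finset.sum_boole, ← hA]
    exact Finset.card_filter_le _ _
  have h5 : ∀ g : G, Nat.card (centralizer ({g} : Set G)) ≤
      A.index * Nat.card (A ⊓ centralizer {g} : Subgroup G) := fun g => by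
    rw [← relIndex_mul_card_inf A (centralizer {g})]
    exact Nat.mul_le_mul_right _ (by
      rw [← relIndex_top_right]
      exact relIndex_le_of_le_right le_top (by simpa using index_ne_zero_of_finite))
  have h6 := Finset.sum_le_sum fun g (_ : g ∈ Finset.univ.filter (· ∉ A)) => h5 g
  have h7 := Finset.sum_le_card_nsmul _ _ c
    fun g (hg : g ∈ Finset.univ.filter (· ∉ A)) => h g (Finset.mem_filter.1 hg).2
  rw [← Finset.sum_filter_add_sum_filter_not Finset.univ (· ∈ A), ← A.card_mul_index] at h1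
  rw [← Finset.mul_sum] at h6 h7
  rw [hB, smul_eq_mul] at h7
  refine Nat.le_of_mul_le_mul_left ?_ (Nat.card_pos (α := A))
  nlinarith

theorem le_classes {G : Type*} [Group G] [Finite G] (A : Subgroup G) [IsMulCommutative A] :
    Nat.card A ≤ Nat.card (ConjClasses G) * A.index := by
  have h := (Cfsg.Agent.S4200.result A).1
  have h1 : Nat.card A ≤ Nat.card (ConjClasses A) :=
    Nat.card_le_card_of_injective ConjClasses.mk fun a b e => by
      obtain ⟨c, hc⟩ := isConj_iff.1 (ConjClasses.mk_eq_mk_iff_isConj.1 e)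
      rwa [mul_comm' c, mul_inv_cancel_right] at hc
  rw [mul_comm]
  exact h1.trans h

variable {p : ℕ} [hp : Fact p.Prime] {V G : Type*} [AddCommGroup V] [Module (ZMod p) V] [Finite V]
  [Group G] [Finite G] {ρ : G →* (V ≃ₗ[ZMod p] V)}

omit [Finite G] in
/-- The linear part of a semilinear group. -/
theorem exists_linear (hρ : Function.Injective ρ) (h : IsSemilin fun g v => ρ g v) :
    ∃ A : Subgroup G, A.Normal ∧ IsCyclic A ∧ A.index ≤ Module.finrank (ZMod p) V ∧
      ∀ g, g ∉ A → ∃ j o : ℕ, 2 ≤ o ∧ o ∣ Nat.card G ∧ Module.finrank (ZMod p) V = j * o ∧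
        Nat.card (A ⊓ centralizer {g} : Subgroup G) + 1 ≤ p ^ j := by
  obtain ⟨F, _, _, e, he⟩ := h
  choose a σ he using he
  replace he : ∀ g v, e (ρ g v) = a g * σ g (e v) := he
  have := charP_of_equiv (p := p) e
  have hF : Nat.card F = p ^ Module.finrank (ZMod p) V := by
    rw [← Nat.card_congr e.toEquiv, card_eq (p := p)]
  have h0 : ∀ g, a g ≠ 0 := fun g e0 => by
    have := he g (e.symm 1)
    rw [e0, zero_mul, e.map_eq_zero_iff, (ρ g).map_eq_zero_iff, e.symm.map_eq_zero_iff] at this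
    exact one_ne_zero this
  have h1 : ∀ g h y, a (g * h) * σ (g * h) y = a g * σ g (a h * σ h y) := fun g h y => by
    have := he (g * h) (e.symm y)
    rw [rho_mul, he, he, e.apply_symm_apply] at this
    exact this.symm
  have h2 : ∀ g h, a (g * h) = a g * σ g (a h) := fun g h => by simpa using h1 g h 1
  let s : G →* (F ≃+* F) := MonoidHom.mk' σ fun g h => by
    ext y
    have := h1 g h y
    rw [h2, map_mul, ← mul_assoc] at this
    exact mul_left_cancel₀ (h2 g h ▸ h0 (g * h)) this
  have hs : ∀ g, g ∈ s.ker ↔ σ g = 1 := fun _ => Iff.rfl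
  let f : s.ker →* Fˣ := MonoidHom.mk' (fun g => Units.mk0 (a g) (h0 g)) fun g h => by
    ext
    simp only [coe_mul, h2, (hs g).1 g.2, Units.val_mk0, Units.val_mul]
    rfl
  have hf : ∀ g ∈ s.ker, ∀ h ∈ s.ker, a g = a h → g = h := fun g hg h hh e0 =>
    eq_of_rho hρ fun v => e.injective (by rw [he, he, (hs g).1 hg, (hs h).1 hh, e0])
  have h3 : ∀ L : Subfield F, ∃ j, 0 < j ∧ Nat.card L = p ^ j := fun L => by
    have := Fintype.ofFinite L
    obtain ⟨j, -, hj⟩ := FiniteField.card L p
    exact ⟨j, j.2, by rwa [Nat.card_eq_fintype_card]⟩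
  refine ⟨s.ker, inferInstance, isCyclic_of_injective f fun g h e0 =>
    Subtype.ext (hf g g.2 h h.2 (congrArg Units.val e0)), ?_, fun g hg => ?_⟩
  · obtain ⟨j, hj, h4⟩ := h3 (FixedPoints.subfield s.range F)
    have h5 := card_fixed s.range
    rw [hF, h4, ← pow_mul] at h5
    rw [index_ker, Nat.pow_right_injective hp.out.two_le h5]
    exact Nat.le_mul_of_pos_left _ hj
  · obtain ⟨j, hj, h4⟩ := h3 (FixedPoints.subfield (zpowers (σ g)) F)
    have h5 := card_fixed (zpowers (σ g))
    rw [hF, h4, ← pow_mul, Nat.card_zpowers] at h5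
    refine ⟨j, orderOf (σ g), ?_, (orderOf_map_dvd s g).trans (orderOf_dvd_natCard g),
      Nat.pow_right_injective hp.out.two_le h5, ?_⟩
    · have h6 : orderOf (σ g) ≠ 1 := fun e0 => hg (orderOf_eq_one_iff.1 e0)
      have h7 := orderOf_pos (σ g)
      omega
    · have h6 : ∀ x : (s.ker ⊓ centralizer {g} : Subgroup G),
          a x ∈ FixedPoints.subfield (zpowers (σ g)) F := fun x => by
        have h7 : σ g (a x) = a x := by
          have h8 := congrArg a (mem_centralizer_singleton_iff.1 x.2.2)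
          rw [h2, h2, (hs x).1 x.2.1] at h8
          exact mul_left_cancel₀ (h0 g) (h8.symm.trans (mul_comm _ _))
        rintro ⟨_, k, rfl⟩
        exact (MulAction.stabilizer (F ≃+* F) (a x)).zpow_mem h7 k
      have h7 := Nat.card_le_card_of_injective
        (fun x : (s.ker ⊓ centralizer {g} : Subgroup G) => Units.mk0
          (⟨a x, h6 x⟩ : FixedPoints.subfield (zpowers (σ g)) F)
          fun e0 => h0 x (congrArg Subtype.val e0))
        fun x y e0 => Subtype.ext (hf x x.2.1 y y.2.1 (congrArg (fun u => u.1.1) e0))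
      rw [Nat.card_units, h4] at h7
      have := Nat.one_le_pow j p hp.out.pos
      omega

theorem arith_semi {p j o : ℕ} (hp : p.Prime) (ho : 2 ≤ o) (hj : 0 < j) (hpo : ¬ p ∣ o) :
    (j * o + 1) * p ^ j ≤ p ^ (j * o) ∧
      ((j * o + 1) * p ^ j = p ^ (j * o) → (p = 2 ∧ j * o = 3) ∨ (p = 3 ∧ j * o = 2)) := by
  obtain ⟨o, rfl⟩ : ∃ t, o = t + 1 := ⟨o - 1, by omega⟩
  rw [mul_add, mul_one, pow_add]
  suffices h : j * o + j + 1 < p ^ (j * o) ∨ (p = 2 ∧ j = 1 ∧ o = 2) ∨ (p = 3 ∧ j = 1 ∧ o = 1) by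
    rcases h with h | ⟨rfl, rfl, rfl⟩ | ⟨rfl, rfl, rfl⟩
    · exact ⟨Nat.mul_le_mul_right _ h.le, fun e =>
        absurd (Nat.eq_of_mul_eq_mul_right (pow_pos hp.pos _) e) h.ne⟩
    · simp
    · simp
  have h1 : ∀ u, 3 ≤ u → 3 * u + 2 < 2 * 2 ^ u := fun u hu => by
    induction u, hu using Nat.le_induction with
    | base => norm_num
    | succ k hk ih => rw [pow_succ]; omega
  have h2 : ∀ u, 2 ≤ u → 2 * u + 1 < 3 ^ u := fun u hu => by
    induction u, hu using Nat.le_induction with
    | base => norm_num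
    | succ k hk ih => rw [pow_succ]; omega
  by_cases h3 : p = 2
  · subst h3
    have h4 : 2 ≤ o := by omega
    have h5 := Nat.mul_le_mul_left j h4
    by_cases h6 : 3 ≤ j * o
    · have := h1 _ h6
      omega
    · obtain rfl : j = 1 := by omega
      omega
  · have h4 := Nat.mul_le_mul_left j (show 1 ≤ o by omega)
    have h5 : 3 ≤ p := by have := hp.two_le; omega
    by_cases h6 : 2 ≤ j * o
    · have := (h2 _ h6).trans_le (Nat.pow_le_pow_left h5 _)
      omega
    · obtain rfl : j = 1 := by omega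
      obtain rfl : o = 1 := by omega
      simp only [mul_one, pow_one, and_true]
      clear hpo
      omega

omit [Finite G] in
theorem card_eq_mul (h : VTrans ρ) {v : V} (hv : v ≠ 0) :
    Nat.card G = Nat.card (vStab ρ v) * (Nat.card V - 1) := by
  rw [← h.index_eq hv, card_mul_index]

variable [Nontrivial V]

theorem semi_upper (h : VTrans ρ) (hρ : Function.Injective ρ) (hG : ¬ p ∣ Nat.card G)
    (hs : IsSemilin fun g v => ρ g v) {v : V} (hv : v ≠ 0) :
    Nat.card (ConjClasses G) + Nat.card (vStab ρ v) ≤ Nat.card V ∧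
      (Nat.card (ConjClasses G) + Nat.card (vStab ρ v) = Nat.card V → IsCyclic G ∨
        (Nat.card V = 8 ∧ Nat.card G = 21) ∨ (Nat.card V = 9 ∧ Nat.card G = 16)) := by
  obtain ⟨A, _, _, h1, h2⟩ := exists_linear hρ hs
  have : IsMulCommutative A := IsCyclic.isMulCommutative
  have h3 := Nat.le_of_dvd (by have : 1 < Nat.card V := Finite.one_lt_card; omega)
    (card_normal_dvd h hρ A)
  have h4 := card_eq_mul h hv
  have h5 := A.card_mul_index
  have hV := card_eq (p := p) (V := V)
  have hq : 1 < Nat.card V := Finite.one_lt_card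
  have h6 : Nat.card (vStab ρ v) ≤ A.index := by
    refine Nat.le_of_mul_le_mul_right ?_ (show 0 < Nat.card V - 1 by omega)
    rw [← h4, ← h5, mul_comm]
    exact Nat.mul_le_mul_left _ h3
  have h7 : 0 < Nat.card (vStab ρ v) := Nat.card_pos
  by_cases hA : A.index = 1
  · have h8 := card_classes_le_card G
    rw [show Nat.card (vStab ρ v) = 1 by omega] at h4 ⊢
    refine ⟨by omega, fun _ => Or.inl ?_⟩
    rw [index_eq_one] at hA
    subst hA
    exact isCyclic_of_surjective _ topEquiv.surjective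
  have h8 : ∀ g, g ∉ A → ∃ j o : ℕ, 2 ≤ o ∧ 0 < j ∧ ¬ p ∣ o ∧ Nat.card V = p ^ (j * o) ∧
      (A.index + 1) * Nat.card (A ⊓ centralizer {g} : Subgroup G) + (A.index + 1) ≤
        (j * o + 1) * p ^ j := fun g hg => by
    obtain ⟨j, o, e1, e2, e3, e4⟩ := h2 g hg
    refine ⟨j, o, e1, Nat.pos_of_ne_zero fun e => ?_, fun e => hG (e.trans e2), e3 ▸ hV, ?_⟩
    · rw [e3, e, zero_mul] at h1
      omega
    · exact Nat.mul_le_mul (Nat.succ_le_succ (e3 ▸ h1)) e4
  obtain ⟨s, hs'⟩ : ∃ s, A.index = s + 2 := ⟨A.index - 2, by omega⟩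
  obtain ⟨q, hq'⟩ : ∃ q, Nat.card V = q + 1 := ⟨Nat.card V - 1, by omega⟩
  have key : ∀ δ, (∀ g, g ∉ A → (A.index + 1) * Nat.card (A ⊓ centralizer {g} : Subgroup G) +
      (A.index + 1) + δ ≤ Nat.card V) → (Nat.card (ConjClasses G) + A.index) * A.index +
        (A.index - 1) * δ + (Nat.card V - 1) ≤ Nat.card V * A.index + Nat.card A := fun δ hδ => by
    obtain ⟨g, hg⟩ : ∃ g, g ∉ A := by
      by_contra h9
      push Not at h9
      exact hA (index_eq_one.2 (eq_top_iff.2 fun g _ => h9 g))
    obtain ⟨c, hc⟩ : ∃ c, Nat.card V = c + (A.index + 1) + δ :=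
      ⟨Nat.card V - (A.index + 1) - δ, by have := hδ g hg; omega⟩
    have := classes_le A c fun g hg => by have := hδ g hg; omega
    rw [hc, hs'] at *
    simp only [Nat.add_succ_sub_one] at *
    rw [show c + (s + 2 + 1) + δ - 1 = c + s + 2 + δ by omega]
    nlinarith
  have h9 := key 0 fun g hg => by
    obtain ⟨j, o, e1, e2, e3, e4, e5⟩ := h8 g hg
    exact e4 ▸ e5.trans (arith_semi hp.out e1 e2 e3).1
  have h10 : Nat.card (ConjClasses G) + A.index ≤ Nat.card V :=
    Nat.le_of_mul_le_mul_right (c := A.index) (by omega) (by omega)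
  refine ⟨by omega, fun e => Or.inr ?_⟩
  have h11 : Nat.card (vStab ρ v) = A.index := by omega
  by_contra h12
  have h13 := key 1 fun g hg => by
    obtain ⟨j, o, e1, e2, e3, e4, e5⟩ := h8 g hg
    obtain ⟨e6, e7⟩ := arith_semi hp.out e1 e2 e3
    refine e4 ▸ Nat.succ_le_of_lt (e5.trans_lt (lt_of_le_of_ne e6 fun e8 => h12 ?_))
    have e9 : Module.finrank (ZMod p) V = j * o :=
      Nat.pow_right_injective hp.out.two_le (hV.symm.trans e4)
    have e10 : ¬ p ∣ A.index := fun e => hG (e.trans A.index_dvd_card)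
    rcases e7 e8 with ⟨rfl, e11⟩ | ⟨rfl, e11⟩ <;> rw [e11] at e4 e9
    · left
      rw [h4, e4, h11]
      omega
    · right
      rw [h4, e4, h11]
      omega
  rw [← h11, e, h11] at h13
  omega

theorem semi_lower (h : VTrans ρ) (hρ : Function.Injective ρ) (hs : IsSemilin fun g v => ρ g v)
    (h2 : 2 ≤ Module.finrank (ZMod p) V) (h5 : 5 ≤ p) : p ≤ Nat.card (ConjClasses G) := by
  obtain ⟨A, _, _, h1, -⟩ := exists_linear hρ hs
  have : IsMulCommutative A := IsCyclic.isMulCommutative
  have h3 := le_classes A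
  have h4 := Nat.le_of_dvd Nat.card_pos (card_sub_dvd h)
  rw [card_eq (p := p), ← A.card_mul_index] at h4
  generalize Module.finrank (ZMod p) V = n at *
  have h6 : ∀ n, 2 ≤ n → p * (n * n) < p ^ n := fun n hn => by
    induction n, hn using Nat.le_induction with
    | base => nlinarith
    | succ k hk ih =>
      have h6 : (k + 1) * (k + 1) ≤ k * k * p :=
        le_trans (by nlinarith) (Nat.mul_le_mul_left (k * k) h5)
      calc p * ((k + 1) * (k + 1)) ≤ p * (k * k) * p := by
            rw [mul_assoc]; exact Nat.mul_le_mul_left _ h6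
        _ < _ := by rw [pow_succ]; exact Nat.mul_lt_mul_of_pos_right ih hp.out.pos
  have h7 := h6 n h2
  by_contra h8
  have h10 := Nat.mul_le_mul (h3.trans (Nat.mul_le_mul (Nat.le_sub_one_of_lt (not_le.1 h8)) h1)) h1
  rw [mul_assoc, Nat.sub_mul] at h10
  have : 2 * 2 ≤ n * n := Nat.mul_le_mul h2 h2
  have := Nat.mul_le_mul_right (n * n) h5
  generalize n * n = m at *
  omega

end Cfsg.Lib.Char.Ct
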