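import Cfsg.Agent.Char.DegThompson
import Cfsg.Agent.Solv.Nilpotent
import Cfsg.Agent.Solv.Frattini

/-! Broline's theorem on kernels of characters of maximal degree (Isaacs 12.17–12.20). -/

namespace Cfsg.Lib.Char.Deg

open Cfsg Cfsg.Lib.Char Cfsg.Lib.Solv
open scoped commutatorElement

variable {G : Type*} [Group G] [Finite G] {χ : G → ℂ}

theorem res_irr_of_charKer_sup (hχ : IsIrrCharacter G χ) {H : Subgroup G}
    (h : charKer χ ⊔ H = ⊤) : IsIrrCharacter H fun x : H => χ x := by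
  have := hχ.charKer_normal
  have h1 := (hχ.deflate le_rfl).comp_of_surjective ((QuotientGroup.mk' _).comp H.subtype) fun x => by
    obtain ⟨g, rfl⟩ := QuotientGroup.mk_surjective x
    obtain ⟨k, hk, y, hy, rfl⟩ := Subgroup.mem_sup_of_normal_left.1 (h.ge (Subgroup.mem_top g))
    exact ⟨⟨y, hy⟩, by simp [(QuotientGroup.eq_one_iff k).2 hk]⟩
  exact (funext fun x : H => hχ.isClassFunction.deflate_mk le_rfl (x : G)) ▸ h1

/-- Isaacs 12.17: if all constituents of `(χ_H)^G` restrict to `χ_H`, then `χ` vanishes on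
`H` outside the core of `H`. -/
theorem mem_normalCore_of_forall_res_eq [Fintype G] {H : Subgroup G} [Fintype H]
    (hχ : IsIrrCharacter G χ) (h : ∀ ψ, IsIrrCharacter G ψ →
      classInner (fun x : H => ψ x) (fun x : H => χ x) ≠ 0 → ∀ x ∈ H, ψ x = χ x)
    {x : G} (hx : x ∈ H) (h0 : χ x ≠ 0) : x ∈ H.normalCore := by
  have hθ := hχ.isCharacter.res H
  obtain ⟨c, hc, hsum, -⟩ := (isCharacter_indFun hθ).exists_nat_multiplicity
  have h1 : ∀ y ∈ H, indFun H (fun _ => 1) y * χ y = (∑ ψ, (c ψ : ℂ)) * χ y := fun y hy => by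
    rw [← Pi.mul_apply, ← indFun_res H hχ.isClassFunction, hsum, Finset.sum_apply, Finset.sum_mul]
    refine Finset.sum_congr rfl fun ψ _ => ?_
    by_cases h2 : c ψ = 0
    · simp [h2]
    rw [← h ψ ψ.2 (by
      rw [← classInner_indFun_irr_eq hθ ψ.2.isCharacter, hc]; exact_mod_cast h2) y hy]
    rfl
  have hπ := isCharacter_indFun_one H
  have := hπ.charKer_normal
  refine Subgroup.normal_le_normalCore.2
    (charKer_indFun_le isIrrCharacter_one.isCharacter one_ne_zero) (hπ.mem_charKer_iff.2 ?_)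
  rw [mul_right_cancel₀ h0 (h1 x hx), mul_right_cancel₀ hχ.apply_one_ne_zero (h1 1 H.one_mem)]

theorem mem_normalCore_of_isCoatom (hχ : IsIrrCharacter G χ)
    (hmax : ∀ ψ, IsIrrCharacter G ψ → charDegree χ < charDegree ψ → ¬ charKer ψ < charKer χ)
    {H : Subgroup G} (hH : IsCoatom H) (hK : ¬ charKer χ ≤ H) {x : G} (hx : x ∈ H) (h0 : χ x ≠ 0) :
    x ∈ H.normalCore := by
  have := Fintype.ofFinite G
  have := Fintype.ofFinite H
  have hθ := res_irr_of_charKer_sup hχ (hH.2 _ (right_lt_sup.2 hK))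
  refine mem_normalCore_of_forall_res_eq hχ (fun ψ hψ h y hy => ?_) hx h0
  refine congrFun (?_ : (fun x : H => ψ x) = fun x : H => χ x) ⟨y, hy⟩
  by_cases hL : charKer ψ ≤ H
  · by_contra hne
    have h1 := deg_lt_of_classInner_ne_zero (hψ.isCharacter.res H) hθ h hne
    rw [deg_res, deg_res] at h1
    refine hmax ψ hψ h1 (lt_of_le_of_ne (fun z hz => ?_) fun h2 => hK (h2 ▸ hL))
    have h2 := le_charKer_of_lies_over hψ.isCharacter hθ h le_rfl (x := ⟨z, hL hz⟩) hz
    rwa [hχ.isCharacter.charKer_res] at h2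
  · exact (res_irr_of_charKer_sup hψ (hH.2 _ (right_lt_sup.2 hL))).eq_of_classInner_ne_zero hθ h

/-- Broline's theorem, part (a). -/
theorem exists_lt_of_not_isNilpotent (hχ : IsIrrCharacter G χ)
    (h : ¬ Group.IsNilpotent (charKer χ)) :
    ∃ ψ, IsIrrCharacter G ψ ∧ charDegree χ < charDegree ψ ∧ charKer ψ < charKer χ := by
  by_contra hcon
  push Not at hcon
  have := hχ.charKer_normal
  refine h (isNilpotent_of_forall_sylow_normal fun p _ P => ?_)
  suffices h1 : (P : Subgroup (charKer χ)).map (charKer χ).subtype |>.Normal by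
    simpa [Subgroup.comap_map_eq_self_of_injective (charKer χ).subtype_injective] using
      h1.comap (charKer χ).subtype
  by_contra hne
  rw [← Subgroup.normalizer_eq_top_iff] at hne
  obtain ⟨H, hH, hle⟩ := (eq_top_or_exists_le_coatom _).resolve_left hne
  have hK : ¬ charKer χ ≤ H := fun h1 =>
    hH.1 (top_le_iff.1 (P.normalizer_sup_eq_top.ge.trans (sup_le hle h1)))
  have hD : (charKer χ ⊓ H.normalCore).Normal := inferInstance
  have hPD : (P : Subgroup (charKer χ)) ≤ (charKer χ ⊓ H.normalCore).subgroupOf (charKer χ) :=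
    fun x hx => ⟨x.2, mem_normalCore_of_isCoatom hχ hcon hH hK
      (hle (Subgroup.le_normalizer ⟨x, hx, rfl⟩))
      ((apply_of_mem_charKer x.2).trans_ne hχ.apply_one_ne_zero)⟩
  refine hK fun k hk => ?_
  have h2 : (⊤ : Subgroup (charKer χ)) ≤ H.subgroupOf (charKer χ) := by
    have h3 := P.normalizer_sup_eq_top' hPD
    rw [← P.coe_coe] at h3
    refine h3.ge.trans (sup_le (fun y hy => hle ?_) fun y hy => H.normalCore_le hy.2)
    exact Subgroup.le_normalizer_map (charKer χ).subtype ⟨y, hy, rfl⟩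
  exact h2 (Subgroup.mem_top (⟨k, hk⟩ : charKer χ))

theorem exists_notMem_charKer_ne_zero (hχ : IsIrrCharacter G χ) (h : charKer χ ≠ ⊤) :
    ∃ g, g ∉ charKer χ ∧ χ g ≠ 0 := by
  classical
  have := Fintype.ofFinite G
  by_contra hcon
  push Not at hcon
  have h1 := hχ.sum_eq_zero (mt hχ.charKer_eq_top_iff.2 h)
  rw [← Finset.sum_filter_add_sum_filter_not _ (· ∈ charKer χ),
    Finset.sum_eq_zero (s := Finset.univ.filter fun g => ¬ g ∈ charKer χ)
      fun g hg => hcon g (Finset.mem_filter.1 hg).2, add_zero,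
    Finset.sum_congr rfl fun g hg => apply_of_mem_charKer (Finset.mem_filter.1 hg).2,
    Finset.sum_const, nsmul_eq_mul, mul_eq_zero, Nat.cast_eq_zero, Finset.card_eq_zero] at h1
  exact h1.elim (Finset.ne_empty_of_mem (a := 1) (by simp)) hχ.apply_one_ne_zero

/-- Broline's theorem, part (b). -/
theorem exists_lt_of_eq_fitting (hχ : IsIrrCharacter G χ) {K : Subgroup G} [hK : K.Normal]
    (hKχ : charKer χ = K) (h : K = fittingSubgroup G) (hs : Group.IsSolvable (G ⧸ K))
    (hne : K ≠ ⊤) :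
    ∃ ψ, IsIrrCharacter G ψ ∧ charDegree χ < charDegree ψ ∧ charKer ψ < charKer χ := by
  by_contra hcon
  push Not at hcon
  have : Group.IsNilpotent K := h ▸ inferInstance
  have hKK := commutator_le_frattini_of_normal_of_isNilpotent K
  let M : Subgroup G := (Subgroup.centralizer (K.map (QuotientGroup.mk' (frattini G)) : Set _)).comap
    (QuotientGroup.mk' (frattini G))
  have hM : ∀ g, g ∈ M ↔ ∀ k ∈ K, ⁅k, g⁆ ∈ frattini G := fun g =>
    ⟨fun hg k hk => (QuotientGroup.eq_one_iff _).1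
      (commutatorElement_eq_one_iff_mul_comm.2 (hg _ ⟨k, hk, rfl⟩)), by
      rintro hg _ ⟨k, hk, rfl⟩
      exact commutatorElement_eq_one_iff_mul_comm.1 ((QuotientGroup.eq_one_iff _).2 (hg k hk))⟩
  have := hK.map _ (QuotientGroup.mk'_surjective (frattini G))
  have : M.Normal := Subgroup.Normal.comap inferInstance _
  obtain ⟨g, hg, hg0⟩ := exists_notMem_charKer_ne_zero hχ (hKχ ▸ hne)
  have hgM : g ∈ M := (hM g).2 fun k hk => mem_frattini_iff.2 fun H hH => by
    by_cases h1 : charKer χ ≤ H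
    · refine h1 (hKχ ▸ ?_)
      simpa [commutatorElement_def, mul_assoc] using K.mul_mem hk (hK.conj_mem _ (K.inv_mem hk) g)
    have := hχ.charKer_normal
    obtain ⟨a, ha, y, hy, rfl⟩ := Subgroup.mem_sup_of_normal_left.1
      ((hH.2 _ (right_lt_sup.2 h1)).ge (Subgroup.mem_top g))
    have h2 := mem_normalCore_of_isCoatom hχ hcon hH h1 hy (apply_mul_of_mem_charKer ha y ▸ hg0)
    rw [show ⁅k, a * y⁆ = ⁅k, a⁆ * (a * (k * y * k⁻¹ * y⁻¹) * a⁻¹) by
      simp [commutatorElement_def, mul_assoc]]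
    refine H.mul_mem (frattini_le_coatom hH (hKK (Subgroup.commutator_mem_commutator hk (hKχ ▸ ha))))
      (H.normalCore_le (Subgroup.Normal.conj_mem inferInstance _ (H.normalCore.mul_mem
        (Subgroup.Normal.conj_mem inferInstance _ h2 k) (H.normalCore.inv_mem h2)) a))
  obtain ⟨L, hL, hKL, hLM, hc⟩ := exists_chief_above (L := K) (K := M) (lt_of_le_of_ne
    (fun x hx => (hM x).2 fun k hk => hKK (Subgroup.commutator_mem_commutator hk hx))
    fun h1 => hg (hKχ ▸ h1 ▸ hgM))
  obtain ⟨-, -, h1, -⟩ := chief_elementary hKL hc hs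
  refine hKL.not_ge (h ▸ le_fitting hL (isNilpotent_of_map_mk_of_le_frattini L (frattini G)
    ((frattini_le_fitting G).trans (h ▸ hKL.le)) le_rfl
    (Subgroup.isNilpotent_of_lowerCentralSeries_eq_bot (n := 2) ?_)))
  rw [← Subgroup.map_lowerCentralSeries, map_mk'_eq_bot_iff]
  exact Subgroup.commutator_le.2 fun a ha b hb => (hM b).1 (hLM hb) a (h1 ha)

end Cfsg.Lib.Char.Deg
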