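import Cfsg.Prelude.Def_Transfer
import Cfsg.Agent.Char.DegBasic
import Cfsg.Agent.Solv.PGroupNormal

/-! Irreducible characters of extraspecial groups. -/

namespace Cfsg.Lib.Char.Deg

open Cfsg Cfsg.Lib.Char

variable {P : Type*} [Group P] [Finite P] {p : ℕ} [hp : Fact p.Prime] {χ : P → ℂ}

theorem charKer_eq_bot_of_extraspecial (hP : IsExtraspecial p P) (hχ : IsIrrCharacter P χ)
    (h : ¬ Subgroup.center P ≤ charKer χ) : charKer χ = ⊥ := by
  by_contra hk
  haveI := hχ.charKer_normal
  obtain ⟨w, hwk, hw, hwo⟩ := Solv.PG.exists_mem_center_orderOf_eq hP.1.1 (charKer χ) hk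
  apply h
  have : Subgroup.zpowers w = Subgroup.center P :=
    Solv.PG.eq_of_le_of_card_eq (Subgroup.zpowers_le.2 hw) (by rw [Nat.card_zpowers, hwo, hP.2])
  rw [← this]
  exact Subgroup.zpowers_le.2 hwk

theorem center_le_charKer_iff_of_extraspecial (hP : IsExtraspecial p P)
    (hχ : IsIrrCharacter P χ) : Subgroup.center P ≤ charKer χ ↔ charDegree χ = 1 := by
  rw [← hP.1.2.2, commutator_le_charKer_iff hχ]

theorem apply_eq_zero_of_extraspecial (hP : IsExtraspecial p P) (hχ : IsIrrCharacter P χ)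
    (h : charDegree χ ≠ 1) {g : P} (hg : g ∉ Subgroup.center P) : χ g = 0 := by
  have hk := charKer_eq_bot_of_extraspecial hP hχ
    (mt (center_le_charKer_iff_of_extraspecial hP hχ).1 h)
  have hc := hχ.charCenter_eq_center_of_faithful hk
  exact hχ.apply_eq_zero_of_commutator_le (by rw [hc, hP.1.2.2]) (by rwa [hc])

theorem deg_sq_eq_of_extraspecial (hP : IsExtraspecial p P) (hχ : IsIrrCharacter P χ)
    (h : charDegree χ ≠ 1) : charDegree χ ^ 2 = (Subgroup.center P).index :=
  (hχ.nat_degree_sq_eq_index_iff hχ.center_le_charCenter (apply_one_eq hχ.isCharacter)).2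
    fun _ hg => apply_eq_zero_of_extraspecial hP hχ h hg

theorem index_center_of_extraspecial (hP : IsExtraspecial p P) {n : ℕ}
    (hcard : Nat.card P = p ^ (2 * n + 1)) : (Subgroup.center P).index = p ^ (2 * n) := by
  have h := (Subgroup.center P).index_mul_card
  rw [hP.2, hcard, pow_succ] at h
  exact Nat.eq_of_mul_eq_mul_right hp.out.pos h

theorem deg_eq_of_extraspecial (hP : IsExtraspecial p P) {n : ℕ}
    (hcard : Nat.card P = p ^ (2 * n + 1)) (hχ : IsIrrCharacter P χ)
    (h : charDegree χ ≠ 1) : charDegree χ = p ^ n := by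
  have h1 := deg_sq_eq_of_extraspecial hP hχ h
  rw [index_center_of_extraspecial hP hcard, mul_comm, pow_mul] at h1
  exact (Nat.pow_left_injective two_ne_zero) h1

theorem index_center_ne_one_of_extraspecial (hP : IsExtraspecial p P) :
    (Subgroup.center P).index ≠ 1 := by
  intro h
  rw [Subgroup.index_eq_one] at h
  have h1 : commutator P = ⊥ := by
    rw [commutator_eq_bot_iff_center_eq_top]; exact h
  have h2 := hP.2
  rw [← hP.1.2.2, h1, Subgroup.card_bot] at h2
  exact hp.out.one_lt.ne h2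

/-- An extraspecial group has exactly `p - 1` nonlinear irreducible characters. -/
theorem card_nonlinear_of_extraspecial (hP : IsExtraspecial p P) :
    Nat.card {χ : IrrCharacter P // charDegree (χ : P → ℂ) ≠ 1} = p - 1 := by
  classical
  have h1 := sum_irr_not_ker_degree_sq (Subgroup.center P)
  have h2 : ∀ χ ∈ Finset.univ.filter
      (fun χ : IrrCharacter P => ¬ Subgroup.center P ≤ charKer (χ : P → ℂ)),
      (χ : P → ℂ) 1 ^ 2 = ((Subgroup.center P).index : ℂ) := by
    intro χ hχ
    rw [Finset.mem_filter, center_le_charKer_iff_of_extraspecial hP χ.2] at hχ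
    rw [apply_one_eq χ.2.isCharacter, ← deg_sq_eq_of_extraspecial hP χ.2 hχ.2, Nat.cast_pow]
  rw [Finset.sum_congr rfl h2, Finset.sum_const, nsmul_eq_mul,
    ← (Subgroup.center P).index_mul_card, hP.2] at h1
  have h3 : ((Finset.univ.filter
      (fun χ : IrrCharacter P => ¬ Subgroup.center P ≤ charKer (χ : P → ℂ))).card : ℂ) =
      ((p - 1 : ℕ) : ℂ) := by
    have h0 : ((Subgroup.center P).index : ℂ) ≠ 0 :=
      Nat.cast_ne_zero.2 Subgroup.index_ne_zero_of_finite
    apply mul_right_cancel₀ h0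
    rw [h1, Nat.cast_sub hp.out.one_le]
    push_cast
    ring
  rw [Nat.card_eq_fintype_card, Fintype.card_subtype, ← Nat.cast_inj (R := ℂ), ← h3]
  congr 2
  ext χ
  simp only [Finset.mem_filter, center_le_charKer_iff_of_extraspecial hP χ.2]

end Cfsg.Lib.Char.Deg
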