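import Cfsg.Agent.Char.DegFourB

/-! Garrison's theorem: solvable groups with four character degrees have derived length at most
four. -/

set_option autoImplicit false

open Cfsg Cfsg.Lib.Solv
open scoped commutatorElement

namespace Cfsg.Lib.Char.Deg.Four

universe u

variable {G : Type*} [Group G]

theorem dr_mono {N M : Subgroup G} (h : N ≤ M) (k : ℕ) : dr N k ≤ dr M k := by
  induction k with
  | zero => exact h
  | succ k ih => rw [dr_succ, dr_succ]; exact Subgroup.commutator_mono ih ih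

theorem map_derivedSeries (N : Subgroup G) (k : ℕ) : (derivedSeries N k).map N.subtype = dr N k := by
  rw [← zero_add k, ← dr_derivedSeries, map_dr, zero_add, derivedSeries_zero,
    ← MonoidHom.range_eq_map, Subgroup.range_subtype]

variable [Finite G]

theorem small {S : Finset ℕ} (hS : S.card ≤ 2)
    (h : ∀ χ, IsIrrCharacter G χ → charDegree χ = 1 ∨ charDegree χ ∈ S) :
    derivedSeries G (S.card + 1) = ⊥ := by
  rcases Nat.le_succ_iff.1 hS with h1 | h1
  · rcases Nat.le_succ_iff.1 h1 with h2 | h2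
    · rw [Nat.le_zero, Finset.card_eq_zero] at h2
      subst h2
      exact eq_bot_of_forall_le_charKer fun χ hχ =>
        (commutator_le_charKer_iff hχ).2 (by simpa using h χ hχ)
    · obtain ⟨m, rfl⟩ := Finset.card_eq_one.1 h2
      exact derivedSeries_two_of_two_degrees (m := m) fun χ hχ => by simpa using h χ hχ
  · obtain ⟨m, n, -, rfl⟩ := Finset.card_eq_two.1 h1
    rw [h1]
    exact three_degrees G m n fun χ hχ => by simpa using h χ hχ

theorem case_common {S : Finset ℕ} (hS : S.card = 3)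
    (h : ∀ χ, IsIrrCharacter G χ → charDegree χ = 1 ∨ charDegree χ ∈ S) {p : ℕ} (hp : p.Prime)
    (hd : ∀ d ∈ S, p ∣ d) (hpG : p ∣ Nat.card G)
    (ih : ∀ L : Subgroup G, L ≠ ⊤ → ∀ T : Finset ℕ, T.card ≤ 3 →
      (∀ χ, IsIrrCharacter L χ → charDegree χ = 1 ∨ charDegree χ ∈ T) → derivedSeries L 4 = ⊥) :
    derivedSeries G 4 = ⊥ := by
  classical
  have := Fintype.ofFinite G
  have := Fact.mk hp
  obtain ⟨L, hL, hLp, k, hk⟩ := thompson_exists (G := G) hp fun χ hχ h1 =>
    hd _ ((h χ hχ).resolve_left h1)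
  have hcdL : ∀ θ, IsIrrCharacter L θ → charDegree θ = 1 ∨
      charDegree θ ∈ (S.filter fun d => ¬ ordCompl[p] d = 1).image fun d => ordCompl[p] d := by
    intro θ hθ
    obtain ⟨χ, j, hχ, h1, h2⟩ := exists_irr_deg_eq_mul hθ
    obtain ⟨i, -, rfl⟩ := (Nat.dvd_prime_pow hp).1 (hk ▸ h2)
    have h3 : ¬ p ∣ charDegree θ := fun h => hp.one_lt.ne'
      (Nat.eq_one_of_dvd_coprimes hLp (h.trans (deg_dvd_card hθ)) dvd_rfl)
    have h4 : ordCompl[p] (charDegree χ) = charDegree θ := by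
      rw [h1, Nat.ordCompl_mul, Nat.ordCompl_self_pow hp, one_mul,
        (Nat.ordCompl_eq_self_iff_zero_or_not_dvd _ hp).2 (Or.inr h3)]
    refine or_iff_not_imp_left.2 fun h5 => Finset.mem_image.2 ⟨_, Finset.mem_filter.2
      ⟨(h χ hχ).resolve_left fun h6 => h5 ?_, h4 ▸ h5⟩, h4⟩
    rw [← h4, h6]; simp
  have hcdQ : ∀ χ, IsIrrCharacter G χ → ⁅L, L⁆ ≤ charKer χ → ordCompl[p] (charDegree χ) = 1 := by
    intro χ hχ hker
    obtain ⟨θ, hθ, hne⟩ := exists_irr_under L hχ
    obtain ⟨j, h1, h2⟩ := exists_deg_eq_mul_of_lies_over hχ hθ hne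
    obtain ⟨i, -, rfl⟩ := (Nat.dvd_prime_pow hp).1 (hk ▸ h2)
    rw [h1, (commutator_le_charKer_iff hθ).1 ((commutator_le_subgroupOf_self L).trans
      (le_charKer_of_lies_over hχ.isCharacter hθ hne hker)), mul_one, Nat.ordCompl_self_pow hp]
  have hsum := Finset.card_filter_add_card_filter_not (s := S) fun d => ordCompl[p] d = 1
  have himg := Finset.card_image_le (s := S.filter fun d => ¬ ordCompl[p] d = 1)
    (f := fun d => ordCompl[p] d)
  by_cases h1 : (S.filter fun d => ordCompl[p] d = 1).card ≤ 2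
  · have h2 := small (G := G ⧸ ⁅L, L⁆) h1 fun β hβ => by
      have h2 := h _ hβ.inflate
      have h3 := hcdQ _ hβ.inflate (le_charKer_comp_mk _ β)
      rw [deg_inflate] at h2 h3
      exact h2.imp_right fun h2 => Finset.mem_filter.2 ⟨h2, h3⟩
    rw [← map_derivedSeries_eq (QuotientGroup.mk'_surjective _), map_mk'_eq_bot_iff] at h2
    have h3 : derivedSeries L ((S.filter fun d => ¬ ordCompl[p] d = 1).card + 1) = ⊥ := by
      by_cases h3 : (S.filter fun d => ¬ ordCompl[p] d = 1).card ≤ 2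
      · exact le_bot_iff.1 ((derivedSeries_antitone L (Nat.succ_le_succ himg)).trans
          (small (himg.trans h3) hcdL).le)
      rw [show (S.filter fun d => ¬ ordCompl[p] d = 1).card = 3 by omega]
      refine ih L ?_ _ (by omega) hcdL
      rintro rfl
      rw [Subgroup.card_top] at hLp
      exact hp.one_lt.ne' (Nat.eq_one_of_dvd_coprimes hLp hpG dvd_rfl)
    have h4 := dr_mono h2 (S.filter fun d => ¬ ordCompl[p] d = 1).card
    rw [dr_derivedSeries, add_right_comm, hsum, hS] at h4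
    have h5 := map_derivedSeries L ((S.filter fun d => ¬ ordCompl[p] d = 1).card + 1)
    rw [h3, Subgroup.map_bot] at h5
    exact le_bot_iff.1 (h4.trans h5.ge)
  have hab := comm_of_forall_deg_eq_one (G := L) fun θ hθ => (hcdL θ hθ).resolve_right (by
    rw [Finset.card_eq_zero.1 (show (S.filter fun d => ¬ ordCompl[p] d = 1).card = 0 by omega)]
    simp)
  have hnil : Group.IsNilpotent (G ⧸ L) :=
    (IsPGroup.of_card (p := p) (n := k) (by rw [← hk]; rfl)).isNilpotent
  have h3 := taketa (G := G) (insert 1 S) (fun χ hχ => Finset.mem_insert.2 (h χ hχ)) fun χ hχ => by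
    obtain ⟨H, lam, -, h4⟩ := monomial_of_abelian_of_nilpotent_quotient L
      (fun a ha b hb => congrArg Subtype.val (hab ⟨a, ha⟩ ⟨b, hb⟩)) hnil hχ
    exact ⟨H, lam, h4⟩
  exact le_bot_iff.1 ((derivedSeries_antitone G
    ((Finset.card_insert_le _ _).trans (by omega))).trans h3.le)

theorem case_pgroup [Group.IsSolvable G] {K : Subgroup G} [K.Normal] (hFK : fittingSubgroup G ≤ K)
    {q k x : ℕ} (hq : q.Prime) (hk : K.index = q ^ k) {β ξ : G → ℂ} (hβ : IsIrrCharacter G β)
    (hKβ : K ≤ charKer β) (hβ1 : charDegree β ≠ 1) (hξ : IsIrrCharacter G ξ) (hx : charDegree ξ = x)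
    (hx1 : x ≠ 1) (hqx : ¬ q ∣ x) {S : Finset ℕ} (hS : S.card = 3)
    (h : ∀ χ, IsIrrCharacter G χ → charDegree χ = 1 ∨ charDegree χ ∈ S) :
    derivedSeries G 4 = ⊥ := by
  classical
  have hcop : x.Coprime K.index := hk ▸ (hq.coprime_iff_not_dvd.2 hqx).symm.pow_right k
  have hmul : ∀ χ, IsIrrCharacter G χ → charDegree χ = x →
      IsIrrCharacter G (β * χ) ∧ charDegree (β * χ) = charDegree β * x := fun χ hχ h1 =>
    ⟨gallagher_irr hχ.isCharacter (res_irr_of_coprime_deg K hχ (h1 ▸ hcop)) hβ hKβ,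
      h1 ▸ deg_mul hβ.isCharacter hχ.isCharacter⟩
  have hfx : x.Coprime (charDegree β) := hcop.coprime_dvd_right
    (deg_dvd_index_of_le_charCenter hβ (hKβ.trans charKer_le_charCenter))
  have hf0 := deg_pos hβ
  have hx0 : 0 < x := hx ▸ deg_pos hξ
  have hS1 := (h β hβ).resolve_left hβ1
  have hS2 := (h ξ hξ).resolve_left (hx ▸ hx1)
  have hS3 := h _ (hmul ξ hξ hx).1
  rw [(hmul ξ hξ hx).2] at hS3
  rw [hx] at hS2
  generalize hf : charDegree β = f at *
  have l1 : f < f * x := lt_mul_of_one_lt_right hf0 (by omega)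
  have l2 : x < f * x := lt_mul_of_one_lt_left hx0 (by omega)
  have hne : f ≠ x := fun e => hx1 ((Nat.coprime_self x).1 (e ▸ hfx))
  have hall : ∀ χ, IsIrrCharacter G χ → charDegree χ = 1 ∨ charDegree χ = f ∨ charDegree χ = x ∨
      charDegree χ = f * x := fun χ hχ => by
    have h1 : ({f, x, f * x} : Finset ℕ) = S := Finset.eq_of_subset_of_card_le
      (by simp [Finset.insert_subset_iff, hS1, hS2, hS3.resolve_left (by omega)])
      (by rw [hS, Finset.card_eq_three.2 ⟨_, _, _, hne, l1.ne, l2.ne, rfl⟩])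
    simpa [← h1] using h χ hχ
  have hmax : ∀ χ, IsIrrCharacter G χ → fittingSubgroup G ≤ charKer χ → charDegree χ ≠ f * x := by
    intro χ hχ h1 h2
    obtain ⟨ψ, hψ, h3, -⟩ := exists_lt_rel hχ (N := ⊤) (inf_le_left.trans h1) fun h3 => by
      have := (commutator_le_charKer_iff hχ).1 (le_top.trans h3)
      omega
    have := hall ψ hψ
    omega
  have h2 := derivedSeries_two_le (fittingSubgroup G) (m := f) fun χ hχ h1 => by
    rcases hall χ hχ with h3 | h3 | h3 | h3
    · exact Or.inl h3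
    · exact Or.inr h3
    · refine absurd (hmul χ hχ h3).2 (hmax _ (hmul χ hχ h3).1 fun g hg y => ?_)
      rw [Pi.mul_apply, Pi.mul_apply, hKβ (hFK hg) y, h1 hg y]
    · exact absurd h3 (hmax χ hχ h1)
  refine (dr_derivedSeries 2 2).symm.trans (dr_eq_bot_of_le_fitting h2 2 fun p hp =>
    ⟨{f.factorization p, x.factorization p}, Finset.card_le_two, fun χ hχ h1 => ?_⟩)
  rcases hall χ hχ with h3 | h3 | h3 | h3
  · exact absurd ((derivedSeries_antitone G one_le_two).trans
      ((commutator_le_charKer_iff hχ).2 h3)) h1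
  · simp [h3]
  · simp [h3]
  · rw [h3, Nat.factorization_mul hf0.ne' hx0.ne', Finsupp.add_apply]
    by_cases h4 : p ∣ x
    · rw [Nat.factorization_eq_zero_of_not_dvd (n := f) fun h5 =>
        hp.one_lt.ne' (Nat.eq_one_of_dvd_coprimes hfx h4 h5)]
      simp
    · rw [Nat.factorization_eq_zero_of_not_dvd h4]
      simp

theorem case_frob [hs : Group.IsSolvable G] {K N : Subgroup G} [K.Normal] [N.Normal] {r : ℕ}
    (hF : FrobSec K N r) {S : Finset ℕ} (hS : S.card = 3)
    (h : ∀ χ, IsIrrCharacter G χ → charDegree χ = 1 ∨ charDegree χ ∈ S)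
    (hno : ∀ q, q.Prime → ∃ d ∈ S, ¬ q ∣ d) : derivedSeries G 4 = ⊥ := by
  classical
  have := Fintype.ofFinite G
  have hf1 := hF.index_ne_one
  have hf0 : 0 < N.index := Nat.pos_of_ne_zero Subgroup.index_ne_zero_of_finite
  have hfS : N.index ∈ S := by
    obtain ⟨χ, hχ, h1⟩ := hF.exists_deg_eq_index
    exact h1 ▸ (h χ hχ).resolve_left (h1 ▸ hf1)
  by_cases h1 : ∃ χ, IsIrrCharacter G χ ∧ ¬ ⁅N, N⁆ ≤ charKer χ ∧ charDegree χ = N.index
  swap
  · obtain ⟨u, v, -, huv⟩ := Finset.card_eq_two.1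
      (show (S.erase N.index).card = 2 by rw [Finset.card_erase_of_mem hfS, hS])
    have h2 := rel_two G hs ⁅N, N⁆ inferInstance u v fun χ hχ h2 => by
      have h3 : charDegree χ ∈ S.erase N.index := Finset.mem_erase.2 ⟨fun h3 => h1 ⟨χ, hχ, h2, h3⟩,
        (h χ hχ).resolve_left fun h3 => h2 ((Subgroup.commutator_mono le_top le_top).trans
          ((commutator_le_charKer_iff hχ).2 h3))⟩
      simpa [huv] using h3
    exact le_bot_iff.1 ((dr_derivedSeries 2 2).ge.trans
      ((dr_mono (Subgroup.commutator_mono hF.comm_le hF.comm_le) 2).trans h2.le))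
  obtain ⟨χ, hχ, h2, h3⟩ := h1
  obtain ⟨ψ, hψ, h4⟩ := exists_irr_under N hχ
  have hk1 : charDegree ψ ≠ 1 := fun h5 => h2 (le_charKer_of_under (Subgroup.commutator_le_left _ _)
    hχ hψ h4 (le_trans (fun x hx => by
      rw [Subgroup.mem_subgroupOf, ← Subgroup.map_subtype_commutator] at hx
      obtain ⟨y, hy, e⟩ := hx
      exact (Subtype.ext e : y = x) ▸ hy) ((commutator_le_charKer_iff hψ).2 h5)))
  have hk0 := deg_pos hψ
  have hkf : charDegree ψ ∣ N.index := h3 ▸ deg_dvd_of_lies_over hχ hψ h4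
  have hrk : ¬ r ∣ charDegree ψ := fun h5 => hF.not_dvd_index (h5.trans hkf)
  obtain ⟨ξ, hξ, h5⟩ := hF.exists_deg_of_not_dvd hψ hrk
  generalize charDegree ψ = k at *
  have l1 : N.index < N.index * k := lt_mul_of_one_lt_right hf0 (by omega)
  have huS : N.index * k ∈ S := h5 ▸ (h ξ hξ).resolve_left (by omega)
  obtain ⟨v, hv⟩ := Finset.card_eq_one.1 (show ((S.erase N.index).erase (N.index * k)).card = 1 by
    rw [Finset.card_erase_of_mem (Finset.mem_erase.2 ⟨l1.ne', huS⟩), Finset.card_erase_of_mem hfS, hS])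
  have hmem : ∀ d ∈ S, d = N.index ∨ d = N.index * k ∨ d = v := fun d hd => by
    by_contra h6
    push Not at h6
    exact h6.2.2 (Finset.mem_singleton.1 (hv ▸ Finset.mem_erase.2
      ⟨h6.2.1, Finset.mem_erase.2 ⟨h6.1, hd⟩⟩))
  have hcop : N.index.Coprime v := Nat.coprime_of_dvd fun q hq h6 h7 => by
    obtain ⟨d, hd, h8⟩ := hno q hq
    rcases hmem d hd with rfl | rfl | rfl
    exacts [h8 h6, h8 (h6.mul_right _), h8 h7]
  have h6 := three_degrees N k v fun θ hθ => by
    by_cases hr : r ∣ charDegree θ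
    · obtain ⟨η, j, hη, h7, h8⟩ := exists_irr_deg_eq_mul hθ
      have h9 : r ∣ charDegree η := h7 ▸ hr.mul_left j
      rcases (h η hη).imp_right (hmem _) with e | e | e | e
      · exact absurd (e ▸ h9) hF.prime.not_dvd_one
      · exact absurd (e ▸ h9) hF.not_dvd_index
      · exact absurd (e ▸ h9) (hF.prime.not_dvd_mul hF.not_dvd_index hrk)
      · have : j = 1 := Nat.eq_one_of_dvd_coprimes hcop h8 (e ▸ h7 ▸ Dvd.intro _ rfl)
        exact Or.inr (Or.inr (by rw [← e, h7, this, one_mul]))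
    obtain ⟨η, hη, h7⟩ := hF.exists_deg_of_not_dvd hθ hr
    rcases (h η hη).imp_right (hmem _) with e | e | e | e <;> rw [h7] at e
    · exact absurd (Nat.eq_one_of_mul_eq_one_right e) hf1
    · exact Or.inl (Nat.eq_of_mul_eq_mul_left hf0 (e.trans (mul_one _).symm))
    · exact Or.inr (Or.inl (Nat.eq_of_mul_eq_mul_left hf0 e))
    · exact absurd (Nat.eq_one_of_dvd_coprimes hcop dvd_rfl (e ▸ Dvd.intro _ rfl)) hf1
  have h7 := derivedSeries_succ_le_map N hF.comm_le 3
  rw [h6, Subgroup.map_bot] at h7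
  exact le_bot_iff.1 h7

/-- Garrison's theorem. -/
theorem four_degrees (G : Type u) [Group G] [Finite G] : Group.IsSolvable G → ∀ S : Finset ℕ,
    S.card ≤ 3 → (∀ χ, IsIrrCharacter G χ → charDegree χ = 1 ∨ charDegree χ ∈ S) →
      derivedSeries G 4 = ⊥ := by
  classical
  refine card_induction (P := fun G _ _ => Group.IsSolvable G → ∀ S : Finset ℕ,
    S.card ≤ 3 → (∀ χ, IsIrrCharacter G χ → charDegree χ = 1 ∨ charDegree χ ∈ S) →
      derivedSeries G 4 = ⊥) ?_ G
  intro G _ _ ih hs S₀ hS₀ h₀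
  obtain ⟨S, hS, h, hocc⟩ : ∃ S : Finset ℕ, S.card ≤ 3 ∧
      (∀ χ, IsIrrCharacter G χ → charDegree χ = 1 ∨ charDegree χ ∈ S) ∧
      ∀ d ∈ S, d ≠ 1 ∧ ∃ χ, IsIrrCharacter G χ ∧ charDegree χ = d :=
    ⟨S₀.filter fun d => d ≠ 1 ∧ ∃ χ, IsIrrCharacter G χ ∧ charDegree χ = d,
      (Finset.card_filter_le _ _).trans hS₀, fun χ hχ => or_iff_not_imp_left.2 fun h1 =>
        Finset.mem_filter.2 ⟨(h₀ χ hχ).resolve_left h1, h1, χ, hχ, rfl⟩,
      fun d hd => (Finset.mem_filter.1 hd).2⟩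
  by_cases h2 : S.card ≤ 2
  · exact le_bot_iff.1 ((derivedSeries_antitone G (by omega)).trans (small h2 h).le)
  have hS3 : S.card = 3 := by omega
  by_cases hno : ∀ q, q.Prime → ∃ d ∈ S, ¬ q ∣ d
  swap
  · push Not at hno
    obtain ⟨p, hp, hd⟩ := hno
    obtain ⟨d, hdS⟩ := Finset.card_pos.1 (show 0 < S.card by omega)
    obtain ⟨-, χ, hχ, rfl⟩ := hocc d hdS
    exact case_common hS3 h hp hd ((hd _ hdS).trans (deg_dvd_card hχ)) fun L hL =>
      ih L (card_lt_of_ne_top hL) inferInstance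
  by_cases hF : commutator G ≤ fittingSubgroup G
  · exact (dr_derivedSeries 1 3).symm.trans (dr_eq_bot_of_le_fitting (N := commutator G) hF 3
      fun p _ => ⟨S.image fun d => d.factorization p, Finset.card_image_le.trans hS, fun χ hχ h1 =>
        Finset.mem_image_of_mem _ ((h χ hχ).resolve_left fun h3 =>
          h1 ((commutator_le_charKer_iff hχ).2 h3))⟩)
  obtain ⟨K, hFK, hK⟩ := exists_isMaxNonab hF
  have := hK.normal
  obtain ⟨q, hq, ⟨⟨k, hk⟩, β, hβ, hKβ, hβ1, -⟩ | hFr⟩ := hK.dichotomy inferInstance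
  · obtain ⟨x, hxS, hqx⟩ := hno q hq
    obtain ⟨hx1, ξ, hξ, hx⟩ := hocc x hxS
    exact case_pgroup hFK hq hk hβ hKβ hβ1 hξ hx hx1 hqx hS3 h
  · exact case_frob hFr hS3 h hno

end Cfsg.Lib.Char.Deg.Four
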