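import Cfsg.Agent.Char.DegThree
import Cfsg.Agent.Char.DegBroline

/-! Relative character degrees: nilpotent normal subgroups and a relative form of Broline's
theorem. -/

set_option autoImplicit false

open Cfsg Cfsg.Lib.Solv
open scoped commutatorElement

namespace Cfsg.Lib.Char.Deg.Four

variable {G : Type*} [Group G] {χ : G → ℂ} {p : ℕ}

/-- The derived series of a subgroup. -/
def dr (N : Subgroup G) (k : ℕ) : Subgroup G := (fun X => ⁅X, X⁆)^[k] N

theorem dr_eq_1' : type_of% @dr.eq_1 := @dr.eq_1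

theorem dr_zero (N : Subgroup G) : dr N 0 = N := rfl

theorem dr_succ (N : Subgroup G) (k : ℕ) : dr N (k + 1) = ⁅dr N k, dr N k⁆ :=
  Function.iterate_succ_apply' _ _ _

instance dr_normal (N : Subgroup G) [hN : N.Normal] (k : ℕ) : (dr N k).Normal := by
  induction k with
  | zero => exact hN
  | succ k ih => rw [dr_succ]; infer_instance

theorem dr_le (N : Subgroup G) [N.Normal] (k : ℕ) : dr N k ≤ N := by
  induction k with
  | zero => exact le_rfl
  | succ k ih => rw [dr_succ]; exact (Subgroup.commutator_le_left _ _).trans ih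

theorem map_dr {H : Type*} [Group H] (f : G →* H) (N : Subgroup G) (k : ℕ) :
    (dr N k).map f = dr (N.map f) k := by
  induction k with
  | zero => rfl
  | succ k ih => rw [dr_succ, dr_succ, Subgroup.map_commutator, ih]

theorem dr_derivedSeries (j k : ℕ) : dr (derivedSeries G j) k = derivedSeries G (j + k) := by
  induction k with
  | zero => rfl
  | succ k ih => rw [dr_succ, ih, ← add_assoc, derivedSeries_succ]

theorem dr_anti (N : Subgroup G) [N.Normal] {j k : ℕ} (h : j ≤ k) : dr N k ≤ dr N j := by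
  induction k, h using Nat.le_induction with
  | base => exact le_rfl
  | succ k _ ih => rw [dr_succ]; exact (Subgroup.commutator_le_left _ _).trans ih

variable [Finite G]

theorem le_charKer_of_under {D H : Subgroup G} [D.Normal] [Fintype H] (hDH : D ≤ H)
    (hχ : IsIrrCharacter G χ) {α : H → ℂ} (hα : IsIrrCharacter H α)
    (h : classInner (fun n : H => χ n) α ≠ 0) (hD : D.subgroupOf H ≤ charKer α) : D ≤ charKer χ := by
  have := Fintype.ofFinite D
  refine hχ.le_charKer_of_classInner_res_one_ne_zero D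
    (lies_over_trans hDH hχ.isCharacter hα isIrrCharacter_one.isCharacter h ?_)
  rw [show (fun n : D => α ⟨n, hDH n.2⟩) = α 1 • fun _ => (1 : ℂ) from funext fun n => by
    simpa using apply_of_mem_charKer (hD (x := ⟨n, hDH n.2⟩) n.2), classInner_smul_left,
    classInner_one_one, mul_one]
  exact hα.apply_one_ne_zero

omit [Finite G] in
theorem exists_val_le [Fintype G] (hp : p.Prime) (hχ : IsCharacter G χ) (h0 : charDegree χ ≠ 0) :
    ∃ ψ, IsIrrCharacter G ψ ∧ classInner χ ψ ≠ 0 ∧
      (charDegree ψ).factorization p ≤ (charDegree χ).factorization p := by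
  obtain ⟨ψ, hψ, h1, h2⟩ := exists_irr_not_dvd_deg hχ (p := p ^ ((charDegree χ).factorization p + 1))
    (by rw [hp.pow_dvd_iff_le_factorization h0]; omega)
  rw [hp.pow_dvd_iff_le_factorization (deg_pos hψ).ne'] at h2
  exact ⟨ψ, hψ, h1, by omega⟩

theorem exists_val_lt (hp : p.Prime) {D : Subgroup G} [D.Normal] (hD : IsPGroup p D)
    (hχ : IsIrrCharacter G χ) (h : ¬ ⁅D, D⁆ ≤ charKer χ) :
    ∃ ψ, IsIrrCharacter G ψ ∧ ¬ D ≤ charKer ψ ∧
      (charDegree ψ).factorization p < (charDegree χ).factorization p := by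
  classical
  have := Fact.mk hp
  have := Fintype.ofFinite G
  obtain ⟨P⟩ : Nonempty (Sylow p G) := inferInstance
  have hDP : D ≤ P := hD.le_sylow_of_normal P
  have := P.isPGroup'.isNilpotent
  have hpow : ∀ β, IsIrrCharacter (P : Subgroup G) β → ∃ i, charDegree β = p ^ i := fun β hβ => by
    obtain ⟨n, hn⟩ := P.isPGroup'.exists_card_eq
    obtain ⟨i, -, hi⟩ := (Nat.dvd_prime_pow hp).1 (hn ▸ deg_dvd_card hβ)
    exact ⟨i, hi⟩
  obtain ⟨α, hα, h1, h2⟩ := exists_val_le hp (hχ.isCharacter.res (P : Subgroup G))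
    (by rw [deg_res]; exact (deg_pos hχ).ne')
  rw [deg_res] at h2
  obtain ⟨U, lam, rfl⟩ := exists_monoidHom_indFun_eq_of_isNilpotent hα
  obtain ⟨β, hβ, h3, h4⟩ : ∃ β, IsIrrCharacter (P : Subgroup G) β ∧ charDegree β < U.index ∧
      ¬ D.subgroupOf P ≤ charKer β := by
    by_contra h0
    push Not at h0
    refine h (le_charKer_of_under ((Subgroup.commutator_le_left _ _).trans hDP) hχ hα h1
      (le_trans ?_ (commutator_le_charKer_of_monomial (D.subgroupOf P) h0)))
    intro x hx
    have h5 : ⁅D, D⁆ = ⁅D.subgroupOf P, D.subgroupOf P⁆.map (P : Subgroup G).subtype := by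
      rw [Subgroup.map_commutator, Subgroup.subgroupOf_map_subtype, inf_of_le_left hDP]
    rw [Subgroup.mem_subgroupOf, h5] at hx
    obtain ⟨y, hy, e⟩ := hx
    exact Subtype.ext e ▸ hy
  have h5 : charDegree (indFun (P : Subgroup G) β) = (P : Subgroup G).index * charDegree β :=
    deg_indFun _ hβ.isCharacter
  have h6 := (deg_pos hβ).ne'
  have h7 : (P : Subgroup G).index ≠ 0 := Subgroup.index_ne_zero_of_finite
  obtain ⟨ψ, hψ, h8, h9⟩ := exists_val_le hp (isCharacter_indFun hβ.isCharacter)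
    (h5 ▸ mul_ne_zero h7 h6)
  rw [classInner_indFun_irr_eq hβ.isCharacter hψ.isCharacter] at h8
  refine ⟨ψ, hψ, fun h0 => h4 (le_charKer_of_lies_over hψ.isCharacter hβ h8 h0),
    lt_of_lt_of_le (lt_of_le_of_lt h9 ?_) h2⟩
  obtain ⟨i, hi⟩ := hpow β hβ
  obtain ⟨j, hj⟩ := hpow _ hα
  rw [h5, Nat.factorization_mul h7 h6, Finsupp.add_apply,
    Nat.factorization_eq_zero_of_not_dvd P.not_dvd_index, zero_add, hi, hj,
    hp.factorization_pow, hp.factorization_pow, Finsupp.single_eq_same, Finsupp.single_eq_same]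
  rw [deg_indFun _ (isIrrCharacter_monoidHom lam).isCharacter, deg_monoidHom, mul_one] at hj
  rw [hi, hj] at h3
  exact (Nat.pow_lt_pow_iff_right hp.one_lt).1 h3

theorem dr_eq_bot_of_isPGroup (hp : p.Prime) {N : Subgroup G} [N.Normal] (hN : IsPGroup p N)
    (S : Finset ℕ)
    (hS : ∀ χ, IsIrrCharacter G χ → ¬ N ≤ charKer χ → (charDegree χ).factorization p ∈ S) :
    dr N S.card = ⊥ := by
  classical
  have key : ∀ k χ, IsIrrCharacter G χ → ¬ dr N k ≤ charKer χ →
      k < (S.filter (· ≤ (charDegree χ).factorization p)).card := by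
    intro k
    induction k with
    | zero => exact fun χ hχ h => Finset.card_pos.2 ⟨_, Finset.mem_filter.2 ⟨hS χ hχ h, le_rfl⟩⟩
    | succ k ih =>
      intro χ hχ h
      have h0 := hS χ hχ fun h1 => h ((dr_le N _).trans h1)
      rw [dr_succ] at h
      obtain ⟨ψ, hψ, h1, h2⟩ := exists_val_lt hp (hN.to_le (dr_le N k)) hχ h
      refine Nat.lt_of_le_of_lt (ih ψ hψ h1) (Finset.card_lt_card ⟨fun x hx => ?_, fun hsub => ?_⟩)
      · rw [Finset.mem_filter] at hx ⊢
        exact ⟨hx.1, hx.2.trans h2.le⟩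
      · exact h2.not_ge (Finset.mem_filter.1 (hsub (Finset.mem_filter.2 ⟨h0, le_rfl⟩))).2
  exact eq_bot_of_forall_le_charKer fun χ hχ => by_contra fun h =>
    (key _ χ hχ h).not_ge (Finset.card_filter_le _ _)

theorem not_le_charKer_inflate {N L : Subgroup G} [L.Normal] {β : G ⧸ L → ℂ}
    (hβ : IsIrrCharacter _ β) (h : ¬ N.map (QuotientGroup.mk' L) ≤ charKer β) :
    ¬ N ≤ charKer fun g : G => β (QuotientGroup.mk g) := fun h1 => h (by
  rw [Subgroup.map_le_iff_le_comap, ← hβ.isCharacter.charKer_comp]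
  exact h1)

theorem dr_eq_bot_of_le_fitting {N : Subgroup G} [hN : N.Normal] (h : N ≤ fittingSubgroup G) (k : ℕ)
    (hS : ∀ p, p.Prime → ∃ S : Finset ℕ, S.card ≤ k ∧
      ∀ χ, IsIrrCharacter G χ → ¬ N ≤ charKer χ → (charDegree χ).factorization p ∈ S) :
    dr N k = ⊥ := by
  refine Subgroup.card_eq_one.1 (Nat.eq_one_iff_not_exists_prime_dvd.2 fun p hp h1 => ?_)
  have := Fact.mk hp
  obtain ⟨S, hk, hS⟩ := hS p hp
  have := hN.map _ (QuotientGroup.mk'_surjective (pPrimeCore p G))
  have h2 : fittingSubgroup G ≤ pCore p G ⊔ pPrimeCore p G := by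
    have h3 := congrArg (Subgroup.map (fittingSubgroup G).subtype)
      (pCore_sup_pPrimeCore_of_isNilpotent (G := fittingSubgroup G) p)
    rw [Subgroup.map_sup, ← MonoidHom.range_eq_map, Subgroup.range_subtype] at h3
    exact h3.ge.trans (sup_le_sup (map_pCore_le_of_normal _) (map_pPrimeCore_le_of_normal _))
  have h3 : IsPGroup p (N.map (QuotientGroup.mk' (pPrimeCore p G))) := by
    refine ((pCore_isPGroup p G).map (QuotientGroup.mk' (pPrimeCore p G))).to_le
      ((Subgroup.map_mono (h.trans h2)).trans ?_)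
    rw [Subgroup.map_sup, map_mk'_eq_bot_iff.2 le_rfl, sup_bot_eq]
  have h4 := dr_eq_bot_of_isPGroup hp h3 S fun β hβ h4 => by
    simpa only [deg_inflate] using hS _ hβ.inflate (not_le_charKer_inflate hβ h4)
  rw [← map_dr, map_mk'_eq_bot_iff] at h4
  exact not_dvd_card_pPrimeCore p G (h1.trans (Subgroup.card_dvd_of_le ((dr_anti N hk).trans h4)))

theorem exists_notMem_ne_zero (hχ : IsIrrCharacter G χ) {N : Subgroup G} [N.Normal]
    (h : ¬ N ≤ charKer χ) : ∃ g ∈ N, g ∉ charKer χ ∧ χ g ≠ 0 := by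
  classical
  have := Fintype.ofFinite N
  by_contra hcon
  push Not at hcon
  have h1 := hχ.sum_res_eq_zero N h
  rw [← Finset.sum_filter_add_sum_filter_not _ (fun g : N => (g : G) ∈ charKer χ),
    Finset.sum_eq_zero (s := Finset.univ.filter fun g : N => ¬ (g : G) ∈ charKer χ)
      fun g hg => hcon g g.2 (Finset.mem_filter.1 hg).2, add_zero,
    Finset.sum_congr rfl fun g hg => apply_of_mem_charKer (Finset.mem_filter.1 hg).2,
    Finset.sum_const, nsmul_eq_mul, mul_eq_zero, Nat.cast_eq_zero, Finset.card_eq_zero] at h1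
  exact h1.elim (Finset.ne_empty_of_mem (a := 1) (by simp)) hχ.apply_one_ne_zero

/-- A relative form of Broline's theorem. -/
theorem exists_lt_rel [Group.IsSolvable G] (hχ : IsIrrCharacter G χ) {N : Subgroup G} [hN : N.Normal]
    (hF : fittingSubgroup G ⊓ N ≤ charKer χ) (h : ¬ N ≤ charKer χ) :
    ∃ ψ, IsIrrCharacter G ψ ∧ charDegree χ < charDegree ψ ∧ charKer ψ < charKer χ := by
  by_cases hn : Group.IsNilpotent (charKer χ)
  swap
  · exact exists_lt_of_not_isNilpotent hχ hn
  by_contra hcon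
  push Not at hcon
  have hK := hχ.charKer_normal
  set K := charKer χ with hKχ
  have hKK := commutator_le_frattini_of_normal_of_isNilpotent K
  let M : Subgroup G := (Subgroup.centralizer (K.map (QuotientGroup.mk' (frattini G)) : Set _)).comap
    (QuotientGroup.mk' (frattini G))
  have hM : ∀ g, g ∈ M ↔ ∀ k ∈ K, ⁅k, g⁆ ∈ frattini G := fun g =>
    ⟨fun hg k hk => (QuotientGroup.eq_one_iff _).1
      (commutatorElement_eq_one_iff_mul_comm.2 (hg _ ⟨k, hk, rfl⟩)), by
      rintro hg _ ⟨k, hk, rfl⟩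
      exact commutatorElement_eq_one_iff_mul_comm.1 ((QuotientGroup.eq_one_iff _).2 (hg k hk))⟩
  have := hK.map _ (QuotientGroup.mk'_surjective (frattini G))
  have : M.Normal := Subgroup.Normal.comap inferInstance _
  obtain ⟨g, hgN, hg, hg0⟩ := exists_notMem_ne_zero hχ h
  have hgM : g ∈ M := (hM g).2 fun k hk => mem_frattini_iff.2 fun H hH => by
    by_cases h1 : K ≤ H
    · refine h1 ?_
      simpa [commutatorElement_def, mul_assoc] using K.mul_mem hk (hK.conj_mem _ (K.inv_mem hk) g)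
    obtain ⟨a, ha, y, hy, rfl⟩ := Subgroup.mem_sup_of_normal_left.1
      ((hH.2 _ (right_lt_sup.2 h1)).ge (Subgroup.mem_top g))
    have h2 := mem_normalCore_of_isCoatom hχ hcon hH h1 hy (apply_mul_of_mem_charKer ha y ▸ hg0)
    rw [show ⁅k, a * y⁆ = ⁅k, a⁆ * (a * (k * y * k⁻¹ * y⁻¹) * a⁻¹) by
      simp [commutatorElement_def, mul_assoc]]
    refine H.mul_mem (frattini_le_coatom hH (hKK (Subgroup.commutator_mem_commutator hk ha)))
      (H.normalCore_le (Subgroup.Normal.conj_mem inferInstance _ (H.normalCore.mul_mem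
        (Subgroup.Normal.conj_mem inferInstance _ h2 k) (H.normalCore.inv_mem h2)) a))
  obtain ⟨L, hL, hKL, hLM, hc⟩ := exists_chief_above (L := K ⊓ N) (K := M ⊓ N) (lt_of_le_of_ne
    (inf_le_inf_right _ fun x hx => (hM x).2 fun k hk => hKK (Subgroup.commutator_mem_commutator hk hx))
    fun h1 => hg (h1.ge ⟨hgM, hgN⟩).1)
  obtain ⟨-, -, h1, -⟩ := chief_elementary hKL hc inferInstance
  refine hKL.not_ge (le_inf (le_trans (le_inf ?_ (hLM.trans inf_le_right)) hF) (hLM.trans inf_le_right))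
  refine le_sup_left.trans (le_fitting inferInstance (isNilpotent_of_map_mk_of_le_frattini
    (L ⊔ frattini G) (frattini G) le_sup_right le_rfl ?_))
  rw [Subgroup.map_sup, map_mk'_eq_bot_iff.2 le_rfl, sup_bot_eq]
  refine Subgroup.isNilpotent_of_lowerCentralSeries_eq_bot (n := 2) ?_
  rw [← Subgroup.map_lowerCentralSeries, map_mk'_eq_bot_iff]
  exact Subgroup.commutator_le.2 fun a ha b hb => (hM b).1 (hLM hb).1 a (h1 ha).1

/-- Subgroups of small index contain `N`. -/
theorem le_of_index_le {T N : Subgroup G}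
    (h : ∀ χ, IsIrrCharacter G χ → ¬ N ≤ charKer χ → T.index ≤ charDegree χ) : N ≤ T := by
  have := Fintype.ofFinite G
  by_cases hT : T = ⊤
  · exact hT ▸ le_top
  have hπ := isCharacter_indFun_one T
  refine le_trans (fun g hg => hπ.mem_charKer_iff_forall.2 fun ψ hψ h1 =>
    (by_contra fun h0 => (h ψ hψ h0).not_gt ?_ : N ≤ charKer ψ) hg)
    (charKer_indFun_le isIrrCharacter_one.isCharacter one_ne_zero)
  have h2 : charDegree (indFun T fun _ => (1 : ℂ)) = T.index := by
    rw [deg_indFun T isIrrCharacter_one.isCharacter, deg_const_one, mul_one]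
  refine h2 ▸ deg_lt_of_classInner_ne_zero hπ hψ h1 fun h3 => hT (Subgroup.index_eq_one.1 ?_)
  rw [← h3] at hψ
  rw [← h2, hψ.eq_of_classInner_ne_zero isIrrCharacter_one
    (by rw [classInner_indFun_one_one]; exact one_ne_zero), deg_const_one]

/-- One relative degree. -/
theorem rel_one [Group.IsSolvable G] {N : Subgroup G} [N.Normal] {a : ℕ}
    (h : ∀ χ, IsIrrCharacter G χ → ¬ N ≤ charKer χ → charDegree χ = a) : ⁅N, N⁆ = ⊥ := by
  have h1 : N ≤ fittingSubgroup G ⊓ N := le_of_forall_le_charKer _ fun χ hχ h1 => by_contra fun h2 => by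
    obtain ⟨ψ, hψ, h3, h4⟩ := exists_lt_rel hχ h1 h2
    rw [h χ hχ h2, h ψ hψ fun h5 => h2 (h5.trans h4.le)] at h3
    exact lt_irrefl _ h3
  exact dr_eq_bot_of_le_fitting (h1.trans inf_le_left) 1 fun p _ =>
    ⟨{a.factorization p}, by simp, fun χ hχ h2 => by rw [h χ hχ h2]; simp⟩

end Cfsg.Lib.Char.Deg.Four
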