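import Cfsg.Agent.Char.DegGraph
import Cfsg.Agent.Char.DegTwo
import Cfsg.Agent.Char.Det

/-!
# The common divisor graph of the relative degree set (Isaacs–Knutson)
-/

set_option autoImplicit false

namespace Cfsg.Lib.Char.RelG

open MulAction

section Abstract

variable {G A X : Type*} [Group G] [Finite G]

theorem index_inf_of_coprime {H K : Subgroup G} (h : H.index.Coprime K.index) :
    (H ⊓ K).index = H.index * K.index :=
  le_antisymm Subgroup.index_inf_le (Nat.le_of_dvd (Nat.pos_of_ne_zero Subgroup.FiniteIndex.index_ne_zero)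
    (h.mul_dvd_of_dvd_of_dvd (Subgroup.index_dvd_of_le inf_le_left)
      (Subgroup.index_dvd_of_le inf_le_right)))

theorem orbit_finite' [MulAction G X] (x : X) : (orbit G x).Finite := Set.finite_range _

theorem pair_trans [MulAction G A] [MulAction G X] {a : A} {x : X}
    (h : (stabilizer G a).index.Coprime (stabilizer G x).index) (g k : G) :
    ∃ t : G, t • a = g • a ∧ t • x = k • x := by
  have h1 : stabilizer G (a, x) = stabilizer G a ⊓ stabilizer G x := by
    ext t; simp [Prod.ext_iff]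
  have h2 : orbit G (a, x) = orbit G a ×ˢ orbit G x := by
    refine Set.eq_of_subset_of_ncard_le ?_ ?_ ((orbit_finite' a).prod (orbit_finite' x))
    · rintro _ ⟨t, rfl⟩
      exact ⟨⟨t, rfl⟩, ⟨t, rfl⟩⟩
    · rw [Set.ncard_prod, ← index_stabilizer, ← index_stabilizer, ← index_stabilizer, h1,
        index_inf_of_coprime h]
  obtain ⟨t, ht⟩ : (g • a, k • x) ∈ orbit G (a, x) := h2 ▸ ⟨⟨g, rfl⟩, ⟨k, rfl⟩⟩
  exact ⟨t, congrArg Prod.fst ht, congrArg Prod.snd ht⟩

variable [CommGroup A] [MulDistribMulAction G A] [MulAction G X] [MulAction A X]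

theorem index_smul_dvd (hc : ∀ (g : G) (a : A) (x : X), g • a • x = (g • a) • g • x)
    {a : A} {x : X} (h : (stabilizer G a).index.Coprime (stabilizer G x).index) :
    (stabilizer G (a • x)).index ∣ (stabilizer G a).index * (stabilizer G x).index := by
  rw [← index_inf_of_coprime h]
  refine Subgroup.index_dvd_of_le fun g hg => ?_
  rw [mem_stabilizer_iff, hc, hg.1, hg.2]

theorem translate_mem_orbit (hc : ∀ (g : G) (a : A) (x : X), g • a • x = (g • a) • g • x)
    {a : A} {x : X} (h : (stabilizer G a).index.Coprime (stabilizer G x).index)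
    (h' : (stabilizer G (a • x)).index.Coprime (stabilizer G a).index) (g : G) {y : X}
    (hy : y ∈ orbit G x) : (g • a * a⁻¹) • y ∈ orbit G x := by
  have h1 : (stabilizer G (a • x)).index ≤ (stabilizer G x).index :=
    Nat.le_of_dvd (Nat.pos_of_ne_zero Subgroup.FiniteIndex.index_ne_zero)
      (h'.dvd_of_dvd_mul_left (index_smul_dvd hc h))
  have h2 : ∀ (k : G) (y : X), y ∈ orbit G x → (k • a) • y ∈ orbit G (a • x) := by
    rintro k _ ⟨l, rfl⟩
    obtain ⟨t, ht, ht'⟩ := pair_trans h k l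
    exact ⟨t, by simp only [hc, ht, ht']⟩
  have h3 : (fun y => a • y) '' orbit G x = orbit G (a • x) := by
    refine Set.eq_of_subset_of_ncard_le ?_ ?_ (orbit_finite' _)
    · rintro _ ⟨y, hy, rfl⟩
      simpa using h2 1 y hy
    · rw [Set.ncard_image_of_injective _ (MulAction.injective a), ← index_stabilizer,
        ← index_stabilizer]
      exact h1
  obtain ⟨z, hz, e⟩ := h3.symm ▸ h2 g y hy
  have e' : a • z = (g • a) • y := e
  rw [mul_comm, mul_smul, ← e', inv_smul_smul]
  exact hz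

omit [MulDistribMulAction G A] in
theorem orderOf_dvd_ncard [Finite A] {S : Set X} {μ : A}
    (h : ∀ y ∈ S, μ • y ∈ S) (hf : ∀ y ∈ S, ∀ k : ℕ, μ ^ k • y = y → μ ^ k = 1) :
    orderOf μ ∣ S.ncard := by
  classical
  have h1 : ∀ k : ℕ, ∀ y ∈ S, μ ^ k • y ∈ S := fun k => by
    induction k with
    | zero => simp
    | succ k ih => exact fun y hy => by rw [pow_succ', mul_smul]; exact h _ (ih y hy)
  let T : SubMulAction (Subgroup.zpowers μ) X :=
    { carrier := S
      smul_mem' := fun c y hy => by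
        obtain ⟨k, hk⟩ := (mem_zpowers_iff_mem_range_orderOf).1 c.2 |> Finset.mem_image.1
        rw [Subgroup.smul_def, ← hk.2]
        exact h1 k y hy }
  have h2 : ∀ y : T, stabilizer (Subgroup.zpowers μ) y = ⊥ := fun y => by
    refine eq_bot_iff.2 fun c hc => ?_
    obtain ⟨k, hk⟩ := (mem_zpowers_iff_mem_range_orderOf).1 c.2 |> Finset.mem_image.1
    have h3 : (c : A) • (y : X) = y := congrArg Subtype.val (mem_stabilizer_iff.1 hc)
    rw [Subgroup.mem_bot, Subtype.ext_iff, ← hk.2]
    exact hf y y.2 k (hk.2 ▸ h3)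
  have h3 := Nat.card_congr (selfEquivOrbitsQuotientProd h2)
  rw [Nat.card_prod, Nat.card_zpowers] at h3
  exact ⟨_, (show S.ncard = Nat.card T from (Nat.card_coe_set_eq S).symm).trans
    (h3.trans (mul_comm _ _))⟩

omit [MulAction G X] [MulAction A X] in
/-- A nonidentity `p`-element with orbit length prime to `p`. -/
theorem exists_pow_eq_one_not_dvd [Finite A] {p : ℕ} (hp : p.Prime) (h : p ∣ Nat.card A) :
    ∃ a : A, a ≠ 1 ∧ a ^ p = 1 ∧ ¬ p ∣ (stabilizer G a).index := by
  classical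
  have := Fact.mk hp
  obtain ⟨P⟩ : Nonempty (Sylow p G) := inferInstance
  let T : SubMulAction (P : Subgroup G) A :=
    { carrier := {a | a ^ p = 1}
      smul_mem' := fun c y hy => by
        have hy' : y ^ p = 1 := hy
        change ((c : G) • y) ^ p = 1
        rw [← smul_pow', hy', smul_one] }
  have h1 : p ∣ Nat.card T := by
    obtain ⟨x, hx⟩ := exists_prime_orderOf_dvd_card' p h
    let K : Subgroup A := (powMonoidHom p : A →* A).ker
    have h2 : Nat.card T = Nat.card K := Nat.card_congr (Equiv.refl _)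
    rw [h2, ← hx]
    exact Subgroup.orderOf_dvd_natCard K (show x ^ p = 1 from hx ▸ pow_orderOf_eq_one x)
  obtain ⟨b, hb, hne⟩ := P.2.exists_fixed_point_of_prime_dvd_card_of_fixed_point T h1
    (a := ⟨1, one_pow p⟩) (fun c => Subtype.ext (smul_one (c : G)))
  refine ⟨b, fun e => hne (Subtype.ext e.symm), b.2, fun hd => P.not_dvd_index (hd.trans ?_)⟩
  exact Subgroup.index_dvd_of_le fun c hc => congrArg Subtype.val (hb ⟨c, hc⟩)

end Abstract

section Chars

open Cfsg.Lib.Char.Deg

variable {G : Type*} [Group G] (N : Subgroup G) [hN : N.Normal]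

/-- The action of `G` on functions on a normal subgroup. -/
@[reducible] def funAct : MulAction G (N → ℂ) where
  smul g θ := conjChar N θ g⁻¹
  one_smul θ := funext fun a => congrArg θ (Subtype.ext (by simp))
  mul_smul g h θ := funext fun a => congrArg θ (Subtype.ext (by simp [mul_assoc]))

/-- The group of linear characters. -/
def Lin (H : Type*) [Group H] := H →* ℂˣ

noncomputable instance instCommGroupLin (H : Type*) [Group H] : CommGroup (Lin H) :=
  (inferInstance : CommGroup (H →* ℂˣ))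

/-- The underlying homomorphism. -/
def Lin.hom {H : Type*} [Group H] (lam : Lin H) : H →* ℂˣ := lam

/-- A linear character as a function. -/
def lin {H : Type*} [Group H] (lam : Lin H) : H → ℂ := fun h => (lam.hom h : ℂ)

/-- The determinant as a linear character. -/
noncomputable def dh {H : Type*} [Group H] (χ : H → ℂ) : Lin H := detHom χ

/-- The action of `G` on linear characters. -/
@[reducible] def homAct : MulDistribMulAction G (Lin N) := dualAct N

theorem stabilizer_homAct (lam : Lin N) :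
    letI := homAct N
    stabilizer G lam = inertia N (lin lam) := stabilizer_dualAct N lam

/-- Linear characters act on functions by multiplication. -/
@[reducible] def linAct (H : Type*) [Group H] : MulAction (Lin H) (H → ℂ) where
  smul lam θ := θ * lin lam
  one_smul θ := funext fun a => by change θ a * ((1 : ℂˣ) : ℂ) = θ a; simp
  mul_smul g h θ := funext fun a => by
    change θ a * ((g.hom a * h.hom a : ℂˣ) : ℂ) = θ a * (h.hom a : ℂ) * (g.hom a : ℂ)
    rw [Units.val_mul]; ring

theorem stabilizer_funAct (θ : N → ℂ) :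
    letI := funAct N
    stabilizer G θ = inertia N θ := by
  ext g
  rw [← (inertia N _).inv_mem_iff, mem_inertia]
  rfl

/-- The conjugate of a linear character. -/
def conjHom (lam : Lin N) (g : G) : Lin N := lam.hom.comp (MulAut.conjNormal g).toMonoidHom

theorem lin_conjHom (lam : Lin N) (g : G) : lin (conjHom N lam g) = conjChar N (lin lam) g := rfl

theorem lin_irr {H : Type*} [Group H] (lam : Lin H) : IsIrrCharacter H (lin lam) :=
  isIrrCharacter_monoidHom lam

theorem deg_lin {H : Type*} [Group H] (lam : Lin H) : charDegree (lin lam) = 1 :=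
  deg_monoidHom lam

theorem lin_mul {H : Type*} [Group H] (lam mu : Lin H) : lin (lam * mu) = lin lam * lin mu :=
  funext fun _ => Units.val_mul _ _

theorem lin_injective {H : Type*} [Group H] : Function.Injective (lin : (Lin H) → H → ℂ) :=
  monoidHom_coe_injective

theorem lin_eq_one_iff {H : Type*} [Group H] (lam : Lin H) : lin lam = (fun _ => 1) ↔ lam = 1 :=
  monoidHom_coe_eq_one_iff lam

theorem conjHom_pow (lam : Lin N) (g : G) (k : ℕ) :
    conjHom N (lam ^ k) g = conjHom N lam g ^ k := rfl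

theorem conjHom_mul (lam mu : Lin N) (g : G) :
    conjHom N (lam * mu) g = conjHom N lam g * conjHom N mu g := rfl

theorem mem_inertia_lin {lam : Lin N} {g : G} :
    g ∈ inertia N (lin lam) ↔ conjHom N lam g = lam := by
  rw [mem_inertia, ← lin_conjHom, lin_injective.eq_iff]

theorem deg_mul_lin {H : Type*} [Group H] {θ : H → ℂ} (hθ : IsCharacter H θ) (lam : Lin H) :
    charDegree (θ * lin lam) = charDegree θ := by
  rw [deg_mul hθ (lin_irr lam).isCharacter, deg_lin, mul_one]

theorem irr_mul_lin {H : Type*} [Group H] [Finite H] {θ : H → ℂ} (hθ : IsIrrCharacter H θ)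
    (lam : Lin H) : IsIrrCharacter H (θ * lin lam) := hθ.mul_monoidHom lam.hom

theorem dh_mul_lin {H : Type*} [Group H] [Finite H] {θ : H → ℂ} (hθ : IsCharacter H θ)
    (lam : Lin H) : dh (θ * lin lam) = dh θ * lam ^ charDegree θ :=
  detHom_mul_monoidHom hθ (apply_one_eq hθ) lam

theorem pow_deg_eq_one {H : Type*} [Group H] [Finite H] {θ : H → ℂ} (hθ : IsCharacter H θ)
    {lam : Lin H} (h : θ * lin lam = θ) : lam ^ charDegree θ = 1 := by
  have h1 := dh_mul_lin hθ lam
  rw [h] at h1
  exact mul_eq_left.1 h1.symm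

variable [Finite G]

instance finiteLin (H : Type*) [Group H] [Finite H] : Finite (Lin H) :=
  Nat.finite_of_card_ne_zero (card_monoidHom_units (G := H) ▸ Subgroup.FiniteIndex.index_ne_zero)

theorem index_mul_lin_dvd {lam : Lin N} {θ : N → ℂ}
    (h : (inertia N (lin lam)).index.Coprime (inertia N θ).index) :
    (inertia N (θ * lin lam)).index ∣ (inertia N (lin lam)).index * (inertia N θ).index := by
  let _ := funAct N
  let _ := homAct N
  let _ := linAct N
  have := index_smul_dvd (G := G) (fun _ _ _ => rfl) (a := lam) (x := θ)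
    (by rwa [stabilizer_homAct, stabilizer_funAct])
  rwa [stabilizer_homAct, stabilizer_funAct, stabilizer_funAct] at this

/-- The main orbit lemma. -/
theorem orbit_lemma {lam : Lin N} {θ : N → ℂ} (hθ : IsCharacter N θ)
    (h : (inertia N (lin lam)).index.Coprime (inertia N θ).index)
    (h' : (inertia N (θ * lin lam)).index.Coprime (inertia N (lin lam)).index) (g : G) :
    (∃ k : G, θ * lin (conjHom N lam g * lam⁻¹) = conjChar N θ k) ∧
      ((orderOf (conjHom N lam g * lam⁻¹)).Coprime (charDegree θ) →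
        orderOf (conjHom N lam g * lam⁻¹) ∣ (inertia N θ).index) := by
  let _ := funAct N
  let _ := homAct N
  let _ := linAct N
  have h1 : ∀ y ∈ orbit G θ, (conjHom N lam g * lam⁻¹) • y ∈ orbit G θ := fun y hy => by
    have := translate_mem_orbit (G := G) (fun _ _ _ => rfl) (a := lam) (x := θ)
      (by rwa [stabilizer_homAct, stabilizer_funAct])
      (by rwa [stabilizer_homAct, stabilizer_funAct]) g⁻¹ hy
    have e : g⁻¹ • lam = conjHom N lam g := by
      change conjHom N lam g⁻¹⁻¹ = _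
      rw [inv_inv]
    rwa [e] at this
  refine ⟨?_, fun hc => ?_⟩
  · obtain ⟨k, hk⟩ := h1 θ (mem_orbit_self θ)
    exact ⟨k⁻¹, hk.symm⟩
  · rw [← stabilizer_funAct, index_stabilizer]
    refine orderOf_dvd_ncard h1 ?_
    rintro _ ⟨t, rfl⟩ k hk
    have h2 := pow_deg_eq_one (hθ.conjChar t⁻¹) hk
    have h3 : charDegree (conjChar N θ t⁻¹) = charDegree θ :=
      deg_comp (MulAut.conjNormal t⁻¹).toMonoidHom θ
    rw [h3] at h2
    refine (pow_eq_one_iff_of_coprime hc).1 ⟨?_, h2⟩
    rw [← pow_mul, mul_comm k, pow_mul, pow_orderOf_eq_one, one_pow]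

omit [Finite G] in
theorem exists_conjHom_ne {lam : Lin N} (h : (inertia N (lin lam)).index ≠ 1) :
    ∃ g : G, conjHom N lam g * lam⁻¹ ≠ 1 := by
  by_contra! h1
  refine h (Subgroup.index_eq_one.2 (eq_top_iff.2 fun g _ => (mem_inertia_lin N).2 ?_))
  exact mul_inv_eq_one.1 (h1 g)

omit [Finite G] in
theorem conjHom_div_pow {lam : Lin N} {p : ℕ} (h : lam ^ p = 1) (g : G) :
    (conjHom N lam g * lam⁻¹) ^ p = 1 := by
  rw [mul_pow, ← conjHom_pow, inv_pow, h, inv_one, mul_one]
  rfl

omit [Finite G] in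
theorem inertia_mul_le {lam mu : Lin N} {p q : ℕ} (hpq : p.Coprime q) (h : lam ^ p = 1)
    (h' : mu ^ q = 1) : inertia N (lin (lam * mu)) ≤ inertia N (lin lam) := by
  intro g hg
  rw [mem_inertia_lin] at hg ⊢
  have h1 : conjHom N lam g * lam⁻¹ = (conjHom N mu g * mu⁻¹)⁻¹ := by
    rw [eq_inv_iff_mul_eq_one, mul_mul_mul_comm, ← conjHom_mul, hg, ← mul_inv, mul_inv_cancel]
  refine mul_inv_eq_one.1 ((pow_eq_one_iff_of_coprime hpq).1 ⟨conjHom_div_pow N h g, ?_⟩)
  rw [h1, inv_pow, conjHom_div_pow N h', inv_one]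

omit [Finite G] in
theorem mul_lin_injective {H : Type*} [Group H] (lam : Lin H) :
    Function.Injective fun θ : H → ℂ => θ * lin lam := fun _ _ h =>
  funext fun n => mul_right_cancel₀ (lam.hom n).ne_zero (congrFun h n)

omit [Finite G] in
theorem inertia_mul_of_inv {lam : Lin N} (h : inertia N (lin lam) = ⊤) (θ : N → ℂ) :
    inertia N (θ * lin lam) = inertia N θ := by
  ext g
  rw [mem_inertia, mem_inertia, conjChar_mul_fun, mem_inertia.1 (h.ge (Subgroup.mem_top g))]
  exact (mul_lin_injective lam).eq_iff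

omit [Finite G] in
theorem eq_lin_inv {H : Type*} [Group H] {lam : Lin H} {θ : H → ℂ}
    (h : θ * lin lam = fun _ => 1) : θ = lin lam⁻¹ := by
  refine mul_lin_injective lam ?_
  change θ * lin lam = lin lam⁻¹ * lin lam
  rw [h, ← lin_mul, inv_mul_cancel]
  rfl

omit [Finite G] in
theorem inertia_lin_inv (lam : Lin N) : inertia N (lin lam⁻¹) = inertia N (lin lam) := by
  ext g
  rw [mem_inertia_lin, mem_inertia_lin]
  exact inv_inj (a := conjHom N lam g) (b := lam)

end Chars

section Graph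

open Cfsg.Lib.Char.Deg

variable {G : Type*} [Group G] [Fintype G] {N : Subgroup G} [hN : N.Normal] [Fintype N]

omit hN [Fintype N] in
theorem dh_res_eq_one (hNG : N ≤ commutator G) {χ : G → ℂ} (hχ : IsCharacter G χ) :
    dh (fun n : N => χ n) = 1 := by
  change detHom _ = (1 : N →* ℂˣ)
  rw [show (fun n : N => χ n) = fun n : N => χ (N.subtype n) from rfl, detHom_comp hχ]
  ext n
  rw [MonoidHom.comp_apply, MonoidHom.one_apply,
    (MonoidHom.mem_ker.1 (Abelianization.commutator_subset_ker (detHom χ) (hNG n.2)) :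
      detHom χ (N.subtype n) = 1)]

theorem dh_natCast_smul {H : Type*} [Group H] [Finite H] {χ : H → ℂ} (hχ : IsCharacter H χ)
    (n : ℕ) : dh ((n : ℂ) • χ) = dh χ ^ n := by
  change detHom _ = detHom χ ^ n
  ext g
  simp [detChar_natCast_smul hχ]

/-- The determinant trick. -/
theorem det_trick (hNG : N ≤ commutator G) {lam : Lin N} (h : inertia N (lin lam) = ⊤)
    {θ : N → ℂ} (hθ : IsIrrCharacter N θ) {χ ξ : G → ℂ} (hχ : IsIrrCharacter G χ)
    (hξ : IsIrrCharacter G ξ) (h1 : classInner (fun n : N => χ n) θ ≠ 0)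
    (h2 : classInner (fun n : N => ξ n) (θ * lin lam) ≠ 0) :
    ∃ e, e ∣ charDegree χ ∧ lam ^ (e * charDegree ξ) = 1 := by
  classical
  obtain ⟨e, -, -, he⟩ := clifford_res_nat hχ hθ h1
  obtain ⟨f, -, -, hf⟩ := clifford_res_nat hξ (irr_mul_lin hθ lam) h2
  have hS : IsCharacter N (∑ ψ ∈ conjSet N θ, ψ) :=
    isCharacter_sum _ fun ψ hψ => (hθ.of_mem_conjSet hψ).isCharacter
  have h3 : ∑ ψ ∈ conjSet N (θ * lin lam), ψ = (∑ ψ ∈ conjSet N θ, ψ) * lin lam := by
    have h4 : conjSet N (θ * lin lam) = (conjSet N θ).image (· * lin lam) := by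
      ext ψ
      simp only [Finset.mem_image, mem_conjSet, conjChar_mul_fun,
        fun g => mem_inertia.1 (h.ge (Subgroup.mem_top g))]
      exact ⟨fun ⟨g, hg⟩ => ⟨_, ⟨g, rfl⟩, hg⟩, fun ⟨_, ⟨g, rfl⟩, hg⟩ => ⟨g, hg⟩⟩
    rw [h4, Finset.sum_image (mul_lin_injective lam).injOn, Finset.sum_mul]
  set S := ∑ ψ ∈ conjSet N θ, ψ
  have hf' : (fun n : N => ξ n) = (f : ℂ) • (S * lin lam) := h3 ▸ hf
  have d1 := dh_res_eq_one hNG hχ.isCharacter
  have d2 := dh_res_eq_one hNG hξ.isCharacter
  rw [he, dh_natCast_smul hS] at d1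
  rw [hf', dh_natCast_smul (hS.mul (lin_irr lam).isCharacter)] at d2
  have d3 := dh_mul_lin hS lam
  have e1 : charDegree χ = e * charDegree S := deg_eq <| by
    have := congrFun he 1
    simp only [OneMemClass.coe_one, Pi.smul_apply, smul_eq_mul] at this
    rw [this, Nat.cast_mul, cast_deg hS]
  have e2 : charDegree ξ = f * charDegree S := deg_eq <| by
    have := congrFun hf' 1
    simp only [OneMemClass.coe_one, Pi.smul_apply, smul_eq_mul, Pi.mul_apply, lin, map_one,
      Units.val_one, mul_one] at this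
    rw [this, Nat.cast_mul, cast_deg hS]
  refine ⟨e, e1 ▸ Dvd.intro _ rfl, ?_⟩
  have d4 := congrArg (· ^ e) d2
  simp only [d3, mul_pow, ← pow_mul, one_pow] at d4
  rw [mul_comm f e, pow_mul, d1, one_pow, one_mul] at d4
  rw [e2, ← d4]
  congr 1
  ring

variable (N) in
/-- `v` is the degree of an irreducible character over the nonprincipal character `θ`. -/
def Ov (v : ℕ) (θ : N → ℂ) : Prop :=
  IsIrrCharacter N θ ∧ θ ≠ (fun _ => 1) ∧
    ∃ χ, IsIrrCharacter G χ ∧ classInner (fun n : N => χ n) θ ≠ 0 ∧ charDegree χ = v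

theorem exists_ov (v : relCharDegrees N) : ∃ θ, Ov N v θ := by
  obtain ⟨_, χ, ⟨x, hx, hx'⟩, rfl⟩ := v
  obtain ⟨θ, hθ, h⟩ := exists_irr_under N χ.2
  refine ⟨θ, hθ, ?_, χ, χ.2, h, rfl⟩
  rintro rfl
  exact hx' (apply_eq_of_lies_over_one χ.2 h hx)

theorem exists_vertex {θ : N → ℂ} (hθ : IsIrrCharacter N θ) (hne : θ ≠ fun _ => 1) :
    ∃ v : relCharDegrees N, Ov N v θ := by
  obtain ⟨χ, hχ, h⟩ := exists_irr_over hθ
  refine ⟨⟨_, ⟨χ, hχ⟩, ?_, rfl⟩, hθ, hne, χ, hχ, h, rfl⟩
  by_contra! h1
  obtain ⟨g, hg⟩ := exists_conjChar_eq_of_lies_over hχ hθ isIrrCharacter_one h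
    (lies_over_one_of_apply_eq hχ h1)
  exact hne ((conjChar_eq_const_iff N θ g 1).1 hg)

theorem Ov.dvd {v : ℕ} {θ : N → ℂ} (h : Ov N v θ) : (inertia N θ).index * charDegree θ ∣ v := by
  obtain ⟨hθ, -, χ, hχ, h1, rfl⟩ := h
  exact index_inertia_mul_deg_dvd hχ hθ h1

theorem Ov.index_dvd {v : ℕ} {θ : N → ℂ} (h : Ov N v θ) : (inertia N θ).index ∣ v :=
  (Dvd.intro _ rfl).trans h.dvd

theorem Ov.deg_dvd {v : ℕ} {θ : N → ℂ} (h : Ov N v θ) : charDegree θ ∣ v :=
  (Dvd.intro_left _ rfl).trans h.dvd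

theorem Ov.pow_eq_one (hNG : N ≤ commutator G) {lam : Lin N} (h : inertia N (lin lam) = ⊤)
    {v : ℕ} (hv : Ov N v (lin lam)) : lam ^ v = 1 := by
  obtain ⟨-, -, χ, hχ, h1, rfl⟩ := hv
  obtain ⟨e, he, h2⟩ := det_trick hNG h isIrrCharacter_one isIrrCharacter_one hχ
    (lies_over_one_of_apply_eq (χ := fun _ : G => 1) isIrrCharacter_one fun _ _ => rfl)
    (by rwa [show (fun _ : N => (1 : ℂ)) * lin lam = lin lam from one_mul _])
  rw [deg_const_one, Nat.dvd_one] at he
  rwa [he, one_mul] at h2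

omit [Fintype G] hN [Fintype N] in
theorem eq_or_adj (v w : relCharDegrees N) (h : ¬ v.1.Coprime w.1) :
    v = w ∨ (commonDivisorGraph.induce (relCharDegrees N)).Adj v w := by
  refine or_iff_not_imp_left.2 fun e => ⟨fun e' => e (Subtype.ext e'), ?_⟩
  obtain ⟨_, χ, hx, rfl⟩ := v
  have := Nat.gcd_pos_of_pos_left w.1 (deg_pos χ.2)
  exact lt_of_le_of_ne this fun e' => h e'.symm

omit [Fintype G] hN [Fintype N] in
theorem not_coprime_of_dvd {v w r : ℕ} (hr : r ≠ 1) (hv : r ∣ v) (hw : r ∣ w) : ¬ v.Coprime w :=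
  fun h => hr ((Nat.coprime_self _).1 ((h.coprime_dvd_left hv).coprime_dvd_right hw))

omit [Fintype G] hN [Fintype N] in
theorem reach_of_not_coprime (v w : relCharDegrees N) (h : ¬ v.1.Coprime w.1) :
    (commonDivisorGraph.induce (relCharDegrees N)).Reachable v w := by
  rcases eq_or_adj v w h with rfl | h
  · rfl
  · exact h.reachable

omit [Fintype G] hN [Fintype N] in
theorem reach_of_dvd (v w : relCharDegrees N) {r : ℕ} (hr : r ≠ 1) (hv : r ∣ v) (hw : r ∣ w) :
    (commonDivisorGraph.induce (relCharDegrees N)).Reachable v w :=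
  reach_of_not_coprime v w (not_coprime_of_dvd hr hv hw)

/-- If there is an invariant nonprincipal linear character, the graph is connected. -/
theorem reach_of_invariant (hNG : N ≤ commutator G) {lam : Lin N} (h : inertia N (lin lam) = ⊤)
    (hne : lam ≠ 1) (v w : relCharDegrees N) :
    (commonDivisorGraph.induce (relCharDegrees N)).Reachable v w := by
  obtain ⟨p, hp, mu, hmu, h'⟩ : ∃ p : ℕ, p.Prime ∧ ∃ mu : Lin N, orderOf mu = p ∧
      inertia N (lin mu) = ⊤ := by
    obtain ⟨p, hp, k, hk⟩ := Nat.exists_prime_and_dvd (mt orderOf_eq_one_iff.1 hne)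
    have hk0 : k ≠ 0 := by
      rintro rfl
      exact (orderOf_pos lam).ne' hk
    refine ⟨p, hp, lam ^ k, ?_, eq_top_iff.2 fun g _ => (mem_inertia_lin N).2 ?_⟩
    · rw [orderOf_pow_of_dvd hk0 (hk ▸ Dvd.intro_left _ rfl), hk,
        Nat.mul_div_cancel _ (Nat.pos_of_ne_zero hk0)]
    · rw [conjHom_pow, (mem_inertia_lin N).1 (h.ge (Subgroup.mem_top g))]
  have hmu1 : mu ≠ 1 := by
    rintro rfl
    exact hp.ne_one (hmu.symm.trans orderOf_one)
  obtain ⟨u, hu⟩ := exists_vertex (lin_irr mu) (mt (lin_eq_one_iff mu).1 hmu1)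
  have hpu : p ∣ u := hmu ▸ orderOf_dvd_of_pow_eq_one (hu.pow_eq_one hNG h')
  have key : ∀ v : relCharDegrees N,
      (commonDivisorGraph.induce (relCharDegrees N)).Reachable v u := fun v => by
    by_cases hpv : p ∣ v
    · exact reach_of_dvd v u hp.ne_one hpv hpu
    obtain ⟨θ, hv⟩ := exists_ov v
    have h1 : θ * lin mu ≠ fun _ => 1 := fun e => by
      rw [eq_lin_inv e] at hv
      have := hv.pow_eq_one hNG ((inertia_lin_inv N mu).trans h')
      rw [inv_pow, inv_eq_one] at this
      exact hpv (hmu ▸ orderOf_dvd_of_pow_eq_one this)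
    obtain ⟨w, hw⟩ := exists_vertex (irr_mul_lin hv.1 mu) h1
    have hpw : p ∣ w := by
      obtain ⟨hθ, -, χ, hχ, h2, e⟩ := hv
      obtain ⟨-, -, ξ, hξ, h3, e'⟩ := hw
      obtain ⟨e, he, h4⟩ := det_trick hNG h' hθ hχ hξ h2 h3
      have h5 : p ∣ e * charDegree ξ := hmu ▸ orderOf_dvd_of_pow_eq_one h4
      exact e' ▸ (hp.dvd_mul.1 h5).resolve_left fun h6 => hpv (by
        rename_i e''
        exact e'' ▸ h6.trans he)
    refine SimpleGraph.Reachable.trans ?_ (reach_of_dvd w u hp.ne_one hpw hpu)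
    by_cases h2 : (inertia N θ).index * charDegree θ = 1
    · obtain ⟨nu, rfl⟩ : ∃ nu : Lin N, θ = lin nu := hv.1.isCharacter.exists_monoidHom_of_apply_one
        ((deg_eq_one_iff hv.1.isCharacter).1 (Nat.eq_one_of_mul_eq_one_left h2))
      have h3 := Subgroup.index_eq_one.1 (Nat.eq_one_of_mul_eq_one_right h2)
      have h4 := hv.pow_eq_one hNG h3
      have h5 : inertia N (lin (nu * mu)) = ⊤ := by rw [lin_mul, inertia_mul_of_inv N h', h3]
      rw [← lin_mul] at hw
      have h6 := hw.pow_eq_one hNG h5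
      rw [mul_pow, (orderOf_dvd_iff_pow_eq_one (x := mu)).1 (hmu ▸ hpw), mul_one] at h6
      refine reach_of_dvd v w (r := orderOf nu) ?_ (orderOf_dvd_of_pow_eq_one h4)
        (orderOf_dvd_of_pow_eq_one h6)
      exact fun e => hv.2.1 ((lin_eq_one_iff nu).2 (orderOf_eq_one_iff.1 e))
    · refine reach_of_dvd v w h2 hv.dvd ?_
      have := hw.dvd
      rwa [inertia_mul_of_inv N h', deg_mul_lin hv.1.isCharacter] at this
  exact (key v).trans (key w).symm

omit [Fintype G] [Fintype N] in
theorem mul_lin_ne_one {lam : Lin N} (ha : (inertia N (lin lam)).index ≠ 1) {θ : N → ℂ}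
    (h : (inertia N (lin lam)).index.Coprime (inertia N θ).index) :
    θ * lin lam ≠ fun _ => 1 := fun e => by
  rw [eq_lin_inv e, inertia_lin_inv] at h
  exact ha ((Nat.coprime_self _).1 h)

theorem dvd_of_not_reach (hII : ∀ lam : Lin N, lam ≠ 1 → (inertia N (lin lam)).index ≠ 1)
    {p : ℕ} (hp : p.Prime) {lam : Lin N} (hne : lam ≠ 1) (hpow : lam ^ p = 1)
    (hpa : ¬ p ∣ (inertia N (lin lam)).index) {u v : relCharDegrees N} (hu : Ov N u (lin lam))
    (h : ¬ (commonDivisorGraph.induce (relCharDegrees N)).Reachable u v) : p ∣ v := by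
  have := Fact.mk hp
  obtain ⟨θ, hv⟩ := exists_ov v
  have huv : u.1.Coprime v := by_contra fun h1 => h (reach_of_not_coprime u v h1)
  have hab := (huv.coprime_dvd_left hu.index_dvd).coprime_dvd_right hv.index_dvd
  by_cases hc : (inertia N (θ * lin lam)).index.Coprime (inertia N (lin lam)).index
  · obtain ⟨g, hg⟩ := exists_conjHom_ne N (hII lam hne)
    have h1 := orderOf_eq_prime (conjHom_div_pow N hpow g) hg
    by_cases h2 : p ∣ charDegree θ
    · exact h2.trans hv.deg_dvd
    have := (orbit_lemma N hv.1.isCharacter hab hc g).2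
    rw [h1] at this
    exact (this (hp.coprime_iff_not_dvd.2 h2)).trans hv.index_dvd
  exfalso
  obtain ⟨w, hw⟩ := exists_vertex (irr_mul_lin hv.1 lam) (mul_lin_ne_one (hII lam hne) hab)
  have huw := reach_of_not_coprime u w fun h1 =>
    hc ((h1.coprime_dvd_left hu.index_dvd).coprime_dvd_right hw.index_dvd).symm
  have hwv : w.1.Coprime v := by_contra fun h1 => h (huw.trans (reach_of_not_coprime w v h1))
  have h1 : charDegree θ = 1 := (Nat.coprime_self _).1
    ((hwv.coprime_dvd_left (deg_mul_lin hv.1.isCharacter lam ▸ hw.deg_dvd)).coprime_dvd_right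
      hv.deg_dvd)
  obtain ⟨mu, rfl⟩ : ∃ mu : Lin N, θ = lin mu := hv.1.isCharacter.exists_monoidHom_of_apply_one
    ((deg_eq_one_iff hv.1.isCharacter).1 h1)
  have h2 := (hwv.coprime_dvd_left hw.index_dvd).coprime_dvd_right hv.index_dvd
  rw [mul_comm] at h2
  obtain ⟨g, hg⟩ := exists_conjHom_ne N (hII mu (mt (lin_eq_one_iff mu).2 hv.2.1))
  obtain ⟨⟨k, hk⟩, h3⟩ := orbit_lemma N (lin_irr lam).isCharacter hab.symm h2 g
  rw [← lin_mul, ← lin_conjHom, lin_injective.eq_iff, ← eq_inv_mul_iff_mul_eq,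
    mul_comm lam⁻¹] at hk
  have h4 := orderOf_eq_prime (hk ▸ conjHom_div_pow N hpow k) hg
  rw [h4, deg_lin] at h3
  exact hpa (h3 (Nat.coprime_one_right p))

theorem reach_of_coprime (hII : ∀ lam : Lin N, lam ≠ 1 → (inertia N (lin lam)).index ≠ 1)
    {p q : ℕ} (hpq : p.Coprime q) {lam mu : Lin N} (hne : lam ≠ 1) (hne' : mu ≠ 1)
    (h : lam ^ p = 1) (h' : mu ^ q = 1) {u v : relCharDegrees N} (hu : Ov N u (lin lam))
    (hv : Ov N v (lin mu)) : (commonDivisorGraph.induce (relCharDegrees N)).Reachable u v := by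
  have h1 : lam * mu ≠ 1 := fun e => hne <| (pow_eq_one_iff_of_coprime hpq).1
    ⟨h, by rw [eq_inv_of_mul_eq_one_left e, inv_pow, h', inv_one]⟩
  obtain ⟨w, hw⟩ := exists_vertex (lin_irr (lam * mu)) (mt (lin_eq_one_iff _).1 h1)
  refine (reach_of_dvd u w (hII lam hne) hu.index_dvd
    ((Subgroup.index_dvd_of_le (inertia_mul_le N hpq h h')).trans hw.index_dvd)).trans
    (reach_of_dvd w v (hII mu hne') ?_ hv.index_dvd)
  rw [mul_comm] at hw
  exact (Subgroup.index_dvd_of_le (inertia_mul_le N hpq.symm h' h)).trans hw.index_dvd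

omit [Fintype N] in
theorem exists_good {p : ℕ} (hp : p.Prime) (h : p ∣ (commutator N).index) :
    ∃ lam : Lin N, lam ≠ 1 ∧ lam ^ p = 1 ∧ ¬ p ∣ (inertia N (lin lam)).index := by
  let _ := homAct N
  obtain ⟨lam, h1, h2, h3⟩ := exists_pow_eq_one_not_dvd (G := G) (A := Lin N) hp
    (card_monoidHom_units (G := N) ▸ h)
  exact ⟨lam, h1, h2, stabilizer_homAct N lam ▸ h3⟩

theorem not_invariant (hNG : N ≤ commutator G) {u v : relCharDegrees N}
    (h : ¬ (commonDivisorGraph.induce (relCharDegrees N)).Reachable u v) (lam : Lin N)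
    (hne : lam ≠ 1) : (inertia N (lin lam)).index ≠ 1 := fun e =>
  h (reach_of_invariant hNG (Subgroup.index_eq_one.1 e) hne u v)

/-- The main theorem on the common divisor graph of the relative degrees. -/
theorem exists_base (hNG : N ≤ commutator G) (hm : (commutator N).index ≠ 1) :
    ∃ a : relCharDegrees N, ∀ b : relCharDegrees N,
      ¬ (commonDivisorGraph.induce (relCharDegrees N)).Reachable a b →
        ∀ p : ℕ, p.Prime → p ∣ (commutator N).index → p ∣ b := by
  obtain ⟨q, hq, hqm⟩ := Nat.exists_prime_and_dvd hm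
  obtain ⟨mu, h1, h2, h3⟩ := exists_good hq hqm
  obtain ⟨a, ha⟩ := exists_vertex (lin_irr mu) (mt (lin_eq_one_iff mu).1 h1)
  refine ⟨a, fun b hb p hp hpm => ?_⟩
  have hII := not_invariant hNG hb
  by_cases e : p = q
  · exact e ▸ dvd_of_not_reach hII hq h1 h2 h3 ha hb
  obtain ⟨lam, h4, h5, h6⟩ := exists_good hp hpm
  obtain ⟨u, hu⟩ := exists_vertex (lin_irr lam) (mt (lin_eq_one_iff lam).1 h4)
  exact dvd_of_not_reach hII hp h4 h5 h6 hu fun h7 =>
    hb ((reach_of_coprime hII ((Nat.coprime_primes hp hq).2 e) h4 h1 h5 h2 hu ha).symm.trans h7)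

/-- A linear and an arbitrary character with degrees prime to `|N:N'|` over them. -/
theorem not_coprime_index {lam : Lin N} (ha : (inertia N (lin lam)).index ≠ 1) {θ : N → ℂ}
    {v : ℕ} (hv : Ov N v θ) (hm : v.Coprime (commutator N).index)
    (h : (inertia N (lin lam)).index.Coprime (inertia N θ).index) :
    ¬ (inertia N (θ * lin lam)).index.Coprime (inertia N (lin lam)).index := fun hc => by
  obtain ⟨g, hg⟩ := exists_conjHom_ne N ha
  have h1 : orderOf (conjHom N lam g * lam⁻¹) ∣ (commutator N).index :=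
    card_monoidHom_units (G := N) ▸ orderOf_dvd_natCard (G := Lin N) _
  have h2 := (hm.coprime_dvd_right h1).symm
  have h3 := (orbit_lemma N hv.1.isCharacter h hc g).2 (h2.coprime_dvd_right hv.deg_dvd)
  exact hg (orderOf_eq_one_iff.1 ((Nat.coprime_self _).1
    (h2.coprime_dvd_right (h3.trans hv.index_dvd))))

theorem exists_common (hII : ∀ lam : Lin N, lam ≠ 1 → (inertia N (lin lam)).index ≠ 1)
    {lam : Lin N} {θ : N → ℂ} {u v : relCharDegrees N} (hu : Ov N u (lin lam)) (hv : Ov N v θ)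
    (hum : u.1.Coprime (commutator N).index) (hvm : v.1.Coprime (commutator N).index) :
    ∃ w : relCharDegrees N, ¬ u.1.Coprime w ∧ ¬ w.1.Coprime v := by
  have ha := hII lam (mt (lin_eq_one_iff lam).2 hu.2.1)
  by_cases huv : u.1.Coprime v
  swap
  · exact ⟨u, not_coprime_of_dvd ha hu.index_dvd hu.index_dvd, huv⟩
  have hab := (huv.coprime_dvd_left hu.index_dvd).coprime_dvd_right hv.index_dvd
  obtain ⟨w, hw⟩ := exists_vertex (irr_mul_lin hv.1 lam) (mul_lin_ne_one ha hab)
  refine ⟨w, fun h1 => not_coprime_index ha hv hvm hab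
    ((h1.coprime_dvd_left hu.index_dvd).coprime_dvd_right hw.index_dvd).symm, ?_⟩
  by_cases h1 : charDegree θ = 1
  · obtain ⟨mu, rfl⟩ : ∃ mu : Lin N, θ = lin mu := hv.1.isCharacter.exists_monoidHom_of_apply_one
      ((deg_eq_one_iff hv.1.isCharacter).1 h1)
    rw [mul_comm] at hw
    exact fun h2 => not_coprime_index (hII mu (mt (lin_eq_one_iff mu).2 hv.2.1)) hu hum hab.symm
      ((h2.coprime_dvd_left hw.index_dvd).coprime_dvd_right hv.index_dvd)
  · exact not_coprime_of_dvd h1 (deg_mul_lin hv.1.isCharacter lam ▸ hw.deg_dvd) hv.deg_dvd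

end Graph

open Cfsg.Lib.Char.Deg in
/-- In a nonabelian solvable group there is a prime `q` such that every irreducible character of
degree prime to `q` and to the index of the derived subgroup stays irreducible on multiplication by
a fixed nonlinear character whose degree divides that index. -/
theorem exists_prime_mul_irr {H : Type*} [Group H] [Finite H] [Group.IsSolvable H]
    (h : ¬ commutator H ≤ ⊥) : ∃ q : ℕ, q.Prime ∧ ∃ β, IsIrrCharacter H β ∧ charDegree β ≠ 1 ∧
      charDegree β ∣ (commutator H).index ∧ ∀ θ, IsIrrCharacter H θ → ¬ q ∣ charDegree θ →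
        (charDegree θ).Coprime (commutator H).index → IsIrrCharacter H (β * θ) := by
  obtain ⟨K, -, hK⟩ := exists_isMaxNonab h
  have := hK.normal
  obtain ⟨q, hq, h1, h2⟩ : ∃ q : ℕ, q.Prime ∧ IsPGroup q (commutator (H ⧸ K)) ∧
      ∀ a ∈ commutator (H ⧸ K), ∀ b ∈ commutator (H ⧸ K), a * b = b * a := by
    obtain ⟨q, hq, ⟨h1, h2⟩ | ⟨h1, h2, -⟩⟩ := hK.quotient.dichotomy_bot
    · exact ⟨q, hq, h1.to_subgroup _, fun a _ b hb => Subgroup.mem_center_iff.1 (h2 hb) a⟩
    · exact ⟨q, hq, h1, h2⟩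
  have := Fact.mk hq
  obtain ⟨β, hβ, hβ1⟩ : ∃ β, IsIrrCharacter (H ⧸ K) β ∧ charDegree β ≠ 1 := by
    by_contra! h3
    refine hK.quotient.not_le ?_
    rw [commutator_def, Subgroup.commutator_le]
    intro a _ b _
    rw [Subgroup.mem_bot, commutatorElement_eq_one_iff_mul_comm]
    exact comm_of_forall_deg_eq_one h3 a b
  have h3 : (commutator (H ⧸ K)).index ∣ (commutator H).index := by
    have e : commutator (H ⧸ K) = (commutator H).map (QuotientGroup.mk' K) :=
      (map_commutator_eq H _).trans (by rw [QuotientGroup.range_mk']; rfl) |>.symm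
    rw [e]
    exact Subgroup.index_map_dvd _ (QuotientGroup.mk'_surjective K)
  have hβ' : IsIrrCharacter H fun g => β (g : H ⧸ K) :=
    hβ.comp_of_surjective (QuotientGroup.mk' K) (QuotientGroup.mk'_surjective K)
  refine ⟨q, hq, _, hβ', by rwa [deg_inflate], ?_, fun θ hθ hqθ hc => ?_⟩
  · rw [deg_inflate]
    exact (ito hβ _ h2).trans h3
  · obtain ⟨k, hk⟩ := h1.exists_card_eq
    refine gallagher_quotient_irr hθ.isCharacter (res_irr_of_coprime_deg K hθ ?_) hβ
    rw [Subgroup.index, ← (commutator (H ⧸ K)).card_mul_index, hk]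
    exact ((hq.coprime_iff_not_dvd.2 hqθ).symm.pow_right k).mul_right (hc.coprime_dvd_right h3)

theorem relIndex_commutator {G : Type*} [Group G] (N : Subgroup G) :
    ⁅N, N⁆.relIndex N = (commutator N).index := by
  rw [Subgroup.relIndex, ← Subgroup.map_subtype_commutator, Subgroup.subgroupOf,
    Subgroup.comap_map_eq_self_of_injective N.subtype_injective]

end Cfsg.Lib.Char.RelG
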