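import Cfsg.Agent.Char.DegFourA
import Cfsg.Agent.Char.RelGraph

/-! Solvable normal subgroups with two relative character degrees are metabelian. -/

set_option autoImplicit false

open Cfsg Cfsg.Lib.Solv Cfsg.Lib.Char.RelG
open scoped commutatorElement

namespace Cfsg.Lib.Char.Deg.Four

universe u

variable {G : Type*} [Group G] [Finite G] {χ : G → ℂ} {p : ℕ}

theorem exists_over_lin (hp : p.Prime) {N : Subgroup G} [N.Normal] [Fintype N] (ν : Lin N)
    (h : ¬ p ∣ orderOf ν) : ∃ ψ k, IsIrrCharacter G ψ ∧ classInner (fun n : N => ψ n) (lin ν) ≠ 0 ∧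
      charDegree ψ = (inertia N (lin ν)).index * k ∧ ¬ p ∣ k := by
  classical
  have := Fact.mk hp
  have := Fintype.ofFinite G
  have hν := lin_irr ν
  have hNT : N ≤ inertia N (lin ν) := le_inertia hν.isClassFunction
  obtain ⟨P⟩ : Nonempty (Sylow p (inertia N (lin ν))) := inferInstance
  obtain ⟨ξ, hξ, h1, h2⟩ := exists_over_not_dvd_deg P (hν.subgroupOf hNT)
    (by rw [inertia_subgroupOf _ hNT, Subgroup.subgroupOf_self]; exact le_top)
    (fun h3 => hp.not_dvd_one (h3.trans ((deg_congr (φ := lin ν) rfl).trans (deg_lin ν)).dvd))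
    (fun h3 => h ((h3.trans (detOrder_comp_dvd hν.isCharacter
      (Subgroup.subgroupOfEquivOfLe hNT).toMonoidHom)).trans (detOrder_monoidHom ν.hom).dvd))
  rw [classInner_res_subgroupOf hNT] at h1
  obtain ⟨h3, h4⟩ := clifford_indFun_irr hNT le_rfl hν hξ h1
  exact ⟨_, _, h3, h4 ▸ h1, deg_indFun _ hξ.isCharacter, h2⟩

theorem inertia_le_dh {N : Subgroup G} [N.Normal] {φ : N → ℂ} (hφ : IsCharacter N φ) (c : ℕ) :
    inertia N φ ≤ inertia N (lin (dh φ ^ c)) := fun g hg => by
  rw [mem_inertia_lin, conjHom_pow]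
  congr 1
  exact (detHom_comp hφ (MulAut.conjNormal g).toMonoidHom).symm.trans
    (congrArg detHom (mem_inertia.1 hg))

theorem not_dvd_relIndex (hp : p.Prime) {N : Subgroup G} [N.Normal]
    (h : ⁅N, N⁆ ≤ pCore p G ⊓ N) : ¬ p ∣ (pCore p G ⊓ N).relIndex N := by
  have := Fact.mk hp
  obtain ⟨S⟩ : Nonempty (Sylow p N) := inferInstance
  have h1 : (pCore p G ⊓ N).subgroupOf N ≤ S :=
    (((pCore_isPGroup p G).to_le inf_le_left).comap_subtype).le_sylow_of_normal S
  have h2 : (S : Subgroup N).Normal := .of_commutator_le N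
    (((commutator_le_subgroupOf_self N).trans (Subgroup.subgroupOf_mono N h)).trans h1)
  refine fun h3 => S.not_dvd_index (h3.trans (Subgroup.index_dvd_of_le fun x hx => ⟨?_, x.2⟩))
  exact map_pCore_le_of_normal N ⟨x, le_pCore h2 S.isPGroup' hx, rfl⟩

omit [Finite G] in
theorem index_commutator_congr {H : Type*} [Group H] (e : G ≃* H) :
    (commutator G).index = (commutator H).index :=
  Nat.card_congr e.abelianizationCongr.toEquiv

theorem exists_thompson (hp : p.Prime) (h0 : pPrimeCore p G = ⊥) {N : Subgroup G} [N.Normal]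
    (h : ¬ N ≤ pCore p G) : ∃ χ, IsIrrCharacter G χ ∧ ¬ ⁅N, N⁆ ≤ charKer χ ∧ ¬ p ∣ charDegree χ := by
  have := Fact.mk hp
  have hR : ((pResidual p N).map N.subtype).Normal := normal_map_subtype_of_char _
  let e := (pResidual p N).equivMapOfInjective N.subtype N.subtype_injective
  have h1 : p ∣ Nat.card ((pResidual p N).map N.subtype) := by_contra fun h1 => h <| by
    have h2 := (le_pPrimeCore hR (hp.coprime_iff_not_dvd.2 h1).symm).trans h0.le
    rw [le_bot_iff, Subgroup.map_eq_bot_iff_of_injective _ N.subtype_injective] at h2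
    obtain ⟨k, hk⟩ : ∃ k, (pResidual p N).index = p ^ k := Trans.exists_index_pResidual_eq
    rw [h2, Subgroup.index_bot] at hk
    exact le_pCore inferInstance (IsPGroup.of_card hk)
  obtain ⟨χ, hχ, h1, h2⟩ := relative_thompson hp ((pResidual p N).map N.subtype) h1
    (index_commutator_congr e ▸ not_dvd_index_commutator_pResidual hp)
  exact ⟨χ, hχ, fun h3 => h1 ((Subgroup.commutator_mono (Subgroup.map_subtype_le _)
    (Subgroup.map_subtype_le _)).trans h3), h2⟩

theorem rel_two_aux [Group.IsSolvable G] (hp : p.Prime) (h0 : pPrimeCore p G = ⊥) {N : Subgroup G}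
    [hN : N.Normal] {a b : ℕ} (hab : a < b)
    (h : ∀ χ, IsIrrCharacter G χ → ¬ N ≤ charKer χ → charDegree χ = a ∨ charDegree χ = b) :
    dr N 2 = ⊥ := by
  classical
  have := Fact.mk hp
  have := Fintype.ofFinite G
  by_cases hNp : N ≤ pCore p G
  · exact le_bot_iff.1 ((dr_anti N Finset.card_le_two).trans (dr_eq_bot_of_isPGroup hp
      ((pCore_isPGroup p G).to_le hNp) {a.factorization p, b.factorization p} fun χ hχ h1 => by
        rcases h χ hχ h1 with h2 | h2 <;> simp [h2]).le)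
  have hfit : fittingSubgroup G ≤ pCore p G := by
    have h3 := congrArg (Subgroup.map (fittingSubgroup G).subtype)
      (pCore_sup_pPrimeCore_of_isNilpotent (G := fittingSubgroup G) p)
    rw [Subgroup.map_sup, ← MonoidHom.range_eq_map, Subgroup.range_subtype] at h3
    exact h3.ge.trans (sup_le (map_pCore_le_of_normal _)
      ((map_pPrimeCore_le_of_normal _).trans (h0.le.trans bot_le)))
  have hidx := not_dvd_relIndex (G := G) hp (N := N)
  have hpF : IsPGroup p (pCore p G ⊓ N : Subgroup G) := (pCore_isPGroup p G).to_le inf_le_left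
  have hFN : pCore p G ⊓ N ≤ N := inf_le_right
  have hfit' := inf_le_inf_right N hfit
  have hNF : ¬ N ≤ pCore p G ⊓ N := fun h1 => hNp (h1.trans inf_le_left)
  have hF : (pCore p G ⊓ N).Normal := inferInstance
  generalize pCore p G ⊓ N = F at hidx hpF hFN hfit' hNF hF
  obtain ⟨n, hn⟩ := hpF.exists_card_eq
  have hA : ∀ χ, IsIrrCharacter G χ → F ≤ charKer χ → ¬ N ≤ charKer χ → charDegree χ = a := by
    intro χ hχ h1 h2
    obtain ⟨ψ, hψ, h3, h4⟩ := exists_lt_rel hχ (hfit'.trans h1) h2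
    have h5 := h χ hχ h2
    have h6 := h ψ hψ fun h5 => h2 (h5.trans h4.le)
    omega
  have hNN : ⁅N, N⁆ ≤ F := by
    have := hN.map _ (QuotientGroup.mk'_surjective F)
    rw [← map_mk'_eq_bot_iff, Subgroup.map_commutator]
    exact rel_one (a := a) fun β hβ h1 => by
      simpa only [deg_inflate] using
        hA _ hβ.inflate (le_charKer_comp_mk F β) (not_le_charKer_inflate hβ h1)
  replace hidx := hidx hNN
  have hcop : p.Coprime (F.subgroupOf N).index := hp.coprime_iff_not_dvd.2 hidx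
  have hext : ∀ χ θ, IsIrrCharacter G χ → charDegree χ = a → IsIrrCharacter F θ →
      classInner (fun n : F => χ n) θ ≠ 0 → ∃ φ, IsIrrCharacter N φ ∧
        ∀ n : F.subgroupOf N, φ n = θ ⟨(n : N), n.2⟩ := by
    intro χ θ hχ h1 hθ h2
    have h3 : N ≤ inertia F θ := le_of_index_le fun ψ hψ h3 => by
      have h4 := Nat.le_of_dvd (deg_pos hχ)
        ((Dvd.intro _ rfl).trans (index_inertia_mul_deg_dvd hχ hθ h2))
      have := h ψ hψ h3
      omega
    refine exists_ext_of_coprime_card (hθ.subgroupOf hFN)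
      (fun g n => mem_inertia'.1 (h3 g.2) ⟨_, n.2⟩) ?_
    rw [Nat.card_congr (Subgroup.subgroupOfEquivOfLe hFN).toEquiv, hn]
    exact hcop.pow_left n
  have hpow : ∀ θ, IsIrrCharacter F θ → ∃ i, charDegree θ = p ^ i := fun θ hθ =>
    ((Nat.dvd_prime_pow hp).1 (hn ▸ deg_dvd_card hθ)).imp fun _ h => h.2
  have hb : ¬ p ∣ b := by
    obtain ⟨χ, hχ, h1, h2⟩ := exists_thompson hp h0 hNp
    rcases h χ hχ fun h3 => h1 ((Subgroup.commutator_le_left _ _).trans h3) with h3 | h3
    swap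
    · exact h3 ▸ h2
    obtain ⟨θ, hθ, h4⟩ := exists_irr_under F hχ
    obtain ⟨φ, hφ, h5⟩ := hext χ θ hχ h3 hθ h4
    obtain ⟨i, hi⟩ := hpow θ hθ
    have h6 : charDegree φ = 1 := by
      rw [deg_congr (φ := θ) (h5 1), hi]
      rcases i with _ | i
      · rfl
      · exact absurd ((dvd_pow_self p i.succ_ne_zero).trans (hi ▸ deg_dvd_of_lies_over hχ hθ h4)) h2
    refine absurd (le_charKer_of_under hNN hχ hθ h4 fun x hx => hθ.mem_charKer_iff.2 ?_) h1
    have h7 : (⟨x, hFN x.2⟩ : N) ∈ commutator N := by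
      rw [Subgroup.mem_subgroupOf, ← Subgroup.map_subtype_commutator] at hx
      obtain ⟨y, hy, e⟩ := hx
      exact (Subtype.ext e : y = ⟨x, hFN x.2⟩) ▸ hy
    exact (h5 ⟨⟨x, hFN x.2⟩, x.2⟩).symm.trans
      ((apply_of_mem_charKer ((commutator_le_charKer_iff hφ).2 h6 h7)).trans (h5 1))
  refine eq_bot_of_forall_le_charKer fun χ hχ => by_contra fun h1 => ?_
  obtain ⟨θ, hθ, h2⟩ := exists_irr_under F hχ
  obtain ⟨i, hi⟩ := hpow θ hθ
  have hi0 : i ≠ 0 := by
    rintro rfl
    have h3 : dr N 2 ≤ ⁅F, F⁆ := Subgroup.commutator_mono hNN hNN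
    refine h1 (le_charKer_of_under (h3.trans (Subgroup.commutator_le_left _ _)) hχ hθ h2
      (le_trans (fun x hx => ?_) ((commutator_le_charKer_iff hθ).2 hi)))
    have h4 := h3 hx
    rw [← Subgroup.map_subtype_commutator] at h4
    obtain ⟨y, hy, e⟩ := h4
    exact (Subtype.ext e : y = x) ▸ hy
  have hpθ : p ∣ charDegree θ := hi ▸ dvd_pow_self p hi0
  obtain ⟨φ, hφ, h3⟩ := hext χ θ hχ ((h χ hχ fun h3 => h1 ((dr_le N 2).trans h3)).resolve_right
    fun h3 => hb (h3 ▸ hpθ.trans (deg_dvd_of_lies_over hχ hθ h2))) hθ h2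
  have hφi : charDegree φ = p ^ i := (deg_congr (φ := θ) (h3 1)).trans hi
  have htriv : ∀ μ : Lin N, (∀ x ∈ F.subgroupOf N, μ.hom x = 1) → μ ^ (F.subgroupOf N).index = 1 :=
    fun μ hμ => MonoidHom.ext fun x => (map_pow μ.hom x _).symm.trans
      (hμ _ ((F.subgroupOf N).pow_index_mem x))
  obtain ⟨φ', hφ', h4, h5⟩ : ∃ φ', IsIrrCharacter N φ' ∧ charDegree φ' = p ^ i ∧ dh φ' ^ p ^ n ≠ 1 := by
    by_contra hcon
    push Not at hcon
    obtain ⟨g, hg, hg'⟩ := SetLike.not_le_iff_exists.1 hNF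
    obtain ⟨β, hβ, h4, h5⟩ := exists_irr_le_charKer_not_mem (F.subgroupOf N) (g := ⟨g, hg⟩) hg'
    obtain ⟨μ, rfl⟩ : ∃ μ : Lin N, β = fun g => (μ.hom g : ℂ) :=
      hβ.isCharacter.exists_monoidHom_of_apply_one (hβ.commutator_le_charKer_iff.1
        (((commutator_le_subgroupOf_self N).trans (Subgroup.subgroupOf_mono N hNN)).trans h4))
    rw [charKer_monoidHom] at h4 h5
    have h6 := hcon _ (irr_mul_lin hφ μ) ((deg_mul_lin hφ.isCharacter μ).trans hφi)
    rw [dh_mul_lin hφ.isCharacter, mul_pow, hcon φ hφ hφi, one_mul, hφi, ← pow_mul, ← pow_add] at h6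
    have h7 : μ = 1 := (pow_eq_one_iff_of_coprime (hcop.pow_left _)).1 ⟨h6, htriv μ h4⟩
    exact h5 (by rw [h7]; rfl)
  have h6 : ∀ x ∈ F.subgroupOf N, (dh φ' ^ p ^ n).hom x = 1 := fun x hx => by
    refine (map_pow (dh φ').hom x _).symm.trans ?_
    have h6 := congrArg Subtype.val (pow_card_eq_one' (x := (⟨x, hx⟩ : F)))
    rw [hn] at h6
    rw [show x ^ p ^ n = 1 from Subtype.ext h6, map_one]
  obtain ⟨ψ, k, hψ, h7, h8, h9⟩ := exists_over_lin hp (dh φ' ^ p ^ n) fun h7 =>
    hidx (h7.trans (orderOf_dvd_of_pow_eq_one (htriv _ h6)))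
  have h10 := hA ψ hψ (le_charKer_of_under hFN hψ (lin_irr _) h7 fun x hx =>
    (charKer_monoidHom _).ge (h6 x hx)) fun h10 => h5 (MonoidHom.ext fun x =>
      (charKer_monoidHom _).le (le_charKer_of_lies_over hψ.isCharacter (lin_irr _) h7 h10 x.2))
  obtain ⟨ξ, hξ, h11⟩ := exists_irr_over hφ'
  have hpφ : p ∣ charDegree φ' := h4 ▸ dvd_pow_self p hi0
  have h12 := (h ξ hξ fun h12 => hp.not_dvd_one (((commutator_le_charKer_iff hφ').1 fun x _ =>
    le_charKer_of_lies_over hξ.isCharacter hφ' h11 h12 x.2) ▸ hpφ)).resolve_right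
      fun h12 => hb (h12 ▸ hpφ.trans (deg_dvd_of_lies_over hξ hφ' h11))
  have h13 := (Nat.mul_dvd_mul (Subgroup.index_dvd_of_le (inertia_le_dh hφ'.isCharacter (p ^ n)))
    hpφ).trans (index_inertia_mul_deg_dvd hξ hφ' h11)
  rw [h12, ← h10, h8] at h13
  exact h9 (Nat.dvd_of_mul_dvd_mul_left (Nat.pos_of_ne_zero Subgroup.index_ne_zero_of_finite) h13)

/-- Two relative degrees. -/
theorem rel_two (G : Type u) [Group G] [Finite G] : Group.IsSolvable G → ∀ N : Subgroup G,
    N.Normal → ∀ a b : ℕ, (∀ χ, IsIrrCharacter G χ → ¬ N ≤ charKer χ →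
      charDegree χ = a ∨ charDegree χ = b) → dr N 2 = ⊥ := by
  refine card_induction (P := fun G _ _ => Group.IsSolvable G → ∀ N : Subgroup G,
    N.Normal → ∀ a b : ℕ, (∀ χ, IsIrrCharacter G χ → ¬ N ≤ charKer χ →
      charDegree χ = a ∨ charDegree χ = b) → dr N 2 = ⊥) ?_ G
  intro G _ _ ih hs N hN a b h
  by_contra hne
  have hmax : ∀ L : Subgroup G, L.Normal → L ≠ ⊥ → dr N 2 ≤ L := fun L hL h0 => by
    rw [← map_mk'_eq_bot_iff, map_dr]
    exact ih _ (card_quotient_lt h0) inferInstance _ (hN.map _ (QuotientGroup.mk'_surjective L)) a b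
      fun β hβ h1 => by
        simpa only [deg_inflate] using h _ hβ.inflate (not_le_charKer_inflate hβ h1)
  have hmin : IsMinNormal (dr N 2) := ⟨inferInstance, hne, fun M hM h1 =>
    (eq_or_ne M ⊥).imp_right fun h2 => h1.antisymm (hmax M hM h2)⟩
  obtain ⟨p, hp, -, -, hpN⟩ := hmin.elementary
  have := Fact.mk hp
  have hp' : pPrimeCore p G = ⊥ := by_contra fun h1 => hne (by
    simpa [inf_of_le_left (hmax _ inferInstance h1)] using
      inf_eq_bot_of_isPGroup_of_coprime hpN (coprime_card_pPrimeCore p G))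
  rcases lt_trichotomy a b with hab | rfl | hab
  · exact hne (rel_two_aux hp hp' hab h)
  · refine hne ?_
    have h1 := rel_one (a := a) fun χ hχ h1 => (h χ hχ h1).elim id id
    rw [dr_succ, dr_succ, dr_zero, h1, Subgroup.commutator_bot_left]
  · exact hne (rel_two_aux hp hp' hab fun χ hχ h1 => (h χ hχ h1).symm)

end Cfsg.Lib.Char.Deg.Four
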