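import Cfsg.Agent.Char.DegThree
import Cfsg.Prelude.Def_DegreeGraph

/-!
# Components of degree graphs
-/

set_option autoImplicit false

namespace Cfsg.Lib.Char.Deg

theorem card_component_le_two {V : Type*} (H : SimpleGraph V) (A B : V → Prop)
    (h : ∀ v, A v ∨ B v) (hA : ∀ v w, A v → A w → H.Reachable v w)
    (hB : ∀ v w, B v → B w → H.Reachable v w) : Nat.card H.ConnectedComponent ≤ 2 := by
  classical
  have : Function.Injective fun c : H.ConnectedComponent => decide (A c.out) := by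
    intro c d e
    rw [← c.out_eq, ← d.out_eq]
    refine SimpleGraph.ConnectedComponent.sound ?_
    by_cases h1 : A c.out
    · exact hA _ _ h1 (by simpa [h1] using e)
    · have h2 : ¬ A d.out := by simpa [h1] using e
      exact hB _ _ ((h _).resolve_left h1) ((h _).resolve_left h2)
  simpa using Nat.card_le_card_of_injective _ this

variable {G : Type*} [Group G]

theorem mem_charDegrees {χ : G → ℂ} (hχ : IsIrrCharacter G χ) : charDegree χ ∈ charDegrees G :=
  ⟨⟨χ, hχ⟩, rfl⟩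

theorem degreeGraph_reachable {v w : degreePrimes G} {d : ℕ} (hd : d ∈ charDegrees G)
    (hv : v.1 ∣ d) (hw : w.1 ∣ d) :
    ((degreeGraph G).induce (degreePrimes G)).Reachable v w := by
  by_cases e : v = w
  · rw [e]
  · have hne : v.1 ≠ w.1 := fun h => e (Subtype.ext h)
    exact SimpleGraph.Adj.reachable ⟨hne, v.2.1, w.2.1, d, hd,
      ((Nat.coprime_primes v.2.1 w.2.1).2 hne).mul_dvd_of_dvd_of_dvd hv hw⟩

/-- In a solvable group there are two primes such that every prime dividing a degree occurs in a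
degree together with one of them. -/
theorem exists_two_primes [Finite G] [Group.IsSolvable G] : ∃ r s : ℕ, r.Prime ∧ s.Prime ∧
    ∀ q, q.Prime → ∀ d ∈ charDegrees G, q ∣ d →
      ∃ e ∈ charDegrees G, q ∣ e ∧ (r ∣ e ∨ s ∣ e) := by
  classical
  by_cases hab : commutator G ≤ ⊥
  · refine ⟨2, 2, Nat.prime_two, Nat.prime_two, ?_⟩
    rintro q hq _ ⟨χ, rfl⟩ h
    rw [(commutator_le_charKer_iff χ.2).1 (hab.trans bot_le)] at h
    exact absurd (Nat.dvd_one.1 h) hq.ne_one
  obtain ⟨K, -, hK⟩ := exists_isMaxNonab hab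
  have := hK.normal
  obtain ⟨p, hp, ⟨⟨k, hk⟩, β, hβ, h1, h2, -⟩ | hF⟩ := hK.dichotomy inferInstance
  · refine ⟨p, p, hp, hp, ?_⟩
    rintro q - _ ⟨⟨χ, hχ⟩, rfl⟩ h
    by_cases hpχ : p ∣ charDegree χ
    · exact ⟨_, mem_charDegrees hχ, h, Or.inl hpχ⟩
    have := hβ.charCenter_normal
    have hd : (charCenter β).index ∣ p ^ k :=
      hk ▸ Subgroup.index_dvd_of_le (h1.trans charKer_le_charCenter)
    have h3 := irr_mul_of_res_charCenter_irr hβ hχ.isCharacter le_rfl
      (res_irr_of_coprime_deg (charCenter β) hχ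
        (((hp.coprime_iff_not_dvd.2 hpχ).symm.pow_right k).coprime_dvd_right hd))
    obtain ⟨j, -, hj⟩ := (Nat.dvd_prime_pow hp).1
      ((deg_dvd_index_of_le_charCenter hβ le_rfl).trans hd)
    refine ⟨_, mem_charDegrees h3, ?_, Or.inl ?_⟩ <;> rw [deg_mul hβ.isCharacter hχ.isCharacter]
    · exact h.mul_left _
    · refine Dvd.dvd.mul_right ?_ _
      rw [hj] at h2 ⊢
      exact dvd_pow_self p fun e => h2 (by rw [e, pow_zero])
  · obtain ⟨r, hr, hrf⟩ := Nat.exists_prime_and_dvd hF.index_ne_one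
    refine ⟨r, p, hr, hp, ?_⟩
    rintro q hq _ ⟨⟨χ, hχ⟩, rfl⟩ h
    have := Fintype.ofFinite G
    have := Fintype.ofFinite (commutator G ⊔ K : Subgroup G)
    obtain ⟨ψ, hψ, hin⟩ := exists_irr_under (commutator G ⊔ K) hχ
    obtain ⟨c, hc, hcf⟩ := exists_deg_eq_mul_of_lies_over hχ hψ hin
    by_cases hpψ : p ∣ charDegree ψ
    · exact ⟨_, mem_charDegrees hχ, h, Or.inr (hc ▸ hpψ.mul_left _)⟩
    obtain ⟨ξ, hξ, e⟩ := hF.exists_deg_of_not_dvd hψ hpψ
    refine ⟨_, mem_charDegrees hξ, ?_, Or.inl (e ▸ hrf.mul_right _)⟩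
    rw [e]
    exact (hc ▸ h : q ∣ c * charDegree ψ).trans (Nat.mul_dvd_mul_right hcf _)

end Cfsg.Lib.Char.Deg
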