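import Cfsg.Agent.Char.InvForm
import Cfsg.Agent.Char.Gallagher

/-!
# Frobenius–Schur indicators of real constituents of multiplicity one
-/

set_option autoImplicit false

open scoped ComplexConjugate Matrix
open Cfsg

namespace Cfsg.Lib.Char

variable {G H : Type*} [Group G] [Group H]

theorem sum_mul_apply_mul_of_classFun [Fintype H] {θ α : H → ℂ} (hθ : IsIrrCharacter H θ)
    (hα : IsClassFunction H α) (k : H) :
    ∑ h, θ h⁻¹ * α (k * h) = Nat.card H * classInner α θ * θ k / θ 1 := by
  have h1 := hθ.sum_mul_apply_mul (φ := fun h => α h⁻¹)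
    (fun g x => by simp only [mul_inv_rev, inv_inv, ← mul_assoc, hα g⁻¹ x]) k
  rw [← Equiv.sum_comp ((Equiv.mulLeft k).trans (Equiv.inv H)),
    ← Equiv.sum_comp (Equiv.inv H) fun g => α g⁻¹ * θ g] at h1
  simp only [Equiv.inv_apply, inv_inv, hθ.isCharacter.apply_inv] at h1 ⊢
  rw [card_mul_classInner, ← h1]
  exact Finset.sum_congr rfl fun h _ => by simp [mul_comm, hθ.isCharacter.apply_inv]

/-- A real irreducible constituent of multiplicity one of the restriction of a real irreducible
character has the same indicator. -/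
theorem fsInd_eq_of_classInner_eq_one [Fintype G] [Fintype H] (i : H →* G) {χ : G → ℂ}
    {θ : H → ℂ} (hχ : IsIrrCharacter G χ) (hθ : IsIrrCharacter H θ) (hr : ∀ g, (χ g).im = 0)
    (hr' : ∀ h, (θ h).im = 0) (h1 : classInner (fun h => χ (i h)) θ = 1) :
    fsInd θ = fsInd χ := by
  classical
  have hχ' := hχ
  obtain ⟨n, ρ, hρ, rfl⟩ := hχ
  obtain ⟨⟨A, hA0, hA⟩, hsym⟩ := sqRep_invariant ρ hχ' hr
  set ε := fsInd ρ.character with hε
  have hε2 : ε * ε = 1 := by
    rcases hχ'.fsInd_cases with ⟨⟨g, hg⟩, -⟩ | ⟨-, h2, -⟩ | ⟨-, h2, -⟩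
    · exact absurd (hr g) hg
    · rw [hε, h2, one_mul]
    · rw [hε, h2]; simp
  set X : G → Matrix (Fin n) (Fin n) ℂ := fun g => LinearMap.toMatrix' (ρ g) with hX
  have hXmul : ∀ g h, X (g * h) = X g * X h := fun g h => by
    simp only [hX, map_mul, LinearMap.toMatrix'_mul]
  have hX1 : X 1 = 1 := by simp [hX]
  have hA' : ∀ g, X g * A * (X g)ᵀ = A := hA
  have hθ1 := hθ.apply_one_ne_zero
  have hH := card_ne_zero H
  have hinv : ∀ h, θ h⁻¹ = θ h := fun h => by
    rw [hθ.isCharacter.apply_inv, Complex.conj_eq_iff_im.2 (hr' h)]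
  set E : Matrix (Fin n) (Fin n) ℂ := (θ 1 / Nat.card H) • ∑ h, θ h⁻¹ • X (i h) with hE
  have e1 : ∀ k, X (i k) * E = E * X (i k) := fun k => by
    simp only [hE, Matrix.mul_smul, Matrix.smul_mul, Finset.mul_sum, Finset.sum_mul, ← hXmul,
      ← map_mul]
    congr 1
    refine Fintype.sum_equiv (MulAut.conj k).toEquiv _ _ fun h => ?_
    simp only [MulEquiv.toEquiv_eq_coe, EquivLike.coe_coe, MulAut.conj_apply,
      inv_mul_cancel_right, hinv]
    rw [hθ.isClassFunction]
  have e2 : E * E = E := by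
    have : ∀ k, θ k⁻¹ • (X (i k) * E) = (θ 1 / Nat.card H) • ∑ h, (θ k⁻¹ * θ (h⁻¹ * k)) • X (i h) :=
      fun k => by
      simp only [hE, Matrix.mul_smul, Finset.mul_sum, ← hXmul, ← map_mul, smul_comm (θ k⁻¹),
        Finset.smul_sum, smul_smul]
      refine Fintype.sum_equiv (Equiv.mulLeft k) _ _ fun h => ?_
      simp only [Equiv.coe_mulLeft, mul_inv_rev, inv_mul_cancel_right]
      congr 1; ring
    conv_lhs => rw [hE, Matrix.smul_mul, Finset.sum_mul, ← hE]
    simp only [Matrix.smul_mul, this]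
    rw [← Finset.smul_sum, Finset.sum_comm, hE]
    congr 1
    rw [Finset.smul_sum]
    refine Finset.sum_congr rfl fun h _ => ?_
    rw [← Finset.sum_smul, smul_smul, sum_mul_apply_mul_of_classFun hθ hθ.isClassFunction,
      hθ.classInner_self]
    congr 1
    field_simp
  have e3 : ∀ k, (X (i k) * E).trace = θ k := fun k => by
    have h2 : ∀ g, (X g).trace = ρ.character g := fun g => (character_eq_matrix_trace ρ g).symm
    simp only [hE, Matrix.mul_smul, Finset.mul_sum, ← hXmul, ← map_mul, Matrix.trace_smul,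
      Matrix.trace_sum, smul_eq_mul, h2]
    rw [← Finset.mul_sum, sum_mul_apply_mul_of_classFun hθ (hχ'.isClassFunction.comp i), h1]
    field_simp
  have e4 : A * Eᵀ = E * A := by
    simp only [hE, Matrix.transpose_smul, Matrix.transpose_sum, Matrix.mul_smul, Matrix.smul_mul,
      Finset.mul_sum, Finset.sum_mul]
    congr 1
    refine Fintype.sum_equiv (Equiv.inv H) _ _ fun h => ?_
    simp only [Equiv.inv_apply, hinv, map_inv]
    congr 1
    conv_rhs => rw [← hA' (i h), ← Matrix.mul_assoc, ← Matrix.mul_assoc, ← hXmul,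
      inv_mul_cancel, hX1, Matrix.one_mul]
  let Q : Matrix (Fin n) (Fin n) ℂ →ₗ[ℂ] Matrix (Fin n) (Fin n) ℂ :=
    (LinearMap.mulLeft ℂ E) ∘ₗ (LinearMap.mulRight ℂ Eᵀ)
  have hQ : ∀ Y, Q Y = E * (Y * Eᵀ) := fun _ => rfl
  have hET : Eᵀ * Eᵀ = Eᵀ := by rw [← Matrix.transpose_mul, e2]
  by_contra hne
  have h0 := eq_zero_of_sum_trace_proj_eq_zero (sqRep (ρ.comp i)) (Q ∘ₗ sqProj n ε)
    (LinearMap.ext fun Y => by
      have := LinearMap.congr_fun (sqProj_idem (n := n) hε2) Y
      have h2 : ∀ Y, sqProj n ε (Q Y) = Q (sqProj n ε Y) := fun Y => by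
        simp only [hQ, sqProj_apply, Matrix.transpose_mul, Matrix.transpose_transpose,
          Matrix.mul_smul, Matrix.smul_mul, Matrix.mul_add, Matrix.add_mul, Matrix.mul_assoc]
      rw [LinearMap.comp_apply] at this
      simp only [LinearMap.comp_apply]
      rw [h2, this, hQ, hQ, ← Matrix.mul_assoc, ← Matrix.mul_assoc, e2, Matrix.mul_assoc,
        Matrix.mul_assoc, hET])
    (fun k => LinearMap.ext fun Y => by
      have := LinearMap.congr_fun (sqProj_comm (ρ.comp i) ε k) Y
      simp only [LinearMap.comp_apply] at this ⊢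
      rw [this, hQ, hQ, sqRep_apply, sqRep_apply]
      change E * (X (i k) * _ * (X (i k))ᵀ * Eᵀ) = X (i k) * _ * (X (i k))ᵀ
      rw [Matrix.mul_assoc _ _ Eᵀ, ← Matrix.transpose_mul, ← e1, Matrix.transpose_mul]
      simp only [← Matrix.mul_assoc, e1])
    (by
      have h2 : ∀ k, LinearMap.trace ℂ _ (sqRep (ρ.comp i) k ∘ₗ Q ∘ₗ sqProj n ε) =
          (θ k ^ 2 + ε * θ (k * k)) / 2 := fun k => by
        have h3 : ∀ Y, (sqRep (ρ.comp i) k ∘ₗ Q ∘ₗ sqProj n ε) Y = (2⁻¹ : ℂ) •
            ((X (i k) * E) * Y * (X (i k) * E)ᵀ + ε • ((X (i k) * E) * Yᵀ * (X (i k) * E)ᵀ)) :=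
          fun Y => by
          simp only [LinearMap.comp_apply, hQ, sqRep_apply, sqProj_apply, Matrix.transpose_mul,
            Matrix.mul_smul, Matrix.smul_mul, Matrix.mul_add, Matrix.add_mul, Matrix.mul_assoc]
          rfl
        have h4 : (X (i k) * E) * (X (i k) * E) = X (i (k * k)) * E := by
          rw [Matrix.mul_assoc, ← Matrix.mul_assoc E, ← e1, Matrix.mul_assoc, e2,
            ← Matrix.mul_assoc, ← hXmul, map_mul]
        rw [← e3 (k * k), ← e3 k, ← h4, trace_matrix_end]
        generalize X (i k) * E = B at h3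
        simp only [h3, Matrix.smul_apply, Matrix.add_apply, Matrix.transpose_single,
          mul_single_mul_transpose]
        rw [sq, Matrix.trace, Finset.sum_mul_sum]
        simp only [Matrix.trace, Matrix.diag_apply, Matrix.mul_apply, smul_eq_mul, Finset.mul_sum,
          ← Finset.sum_add_distrib, Finset.sum_div]
        refine Finset.sum_congr rfl fun a _ => Finset.sum_congr rfl fun b _ => by ring
      simp only [h2]
      rcases hθ.fsInd_cases with ⟨⟨g, hg⟩, -⟩ | ⟨-, h3, -, h4⟩ | ⟨-, h3, h4, -⟩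
      · exact absurd (hr' g) hg
      · have : ε = -1 := (mul_self_eq_one_iff.1 hε2).resolve_left fun h => hne (h3.trans h.symm)
        rw [← h4, classInner_one_right, this]
        simp only [altSq_apply, neg_one_mul, sub_eq_add_neg]
      · have : ε = 1 := (mul_self_eq_one_iff.1 hε2).resolve_right fun h => hne (h3.trans h.symm)
        rw [← h4, classInner_one_right, this]
        simp only [symSq_apply, one_mul])
    (w := A) fun k => hA (i k)
  rw [LinearMap.comp_apply, sqProj_apply, hsym A hA, smul_smul, hε2, one_smul, ← two_smul ℂ,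
    smul_smul, inv_mul_cancel₀ two_ne_zero, one_smul, hQ, e4, ← Matrix.mul_assoc, e2] at h0
  let W : Subrepresentation ρ := ⟨LinearMap.range (Matrix.toLin' A), by
    rintro g _ ⟨v, rfl⟩
    refine ⟨(X g⁻¹)ᵀ *ᵥ v, ?_⟩
    have : ρ g = Matrix.toLin' (X g) := by simp [hX]
    rw [this, Matrix.toLin'_apply, Matrix.toLin'_apply, Matrix.toLin'_apply, Matrix.mulVec_mulVec,
      Matrix.mulVec_mulVec]
    congr 1
    conv_rhs => rw [← hA' g⁻¹, ← Matrix.mul_assoc, ← Matrix.mul_assoc, ← hXmul, mul_inv_cancel,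
      hX1, Matrix.one_mul]⟩
  have hW : W = ⊤ := (eq_bot_or_eq_top W).resolve_left fun h => hA0 (by
    have : LinearMap.range (Matrix.toLin' A) = ⊥ := congrArg Subrepresentation.toSubmodule h
    exact Matrix.toLin'.injective (by rw [LinearMap.range_eq_bot.1 this, map_zero]))
  have hE0 : E = 0 := Matrix.toLin'.injective (LinearMap.ext fun v => by
    obtain ⟨w, rfl⟩ : v ∈ W.toSubmodule := by rw [hW]; trivial
    rw [Matrix.toLin'_apply, Matrix.toLin'_apply, Matrix.mulVec_mulVec, h0]
    simp)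
  have := e3 1
  rw [hE0, Matrix.mul_zero, Matrix.trace_zero] at this
  exact hθ1 this.symm

/-- An irreducible character induced from a real irreducible character has the same indicator. -/
theorem fsInd_indFun [Fintype G] {K : Subgroup G} [Fintype K] {θ : K → ℂ}
    (hθ : IsIrrCharacter K θ) (hr : ∀ h, (θ h).im = 0) (h : IsIrrCharacter G (indFun K θ)) :
    fsInd (indFun K θ) = fsInd θ := by
  refine (fsInd_eq_of_classInner_eq_one K.subtype h hθ (fun g => ?_) hr ?_).symm
  · rw [← Complex.conj_eq_iff_im, ← congrFun (indFun_conj K θ) g]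
    congr 2
    exact funext fun x => Complex.conj_eq_iff_im.2 (hr x)
  · exact (classInner_indFun_irr_eq hθ.isCharacter h.isCharacter).symm.trans h.classInner_self

end Cfsg.Lib.Char
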