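import Cfsg.Agent.Solv.Subnormal

/-!
# Flavell's extension of the zipper lemma

A subgroup lying in two maximal subgroups and subnormal in all but at most one of the maximal
subgroups containing it lies in a proper normal subgroup.
-/

set_option autoImplicit false

open scoped Pointwise

namespace Cfsg.Lib.Char

open Cfsg.Lib.Solv Subgroup

variable {G : Type*} [Group G]

theorem exists_in_edges {α : Type*} [Finite α] (r : α → α → Prop) (B : Set α) (hB : B.Nonempty)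
    (h : ∀ a ∈ B, ∃ b ∈ B, r a b) : ∃ X ⊆ B, X.Nonempty ∧ ∀ b ∈ X, ∃ a ∈ X, r a b := by
  obtain ⟨X, ⟨⟨h1, h2, h3⟩, hmin⟩⟩ := exists_minimal_of_wellFoundedLT
    (fun X : Set α => X ⊆ B ∧ X.Nonempty ∧ ∀ a ∈ X, ∃ b ∈ X, r a b) ⟨B, le_rfl, hB, h⟩
  refine ⟨X, h1, h2, fun b hb => ?_⟩
  by_contra! hn
  have h4 : ∀ a ∈ X, ∃ c ∈ X \ {b}, r a c := fun a ha => by
    obtain ⟨c, hc, hr⟩ := h3 a ha
    exact ⟨c, ⟨hc, fun e => hn a ha (e ▸ hr)⟩, hr⟩
  obtain ⟨c, hc, -⟩ := h4 b hb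
  exact (hmin ⟨Set.sdiff_subset.trans h1, ⟨c, hc⟩, fun a ha => h4 a ha.1⟩ Set.sdiff_subset hb).2 rfl

/-- `K` is a maximal subgroup containing `T` in which `T` is not subnormal. -/
def Bad (T K : Subgroup G) : Prop := IsCoatom K ∧ T ≤ K ∧ ¬ SubnormalIn T K

theorem Bad.conj {T K : Subgroup G} (h : Bad T K) (g : G) :
    Bad (MulAut.conj g • T) (MulAut.conj g • K) :=
  ⟨isCoatom_conj_smul h.1 g, conj_smul_mono g h.2.1, fun h' => h.2.2 (by
    simpa only [conj_inv_smul_conj_smul] using h'.conj_smul g⁻¹)⟩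

theorem conj_le_of_le_inv {T K : Subgroup G} {g : G} (h : T ≤ MulAut.conj g⁻¹ • K) :
    MulAut.conj g • T ≤ K := by
  simpa only [conj_smul_conj_inv_smul] using conj_smul_mono g h

/-- Flavell's theorem. -/
theorem flavell [Finite G] {A : Subgroup G} (hA : normalClosure (A : Set G) = ⊤)
    (hU : ∀ K K', Bad A K → Bad A K' → K = K') {M N : Subgroup G} (hM : IsCoatom M)
    (hN : IsCoatom N) (hAM : A ≤ M) (hAN : A ≤ N) : M = N := by
  by_contra hne
  let C : Set (Subgroup G) := {T | ∃ g : G, T = MulAut.conj g • A}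
  have hC : ∀ (g : G), ∀ T ∈ C, MulAut.conj g • T ∈ C := by
    rintro g _ ⟨x, rfl⟩; exact ⟨g * x, conj_smul_conj_smul ..⟩
  have hU' : ∀ T ∈ C, ∀ K K', Bad T K → Bad T K' → K = K' := by
    rintro _ ⟨g, rfl⟩ K K' h h'
    have h1 := h.conj g⁻¹
    have h2 := h'.conj g⁻¹
    rw [conj_inv_smul_conj_smul] at h1 h2
    exact smul_left_cancel _ (hU _ _ h1 h2)
  have hnorm : ∀ T ∈ C, ∀ D : Subgroup G, T ≤ D → normalizer (D : Set G) = ⊤ → D = ⊤ := by
    rintro _ ⟨g, rfl⟩ D h h'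
    have := normalizer_eq_top_iff.1 h'
    refine top_unique (hA ▸ normalClosure_le_normal (show A ≤ D from ?_))
    simpa only [conj_inv_smul_conj_smul] using
      conj_smul_le_of_mem_normalizer (g := g⁻¹) (h' ▸ mem_top _) h
  obtain ⟨S, ⟨⟨K1, K2, h1, h2, h12, hS⟩, hSn⟩, hmax⟩ := exists_maximal_of_wellFoundedGT
    (fun S : Set (Subgroup G) => (∃ K1 K2, IsCoatom K1 ∧ IsCoatom K2 ∧ K1 ≠ K2 ∧
      S = {T ∈ C | T ≤ K1 ∧ T ≤ K2}) ∧ S.Nonempty)
    ⟨_, ⟨M, N, hM, hN, hne, rfl⟩, A, ⟨1, (conj_one_smul A).symm⟩, hAM, hAN⟩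
  have hSC : ∀ T ∈ S, T ∈ C := fun T h => (hS ▸ h).1
  have hB1 : sSup S ≤ K1 := sSup_le fun T h => (hS ▸ h).2.1
  have hB2 : sSup S ≤ K2 := sSup_le fun T h => (hS ▸ h).2.2
  have Max : ∀ L L', IsCoatom L → IsCoatom L' → L ≠ L' → sSup S ≤ L → sSup S ≤ L' →
      ∀ T ∈ C, T ≤ L → T ≤ L' → T ∈ S := fun L L' a b c d e T f g h => by
    have h3 : S ⊆ {T ∈ C | T ≤ L ∧ T ≤ L'} := fun U hU =>
      ⟨hSC U hU, (le_sSup hU).trans d, (le_sSup hU).trans e⟩
    exact hmax ⟨⟨L, L', a, b, c, rfl⟩, hSn.mono h3⟩ h3 ⟨f, g, h⟩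
  have hBS : ∀ T ∈ C, T ≤ sSup S → T ∈ S := fun T h h' => hS ▸ ⟨h, h'.trans hB1, h'.trans hB2⟩
  let SK : Subgroup G → Set (Subgroup G) := fun K => {T ∈ S | SubnormalIn T K}
  let st : Subgroup G → Subgroup G := fun K => K ⊓ normalizer ((sSup (SK K) : Subgroup G) : Set G)
  have inv : ∀ K, ∀ y ∈ st K, ∀ T ∈ SK K, MulAut.conj y • T ∈ SK K := fun K y hy T hT =>
    ⟨hBS _ (hC y T (hSC T hT.1)) ((conj_smul_le_of_mem_normalizer hy.2 (le_sSup hT)).trans
      (sSup_le_sSup fun _ h => h.1)), hT.2.conj_smul_of_mem hy.1⟩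
  have hBst : ∀ K, sSup S ≤ K → sSup S ≤ st K := fun K hK => le_inf hK
    (le_normalizer_sSup fun g hg T hT => ⟨hBS _ (hC g T (hSC T hT.1))
      (conj_smul_le_of_mem hg (le_sSup hT.1)), hT.2.conj_smul_of_mem (hK hg)⟩)
  have fin : ∀ K L, IsCoatom K → IsCoatom L → sSup S ≤ K → st K ≤ L → K = L := by
    intro K L a b c d
    by_contra e
    have h3 : ∀ g ∈ K, ∀ U ∈ {T ∈ C | SubnormalIn T K}, MulAut.conj g • U ∈
        {T ∈ C | SubnormalIn T K} := fun g hg U hU => ⟨hC g U hU.1, hU.2.conj_smul_of_mem hg⟩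
    have h4 : SK K ⊆ {T ∈ C | SubnormalIn T K} := fun T h => ⟨hSC T h.1, h.2⟩
    rcases h4.eq_or_ssubset with h5 | h5
    · exact e ((a.le_iff_eq b.1).1 ((le_inf le_rfl (h5 ▸ le_normalizer_sSup h3)).trans d)).symm
    · obtain ⟨X, e1, e2, e3⟩ := exists_le_normalizer_sSup (fun U h => h.2) h3 h5
      exact e2 ⟨Max K L a b e c ((hBst K c).trans d) X e1.1 e1.2.le
        ((le_inf e1.2.le e3).trans d), e1.2⟩
  have fin2 : ∀ K K', IsCoatom K → IsCoatom K' → sSup S ≤ K → sSup S ≤ K' → ∀ E ⊆ S, E.Nonempty →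
      (∀ y ∈ st K, ∀ T ∈ E, MulAut.conj y • T ∈ E) →
      (∀ y ∈ st K', ∀ T ∈ E, MulAut.conj y • T ∈ E) → K = K' := by
    rintro K K' a b c d E e ⟨T, hT⟩ f g
    rcases eq_top_or_exists_le_coatom (normalizer ((sSup E : Subgroup G) : Set G)) with h | ⟨L, hL, h⟩
    · exact absurd (top_unique ((hnorm T (hSC T (e hT)) _ (le_sSup hT) h).ge.trans
        ((sSup_le_sSup e).trans c))) a.1
    · exact (fin K L a hL c ((le_normalizer_sSup f).trans h)).trans
        (fin K' L b hL d ((le_normalizer_sSup g).trans h)).symm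
  have good : ∀ K, IsCoatom K → sSup S ≤ K → (¬ ∃ T ∈ S, Bad T K) → SK K = S := fun K a b c =>
    Set.Subset.antisymm (fun _ h => h.1) fun T hT => ⟨hT, not_not.1 fun h =>
      c ⟨T, hT, a, (le_sSup hT).trans b, h⟩⟩
  by_cases c1 : ∃ K, sSup S ≤ K ∧ ∃ T ∈ S, Bad T K
  swap
  · have e1 := good K1 h1 hB1 fun h => c1 ⟨_, hB1, h⟩
    have e2 := good K2 h2 hB2 fun h => c1 ⟨_, hB2, h⟩
    exact h12 (fin2 K1 K2 h1 h2 hB1 hB2 S le_rfl hSn (by simpa only [e1] using inv K1)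
      (by simpa only [e2] using inv K2))
  obtain ⟨K, hK, T, hT, bT⟩ := c1
  by_cases c2 : ∃ K', K' ≠ K ∧ sSup S ≤ K' ∧ ∃ T ∈ S, Bad T K'
  swap
  · have key : ∀ K0, IsCoatom K0 → sSup S ≤ K0 → K0 = K := fun K0 a b => by
      by_contra e
      have e1 := good K0 a b fun h => c2 ⟨_, e, b, h⟩
      refine e (fin K0 K a bT.1 b fun y hy => ?_)
      have e2 : MulAut.conj y • K = K := by
        by_contra e2
        refine c2 ⟨_, e2, ?_, _, (inv K0 y hy T (e1 ▸ hT)).1, bT.conj y⟩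
        have := mem_normalizer_iff_conj_smul_eq.1 hy.2
        rw [e1] at this
        exact this ▸ conj_smul_mono y hK
      rcases bT.1.le_iff.1 (le_normalizer (H := K)) with h | h
      · exact absurd (hnorm T (hSC T hT) K bT.2.1 h) bT.1.1
      · exact h ▸ mem_normalizer_iff_conj_smul_eq.2 e2
    exact h12 ((key K1 h1 hB1).trans (key K2 h2 hB2).symm)
  obtain ⟨K', hKK, hK', T', hT', bT'⟩ := c2
  have nb : ∀ L, IsCoatom L → sSup S ≤ L → ∀ U ∈ S, ∀ L', Bad U L' → L' ≠ L → U ∈ SK L :=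
    fun L a b U hU L' c d => ⟨hU, not_not.1 fun h =>
      d (hU' U (hSC U hU) _ _ c ⟨a, (le_sSup hU).trans b, h⟩)⟩
  let Mv : Subgroup G → Subgroup G → Prop := fun U V => ∃ L, Bad V L ∧ ¬ U ≤ L
  by_cases c3 : ∃ U ∈ S, ∀ V ∈ S, ¬ Mv U V
  · have key : ∀ L L', IsCoatom L → sSup S ≤ L → sSup S ≤ L' → L' ≠ L → ∀ V ∈ S, Bad V L' →
        ∀ y ∈ st L, ∀ U ∈ {U ∈ S | ∀ V ∈ S, ¬ Mv U V},
          MulAut.conj y • U ∈ {U ∈ S | ∀ V ∈ S, ¬ Mv U V} := by
      intro L L' a b c d V hV bV y hy U hU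
      have e1 : ∀ W ∈ SK L, ∀ X, Bad W X → MulAut.conj y • U ≤ X := fun W hW X hX =>
        conj_le_of_le_inv (not_not.1 fun h =>
          hU.2 _ (inv L y⁻¹ (inv_mem hy) W hW).1 ⟨_, hX.conj y⁻¹, h⟩)
      have e2 := conj_smul_le_of_mem hy.1 ((le_sSup hU.1).trans b)
      refine ⟨Max L' L bV.1 a d c b _ (hC y U (hSC U hU.1)) (e1 V (nb L a b V hV L' bV d) L' bV) e2,
        fun W hW ⟨X, hX, h⟩ => h ?_⟩
      by_cases e : X = L
      · exact e ▸ e2
      · exact e1 W (nb L a b W hW X hX e) X hX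
    exact hKK (fin2 K' K bT'.1 bT.1 hK' hK _ (fun _ h => h.1) c3
      (key K' K bT'.1 hK' hK hKK.symm T hT bT) (key K K' bT.1 hK hK' hKK T' hT' bT'))
  · push Not at c3
    obtain ⟨X, e1, e2, e3⟩ := exists_in_edges Mv S hSn c3
    have key : ∀ L, IsCoatom L → sSup S ≤ L → ∀ y ∈ st L,
        ∀ U ∈ ⋃₀ {X | X ⊆ S ∧ ∀ b ∈ X, ∃ a ∈ X, Mv a b},
          MulAut.conj y • U ∈ ⋃₀ {X | X ⊆ S ∧ ∀ b ∈ X, ∃ a ∈ X, Mv a b} := by
      rintro L a b y hy U ⟨Y, ⟨f1, f2⟩, hU⟩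
      refine ⟨(fun V => MulAut.conj y • V) '' Y, ⟨?_, ?_⟩, U, hU, rfl⟩
      · rintro _ ⟨V, hV, rfl⟩
        obtain ⟨W, hW, L', f3, f4⟩ := f2 V hV
        exact (inv L y hy V (nb L a b V (f1 hV) L' f3 fun e =>
          f4 (e ▸ (le_sSup (f1 hW)).trans b))).1
      · rintro _ ⟨V, hV, rfl⟩
        obtain ⟨W, hW, L', f3, f4⟩ := f2 V hV
        exact ⟨_, ⟨W, hW, rfl⟩, _, f3.conj y, fun h => f4 (pointwise_smul_le_pointwise_smul_iff.1 h)⟩
    exact hKK (fin2 K' K bT'.1 bT.1 hK' hK _ (Set.sUnion_subset fun _ h => h.1)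
      (e2.mono (Set.subset_sUnion_of_mem (by exact ⟨e1, e3⟩))) (key K' bT'.1 hK') (key K bT.1 hK))

/-- `H` is generated by its own conjugates of `A`. -/
theorem gen_iff {A H : Subgroup G} (h : A ≤ H) :
    normalClosure ((A.subgroupOf H : Subgroup H) : Set H) = ⊤ ↔
      ∀ D, A ≤ D → D ≤ H → H ≤ normalizer (D : Set G) → D = H := by
  constructor
  · intro h1 D a b c
    have := (normal_subgroupOf_iff_le_normalizer b).2 c
    exact le_antisymm b (subgroupOf_eq_top.1 (top_unique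
      (h1 ▸ normalClosure_le_normal (comap_mono a))))
  · intro h1
    have := h1 _ ((map_subgroupOf_eq_of_le h).ge.trans (map_mono le_normalClosure))
      (map_subtype_le _) (le_normalizer_map_subtype _)
    exact map_injective H.subtype_injective (this.trans (by simp [← MonoidHom.range_eq_map]))

/-- The Guralnick–Tracey form of the zipper lemma. -/
theorem zipper_gen [Finite G] (A : Subgroup G) (hA : normalClosure (A : Set G) = ⊤) (hAG : A ≠ ⊤) :
    sSup {H : Subgroup G | A ≤ H ∧ H ≠ ⊤ ∧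
      normalClosure ((A.subgroupOf H : Subgroup H) : Set H) = ⊤} = ⊤ ∨
      ∃! M : Subgroup G, IsCoatom M ∧ A ≤ M := by
  refine (eq_top_or_exists_le_coatom _).imp_right fun ⟨M, hM, hY⟩ => ?_
  have g0 : normalClosure ((A.subgroupOf A : Subgroup A) : Set A) = ⊤ :=
    (gen_iff le_rfl).2 fun D a b _ => le_antisymm b a
  refine ⟨M, ⟨hM, le_trans (le_sSup (by exact ⟨le_rfl, hAG, g0⟩)) hY⟩, fun N ⟨hN, hAN⟩ => ?_⟩
  by_contra hne
  obtain ⟨B, ⟨⟨h1, h2, N, hN, hne, h3⟩, hmax⟩⟩ := exists_maximal_of_wellFoundedGT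
    (fun B : Subgroup G => A ≤ B ∧ normalClosure ((A.subgroupOf B : Subgroup B) : Set B) = ⊤ ∧
      ∃ N, IsCoatom N ∧ N ≠ M ∧ B ≤ N) ⟨A, le_rfl, g0, N, hN, hne, hAN⟩
  have key : ∀ K K', Bad B K → Bad B K' → K = K' := by
    suffices h : ∀ K, Bad B K → K = M from fun K K' a b => (h K a).trans (h K' b).symm
    intro K hK
    by_contra e
    obtain ⟨S, ⟨h4, h5⟩, hmin⟩ := exists_minimal_of_wellFoundedLT
      (fun S : Subgroup G => B ≤ S ∧ SubnormalIn S K) ⟨K, hK.2.1, .refl K⟩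
    have h6 := (gen_iff (h1.trans h4)).2 fun D a b c => by
      have : D ⊓ B = B := (gen_iff h1).1 h2 _ (le_inf a h1) inf_le_right
        (le_normalizer_inf (h4.trans c) le_normalizer)
      exact le_antisymm b (hmin ⟨inf_eq_right.1 this, h5.step b c⟩ b)
    exact hK.2.2 (le_antisymm (hmax ⟨h1.trans h4, h6, K, hK.1, e, h5.le⟩ h4) h4 ▸ h5)
  exact hne (flavell (top_unique (hA ▸ normalClosure_mono h1)) key hN hM h3
    (le_trans (le_sSup (by exact ⟨h1, fun e => hN.1 (top_unique (e ▸ h3)), h2⟩)) hY))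

/-- A group generated by the conjugates of `a` is generated by `a` and the iterated commutators. -/
theorem closure_iter_comm (k : ℕ) : ∀ (n : ℕ) {G : Type*} [Group G] [Finite G] (a : G),
    Nat.card G = n → normalClosure {a} = ⊤ →
      closure (insert a (Set.range (fun c : G => c * a * c⁻¹ * a⁻¹)^[k])) = ⊤ := by
  intro n
  induction n using Nat.strong_induction_on with | _ n ih => ?_
  intro G _ _ a hn ha
  have hE : zpowers a ≤ closure (insert a (Set.range (fun c : G => c * a * c⁻¹ * a⁻¹)^[k])) :=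
    zpowers_le.2 (subset_closure (.inl rfl))
  by_cases h0 : zpowers a = ⊤
  · exact top_unique (h0 ▸ hE)
  rcases zipper_gen (zpowers a) (top_unique (ha ▸ normalClosure_mono (by simp))) h0 with h | h
  · refine top_unique (h ▸ sSup_le ?_)
    rintro H ⟨h1, h2, h3⟩
    have ha' := zpowers_le.1 h1
    have h5 : normalClosure {(⟨a, ha'⟩ : H)} = ⊤ := by
      refine top_unique (h3.ge.trans (normalClosure_le_normal ?_))
      rintro x ⟨i, hi⟩
      obtain rfl : x = (⟨a, ha'⟩ : H) ^ i := Subtype.ext hi.symm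
      exact zpow_mem (subset_normalClosure (Set.mem_singleton _)) i
    have h6 : Nat.card H < n := hn ▸ (card_le_card_group H).lt_of_ne
      fun e => h2 (eq_top_of_card_eq H e)
    have h4 := ih _ h6 (⟨a, ha'⟩ : H) rfl h5
    rw [← H.range_subtype, MonoidHom.range_eq_map, ← h4, MonoidHom.map_closure]
    refine closure_mono ?_
    rintro _ ⟨x, rfl | ⟨c, rfl⟩, rfl⟩
    · exact .inl rfl
    · exact .inr ⟨c, (Function.Semiconj.iterate_right (f := H.subtype) (fun _ => rfl) k c).symm⟩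
  · obtain ⟨M, ⟨hM, hAM⟩, hu⟩ := h
    refine (eq_top_or_exists_le_coatom _).resolve_right fun ⟨N, hN, h⟩ => ?_
    obtain rfl := hu N ⟨hN, hE.trans h⟩
    have h1 : ∀ c, c * a * c⁻¹ * a⁻¹ ∈ N → c ∈ N := fun c hc => by
      have e : MulAut.conj c⁻¹ • N = N := hu _ ⟨isCoatom_conj_smul hN _, zpowers_le.2
        (mem_conj_smul.2 (by simpa using mul_mem hc (zpowers_le.1 hAM)))⟩
      rcases hN.le_iff.1 (le_normalizer (H := N)) with h | h
      · have := normalizer_eq_top_iff.1 h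
        exact absurd (top_unique (ha ▸ normalClosure_le_normal (by simpa using hAM))) hN.1
      · exact inv_mem_iff.1 (h ▸ mem_normalizer_iff_conj_smul_eq.2 e)
    have h2 : ∀ j c, (fun c : G => c * a * c⁻¹ * a⁻¹)^[j] c ∈ N → c ∈ N := fun j => by
      induction j with
      | zero => exact fun _ h => h
      | succ j ih => exact fun c hc => h1 c (ih _ hc)
    exact hN.1 (top_unique fun c _ => h2 k c (h (subset_closure (.inr ⟨c, rfl⟩))))

end Cfsg.Lib.Char
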