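import Cfsg.Agent.Char.TriplePrim
import Cfsg.Agent.Char.Ramified
import Cfsg.Agent.Char.Extension
import Cfsg.Agent.Solv.Factor
import Cfsg.Agent.Solv.FrattiniNilpotent

/-!
# Fully ramified characters and Sylow subgroups (DeMeyer-Janusz, Howlett-Isaacs)
-/

set_option autoImplicit false

open Cfsg ComplexConjugate

namespace Cfsg.Lib.Char

section Vanish

variable {P : Type*} [Group P] [Fintype P] {S : Subgroup P} [Fintype S]

theorem card_mul_classInner_of_vanish {f : P → ℂ} (hv : ∀ g, g ∉ S → f g = 0) (ψ : P → ℂ) :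
    (Nat.card P : ℂ) * classInner f ψ =
      Nat.card S * classInner (fun n : S => f n) (fun n : S => ψ n) := by
  classical
  rw [card_mul_classInner, card_mul_classInner,
    ← Finset.sum_subtype (p := fun g => g ∈ S) (Finset.univ.filter fun g => g ∈ S) (by simp)
      (fun g => f g * conj (ψ g)), Finset.sum_filter]
  refine Finset.sum_congr rfl fun g _ => ?_
  split_ifs with h
  · rfl
  · rw [hv g h, zero_mul]

theorem index_mul_classInner_of_vanish {f : P → ℂ} (hv : ∀ g, g ∉ S → f g = 0) (ψ : P → ℂ) :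
    (S.index : ℂ) * classInner f ψ = classInner (fun n : S => f n) (fun n : S => ψ n) := by
  have h := card_mul_classInner_of_vanish hv ψ
  rw [← S.card_mul_index, Nat.cast_mul, mul_assoc] at h
  exact mul_left_cancel₀ (by exact_mod_cast Nat.card_pos.ne') h

/-- An irreducible character vanishing off `S` is the only one over any of its constituents. -/
theorem eq_of_vanish_of_lies_over {η η' : P → ℂ} {σ : S → ℂ} (hη : IsIrrCharacter P η)
    (hv : ∀ g, g ∉ S → η g = 0) (hη' : IsIrrCharacter P η') (hσ : IsIrrCharacter S σ)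
    (h : classInner (fun n : S => η n) σ ≠ 0) (h' : classInner (fun n : S => η' n) σ ≠ 0) :
    η = η' := by
  refine hη.eq_of_classInner_ne_zero hη' fun h0 => ?_
  have h1 := index_mul_classInner_of_vanish hv η'
  rw [h0, mul_zero] at h1
  exact (hη.isCharacter.res S).classInner_ne_zero_of_constituent (hη'.isCharacter.res S) hσ h h'
    h1.symm

omit [Fintype P] [Fintype S] in
/-- DeMeyer-Janusz: a character vanishing off `S` whose restriction to `S` is `e θ`, where `e ^ 2`
is `|P : S|` times a number prime to `|P : S|`, is a multiple of an irreducible character. -/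
theorem exists_eq_mul_irr_of_vanish [Finite P] [S.Normal] {f : P → ℂ} (hf : IsCharacter P f)
    (hv : ∀ g, g ∉ S → f g = 0) {θ : S → ℂ} (hθ : IsIrrCharacter S θ) {e c : ℕ}
    (hres : ∀ n : S, f n = e * θ n) (he : e ^ 2 = S.index * c) (hcop : S.index.Coprime c)
    (hc : c ≠ 0) :
    ∃ (η : P → ℂ) (m : ℕ), IsIrrCharacter P η ∧ m ^ 2 = c ∧ ∀ g, f g = m * η g := by
  have := Fintype.ofFinite P
  have := Fintype.ofFinite S
  have hS : S.index ≠ 0 := S.index_ne_zero_of_finite
  have he0 : e ≠ 0 := by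
    rintro rfl
    exact mul_ne_zero hS hc (by simpa using he.symm)
  have hres' : (fun n : S => f n) = (e : ℂ) • θ := funext hres
  obtain ⟨η, hη, hne⟩ := hf.isClassFunction.exists_irr_classInner_ne_zero (fun h0 => by
    have := hres 1
    rw [h0] at this
    exact mul_ne_zero (Nat.cast_ne_zero.mpr he0) hθ.apply_one_ne_zero this.symm)
  obtain ⟨e', he'0, -, he'⟩ := clifford_res_invariant_nat hη hθ
    (invariant_of_res_eq_smul hf.isClassFunction (Nat.cast_ne_zero.mpr he0) hres')
    (over_of_constituent S.subtype hf hθ hres hη hne)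
  obtain ⟨m, hm⟩ := hf.exists_nat_classInner hη.isCharacter
  have h1 := index_mul_classInner_of_vanish hv η
  rw [hm, hres', he', classInner_smul_left, classInner_smul_right, hθ.classInner_self,
    Complex.conj_natCast, mul_one] at h1
  have h2 : S.index * m = e * e' := by exact_mod_cast h1
  have h3 : S.index * m ^ 2 = c * e' ^ 2 := by
    refine Nat.eq_of_mul_eq_mul_left (Nat.pos_of_ne_zero hS) ?_
    calc S.index * (S.index * m ^ 2) = (S.index * m) ^ 2 := by ring
      _ = _ := by rw [h2, mul_pow, he]; ring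
  have h4 : e' ^ 2 = S.index := le_antisymm (sq_le_index_of_res_eq_smul hη hθ he')
    (Nat.le_of_dvd (by positivity) (hcop.dvd_of_dvd_mul_left ⟨_, h3.symm⟩))
  have h5 : e = m * e' := by
    refine Nat.eq_of_mul_eq_mul_right he'0 ?_
    rw [← h2, ← h4]; ring
  refine ⟨η, m, hη, ?_, fun g => ?_⟩
  · rw [h4, mul_comm c] at h3
    exact Nat.eq_of_mul_eq_mul_left (Nat.pos_of_ne_zero hS) h3
  · by_cases hg : g ∈ S
    · have h6 := congrFun he' ⟨g, hg⟩
      simp only [Pi.smul_apply, smul_eq_mul] at h6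
      rw [h6, hres ⟨g, hg⟩, h5, Nat.cast_mul, mul_assoc]
    · rw [hv g hg, (vanish_iff_sq_eq_index hη hθ he').2 h4 g hg, mul_zero]

variable [S.Normal] {η : P → ℂ} {σ : S → ℂ}

theorem sq_mul_index_inertia_of_vanish (hη : IsIrrCharacter P η) (hv : ∀ g, g ∉ S → η g = 0)
    (hσ : IsIrrCharacter S σ) {e : ℕ} (he0 : e ≠ 0) (he : classInner (fun n : S => η n) σ = e) :
    e ^ 2 * (inertia S σ).index = S.index := by
  have h := clifford_norm hη hσ (by rw [he]; exact_mod_cast he0)
  rw [(vanish_iff_classInner_res_self hη).1 hv, he] at h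
  exact_mod_cast h.symm

theorem classInner_eq_one_of_vanish_of_isCyclic (hcyc : IsCyclic (P ⧸ S))
    (hη : IsIrrCharacter P η) (hv : ∀ g, g ∉ S → η g = 0) (hσ : IsIrrCharacter S σ)
    (h : classInner (fun n : S => η n) σ ≠ 0) : classInner (fun n : S => η n) σ = 1 := by
  set T := inertia S σ
  have hST : S ≤ T := le_inertia hσ.isClassFunction
  have hc : IsCyclic (T ⧸ S.subgroupOf T) := isCyclic_of_injective
    (QuotientGroup.map (S.subgroupOf T) S T.subtype le_rfl) (by
      rw [injective_iff_map_eq_one]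
      intro x hx
      obtain ⟨x, rfl⟩ := QuotientGroup.mk_surjective x
      exact (QuotientGroup.eq_one_iff x).2 ((QuotientGroup.eq_one_iff (N := S) (x : P)).1 hx))
  obtain ⟨ψ, hψ, hext⟩ := exists_ext_of_isCyclic hc (hσ.subgroupOf hST)
    (fun g n => mem_inertia'.1 g.2 ⟨((n : T) : P), n.2⟩)
  have h1 : (fun n : S => ψ ⟨n, hST n.2⟩) = σ := funext fun n => hext ⟨⟨n, hST n.2⟩, n.2⟩
  obtain ⟨h2, h3⟩ := clifford_indFun_irr hST le_rfl hσ hψ (by
    rw [h1, hσ.classInner_self]; exact one_ne_zero)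
  rw [h1, hσ.classInner_self] at h3
  rw [eq_of_vanish_of_lies_over hη hv h2 hσ h (by rw [h3]; exact one_ne_zero), h3]

end Vanish

theorem _root_.Cfsg.IsCharacter.exists_degree_eq_mul {S : Type*} [Group S] [Fintype S] {φ : S → ℂ}
    (hφ : IsCharacter S φ) {s : ℂ}
    (h : ∀ τ, IsIrrCharacter S τ → classInner φ τ ≠ 0 → τ 1 = s) : ∃ r : ℕ, φ 1 = r * s := by
  classical
  choose k hk using fun τ : IrrCharacter S => hφ.exists_nat_classInner τ.2.isCharacter
  refine ⟨∑ τ, k τ, ?_⟩
  rw [hφ.isClassFunction.apply_eq_sum_irr 1, Nat.cast_sum, Finset.sum_mul]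
  refine Finset.sum_congr rfl fun τ _ => ?_
  by_cases h0 : classInner φ τ = 0
  · rw [← hk, h0, zero_mul, zero_mul]
  · rw [h τ τ.2 h0, hk]

theorem relIndex_dvd_index_of_normal_right' {G : Type*} [Group G] [Finite G] (C K : Subgroup G)
    [K.Normal] : C.relIndex K ∣ C.index := by
  rw [← Subgroup.relIndex_mul_index (le_sup_left : C ≤ C ⊔ K)]
  refine Dvd.dvd.mul_right (dvd_of_eq ?_) _
  have h1 := Subgroup.relIndex_mul_relIndex (C ⊓ K) C (C ⊔ K) inf_le_left le_sup_left
  have h2 := Subgroup.relIndex_mul_relIndex (C ⊓ K) K (C ⊔ K) inf_le_right le_sup_right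
  rw [Subgroup.inf_relIndex_right, Subgroup.relIndex_sup_right] at h2
  rw [Subgroup.inf_relIndex_left, ← h2, mul_comm] at h1
  exact (Nat.eq_of_mul_eq_mul_right (Nat.pos_of_ne_zero Subgroup.index_ne_zero_of_finite)
    h1).symm

/-- The core of the Howlett-Isaacs argument. -/
theorem exists_inertia_of_res_eq_mul {G : Type*} [Group G] [Finite G] {S M P : Subgroup G}
    [S.Normal] [M.Normal] [Fintype S] (hSP : S ≤ P) (hSM : S ≤ M)
    (hcop : (S.relIndex M).Coprime (S.relIndex P)) {f : G → ℂ} (hf : IsClassFunction G f)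
    (hv : ∀ g, g ∉ S → f g = 0) {η : P → ℂ} (hη : IsIrrCharacter P η) {m : ℂ} (hm : m ≠ 0)
    (hfη : ∀ x : P, f x = m * η x) :
    ∃ (I : Subgroup G) (e : ℕ) (s : ℂ), M ≤ I ∧ e ^ 2 * I.index = S.relIndex P ∧
      η 1 = e * I.index * s ∧
      (∀ τ, IsIrrCharacter S τ → classInner (fun n : S => f n) τ ≠ 0 → τ 1 = s) ∧
      (IsCyclic (P ⧸ S.subgroupOf P) → e = 1) := by
  have := Fintype.ofFinite P
  have := Fintype.ofFinite (S.subgroupOf P)
  have hres : (fun n : S => f n) = m • fun n : S => η ⟨n, hSP n.2⟩ :=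
    funext fun n => hfη ⟨n, hSP n.2⟩
  have hiff : ∀ τ : S → ℂ, classInner (fun n : S => f n) τ ≠ 0 ↔
      classInner (fun n : S => η ⟨n, hSP n.2⟩) τ ≠ 0 := fun τ => by
    rw [hres, classInner_smul_left, mul_ne_zero_iff, and_iff_right hm]
  obtain ⟨σ, hσ, hne⟩ := (hη.isCharacter.res_le hSP).isClassFunction.exists_irr_classInner_ne_zero
    (fun h0 => hη.apply_one_ne_zero (congrFun h0 1))
  obtain ⟨e, he⟩ := (hη.isCharacter.res_le hSP).exists_nat_classInner hσ.isCharacter
  have he0 : e ≠ 0 := by rintro rfl; exact hne (by simpa using he)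
  have hvη : ∀ g : P, g ∉ S.subgroupOf P → η g = 0 := fun g hg =>
    (mul_eq_zero.1 ((hfη g).symm.trans (hv g hg))).resolve_left hm
  set I := inertia S σ with hI
  have hSI : S ≤ I := le_inertia hσ.isClassFunction
  have hIP : I.index = I.relIndex P := by
    have h1 := Cfsg.Lib.Solv.card_mul_card_inf_of_forall_mul (H := I) (K := P) fun g => by
      obtain ⟨t, ht, h⟩ := exists_conjChar_eq_of_lies_over_le hSP hη hσ (hσ.conjChar g) hne
        ((hiff _).1 (by rw [classInner_res_conjChar hf]; exact (hiff _).2 hne))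
      exact ⟨g * t⁻¹, conjChar_eq_iff.1 h.symm, t, ht, by simp⟩
    have h2 := ((I ⊓ P).subgroupOf P).card_mul_index
    rw [Nat.card_congr (Subgroup.subgroupOfEquivOfLe inf_le_right).toEquiv] at h2
    rw [← I.card_mul_index, mul_assoc, ← h2] at h1
    have h3 := Nat.eq_of_mul_eq_mul_left Nat.card_pos h1
    rw [mul_comm] at h3
    rw [Nat.eq_of_mul_eq_mul_left Nat.card_pos h3, ← Subgroup.inf_relIndex_right]
    rfl
  have h1 : e ^ 2 * I.index = S.relIndex P := by
    have := sq_mul_index_inertia_of_vanish hη hvη (hσ.subgroupOf hSP) he0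
      (by rw [classInner_res_subgroupOf hSP, he])
    rwa [inertia_subgroupOf σ hSP, ← hI, ← Subgroup.relIndex, ← hIP] at this
  refine ⟨I, e, σ 1, ?_, h1, ?_, fun τ hτ h => ?_, fun hc => ?_⟩
  · rw [← Subgroup.relIndex_eq_one]
    refine Nat.eq_one_of_dvd_coprimes hcop (Subgroup.relIndex_dvd_of_le_left M hSI)
      ((relIndex_dvd_index_of_normal_right' I M).trans ⟨e ^ 2, by rw [← h1, mul_comm]⟩)
  · rw [clifford_degree_le hSP hη hσ hne, he, hIP]
  · obtain ⟨t, -, rfl⟩ := exists_conjChar_eq_of_lies_over_le hSP hη hσ hτ hne ((hiff _).1 h)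
    exact congrArg σ (Subtype.ext (by simp))
  · have := classInner_eq_one_of_vanish_of_isCyclic hc hη hvη (hσ.subgroupOf hSP)
      (by rwa [classInner_res_subgroupOf hSP])
    rw [classInner_res_subgroupOf hSP, he] at this
    exact_mod_cast this

/-- Howlett-Isaacs: for `χ` fully ramified over `Z ≤ K`, both normal, and a Sylow subgroup `P₀`,
the quotient `H ⧸ K` has a subgroup of index `|P₀ K : K| / e ^ 2`, where `e = 1` if the image
of `P₀` is cyclic or `χ` is induced from `K`. -/
theorem exists_sq_mul_index_of_fullyRamified {H : Type*} [Group H] [Fintype H] {Z K : Subgroup H}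
    [Z.Normal] [K.Normal] (hZK : Z ≤ K) {χ : H → ℂ} (hχ : IsIrrCharacter H χ) {θ : Z → ℂ}
    (hθ : IsIrrCharacter Z θ) {e : ℕ} (he : e ^ 2 = Z.index) (hres : ∀ z : Z, χ z = e * θ z)
    {p : ℕ} [hp : Fact p.Prime] (P₀ : Sylow p H) :
    ∃ (U : Subgroup (H ⧸ K)) (e' : ℕ),
      e' ^ 2 * U.index = Nat.card ((P₀ : Subgroup H).map (QuotientGroup.mk' K)) ∧
      (IsCyclic ((P₀ : Subgroup H).map (QuotientGroup.mk' K)) → e' = 1) ∧
      ∀ φ : K → ℂ, IsCharacter K φ → indFun K φ = χ → e' = 1 := by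
  set P : Subgroup H := P₀ ⊔ Z with hP
  set S : Subgroup H := P ⊓ K with hS
  set N : Subgroup H := Subgroup.normalizer (S : Set H) with hN
  have hZP : Z ≤ P := le_sup_right
  have hZS : Z ≤ S := le_inf hZP hZK
  have hPN : P ≤ N := by
    refine le_trans ?_ Subgroup.inf_normalizer_le_normalizer_inf
    exact le_inf Subgroup.le_normalizer (by rw [Subgroup.normalizer_eq_top]; exact le_top)
  have hSN : S ≤ N := Subgroup.le_normalizer
  have hv : ∀ g, g ∉ Z → χ g = 0 := (vanish_iff_sq_eq_index hχ hθ (funext hres)).2 he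
  have hpP : ¬ p ∣ P.index := fun h =>
    P₀.not_dvd_index (h.trans (Subgroup.index_dvd_of_le le_sup_left))
  obtain ⟨a, ha⟩ : ∃ a, Z.relIndex P = p ^ a := by
    obtain ⟨n, hn⟩ := IsPGroup.iff_card.1 P₀.isPGroup'
    have : Z.relIndex P ∣ p ^ n := by
      rw [hP, Subgroup.relIndex_sup_right, ← hn]
      exact Subgroup.relIndex_dvd_card _ _
    obtain ⟨a, -, ha⟩ := (Nat.dvd_prime_pow hp.out).1 this
    exact ⟨a, ha⟩
  have hcopP : ∀ {x y : ℕ}, x ∣ P.index → y ∣ Z.relIndex P → x.Coprime y := fun hx hy =>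
    ((((Nat.Prime.coprime_iff_not_dvd hp.out).2 hpP).symm.pow_right a).coprime_dvd_left
      hx).coprime_dvd_right (ha ▸ hy)
  have hSP : S.relIndex P ∣ Z.relIndex P := Subgroup.relIndex_dvd_of_le_left P hZS
  obtain ⟨η, m, hη, hm, hχη⟩ := exists_eq_mul_irr_of_vanish (S := Z.subgroupOf P)
    (hχ.isCharacter.res P) (fun g hg => hv g hg) (hθ.subgroupOf hZP) (e := e) (c := P.index)
    (fun n => hres ⟨((n : P) : H), n.2⟩) (he.trans (Subgroup.relIndex_mul_index hZP).symm)
    (hcopP dvd_rfl dvd_rfl).symm Subgroup.index_ne_zero_of_finite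
  have hm0 : m ≠ 0 := by
    rintro rfl
    exact Subgroup.index_ne_zero_of_finite (H := P) (by simpa using hm.symm)
  have hfr : N ⊔ K = ⊤ := by
    have h1 : Subgroup.normalizer (((P₀ : Subgroup H) ⊓ K : Subgroup H) : Set H) ⊔ K = ⊤ :=
      Cfsg.Lib.Solv.normalizer_sup_eq_top_of_relIndex (p := p) inf_le_right
        (P₀.isPGroup'.to_inf_left) (by
          rw [Subgroup.inf_relIndex_right]
          exact fun h => P₀.not_dvd_index (h.trans (relIndex_dvd_index_of_normal_right' _ _)))
    have h2 : S = ((P₀ : Subgroup H) ⊓ K) ⊔ Z := by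
      rw [hS, hP, sup_comm, Cfsg.Lib.Solv.sup_inf_assoc_of_le_normalizer
        (by rw [Subgroup.normalizer_eq_top]; exact le_top) hZK, sup_comm]
    rw [eq_top_iff, ← h1]
    refine sup_le_sup_right ?_ K
    rw [hN, h2]
    exact Subgroup.normalizer_le_normalizer_sup_normal
  have : (S.subgroupOf N).Normal := Subgroup.normal_in_normalizer
  have := Fintype.ofFinite (S.subgroupOf N)
  have := Fintype.ofFinite S
  have := Fintype.ofFinite K
  have hrel : (S.subgroupOf N).relIndex (P.subgroupOf N) = S.relIndex P :=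
    Subgroup.relIndex_subgroupOf hPN
  have hcard : S.relIndex P = Nat.card ((P₀ : Subgroup H).map (QuotientGroup.mk' K)) := by
    have h1 : P.map (QuotientGroup.mk' K) = (P₀ : Subgroup H).map (QuotientGroup.mk' K) := by
      rw [hP, Subgroup.map_sup, (Subgroup.map_eq_bot_iff Z).2 (by rwa [QuotientGroup.ker_mk']),
        sup_bot_eq]
    rw [← h1, ← Subgroup.relIndex_ker, QuotientGroup.ker_mk', hS, Subgroup.inf_relIndex_left]
  obtain ⟨I, e', s, hMI, h1, h2, h3, h4⟩ := exists_inertia_of_res_eq_mul (S := S.subgroupOf N)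
    (M := K.subgroupOf N) (P := P.subgroupOf N) (f := fun x : N => χ x) (m := m)
    (Subgroup.comap_mono inf_le_left) (Subgroup.comap_mono inf_le_right) (by
      rw [hrel, ← Subgroup.inf_subgroupOf_right K, Subgroup.relIndex_subgroupOf inf_le_right]
      refine hcopP ?_ hSP
      refine (Dvd.intro _ (Subgroup.relIndex_mul_relIndex S (K ⊓ N) K (le_inf inf_le_right hSN)
        inf_le_left)).trans ?_
      rw [hS, Subgroup.inf_relIndex_right]
      exact relIndex_dvd_index_of_normal_right' _ _)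
    (hχ.isClassFunction.res N) (fun g hg => hv g fun h => hg (hZS h)) (hη.subgroupOf hPN)
    (Nat.cast_ne_zero.mpr hm0) (fun x => hχη ⟨((x : N) : H), x.2⟩)
  let π : N →* H ⧸ K := (QuotientGroup.mk' K).comp N.subtype
  have hπ : Function.Surjective π := by
    rw [← MonoidHom.range_eq_top, ← MonoidHom.map_range, Subgroup.range_subtype,
      ← sup_bot_eq (N.map _), ← (Subgroup.map_eq_bot_iff K).2 (QuotientGroup.ker_mk' K).ge,
      ← Subgroup.map_sup, hfr, ← MonoidHom.range_eq_map, QuotientGroup.range_mk']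
  have hidx : (I.map π).index = I.index := Subgroup.index_map_eq I hπ fun x hx =>
    hMI ((QuotientGroup.eq_one_iff (N := K) (x : H)).1 hx)
  rw [hrel] at h1
  refine ⟨I.map π, e', by rw [hidx, h1, hcard], fun hc => h4 ?_, fun φ hφ hind => ?_⟩
  · have hmem : ∀ x : P.subgroupOf N,
        π x ∈ (P₀ : Subgroup H).map (QuotientGroup.mk' K) := fun x => by
      obtain ⟨y, hy, z, hz, hyz⟩ := Subgroup.mem_sup_of_normal_right.1 x.2
      refine ⟨y, hy, ?_⟩
      change (y : H ⧸ K) = (((x : N) : H) : H ⧸ K)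
      rw [QuotientGroup.eq]
      have : ((x : N) : H) = y * z := hyz.symm
      rw [this, inv_mul_cancel_left]
      exact hZK hz
    refine isCyclic_of_injective (QuotientGroup.lift _
      ((π.comp (P.subgroupOf N).subtype).codRestrict _ hmem) fun x hx => Subtype.ext
        ((QuotientGroup.eq_one_iff (N := K) ((x : N) : H)).2 hx.2)) ?_
    rw [injective_iff_map_eq_one]
    intro x hx
    obtain ⟨x, rfl⟩ := QuotientGroup.mk_surjective x
    exact (QuotientGroup.eq_one_iff x).2
      ⟨x.2, (QuotientGroup.eq_one_iff (N := K) ((x : N) : H)).1 (congrArg Subtype.val hx)⟩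
  · have hφi : IsIrrCharacter K φ := isIrrCharacter_of_indFun hφ (hind ▸ hχ)
    have hSK : S ≤ K := inf_le_right
    let j : S.subgroupOf N →* S := (Subgroup.subgroupOfEquivOfLe hSN).toMonoidHom
    obtain ⟨r, hr⟩ := (hφ.res_le hSK).exists_degree_eq_mul (s := s) fun τ hτ hne => by
      refine h3 _ (hτ.subgroupOf hSN) ?_
      rw [classInner_res_subgroupOf hSN (fun x : N => χ x)]
      exact lies_over_trans hSK hχ.isCharacter hφi hτ.isCharacter
        (classInner_res_ne_zero_of_indFun_eq hχ hind) hne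
    have h5 : χ 1 = K.index * (r * s) := by rw [← hind, indFun_one, ← hr]; rfl
    have h6 : χ 1 = m * (e' * I.index * s) := by rw [← h2]; exact hχη 1
    have hs : s ≠ 0 := by
      rintro rfl
      exact hχ.apply_one_ne_zero (by rw [h6]; simp)
    have h7 : K.index * r = m * e' * I.index := by
      have : ((K.index * r : ℕ) : ℂ) * s = ((m * e' * I.index : ℕ) : ℂ) * s := by
        push_cast
        linear_combination h6 - h5
      exact_mod_cast mul_right_cancel₀ hs this
    have h8 : e' * (e' * I.index) ∣ m * (e' * I.index) := by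
      rw [← mul_assoc, ← sq, h1, ← mul_assoc, ← h7, hcard]
      exact (Subgroup.card_subgroup_dvd_card _).mul_right r
    have h9 : e' * I.index ≠ 0 := by
      refine mul_ne_zero ?_ Subgroup.index_ne_zero_of_finite
      rintro rfl
      exact hχ.apply_one_ne_zero (by rw [h6]; simp)
    refine Nat.eq_one_of_dvd_coprimes (hcopP (x := m) (y := e') ⟨m, by rw [← hm, sq]⟩
      (Dvd.dvd.trans ⟨e' * I.index, by rw [← h1]; ring⟩ hSP))
      (Nat.dvd_of_mul_dvd_mul_right (Nat.pos_of_ne_zero h9) h8) dvd_rfl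

end Cfsg.Lib.Char
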