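import Cfsg.Agent.Char.Camina
import Cfsg.Agent.Solv.FrobeniusComplement
import Cfsg.Agent.Solv.NilpotentHall
import Cfsg.Agent.Solv.Nilpotent
import Cfsg.Agent.Perm.QuatAut
import Cfsg.Agent.Trans.AutSmall

/-!
# Solvable groups with a Gagola character
-/

set_option autoImplicit false

open scoped Pointwise commutatorElement
open Cfsg Cfsg.Lib.Solv

namespace Cfsg.Lib.Char

variable {G : Type*} [Group G] [Finite G]

theorem relIndex_dvd_index_of_normal_right (C K : Subgroup G) [K.Normal] :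
    C.relIndex K ∣ C.index := by
  obtain ⟨m, hm⟩ := Subgroup.relIndex_dvd_index_of_normal K C
  have h1 := Subgroup.relIndex_mul_index (inf_le_right : C ⊓ K ≤ K)
  have h2 := Subgroup.relIndex_mul_index (inf_le_left : C ⊓ K ≤ C)
  rw [Subgroup.inf_relIndex_right] at h1
  rw [Subgroup.inf_relIndex_left, ← h1, hm] at h2
  have h3 : 0 < K.relIndex C := Nat.pos_of_ne_zero Subgroup.index_ne_zero_of_finite
  refine ⟨m, Nat.eq_of_mul_eq_mul_left h3 ?_⟩
  rw [h2]; ring

omit [Finite G] in
/-- The commutator subgroup centralizes every cyclic normal subgroup. -/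
theorem commutator_le_centralizer_of_isCyclic (A : Subgroup G) [A.Normal] [IsCyclic A] :
    commutator G ≤ Subgroup.centralizer (A : Set G) := by
  have h2 : commutator G ≤ (MulAut.conjNormal (H := A)).ker := by
    let := IsCyclic.commGroup (α := A)
    rw [commutator_def, Subgroup.commutator_le]
    intro a _ b _
    rw [MonoidHom.mem_ker, map_commutatorElement, commutatorElement_eq_one_iff_mul_comm]
    exact (IsCyclic.mulAutMulEquiv A).injective (by rw [map_mul, map_mul, mul_comm])
  intro x hx y hy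
  have h3 := congrArg (fun f : MulAut A => ((f ⟨y, hy⟩ : A) : G)) (h2 hx)
  simp only [MulAut.conjNormal_apply, MulAut.one_apply] at h3
  rw [← h3, inv_mul_cancel_right, h3]

omit [Finite G] in
theorem ker_conjNormal_eq (A : Subgroup G) [A.Normal] :
    (MulAut.conjNormal (H := A)).ker = Subgroup.centralizer (A : Set G) := by
  ext x
  rw [MonoidHom.mem_ker, Subgroup.mem_centralizer_iff]
  constructor
  · intro h y hy
    have h3 := congrArg (fun f : MulAut A => ((f ⟨y, hy⟩ : A) : G)) h
    simp only [MulAut.conjNormal_apply, MulAut.one_apply] at h3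
    rw [← h3, inv_mul_cancel_right, h3]
  · intro h
    ext y
    simp only [MulAut.conjNormal_apply, MulAut.one_apply]
    rw [← h y y.2, mul_inv_cancel_right]

omit [Finite G] in
theorem index_centralizer_dvd_card_mulAut (A : Subgroup G) [A.Normal] :
    (Subgroup.centralizer (A : Set G)).index ∣ Nat.card (MulAut A) := by
  rw [← ker_conjNormal_eq, Subgroup.index_ker]
  exact Subgroup.card_subgroup_dvd_card _

namespace IsGagola

variable {χ : G → ℂ} {N : Subgroup G} {p : ℕ} [hp : Fact p.Prime]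

/-- The nonidentity elements of `N` are distributed evenly over the Sylow `p`-subgroups of a
normal subgroup. -/
theorem card_eq_card_sylow_mul (h : IsGagola χ N) (hN : IsPGroup p N) (K : Subgroup G) [K.Normal]
    (R : Sylow p K) :
    ∃ d : ℕ, Nat.card N - 1 = Nat.card (Sylow p K) * (p ^ d - 1) := by
  classical
  have := h.normal
  let S : {x : G // x ∈ N ∧ x ≠ 1} → Sylow p K := fun x =>
    ((h.isPGroup_centralizer hN x.2.1 x.2.2).comap_subtype (K := K)).toSylow fun hd =>
      h.not_dvd_index_centralizer hN x.2.1 x.2.2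
        (hd.trans (relIndex_dvd_index_of_normal_right _ K))
  have hS : ∀ x (y : K), y ∈ (S x : Subgroup K) ↔ (y : G) * x = x * y := fun x y =>
    Subgroup.mem_centralizer_singleton_iff
  have hfib : ∀ T : Sylow p K, Nat.card {x // S x = T} = Nat.card {x // S x = R} := by
    intro T
    obtain ⟨k, rfl⟩ := MulAction.exists_smul_eq K R T
    have key : ∀ (k : K) (x : {x : G // x ∈ N ∧ x ≠ 1}),
        S ⟨k * x * (k : G)⁻¹, this.conj_mem _ x.2.1 k, by simpa using x.2.2⟩ = k • S x := by
      intro k x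
      ext y
      rw [Sylow.coe_subgroup_smul, Subgroup.mem_pointwise_smul_iff_inv_smul_mem, hS, hS]
      simp only [MulAut.smul_def, MulAut.conj_inv_apply, Subgroup.coe_mul, Subgroup.coe_inv]
      constructor
      · intro e
        calc (k : G)⁻¹ * y * k * x = (k : G)⁻¹ * (y * (k * x * (k : G)⁻¹)) * k := by group
          _ = (k : G)⁻¹ * ((k * x * (k : G)⁻¹) * y) * k := by rw [e]
          _ = _ := by group
      · intro e
        calc (y : G) * (k * x * (k : G)⁻¹) = k * ((k : G)⁻¹ * y * k * x) * (k : G)⁻¹ := by group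
          _ = k * (x * ((k : G)⁻¹ * y * k)) * (k : G)⁻¹ := by rw [e]
          _ = _ := by group
    exact Nat.card_congr
      { toFun := fun x => ⟨⟨(k⁻¹ : K) * x.1.1 * ((k⁻¹ : K) : G)⁻¹, this.conj_mem _ x.1.2.1 _,
          by simpa only [ne_eq, conj_eq_one_iff] using x.1.2.2⟩, by rw [key, x.2, inv_smul_smul]⟩
        invFun := fun x => ⟨⟨k * x.1.1 * (k : G)⁻¹, this.conj_mem _ x.1.2.1 _,
          by simpa using x.1.2.2⟩, by rw [key, x.2]⟩
        left_inv := fun x => by ext; simp [mul_assoc]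
        right_inv := fun x => by ext; simp [mul_assoc] }
  have hcard : ∀ H : Subgroup G, Nat.card {x : G // x ∈ H ∧ x ≠ 1} = Nat.card H - 1 := by
    intro H
    have h1 : Nat.card {x : G // x ∈ H ∧ x ≠ 1} = ((H : Set G) \ {1}).ncard := by
      rw [← Nat.card_coe_set_eq]; rfl
    rw [h1, Set.ncard_sdiff_singleton_of_mem H.one_mem, ← Nat.card_coe_set_eq]
    rfl
  have := Fintype.ofFinite (Sylow p K)
  obtain ⟨d, hd⟩ := IsPGroup.iff_card.1 (hN.to_inf_left
    (K := Subgroup.centralizer (((R : Subgroup K).map K.subtype : Subgroup G) : Set G)))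
  refine ⟨d, ?_⟩
  rw [← hcard, ← hd, ← hcard, ← Nat.card_congr (Equiv.sigmaFiberEquiv S), Nat.card_sigma]
  simp only [hfib, Finset.sum_const, Finset.card_univ, smul_eq_mul, Nat.card_eq_fintype_card]
  congr 1
  refine Nat.card_congr
    { toFun := fun x => ⟨x.1.1, ⟨x.1.2.1, ?_⟩, x.1.2.2⟩
      invFun := fun x => ⟨⟨x.1, x.2.1.1, x.2.2⟩, ?_⟩
      left_inv := fun _ => rfl
      right_inv := fun _ => rfl }
  · rintro _ ⟨y, hy, rfl⟩
    rw [← x.2] at hy
    exact (hS _ y).1 hy
  · refine Sylow.ext (R.is_maximal' (S _).isPGroup' fun y hy => (hS _ y).2 ?_)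
    exact x.2.1.2 y ⟨y, hy, rfl⟩

/-- For a prime `q ≠ p` the `q`-subgroups of `G / O_p(G)` are cyclic or generalized quaternion. -/
theorem isCyclic_or_quaternion_quotient (h : IsGagola χ N) (hN : IsPGroup p N) {q : ℕ}
    [hq : Fact q.Prime] (hqp : q ≠ p) (A : Subgroup (G ⧸ pCore p G)) (hA : IsPGroup q A) :
    IsCyclic A ∨ (q = 2 ∧ ∃ n : ℕ, Nonempty (A ≃* QuaternionGroup (2 ^ n))) := by
  have := h.normal
  obtain ⟨T⟩ : Nonempty (Sylow q (A.comap (QuotientGroup.mk' (pCore p G)))) := inferInstance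
  set f := (QuotientGroup.mk' (pCore p G)).subgroupComap A with hf
  have hfs : Function.Surjective f :=
    MonoidHom.subgroupComap_surjective_of_surjective _ _ (QuotientGroup.mk'_surjective _)
  have h1 : (T : Subgroup _).map f = ⊤ := by
    have := (T.mapSurjective hfs).is_maximal' (Q := ⊤) (hA.to_subgroup ⊤) le_top
    exact this.symm
  set T' := (T : Subgroup _).map (A.comap (QuotientGroup.mk' (pCore p G))).subtype with hT'
  have hT'q : IsPGroup q T' := T.isPGroup'.map _
  have hdisj : ∀ {U : Subgroup G}, IsPGroup p U → ∀ t ∈ T', t ∈ U → t = 1 := fun hU t ht htU =>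
    Subgroup.disjoint_def.1 (IsPGroup.disjoint_of_ne q p hqp _ _ hT'q hU) ht htU
  have e : Nonempty (T' ≃* A) := by
    refine ⟨((T : Subgroup _).equivMapOfInjective _ (Subgroup.subtype_injective _)).symm.trans
      (MulEquiv.ofBijective (f.comp (T : Subgroup _).subtype) ⟨?_, ?_⟩)⟩
    · rw [← MonoidHom.ker_eq_bot_iff, eq_bot_iff]
      intro t ht
      have h2 : ((t.1 : G) : G ⧸ pCore p G) = 1 := congrArg Subtype.val ht
      rw [QuotientGroup.eq_one_iff] at h2
      exact Subtype.ext (Subtype.ext (hdisj (pCore_isPGroup p G) _ ⟨t.1, t.2, rfl⟩ h2))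
    · intro a
      obtain ⟨t, ht, rfl⟩ : a ∈ (T : Subgroup _).map f := h1 ▸ Subgroup.mem_top a
      exact ⟨⟨t, ht⟩, rfl⟩
  obtain ⟨e⟩ := e
  rcases Fpf.isCyclic_or_quaternion (K := N) (H := T')
    (by rw [Subgroup.normalizer_eq_top]; exact le_top) h.ne_bot (fun t ht ht1 => by
      rw [eq_bot_iff]
      rintro x ⟨hx, hxt⟩
      by_contra hx1
      refine ht1 (hdisj (h.isPGroup_centralizer hN hx hx1) t ht ?_)
      exact Subgroup.mem_centralizer_singleton_iff.2
        (Subgroup.mem_centralizer_singleton_iff.1 hxt).symm) le_rfl hT'q with h2 | ⟨h2, n, ⟨e'⟩⟩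
  · exact Or.inl (isCyclic_of_surjective e e.surjective)
  · exact Or.inr ⟨h2, n, ⟨e.symm.trans e'⟩⟩

end IsGagola

/-- A solvable group with `O_p = 1` whose other cores are cyclic or generalized quaternion, and with
an element of order `p` in the commutator subgroup. -/
theorem exists_q8_data {B : Type*} [Group B] [Finite B] [Group.IsSolvable B] {p : ℕ}
    [hp : Fact p.Prime] (hBp : pCore p B = ⊥)
    (hcq : ∀ q : ℕ, q.Prime → q ≠ p → IsCyclic (pCore q B) ∨
      (q = 2 ∧ ∃ n : ℕ, Nonempty (pCore q B ≃* QuaternionGroup (2 ^ n))))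
    {s : B} (hs : s ∈ commutator B) (hso' : orderOf s = p) :
    p = 3 ∧ Nat.card (pCore 2 B) = 8 ∧ ∃ K0 C : Subgroup B, K0.Normal ∧ C ≤ K0 ∧
      p ∣ Nat.card K0 ∧ ¬ p ∣ Nat.card C ∧ C.relIndex K0 ∣ 24 ∧
      (∀ c ∈ C, ∀ y ∈ K0, c * y = y * c) ∧
      ((∀ q : ℕ, q.Prime → q ≠ 2 → pCore q B = ⊥) → K0 = ⊤) := by
  -- elements centralizing all cores
  have hF : ∀ x : B, (∀ q : ℕ, q.Prime → x ∈ Subgroup.centralizer (pCore q B : Set B)) →
      x ∈ fittingSubgroup B := by
    intro x hx
    refine centralizer_fitting_le B fun y hy => ?_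
    have h1 : (Subgroup.centralizer ({x} : Set B)).subgroupOf (fittingSubgroup B) = ⊤ :=
      eq_top_of_forall_prime_pow_mem fun q hq k z hz => by
        have := Fact.mk hq
        rw [Subgroup.mem_subgroupOf, Subgroup.mem_centralizer_singleton_iff]
        exact hx q hq _ (mem_pCore_of_mem_fitting z.2 (by rw [Subgroup.orderOf_coe, hz]))
    rw [Subgroup.subgroupOf_eq_top] at h1
    exact Subgroup.mem_centralizer_singleton_iff.1 (h1 hy)
  have hFp : ∀ x ∈ fittingSubgroup B, orderOf x ≠ p := fun x hx e => by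
    have h1 := mem_pCore_of_mem_fitting (p := p) hx (k := 1) (by rw [e, pow_one])
    rw [hBp, Subgroup.mem_bot] at h1
    rw [h1, orderOf_one] at e
    exact hp.out.one_lt.ne e
  have hodd : ∀ q : ℕ, q.Prime → q ≠ 2 → s ∈ Subgroup.centralizer (pCore q B : Set B) := by
    intro q hq hq2
    have := Fact.mk hq
    by_cases hqp : q = p
    · subst hqp
      rw [hBp]
      intro y hy
      rw [Subgroup.mem_bot.1 hy, one_mul, mul_one]
    · have := (hcq q hq hqp).resolve_right
        fun e => hq2 e.1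
      exact commutator_le_centralizer_of_isCyclic _ hs
  have htwo : s ∉ Subgroup.centralizer (pCore 2 B : Set B) := fun h2 =>
    hFp s (hF s fun q hq => by
      by_cases hq2 : q = 2
      · rw [hq2]; exact h2
      · exact hodd q hq hq2) hso'
  have hp2 : 2 ≠ p := by
    rintro rfl
    refine htwo ?_
    rw [hBp]
    intro y hy
    rw [Subgroup.mem_bot.1 hy, one_mul, mul_one]
  obtain ⟨e⟩ : Nonempty (pCore 2 B ≃* QuaternionGroup 2) := by
    rcases hcq 2 Nat.prime_two hp2 with h1 | ⟨-, n, ⟨e⟩⟩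
    · exact absurd (commutator_le_centralizer_of_isCyclic _ hs) htwo
    · rcases n with _ | _ | m
      · have : IsCyclic (QuaternionGroup (2 ^ 0)) := QuaternionGroup.quaternionGroup_one_isCyclic
        have : IsCyclic (pCore 2 B) := isCyclic_of_surjective e.symm e.symm.surjective
        exact absurd (commutator_le_centralizer_of_isCyclic _ hs) htwo
      · exact ⟨e⟩
      · exfalso
        refine htwo ?_
        obtain ⟨k, hk⟩ := IsPGroup.iff_orderOf.1 (Cfsg.Lib.Perm.isPGroup_mulAut_quaternion e)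
          (MulAut.conjNormal s)
        rw [← ker_conjNormal_eq, MonoidHom.mem_ker, ← orderOf_eq_one_iff]
        have h1 := orderOf_map_dvd (MulAut.conjNormal (H := pCore 2 B)) s
        rw [hso'] at h1
        refine Nat.eq_one_of_dvd_coprimes ?_ h1 (dvd_of_eq hk)
        exact ((Nat.coprime_primes hp.out Nat.prime_two).2 hp2.symm).pow_right k
  have hQ8 : Nat.card (pCore 2 B) = 8 := by
    rw [Nat.card_congr e.toEquiv, Nat.card_eq_fintype_card, QuaternionGroup.card]
  have h24 : (Subgroup.centralizer (pCore 2 B : Set B)).index ∣ 24 :=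
    (index_centralizer_dvd_card_mulAut _).trans (Cfsg.Lib.Trans.q8_card_mulAut_dvd e)
  set K0 : Subgroup B := ⨅ q : {q : ℕ // q.Prime ∧ q ≠ 2}, Subgroup.centralizer (pCore q B : Set B)
    with hK0
  have hK0n : K0.Normal := Subgroup.normal_iInf_normal fun _ => inferInstance
  have hmemK0 : ∀ x, x ∈ K0 ↔
      ∀ q : ℕ, q.Prime → q ≠ 2 → x ∈ Subgroup.centralizer (pCore q B : Set B) := fun x => by
    simp only [hK0, Subgroup.mem_iInf, Subtype.forall, and_imp]
  set C : Subgroup B := Subgroup.centralizer (pCore 2 B : Set B) ⊓ K0 with hC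
  have hCF : C ≤ fittingSubgroup B := fun x hx => hF x fun q hq => by
    by_cases hq2 : q = 2
    · rw [hq2]; exact hx.1
    · exact (hmemK0 x).1 hx.2 q hq hq2
  have hCp : ¬ p ∣ Nat.card C := fun hd => by
    obtain ⟨y, hy⟩ := exists_prime_orderOf_dvd_card' p hd
    exact hFp y (hCF y.2) (by rw [Subgroup.orderOf_coe, hy])
  have hCi : C.relIndex K0 ∣ 24 := by
    rw [hC, Subgroup.inf_relIndex_right]
    exact (Subgroup.relIndex_dvd_index_of_normal _ _).trans h24
  have hCK : Nat.card C * C.relIndex K0 = Nat.card K0 := by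
    rw [← Subgroup.relIndex_bot_left, ← Subgroup.relIndex_bot_left,
      Subgroup.relIndex_mul_relIndex _ _ _ bot_le inf_le_right]
  have hpK0 : p ∣ Nat.card K0 := hso' ▸ Subgroup.orderOf_dvd_natCard _ ((hmemK0 s).2 hodd)
  have hp3 : p = 3 := by
    rw [← hCK] at hpK0
    have h1 := ((hp.out.dvd_mul.1 hpK0).resolve_left hCp).trans hCi
    rw [show 24 = 2 ^ 3 * 3 by norm_num] at h1
    rcases hp.out.dvd_mul.1 h1 with h2 | h2
    · exact absurd ((Nat.prime_dvd_prime_iff_eq hp.out Nat.prime_two).1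
        (hp.out.dvd_of_dvd_pow h2)).symm hp2
    · exact (Nat.prime_dvd_prime_iff_eq hp.out Nat.prime_three).1 h2
  -- `C` centralizes `K0`
  have hCc : ∀ c ∈ C, ∀ y ∈ K0, c * y = y * c := by
    intro c hc y hy
    have h1 : (Subgroup.centralizer ({y} : Set B)).subgroupOf C = ⊤ :=
      eq_top_of_forall_prime_pow_mem fun q hq k z hz => by
        have := Fact.mk hq
        rw [Subgroup.mem_subgroupOf, Subgroup.mem_centralizer_singleton_iff]
        have h2 := mem_pCore_of_mem_fitting (hCF z.2) (by rw [Subgroup.orderOf_coe, hz])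
        by_cases hq2 : q = 2
        · subst hq2
          have key : ∀ a b : QuaternionGroup 2, (∀ t, t * a = a * t) → (∀ t, t * b = b * t) →
              a = 1 ∨ b = 1 ∨ a = b := by decide
          have h3 : ∀ w (hw : w ∈ pCore 2 B), w ∈ Subgroup.centralizer (pCore 2 B : Set B) →
              ∀ t, t * e ⟨w, hw⟩ = e ⟨w, hw⟩ * t := fun w hw hwc t => by
            obtain ⟨t, rfl⟩ := e.surjective t
            rw [← map_mul, ← map_mul]
            exact congrArg e (Subtype.ext (hwc t t.2))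
          have h4 : y * z * y⁻¹ ∈ pCore 2 B := Subgroup.Normal.conj_mem inferInstance _ h2 y
          rcases key _ _ (h3 _ h2 z.2.1) (h3 _ h4
            (Subgroup.Normal.conj_mem inferInstance _ z.2.1 y)) with h5 | h5 | h5
          · have h6 : (z : B) = 1 := congrArg Subtype.val ((map_eq_one_iff e e.injective).1 h5)
            rw [h6, one_mul, mul_one]
          · have h6 : y * z * y⁻¹ = 1 := congrArg Subtype.val ((map_eq_one_iff e e.injective).1 h5)
            rw [conj_eq_one_iff.1 h6, one_mul, mul_one]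
          · have h6 : (z : B) = y * z * y⁻¹ := congrArg Subtype.val (e.injective h5)
            exact eq_mul_inv_iff_mul_eq.1 h6
        · exact (hmemK0 y).1 hy q hq hq2 _ h2
    rw [Subgroup.subgroupOf_eq_top] at h1
    exact Subgroup.mem_centralizer_singleton_iff.1 (h1 hc)
  refine ⟨hp3, hQ8, K0, C, hK0n, inf_le_right, hpK0, hCp, hCi, hCc, fun h1 => ?_⟩
  rw [eq_top_iff]
  intro y _
  rw [hmemK0]
  intro q hq hq2
  rw [h1 q hq hq2]
  intro z hz
  rw [Subgroup.mem_bot.1 hz, one_mul, mul_one]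

theorem card_sylow_comap_eq_four {B : Type*} [Group B] (f : G →* B) (hf : Function.Surjective f)
    (hker : f.ker = pCore 3 G) {K0 C : Subgroup B} [K0.Normal] (hpK0 : 3 ∣ Nat.card K0)
    (hCi : C.relIndex K0 ∣ 24) (hCc : ∀ c ∈ C, ∀ y ∈ K0, c * y = y * c) :
    Nat.card (Sylow 3 (K0.comap f)) = 4 := by
  have := Fact.mk Nat.prime_three
  set K : Subgroup G := K0.comap f with hK
  obtain ⟨R⟩ : Nonempty (Sylow 3 K) := inferInstance
  have hOR : (pCore 3 G).subgroupOf K ≤ R :=
    ((pCore_isPGroup 3 G).comap_subtype (K := K)).le_sylow_of_normal R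
  have hn24 : Nat.card (Sylow 3 K) ∣ 24 := by
    rw [R.card_eq_index_normalizer]
    refine (Subgroup.index_dvd_of_le (H := (C.comap f).subgroupOf K) ?_).trans ?_
    · have key : ∀ c ∈ (C.comap f).subgroupOf K,
          ∀ r ∈ (R : Subgroup K), c * r * c⁻¹ ∈ (R : Subgroup K) := by
        intro c hc r hr
        have h1 : c * r * c⁻¹ * r⁻¹ ∈ (pCore 3 G).subgroupOf K := by
          rw [Subgroup.mem_subgroupOf, ← hker, MonoidHom.mem_ker]
          have : f c * f r = f r * f c := hCc _ hc _ r.2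
          simp only [Subgroup.coe_mul, Subgroup.coe_inv, map_mul, map_inv]
          rw [this]
          simp
        simpa using (R : Subgroup K).mul_mem (hOR h1) hr
      intro c hc
      refine Subgroup.mem_normalizer_iff.2 fun r => ⟨key c hc r, fun hr => ?_⟩
      simpa [mul_assoc] using key _ (Subgroup.inv_mem _ hc) _ hr
    · change (C.comap f).relIndex K ∣ 24
      rwa [hK, Subgroup.relIndex_comap, Subgroup.map_comap_eq_self_of_surjective hf]
  have hn1 : Nat.card (Sylow 3 K) ≠ 1 := by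
    intro h1
    have := (Nat.card_eq_one_iff_unique.1 h1).1
    have hRn := Sylow.normal_of_subsingleton R
    have := Sylow.characteristic_of_normal R hRn
    have h2 : (R : Subgroup K).map K.subtype ≤ pCore 3 G :=
      le_pCore inferInstance (R.isPGroup'.map _)
    have h3 : (R : Subgroup K) = (pCore 3 G).subgroupOf K :=
      le_antisymm (fun r hr => h2 ⟨r, hr, rfl⟩) hOR
    refine R.not_dvd_index ?_
    rw [h3]
    change 3 ∣ (pCore 3 G).relIndex K
    rwa [← hker, ← MonoidHom.comap_bot, hK, Subgroup.relIndex_comap,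
      Subgroup.map_comap_eq_self_of_surjective hf, Subgroup.relIndex_bot_left]
  have hmod := card_sylow_modEq_one 3 K
  have h1 := Nat.le_of_dvd (by norm_num) hn24
  unfold Nat.ModEq at hmod
  generalize Nat.card (Sylow 3 K) = m at *
  interval_cases m <;> omega

theorem eq_nine_of_sub_one_eq {n d : ℕ} (hN1 : 1 < 3 ^ n) (hd : 3 ^ n - 1 = 4 * (3 ^ d - 1)) :
    3 ^ n = 9 := by
  have h1 : 0 < 3 ^ d := by positivity
  rcases d with _ | _ | d
  · omega
  · omega
  · exfalso
    rcases n with _ | _ | n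
    · omega
    · have : 0 < 3 ^ d := by positivity
      simp only [pow_succ] at hd
      omega
    · simp only [pow_succ] at hd h1
      omega

theorem not_three_dvd_card_commutator {B : Type*} [Group B] [Finite B] {k : ℕ}
    (hB : Nat.card B = 3 ^ k * 8) (hBp : pCore 3 B = ⊥) (hQ8 : Nat.card (pCore 2 B) = 8)
    {K0 C : Subgroup B} (hCK0 : C ≤ K0) (hCp : ¬ 3 ∣ Nat.card C) (hCi : C.relIndex K0 ∣ 24)
    (htop : (∀ q : ℕ, q.Prime → q ≠ 2 → pCore q B = ⊥) → K0 = ⊤) :
    ¬ 3 ∣ Nat.card (commutator B) := by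
  intro hdvd
  have := Fact.mk Nat.prime_three
  have hK0top : K0 = ⊤ := by
    refine htop fun q hq hq2 => ?_
    have := Fact.mk hq
    by_cases hq3 : q = 3
    · rw [hq3, hBp]
    by_contra h1
    have : Nontrivial (pCore q B) := (Subgroup.nontrivial_iff_ne_bot _).2 h1
    obtain ⟨j, hj0, hj⟩ := (pCore_isPGroup q B).nontrivial_iff_card.1 this
    have h2 : q ∣ 3 ^ k * 2 ^ 3 := by
      refine (dvd_pow_self q hj0.ne').trans ?_
      rw [← hj, show 2 ^ 3 = 8 by norm_num, ← hB]
      exact Subgroup.card_subgroup_dvd_card _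
    rcases hq.dvd_mul.1 h2 with h3 | h3
    · exact hq3 ((Nat.prime_dvd_prime_iff_eq hq Nat.prime_three).1 (hq.dvd_of_dvd_pow h3))
    · exact hq2 ((Nat.prime_dvd_prime_iff_eq hq Nat.prime_two).1 (hq.dvd_of_dvd_pow h3))
  have hCK : Nat.card C * C.relIndex K0 = Nat.card K0 := by
    rw [← Subgroup.relIndex_bot_left, ← Subgroup.relIndex_bot_left,
      Subgroup.relIndex_mul_relIndex _ _ _ bot_le hCK0]
  rw [hK0top, Subgroup.card_top, hB] at hCK
  rw [hK0top] at hCi
  have hk1 : 3 ^ k ∣ 3 := by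
    have h1 : 3 ^ k ∣ Nat.card C * C.relIndex ⊤ := hCK ▸ Dvd.intro _ rfl
    have h2 := (((Nat.prime_three.coprime_iff_not_dvd.2 hCp).pow_left k).dvd_of_dvd_mul_left
      h1).trans hCi
    exact ((show Nat.Coprime 3 8 by norm_num).pow_left k).dvd_of_dvd_mul_right
      (show 3 ^ k ∣ 3 * 8 from h2)
  have hQi : (pCore 2 B).index = 3 ^ k := by
    have := (pCore 2 B).card_mul_index
    rw [hQ8, hB] at this
    omega
  have hcyc : IsCyclic (B ⧸ pCore 2 B) := isCyclic_of_card_dvd_prime (p := 3) (hQi ▸ hk1 :)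
  have hle : commutator B ≤ pCore 2 B :=
    Subgroup.Normal.quotient_commutative_iff_commutator_le.1 inferInstance
  have h1 := hdvd.trans (Subgroup.card_dvd_of_le hle)
  rw [hQ8] at h1
  omega

/-- In a solvable group with a Gagola character the commutator subgroup of `G / O_p(G)` has order
prime to `p`. -/
theorem IsGagola.not_dvd_card_commutator_quotient [Group.IsSolvable G] {χ : G → ℂ}
    {N : Subgroup G} {p : ℕ} [hp : Fact p.Prime] (h : IsGagola χ N) (hN : IsPGroup p N) :
    ¬ p ∣ Nat.card (commutator (G ⧸ pCore p G)) := by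
  intro hdvd
  obtain ⟨⟨s, hs⟩, hso⟩ := exists_prime_orderOf_dvd_card' p hdvd
  rw [Subgroup.orderOf_mk] at hso
  obtain ⟨hp3, hQ8, K0, C, hK0n, hCK0, hpK0, hCp, hCi, hCc, htop⟩ :=
    exists_q8_data (pCore_quotient_pCore p G) (fun q hq hqp => by
      have := Fact.mk hq
      exact h.isCyclic_or_quaternion_quotient hN hqp _ (pCore_isPGroup q _)) hs hso
  subst hp3
  have hn4 := card_sylow_comap_eq_four (QuotientGroup.mk' (pCore 3 G))
    (QuotientGroup.mk'_surjective _) (QuotientGroup.ker_mk' _) hpK0 hCi hCc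
  obtain ⟨R⟩ : Nonempty (Sylow 3 (K0.comap (QuotientGroup.mk' (pCore 3 G)))) := inferInstance
  obtain ⟨d, hd⟩ := h.card_eq_card_sylow_mul hN _ R
  obtain ⟨n, hn⟩ := IsPGroup.iff_card.1 hN
  have hN1 : 1 < Nat.card N := (Subgroup.one_lt_card_iff_ne_bot N).2 h.ne_bot
  have hN9 : Nat.card N = 9 := by
    rw [hn4, hn] at hd
    rw [hn] at hN1 ⊢
    exact eq_nine_of_sub_one_eq hN1 hd
  obtain ⟨⟨x, hx⟩, hx1⟩ := Subgroup.ne_bot_iff_exists_ne_one.1 h.ne_bot
  have hx1' : x ≠ 1 := fun e => hx1 (Subtype.ext e)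
  have hidx : (Subgroup.centralizer ({x} : Set G)).index = 8 := by
    have := h.index_centralizer hx hx1'
    omega
  have hOx : pCore 3 G ≤ Subgroup.centralizer ({x} : Set G) :=
    pCore_le_sylow (Sylow.ofCard _ (h.card_centralizer hN hx hx1'))
  obtain ⟨k, hk⟩ : ∃ k, (pCore 3 G).relIndex (Subgroup.centralizer ({x} : Set G)) = 3 ^ k :=
    (h.isPGroup_centralizer hN hx hx1').index _
  have hB : Nat.card (G ⧸ pCore 3 G) = 3 ^ k * 8 := by
    rw [← hk, ← hidx, Subgroup.relIndex_mul_index hOx]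
    rfl
  exact not_three_dvd_card_commutator hB (pCore_quotient_pCore 3 G) hQ8 hCK0 hCp hCi htop hdvd

end Cfsg.Lib.Char
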