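import Cfsg.Agent.Char.GoodCount
import Cfsg.Agent.Char.GlaubermanSolv
import Cfsg.Agent.Solv.Conj

/-!
# The Glauberman correspondence for subgroups of an ambient group
-/

set_option autoImplicit false

open scoped ComplexConjugate commutatorElement
open Cfsg

namespace Cfsg.Lib.Char

universe u

section GCor

variable {C K : Type*} [Group C] [Group K]

/-- `η` occurs in the restriction of `θ` with multiplicity prime to `p`. -/
def GCor (p : ℕ) (i : C →* K) (θ : K → ℂ) (η : C → ℂ) : Prop :=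
  ∃ m : ℕ, ¬ p ∣ m ∧ ∑ᶠ c, θ (i c) * conj (η c) = m * Nat.card C

theorem gcor_iff_classInner [Fintype C] {p : ℕ} {i : C →* K} {θ : K → ℂ} {η : C → ℂ} :
    GCor p i θ η ↔ ∃ m : ℕ, ¬ p ∣ m ∧ classInner (fun c => θ (i c)) η = m := by
  refine exists_congr fun m => and_congr_right fun _ => ?_
  rw [finsum_eq_sum_of_fintype, ← card_mul_classInner (fun c => θ (i c)) η, mul_comm (m : ℂ),
    mul_right_inj' (card_ne_zero C)]

theorem gcor_iff [Fintype C] {p : ℕ} {i : C →* K} {θ : K → ℂ} {η : C → ℂ}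
    (hθ : IsCharacter K θ) (hη : IsCharacter C η) : GCor p i θ η ↔ ¬ p ∣ resMult i θ η := by
  rw [gcor_iff_classInner]
  constructor
  · rintro ⟨m, h1, h2⟩
    rwa [resMult_eq_of_eq h2]
  · exact fun h => ⟨_, h, resMult_eq i hθ hη⟩

theorem GCor.congr {C' K' : Type*} [Group C'] [Group K'] {p : ℕ} {i : C →* K} {i' : C' →* K'}
    (f : C ≃* C') {θ : K → ℂ} {θ' : K' → ℂ} {η : C → ℂ} {η' : C' → ℂ}
    (h : ∀ c, θ (i c) = θ' (i' (f c))) (hη : ∀ c, η c = η' (f c)) :
    GCor p i θ η ↔ GCor p i' θ' η' := by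
  unfold GCor
  rw [← finsum_comp_equiv f.toEquiv, Nat.card_congr f.toEquiv]
  simp only [h, hη]
  rfl

theorem GCor.over [Finite C] {p : ℕ} {i : C →* K} {θ : K → ℂ} {η : C → ℂ} (h : GCor p i θ η) :
    Over i θ η := by
  obtain ⟨m, h1, h2⟩ := h
  rw [Over, h2]
  refine mul_ne_zero ?_ (card_ne_zero C)
  rintro h
  exact h1 (by rw [Nat.cast_eq_zero.1 h]; exact dvd_zero p)

theorem gcor_self [Finite C] {p : ℕ} (hp : p.Prime) {i : C →* K} {θ : K → ℂ} {η : C → ℂ}
    (hη : IsIrrCharacter C η) (h : ∀ c, θ (i c) = η c) : GCor p i θ η := by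
  have := Fintype.ofFinite C
  rw [gcor_iff_classInner]
  exact ⟨1, hp.not_dvd_one, by rw [funext h, hη.classInner_self, Nat.cast_one]⟩

end GCor

section Conj

variable {Γ : Type*} [Group Γ]

/-- conjugation by an element of the normalizer -/
def conjAut (K : Subgroup Γ) {g : Γ} (hg : g ∈ Subgroup.normalizer (K : Set Γ)) : K ≃* K :=
  K.normalizerMonoidHom ⟨g, hg⟩

@[simp] theorem coe_conjAut (K : Subgroup Γ) {g : Γ} (hg : g ∈ Subgroup.normalizer (K : Set Γ))
    (k : K) : (conjAut K hg k : Γ) = g * k * g⁻¹ := rfl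

theorem invBy_iff_conjAut {K : Subgroup Γ} {g : Γ} (hg : g ∈ Subgroup.normalizer (K : Set Γ))
    {θ : K → ℂ} : InvBy K.subtype θ g ↔ (fun k => θ (conjAut K hg k)) = θ :=
  ⟨fun h => funext fun k => h k _ rfl, fun h k k' e => by
    rw [← congrFun h k]; exact congrArg θ (Subtype.ext e)⟩

theorem invBy_inclusion {K H : Subgroup Γ} (h : K ≤ H) {θ : K → ℂ} {x : H} :
    InvBy (Subgroup.inclusion h) θ x ↔ InvBy K.subtype θ x :=
  ⟨fun h' => InvBy.comp (j := H.subtype) H.subtype_injective (fun _ => rfl) h',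
    fun h' => InvBy.of_comp (j := H.subtype) (fun _ => rfl) h'⟩

theorem normal_range_inclusion {K H : Subgroup Γ} (h : K ≤ H)
    (hn : H ≤ Subgroup.normalizer (K : Set Γ)) : (Subgroup.inclusion h).range.Normal := by
  rw [Subgroup.inclusion_range]
  exact ⟨fun k hk x => Solv.conj_mem_of_mem_normalizer (H := K) (hn x.2) hk⟩

theorem index_range_inclusion {K H : Subgroup Γ} (h : K ≤ H) :
    (Subgroup.inclusion h).range.index = K.relIndex H := by
  rw [Subgroup.inclusion_range]; rfl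

theorem commutator_le_range_inclusion {K H : Subgroup Γ} (h : K ≤ H) (hc : ⁅H, H⁆ ≤ K) :
    commutator H ≤ (Subgroup.inclusion h).range := by
  rw [Subgroup.inclusion_range, commutator_def, Subgroup.commutator_le]
  exact fun a _ b _ => hc (Subgroup.commutator_mem_commutator a.2 b.2)

theorem invBy_sup {K V W : Subgroup Γ} (hV : V ≤ Subgroup.normalizer (K : Set Γ))
    (hW : W ≤ Subgroup.normalizer (K : Set Γ)) {θ : K → ℂ}
    (h1 : ∀ v ∈ V, InvBy K.subtype θ v) (h2 : ∀ w ∈ W, InvBy K.subtype θ w) :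
    ∀ x ∈ V ⊔ W, InvBy K.subtype θ x := by
  let I : Subgroup Γ :=
    { carrier := {x | x ∈ Subgroup.normalizer (K : Set Γ) ∧ InvBy K.subtype θ x}
      one_mem' := ⟨Subgroup.one_mem _, fun n n' e => by
        rw [one_mul, inv_one, mul_one] at e; rw [Subtype.ext e]⟩
      mul_mem' := fun {a b} ha hb => ⟨Subgroup.mul_mem _ ha.1 hb.1, ha.2.mul hb.2 fun n => by
        rw [Subgroup.range_subtype]; exact Solv.conj_mem_of_mem_normalizer hb.1 n.2⟩
      inv_mem' := fun {a} ha => ⟨Subgroup.inv_mem _ ha.1, ha.2.inv⟩ }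
  have : V ⊔ W ≤ I := sup_le (fun v hv => ⟨hV hv, h1 v hv⟩) (fun w hw => ⟨hW hw, h2 w hw⟩)
  exact fun x hx => (this hx).2

theorem invBy_self {K : Subgroup Γ} {θ : K → ℂ} (hθ : IsClassFunction K θ) :
    ∀ x ∈ K, InvBy K.subtype θ x := fun x hx =>
  invBy_of_mem K.subtype_injective hθ ⟨x, hx⟩

theorem invBy_of_mem_centralizer {K : Subgroup Γ} (θ : K → ℂ) {x : Γ}
    (hx : x ∈ Subgroup.centralizer (K : Set Γ)) : InvBy K.subtype θ x := by
  intro n n' e
  have : n' = n := Subtype.ext (by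
    rw [Subgroup.coe_subtype] at e
    rw [e, ← hx n n.2, mul_inv_cancel_right])
  rw [this]

end Conj

/-- A `p`-subgroup `R` normalizes a `p'`-subgroup `K` with fixed points `C`. -/
structure GlSetup {Γ : Type*} [Group Γ] (p : ℕ) (K R C : Subgroup Γ) : Prop where
  pgrp : IsPGroup p R
  cop : ¬ p ∣ Nat.card K
  norm : R ≤ Subgroup.normalizer (K : Set Γ)
  eq : C = K ⊓ Subgroup.centralizer (R : Set Γ)

namespace GlSetup

variable {Γ : Type u} [Group Γ] {p : ℕ} {K R C : Subgroup Γ} (H : GlSetup p K R C)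
include H

theorem le : C ≤ K := H.eq ▸ inf_le_left

theorem conj_mem : ∀ r ∈ R, ∀ k ∈ K, r * k * r⁻¹ ∈ K := fun _ hr _ hk =>
  Solv.conj_mem_of_mem_normalizer (H.norm hr) hk

theorem isFixedEmb : IsFixedEmb (conjHom K R H.conj_mem) (Subgroup.inclusion H.le) :=
  isFixedEmb_conjHom _ H.eq _

theorem isInv_iff {θ : K → ℂ} :
    IsInv (conjHom K R H.conj_mem) θ ↔ ∀ r ∈ R, InvBy K.subtype θ r :=
  isInv_conjHom_iff _ _

theorem mem_normalizer {g : Γ} (h1 : g ∈ Subgroup.normalizer (K : Set Γ))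
    (h2 : g ∈ Subgroup.normalizer (R : Set Γ)) : g ∈ Subgroup.normalizer (C : Set Γ) := by
  rw [H.eq]
  exact Solv.le_normalizer_inf_centralizer (B := Subgroup.zpowers g) (by simpa using h1)
    (by simpa using h2) (Subgroup.mem_zpowers g)

variable [Finite Γ] [hp : Fact p.Prime] {θ θ' : K → ℂ} {η η' : C → ℂ}

omit hp in
theorem exists_right (hθ : IsIrrCharacter K θ) :
    ∃ η, IsIrrCharacter C η ∧ GCor p (Subgroup.inclusion H.le) θ η := by
  have := Fintype.ofFinite C
  obtain ⟨η, h1, h2⟩ := glauberman_exists (Subgroup.inclusion H.le) H.cop hθ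
  exact ⟨η, h1, (gcor_iff hθ.isCharacter h1.isCharacter).2 h2⟩

theorem exists_left (hη : IsIrrCharacter C η) :
    ∃ θ, IsIrrCharacter K θ ∧ (∀ r ∈ R, InvBy K.subtype θ r) ∧
      GCor p (Subgroup.inclusion H.le) θ η := by
  have := Fintype.ofFinite C
  obtain ⟨θ, h1, h2, h3⟩ := glauberman_surj H.pgrp H.isFixedEmb H.cop hη
  exact ⟨θ, h1, H.isInv_iff.1 h2, (gcor_iff h1.isCharacter hη.isCharacter).2 h3⟩

theorem unique_right (hθ : IsIrrCharacter K θ) (hi : ∀ r ∈ R, InvBy K.subtype θ r)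
    (hη : IsIrrCharacter C η) (hη' : IsIrrCharacter C η')
    (h : GCor p (Subgroup.inclusion H.le) θ η) (h' : GCor p (Subgroup.inclusion H.le) θ η') :
    η = η' := by
  have := Fintype.ofFinite C
  exact glauberman_unique H.pgrp H.isFixedEmb H.cop hθ (H.isInv_iff.2 hi) hη hη'
    ((gcor_iff hθ.isCharacter hη.isCharacter).1 h) ((gcor_iff hθ.isCharacter hη'.isCharacter).1 h')

theorem unique_left (hθ : IsIrrCharacter K θ) (hi : ∀ r ∈ R, InvBy K.subtype θ r)
    (hθ' : IsIrrCharacter K θ') (hi' : ∀ r ∈ R, InvBy K.subtype θ' r) (hη : IsIrrCharacter C η)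
    (h : GCor p (Subgroup.inclusion H.le) θ η) (h' : GCor p (Subgroup.inclusion H.le) θ' η) :
    θ = θ' := by
  have := Fintype.ofFinite C
  exact glauberman_inj H.pgrp H.isFixedEmb H.cop hθ hθ' (H.isInv_iff.2 hi) (H.isInv_iff.2 hi') hη
    ((gcor_iff hθ.isCharacter hη.isCharacter).1 h) ((gcor_iff hθ'.isCharacter hη.isCharacter).1 h')

omit [Finite Γ] hp in
theorem gcor_conj {g : Γ} (h1 : g ∈ Subgroup.normalizer (K : Set Γ))
    (h2 : g ∈ Subgroup.normalizer (C : Set Γ)) :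
    GCor p (Subgroup.inclusion H.le) (fun k => θ (conjAut K h1 k)) (fun c => η (conjAut C h2 c)) ↔
      GCor p (Subgroup.inclusion H.le) θ η :=
  GCor.congr (conjAut C h2) (fun _ => rfl) (fun _ => rfl)

omit H [Finite Γ] hp in
theorem inv_conj {g : Γ} (h1 : g ∈ Subgroup.normalizer (K : Set Γ))
    (h2 : g ∈ Subgroup.normalizer (R : Set Γ)) (hi : ∀ r ∈ R, InvBy K.subtype θ r) :
    ∀ r ∈ R, InvBy K.subtype (fun k => θ (conjAut K h1 k)) r := by
  intro r hr k k' e
  refine hi (g * r * g⁻¹) (Solv.conj_mem_of_mem_normalizer h2 hr) _ _ ?_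
  simp only [Subgroup.coe_subtype, coe_conjAut] at e ⊢
  rw [e]; group

theorem invBy_right (hθ : IsIrrCharacter K θ) (hi : ∀ r ∈ R, InvBy K.subtype θ r)
    (hη : IsIrrCharacter C η) (h : GCor p (Subgroup.inclusion H.le) θ η) {g : Γ}
    (h1 : g ∈ Subgroup.normalizer (K : Set Γ)) (h2 : g ∈ Subgroup.normalizer (C : Set Γ))
    (hg : InvBy K.subtype θ g) : InvBy C.subtype η g := by
  rw [invBy_iff_conjAut h2]
  rw [invBy_iff_conjAut h1] at hg
  refine H.unique_right hθ hi (hη.comp_equiv _) hη ?_ h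
  have := (H.gcor_conj h1 h2).2 h
  rwa [hg] at this

theorem invBy_left (hθ : IsIrrCharacter K θ) (hi : ∀ r ∈ R, InvBy K.subtype θ r)
    (hη : IsIrrCharacter C η) (h : GCor p (Subgroup.inclusion H.le) θ η) {g : Γ}
    (h1 : g ∈ Subgroup.normalizer (K : Set Γ)) (h2 : g ∈ Subgroup.normalizer (R : Set Γ))
    (hg : InvBy C.subtype η g) : InvBy K.subtype θ g := by
  have h3 := H.mem_normalizer h1 h2
  rw [invBy_iff_conjAut h1]
  rw [invBy_iff_conjAut h3] at hg
  refine H.unique_left (hθ.comp_equiv _) (inv_conj h1 h2 hi) hθ hi hη ?_ h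
  have := (H.gcor_conj h1 h3).2 h
  rwa [hg] at this

/-- compatibility with an intermediate fixed-point subgroup -/
theorem gcor_trans {D : Subgroup Γ} (hD : D ≤ C) (hθ : IsIrrCharacter K θ)
    (hi : ∀ r ∈ R, InvBy K.subtype θ r) (hη : IsIrrCharacter C η)
    (h : GCor p (Subgroup.inclusion H.le) θ η) {ξ : D → ℂ} (hξ : IsIrrCharacter D ξ) :
    GCor p (Subgroup.inclusion (hD.trans H.le)) θ ξ ↔ GCor p (Subgroup.inclusion hD) η ξ := by
  classical
  have := Fintype.ofFinite C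
  have := Fintype.ofFinite D
  rw [gcor_iff hθ.isCharacter hξ.isCharacter, gcor_iff hη.isCharacter hξ.isCharacter]
  have e : Subgroup.inclusion (hD.trans H.le) =
      (Subgroup.inclusion H.le).comp (Subgroup.inclusion hD) := rfl
  rw [e, resMult_comp _ _ hθ.isCharacter hξ.isCharacter,
    ← Finset.add_sum_erase _ _ (Finset.mem_univ (⟨η, hη⟩ : IrrCharacter C)),
    Nat.dvd_add_left, hp.out.dvd_mul, not_or,
    and_iff_right ((gcor_iff hθ.isCharacter hη.isCharacter).1 h)]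
  refine Finset.dvd_sum fun ζ hζ => Dvd.dvd.mul_right ?_ _
  by_contra hc
  exact (Finset.mem_erase.1 hζ).1 (Subtype.ext (H.unique_right hθ hi ζ.2 hη
    ((gcor_iff hθ.isCharacter ζ.2.isCharacter).2 hc) h))

/-- compatibility with normal subgroups -/
theorem over_iff {A B : Subgroup Γ} (H' : GlSetup p A R B) (hAK : A ≤ K) (hBC : B ≤ C)
    (hn : K ≤ Subgroup.normalizer (A : Set Γ)) (hθ : IsIrrCharacter K θ)
    (hi : ∀ r ∈ R, InvBy K.subtype θ r) (hη : IsIrrCharacter C η)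
    (h : GCor p (Subgroup.inclusion H.le) θ η) {α : A → ℂ} {β : B → ℂ} (hα : IsIrrCharacter A α)
    (hi' : ∀ r ∈ R, InvBy A.subtype α r) (hβ : IsIrrCharacter B β)
    (h' : GCor p (Subgroup.inclusion H'.le) α β) :
    Over (Subgroup.inclusion hAK) θ α ↔ Over (Subgroup.inclusion hBC) η β := by
  have := Fintype.ofFinite C
  have := Fintype.ofFinite (A.subgroupOf K)
  have := Fintype.ofFinite ((A.subgroupOf K).comap (Subgroup.inclusion H.le))
  have hN : (A.subgroupOf K).Normal :=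
    ⟨fun k hk x => Solv.conj_mem_of_mem_normalizer (H := A) (hn x.2) hk⟩
  have hinv : ∀ s, ∀ g ∈ A.subgroupOf K, conjHom K R H.conj_mem s g ∈ A.subgroupOf K :=
    fun s g hg => H'.conj_mem s s.2 g hg
  have hmem : ∀ x : (A.subgroupOf K).comap (Subgroup.inclusion H.le), ((x : C) : Γ) ∈ B :=
    fun x => by rw [H'.eq]; exact ⟨x.2, (H.eq.le (x : C).2).2⟩
  let e : (A.subgroupOf K).comap (Subgroup.inclusion H.le) ≃* B :=
    { toFun := fun x => ⟨_, hmem x⟩
      invFun := fun b => ⟨⟨b, hBC b.2⟩, H'.le b.2⟩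
      left_inv := fun _ => rfl
      right_inv := fun _ => rfl
      map_mul' := fun _ _ => rfl }
  let f := Subgroup.subgroupOfEquivOfLe hAK
  have hα' := hα.comp_equiv f
  have hβ' := hβ.comp_equiv e
  have key := glauberman_lies_over H.pgrp H.cop (A.subgroupOf K) hinv H.isFixedEmb hθ
    (H.isInv_iff.2 hi) hη ((gcor_iff hθ.isCharacter hη.isCharacter).1 h) hα'
    (fun s a => hi' s s.2 _ _ rfl) hβ'
    ((gcor_iff hα'.isCharacter hβ'.isCharacter).1
      ((GCor.congr e (fun _ => rfl) (fun _ => rfl)).2 h'))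
  rw [← over_subtype_iff, ← over_subtype_iff] at key
  exact (Over.congr f (fun _ => rfl) (fun _ => rfl)).symm.trans
    (key.trans (Over.congr e (fun _ => rfl) (fun _ => rfl)))

/-- an invariant character of an invariant normal subgroup lies under an invariant character -/
theorem exists_inv_over {A : Subgroup Γ} (hAK : A ≤ K) (hn : K ≤ Subgroup.normalizer (A : Set Γ))
    (hR : R ≤ Subgroup.normalizer (A : Set Γ)) {α : A → ℂ} (hα : IsIrrCharacter A α)
    (hi : ∀ r ∈ R, InvBy A.subtype α r) :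
    ∃ θ, IsIrrCharacter K θ ∧ (∀ r ∈ R, InvBy K.subtype θ r) ∧
      Over (Subgroup.inclusion hAK) θ α := by
  have := Fintype.ofFinite (A.subgroupOf K)
  have hN : (A.subgroupOf K).Normal :=
    ⟨fun k hk x => Solv.conj_mem_of_mem_normalizer (H := A) (hn x.2) hk⟩
  have hinv : ∀ s, ∀ g ∈ A.subgroupOf K, conjHom K R H.conj_mem s g ∈ A.subgroupOf K :=
    fun s g hg => Solv.conj_mem_of_mem_normalizer (hR s.2) hg
  let f := Subgroup.subgroupOfEquivOfLe hAK
  have := H.pgrp.isNilpotent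
  obtain ⟨n, hn⟩ := H.pgrp.exists_card_eq
  obtain ⟨θ, h1, h2, h3⟩ := exists_isInv_lies_over (φ := conjHom K R H.conj_mem)
    (by rw [hn]; exact ((hp.out.coprime_iff_not_dvd.2 H.cop).symm.pow_right n))
    (A.subgroupOf K) hinv (hα.comp_equiv f) (fun s a => hi s s.2 _ _ rfl)
  rw [← over_subtype_iff] at h3
  exact ⟨θ, h1, H.isInv_iff.1 h2, (Over.congr f (fun _ => rfl) (fun _ => rfl)).1 h3⟩

end GlSetup

end Cfsg.Lib.Char
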