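import Cfsg.Agent.Char.OverCount

/-!
# Extendibility and Gallagher's count

`ExtSub i θ U`: `θ` extends to the subgroup `U`.  The number of irreducible characters over an
invariant `θ` is the number of good classes of the quotient; two triples with the same
extendibility to abelian overgroups have the same number of characters.
-/

set_option autoImplicit false

open scoped ComplexConjugate commutatorElement
open Cfsg

namespace Cfsg.Lib.Char

universe u

section Ext

variable {N G : Type*} [Group N] [Group G] {i : N →* G} {θ : N → ℂ}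

/-- `θ` extends along `i` -/
def Ext (i : N →* G) (θ : N → ℂ) : Prop := ∃ χ, IsIrrCharacter G χ ∧ ∀ n, χ (i n) = θ n

/-- `θ` extends to the subgroup `U` -/
def ExtSub (i : N →* G) (θ : N → ℂ) (U : Subgroup G) : Prop :=
  ∃ ψ : U → ℂ, IsIrrCharacter U ψ ∧ ∀ n (h : i n ∈ U), ψ ⟨i n, h⟩ = θ n

theorem extSub_iff {U : Subgroup G} (h : ∀ n, i n ∈ U) :
    ExtSub i θ U ↔ Ext (i.codRestrict U h) θ :=
  ⟨fun ⟨ψ, h1, h2⟩ => ⟨ψ, h1, fun n => h2 n _⟩, fun ⟨ψ, h1, h2⟩ => ⟨ψ, h1, fun n _ => h2 n⟩⟩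

theorem extSub_subtype_iff {K U : Subgroup G} (h : K ≤ U) {θ : K → ℂ} :
    ExtSub K.subtype θ U ↔ Ext (Subgroup.inclusion h) θ :=
  ⟨fun ⟨ψ, h1, h2⟩ => ⟨ψ, h1, fun n => h2 n _⟩, fun ⟨ψ, h1, h2⟩ => ⟨ψ, h1, fun n _ => h2 n⟩⟩

theorem Ext.congr {N' G' : Type*} [Group N'] [Group G'] {i' : N' →* G'} {θ' : N' → ℂ}
    (e : G ≃* G') (f : N ≃* N') (h : ∀ n, e (i n) = i' (f n)) (hθ : ∀ n, θ n = θ' (f n))
    (hx : Ext i θ) : Ext i' θ' := by
  obtain ⟨χ, h1, h2⟩ := hx
  refine ⟨fun g => χ (e.symm g), h1.comp_equiv _, fun n => ?_⟩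
  obtain ⟨n, rfl⟩ := f.surjective n
  simp only [← h, MulEquiv.symm_apply_apply, h2, hθ]

theorem extSub_map_iff {Γ : Type*} [Group Γ] {j : G →* Γ} (hj : Function.Injective j)
    {i' : N →* Γ} (h : ∀ n, j (i n) = i' n) {U : Subgroup G} :
    ExtSub i' θ (U.map j) ↔ ExtSub i θ U := by
  let e := U.equivMapOfInjective j hj
  constructor
  · rintro ⟨ψ, h1, h2⟩
    refine ⟨fun u => ψ (e u), h1.comp_equiv e, fun n hn => ?_⟩
    rw [← h2 n ⟨i n, hn, h n⟩]
    exact congrArg ψ (Subtype.ext (h n))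
  · rintro ⟨ψ, h1, h2⟩
    refine ⟨fun u => ψ (e.symm u), h1.comp_equiv e.symm, fun n hn => ?_⟩
    have hn' : i n ∈ U := by
      obtain ⟨u, hu, hu'⟩ := hn
      rwa [← hj (hu'.trans (h n).symm)]
    rw [← h2 n hn']
    refine congrArg ψ ?_
    rw [MulEquiv.symm_apply_eq]
    exact Subtype.ext (h n).symm

theorem Ext.of_comp [Finite N] {T : Type*} [Group T] [Finite T] {j : T →* G} {k : N →* T}
    (hk : ∀ n, j (k n) = i n) (hθ : IsIrrCharacter N θ) (h : Ext i θ) : Ext k θ := by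
  obtain ⟨χ, h1, h2⟩ := h
  refine ⟨fun t => χ (j t), (h1.isCharacter.comp j).isIrrCharacter_of_comp k ?_,
    fun n => by simp only [hk, h2]⟩
  simpa only [hk, h2] using hθ

theorem Ext.trans {T : Type*} [Group T] {j : T →* G} {k : N →* T}
    (hk : ∀ n, j (k n) = i n) {ψ : T → ℂ} (hψ : ∀ n, ψ (k n) = θ n) (h : Ext j ψ) : Ext i θ := by
  obtain ⟨χ, h1, h2⟩ := h
  exact ⟨χ, h1, fun n => by rw [← hk, h2, hψ]⟩

theorem ExtSub.mono [Finite G] [Finite N] {U U' : Subgroup G} (hU : ∀ n, i n ∈ U) (hle : U ≤ U')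
    (hθ : IsIrrCharacter N θ) (h : ExtSub i θ U') : ExtSub i θ U := by
  rw [extSub_iff hU]
  rw [extSub_iff fun n => hle (hU n)] at h
  exact Ext.of_comp (j := Subgroup.inclusion hle) (fun _ => rfl) hθ h

theorem ext_toRange (hi : Function.Injective i) :
    (∃ χ, IsIrrCharacter G χ ∧ ∀ n : i.range, χ n = toRange hi θ n) ↔ Ext i θ := by
  refine exists_congr fun χ => and_congr_right fun _ => ⟨fun h n => ?_, ?_⟩
  · rw [← toRange_apply hi θ n]; exact h ⟨i n, n, rfl⟩
  · rintro h ⟨_, n, rfl⟩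
    rw [toRange_apply]; exact h n

end Ext

section Normal

variable {N : Type*} {G : Type u} [Group N] [Group G] [Finite G] {i : N →* G} {θ : N → ℂ}

theorem ext_of_isCyclic (hi : Function.Injective i) [i.range.Normal]
    (hc : IsCyclic (G ⧸ i.range)) (hθ : IsIrrCharacter N θ) (hinv : ∀ g, InvBy i θ g) :
    Ext i θ :=
  (ext_toRange hi).1 (exists_ext_of_isCyclic hc (isIrr_toRange hi hθ) (invariant_toRange hi hinv))

theorem ext_of_coprime_card (hi : Function.Injective i) (hN : i.range.Normal)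
    (hθ : IsIrrCharacter N θ) (hinv : ∀ g, InvBy i θ g)
    (hc : (Nat.card N).Coprime i.range.index) : Ext i θ :=
  (ext_toRange hi).1 (exists_ext_of_coprime_card (isIrr_toRange hi hθ) (invariant_toRange hi hinv)
    (by rwa [← Nat.card_congr (MonoidHom.ofInjective hi).toEquiv]))

theorem ext_of_forall_prime (hi : Function.Injective i) (hN : i.range.Normal)
    (hθ : IsIrrCharacter N θ) (hinv : ∀ g, InvBy i θ g)
    (h : ∀ q : ℕ, q.Prime → ∃ P : Subgroup G, (∀ n, i n ∈ P) ∧ ¬ q ∣ P.index ∧ ExtSub i θ P) :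
    Ext i θ := by
  refine (ext_toRange hi).1 (exists_ext_of_forall_prime (isIrr_toRange hi hθ)
    (invariant_toRange hi hinv) (Deg.apply_one_eq (isIrr_toRange hi hθ).isCharacter)
    fun q hq _ => ?_)
  obtain ⟨P, h1, h2, η, h3, h4⟩ := h q hq
  refine ⟨P, by rintro _ ⟨n, rfl⟩; exact h1 n, η, h2, h3, ?_⟩
  rintro ⟨_, n, rfl⟩
  rw [toRange_apply]
  exact h4 n _

theorem exists_ramification_of_abelian (hi : Function.Injective i) (hN : i.range.Normal)
    (hab : commutator G ≤ i.range) (hθ : IsIrrCharacter N θ) (hinv : ∀ g, InvBy i θ g) :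
    ∃ e : ℕ, 0 < e ∧ (∀ χ, IsIrrCharacter G χ → Over i χ θ → ∀ n, χ (i n) = e * θ n) ∧
      e ^ 2 * cnt 0 i θ = i.range.index := by
  classical
  have := Fintype.ofFinite G
  have := Fintype.ofFinite i.range
  obtain ⟨e, he, h1, -, h2⟩ := indFun_eq_smul_sum_of_abelian hab (isIrr_toRange hi hθ)
    (invariant_toRange hi hinv)
  refine ⟨e, he, fun χ hχ ho n => ?_, ?_⟩
  · have := congrFun (h1 χ hχ (over_subtype_iff.1 ((over_toRange hi).2 ho))) ⟨i n, n, rfl⟩
    simpa only [Pi.smul_apply, toRange_apply, smul_eq_mul] using this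
  · rw [← h2, cnt_zero, Nat.card_eq_fintype_card, Fintype.card_subtype]
    congr 2
    ext χ
    simp only [Finset.mem_filter, Finset.mem_univ, true_and]
    rw [← over_toRange hi, over_subtype_iff]

theorem exists_irr_over' (hi : Function.Injective i) (hθ : IsIrrCharacter N θ) :
    ∃ χ, IsIrrCharacter G χ ∧ Over i χ θ := by
  have := Fintype.ofFinite G
  have := Fintype.ofFinite i.range
  obtain ⟨χ, hχ, h⟩ := exists_irr_over (isIrr_toRange hi hθ)
  exact ⟨χ, hχ, (over_toRange hi).1 (over_subtype_iff.2 h)⟩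

/-- over an abelian quotient: extendible iff the number of characters over `θ` is the index -/
theorem ext_iff_cnt_of_abelian (hi : Function.Injective i) (hN : i.range.Normal)
    (hab : commutator G ≤ i.range) (hθ : IsIrrCharacter N θ) (hinv : ∀ g, InvBy i θ g) :
    (Ext i θ ↔ cnt 0 i θ = i.range.index) ∧
    (Ext i θ → ∀ χ, IsIrrCharacter G χ → Over i χ θ → ∀ n, χ (i n) = θ n) := by
  have : Finite N := Finite.of_injective i hi
  obtain ⟨e, he, h1, h2⟩ := exists_ramification_of_abelian hi hN hab hθ hinv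
  have key : Ext i θ → e = 1 := by
    rintro ⟨χ, hχ, h⟩
    have := h1 χ hχ (over_of_ext hθ h) 1
    rw [h] at this
    have h3 : (e : ℂ) = 1 := by
      have h0 := hθ.apply_one_ne_zero
      field_simp at this
      exact this.symm
    exact_mod_cast h3
  refine ⟨⟨fun h => ?_, fun h => ?_⟩, fun h χ hχ ho n => ?_⟩
  · rw [← h2, key h]; simp
  · rw [h] at h2
    have h3 : e ^ 2 = 1 := by
      have := i.range.index_ne_zero_of_finite
      exact Nat.eq_of_mul_eq_mul_right (Nat.pos_of_ne_zero this) (by rw [h2, one_mul])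
    have h4 : e = 1 := by simpa using h3
    obtain ⟨χ, hχ, ho⟩ := exists_irr_over' hi hθ
    exact ⟨χ, hχ, fun n => by rw [h1 χ hχ ho n, h4]; simp⟩
  · rw [h1 χ hχ ho n, key h]; simp

theorem Over.exists_monoidHom_mul (hi : Function.Injective i) (hN : i.range.Normal)
    (hab : commutator G ≤ i.range) (hθ : IsIrrCharacter N θ) {χ ψ : G → ℂ}
    (hχ : IsIrrCharacter G χ) (hψ : IsIrrCharacter G ψ) (h1 : Over i χ θ) (h2 : Over i ψ θ) :
    ∃ lam : G →* ℂˣ, (∀ n, lam (i n) = 1) ∧ ψ = χ * fun g => (lam g : ℂ) := by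
  have := Fintype.ofFinite G
  have := Fintype.ofFinite i.range
  obtain ⟨lam, h3, h4⟩ := exists_monoidHom_mul_of_lies_over hab hχ hψ (isIrr_toRange hi hθ)
    (over_subtype_iff.1 ((over_toRange hi).2 h1)) (over_subtype_iff.1 ((over_toRange hi).2 h2))
  exact ⟨lam, fun n => h3 _ ⟨n, rfl⟩, h4⟩

theorem exists_monoidHom_of_ext (hi : Function.Injective i) (hN : i.range.Normal)
    (hθ : IsIrrCharacter N θ) {χ ψ : G → ℂ} (hχ : IsCharacter G χ) (hψ : IsCharacter G ψ)
    (h1 : ∀ n, χ (i n) = θ n) (h2 : ∀ n, ψ (i n) = θ n) :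
    ∃ lam : G →* ℂˣ, (∀ n, lam (i n) = 1) ∧ ψ = χ * fun g => (lam g : ℂ) := by
  obtain ⟨lam, h3, h4⟩ := exists_monoidHom_of_ext_ext (isIrr_toRange hi hθ) hχ hψ
    (by rintro ⟨_, n, rfl⟩; rw [toRange_apply]; exact h1 n)
    (by rintro ⟨_, n, rfl⟩; rw [toRange_apply]; exact h2 n)
  exact ⟨lam, fun n => h3 _ ⟨n, rfl⟩, h4⟩

theorem Over.exists_deg_eq (hi : Function.Injective i) (hN : i.range.Normal) {χ : G → ℂ}
    (hχ : IsIrrCharacter G χ) (hθ : IsIrrCharacter N θ) (h : Over i χ θ) :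
    ∃ k, charDegree χ = k * charDegree θ ∧ k ∣ i.range.index := by
  have := Fintype.ofFinite G
  have := Fintype.ofFinite i.range
  rw [← deg_toRange hi]
  exact degree_div_dvd_index hχ (isIrr_toRange hi hθ) (over_subtype_iff.1 ((over_toRange hi).2 h))
    (Deg.apply_one_eq hχ.isCharacter) (Deg.apply_one_eq (isIrr_toRange hi hθ).isCharacter)

theorem cnt_eq_cnt_zero {p : ℕ} (hp : p.Prime) (hi : Function.Injective i) (hN : i.range.Normal)
    (hθ : IsIrrCharacter N θ) (h1 : ¬ p ∣ charDegree θ) (h2 : ¬ p ∣ i.range.index) :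
    cnt p i θ = cnt 0 i θ := by
  rw [cnt_zero]
  refine Nat.card_congr (Equiv.subtypeEquivRight fun χ => and_iff_right_iff_imp.2 fun h => ?_)
  obtain ⟨k, hk, hk'⟩ := h.exists_deg_eq hi hN χ.2 hθ
  rw [hk, hp.dvd_mul]
  rintro (h3 | h3)
  · exact h2 (h3.trans hk')
  · exact h1 h3

theorem cnt_eq_zero_of_dvd {p : ℕ} (hi : Function.Injective i) (hN : i.range.Normal)
    (hθ : IsIrrCharacter N θ) (h1 : p ∣ charDegree θ) : cnt p i θ = 0 := by
  rw [cnt, Nat.card_eq_zero]
  exact Or.inl ⟨fun χ => χ.2.1 (h1.trans (χ.2.2.deg_dvd hi hN χ.1.2 hθ))⟩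

theorem irr_comp_of_coprime (hi : Function.Injective i) (hN : i.range.Normal) {χ : G → ℂ}
    (hχ : IsIrrCharacter G χ) (hc : (charDegree χ).Coprime i.range.index) :
    IsIrrCharacter N fun n => χ (i n) := by
  have := Fintype.ofFinite G
  have := Fintype.ofFinite i.range
  exact (irr_res_of_coprime (N := i.range) hχ (Deg.apply_one_eq hχ.isCharacter) hc).comp_equiv
    (MonoidHom.ofInjective hi)

end Normal

section Good

theorem exists_mulEquiv_of_ker_eq {Γ X Y : Type*} [Group Γ] [Group X] [Group Y] (f : Γ →* X)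
    (g : Γ →* Y) (hf : Function.Surjective f) (hg : Function.Surjective g) (h : f.ker = g.ker) :
    ∃ e : X ≃* Y, ∀ γ, e (f γ) = g γ := by
  refine ⟨(QuotientGroup.quotientKerEquivOfSurjective f hf).symm.trans
    ((QuotientGroup.quotientMulEquivOfEq h).trans
      (QuotientGroup.quotientKerEquivOfSurjective g hg)), fun γ => ?_⟩
  have : (QuotientGroup.quotientKerEquivOfSurjective f hf).symm (f γ) = (γ : Γ ⧸ f.ker) := by
    rw [MulEquiv.symm_apply_eq]; rfl
  rw [MulEquiv.trans_apply, this]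
  rfl

/-- conjugacy classes along an isomorphism -/
def conjClassesCongr {X Y : Type*} [Group X] [Group Y] (e : X ≃* Y) :
    ConjClasses X ≃ ConjClasses Y where
  toFun := ConjClasses.map e.toMonoidHom
  invFun := ConjClasses.map e.symm.toMonoidHom
  left_inv C := by
    obtain ⟨x, rfl⟩ := ConjClasses.exists_rep C
    change ConjClasses.mk (e.symm (e x)) = _
    rw [e.symm_apply_apply]
  right_inv C := by
    obtain ⟨x, rfl⟩ := ConjClasses.exists_rep C
    change ConjClasses.mk (e (e.symm x)) = _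
    rw [e.apply_symm_apply]

theorem conjClassesCongr_mk {X Y : Type*} [Group X] [Group Y] (e : X ≃* Y) (x : X) :
    conjClassesCongr e (ConjClasses.mk x) = ConjClasses.mk (e x) := rfl

theorem exists_ext_closure_iff {K : Type*} [Group K] [Finite K] {A : Subgroup K} [A.Normal]
    (hA : A ≤ Subgroup.center K) {lam : A →* ℂˣ} (hlam : Function.Injective lam) {g h : K}
    (hc : Commute (g : K ⧸ A) h) {L : Subgroup K} (hL : ∀ a : A, A.subtype a ∈ L)
    (hL' : ∀ k, k ∈ L ↔ (k : K ⧸ A) ∈ Subgroup.closure {(g : K ⧸ A), (h : K ⧸ A)}) :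
    (∃ ν : L →* ℂˣ, ∀ a, ν (A.subtype.codRestrict L hL a) = lam a) ↔ h * g = g * h := by
  have hg : g ∈ L := (hL' g).2 (Subgroup.subset_closure (by simp))
  have hh : h ∈ L := (hL' h).2 (Subgroup.subset_closure (by simp))
  constructor
  · rintro ⟨ν, hν⟩
    have h1 : h⁻¹ * g⁻¹ * (h * g) ∈ A := by
      rw [← mul_inv_rev, ← QuotientGroup.eq]
      exact hc.eq
    have h2 : lam ⟨_, h1⟩ = 1 := by
      rw [← hν]
      have : A.subtype.codRestrict L hL ⟨_, h1⟩ = (⟨h, hh⟩ : L)⁻¹ * ⟨g, hg⟩⁻¹ * (⟨h, hh⟩ * ⟨g, hg⟩) :=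
        rfl
      rw [this]
      simp only [map_mul, map_inv]
      rw [mul_comm (ν ⟨h, hh⟩), ← mul_inv_rev, inv_mul_cancel]
    have h3 : h⁻¹ * g⁻¹ * (h * g) = 1 :=
      congrArg Subtype.val (hlam (h2.trans (map_one lam).symm))
    rw [← mul_inv_rev, inv_mul_eq_one] at h3
    exact h3.symm
  · intro hgh
    have hcomm := Subgroup.isMulCommutative_closure (k := {g, h}) (by
      rintro x (rfl | rfl) y (rfl | rfl)
      exacts [rfl, hgh.symm, hgh, rfl])
    have dec : ∀ k ∈ L, ∃ w ∈ Subgroup.closure {g, h}, ∃ a ∈ A, k = w * a := by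
      intro k hk
      have h1 := (hL' k).1 hk
      have h2 : Subgroup.closure {(g : K ⧸ A), (h : K ⧸ A)} =
          (Subgroup.closure {g, h}).map (QuotientGroup.mk' A) := by
        rw [MonoidHom.map_closure, Set.image_pair]; rfl
      rw [h2] at h1
      obtain ⟨w, hw, hw'⟩ := h1
      exact ⟨w, hw, w⁻¹ * k, QuotientGroup.eq.1 hw', by group⟩
    have hLc : ∀ a b : L, a * b = b * a := by
      rintro ⟨a, ha⟩ ⟨b, hb⟩
      obtain ⟨w, hw, z, hz, rfl⟩ := dec a ha
      obtain ⟨w', hw', z', hz', rfl⟩ := dec b hb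
      apply Subtype.ext
      have e1 := Subgroup.mem_center_iff.1 (hA hz)
      have e2 := Subgroup.mem_center_iff.1 (hA hz')
      have e3 : w * w' = w' * w :=
        congrArg Subtype.val (hcomm.is_comm.comm (⟨w, hw⟩ : Subgroup.closure {g, h}) ⟨w', hw'⟩)
      change w * z * (w' * z') = w' * z' * (w * z)
      calc w * z * (w' * z') = w * w' * (z * z') := by
            rw [mul_assoc, ← mul_assoc z, ← e1 w']; group
        _ = w' * w * (z' * z) := by rw [e3, e1 z']
        _ = _ := by rw [mul_assoc w' z', ← mul_assoc z', ← e2 w]; group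
    have hAL : A ≤ L := fun a ha => hL ⟨a, ha⟩
    obtain ⟨mu, hmu⟩ := exists_monoidHom_extend_of_comm hLc (A.subgroupOf L)
      (lam.comp (Subgroup.subgroupOfEquivOfLe hAL).toMonoidHom)
    exact ⟨mu, fun a => hmu ⟨⟨a, hAL a.2⟩, a.2⟩⟩

/-- Gallagher: the characters over an invariant `θ` are counted by the good classes. -/
theorem cnt_zero_eq_good {N X : Type*} {G : Type u} [Group N] [Group G] [Group X] [Finite G]
    {i : N →* G} (hi : Function.Injective i) {π : G →* X} (hπ : Function.Surjective π)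
    (hker : π.ker = i.range) {θ : N → ℂ} (hθ : IsIrrCharacter N θ) (hinv : ∀ g, InvBy i θ g) :
    cnt 0 i θ = Nat.card {C : ConjClasses X // ∃ x, ConjClasses.mk x = C ∧
      ∀ y, Commute x y → ExtSub i θ ((Subgroup.closure {x, y}).comap π)} := by
  have : Finite N := Finite.of_injective i hi
  have := Fintype.ofFinite N
  obtain ⟨K, _, _, A, lam, T, hlam, -⟩ := exists_cTriple_hom i hi (hker ▸ inferInstance) hθ hinv
    (Deg.apply_one_eq hθ.isCharacter)
  have hA : A ≤ Subgroup.center K := by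
    simpa only [Subgroup.range_subtype] using T.range_ι_le_center
  have hAn : A.Normal := ⟨fun a ha g => by
    rw [Subgroup.mem_center_iff.1 (hA ha) g, mul_inv_cancel_right]; exact ha⟩
  obtain ⟨e, he⟩ := exists_mulEquiv_of_ker_eq (π.comp T.π) ((QuotientGroup.mk' A).comp T.q)
    (hπ.comp T.π_surj) ((QuotientGroup.mk'_surjective A).comp T.q_surj) (by
      ext γ
      rw [← MonoidHom.comap_ker, ← MonoidHom.comap_ker, QuotientGroup.ker_mk', hker,
        Subgroup.mem_comap, Subgroup.mem_comap, T.π_mem_range_iff, Subgroup.range_subtype])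
  have he' : ∀ γ, e (π (T.π γ)) = (T.q γ : K ⧸ A) := he
  rw [cnt_zero, Nat.card_congr ((Equiv.subtypeEquivRight fun _ => over_iff).trans T.irrEquiv),
    card_liesOver_eq hA hlam]
  have key : ∀ γ δ : T.Γ, Commute (π (T.π γ)) (π (T.π δ)) →
      (ExtSub i θ ((Subgroup.closure {π (T.π γ), π (T.π δ)}).comap π) ↔
        T.q δ * T.q γ = T.q γ * T.q δ) := by
    intro γ δ hc
    have hc' : Commute (T.q γ : K ⧸ A) (T.q δ) := by
      rw [← he', ← he']; exact hc.map e
    have hR : T.Rel ((Subgroup.closure {π (T.π γ), π (T.π δ)}).comap π)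
        ((Subgroup.closure {(T.q γ : K ⧸ A), (T.q δ : K ⧸ A)}).comap (QuotientGroup.mk' A)) := by
      intro ε
      rw [Subgroup.mem_comap, Subgroup.mem_comap, QuotientGroup.mk'_apply, ← he', ← he', ← he',
        ← Set.image_pair e]
      have := MonoidHom.map_closure e.toMonoidHom {π (T.π γ), π (T.π δ)}
      rw [MulEquiv.coe_toMonoidHom] at this
      rw [← this]
      exact (Subgroup.mem_map_iff_mem (f := e.toMonoidHom) e.injective).symm
    rw [extSub_iff hR.i_mem]
    exact (CTriple.exists_ext_iff (CTriple.restrict hR)).trans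
      (exists_ext_closure_iff hA hlam hc' hR.ι_mem fun k => Iff.rfl)
  have good : ∀ γ : T.Γ, IsSpecialMod A (T.q γ) ↔ ∀ y, Commute (π (T.π γ)) y →
      ExtSub i θ ((Subgroup.closure {π (T.π γ), y}).comap π) := by
    intro γ
    constructor
    · intro h y hy
      obtain ⟨δ, rfl⟩ := (hπ.comp T.π_surj) y
      refine (key γ δ hy).2 (h _ ?_)
      have hc' : Commute (T.q γ : K ⧸ A) (T.q δ) := by
        rw [← he', ← he']; exact hy.map e
      rw [← QuotientGroup.eq_one_iff]
      simp only [QuotientGroup.mk_mul, QuotientGroup.mk_inv]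
      rw [← hc'.eq]; group
    · intro h x hx
      obtain ⟨δ, rfl⟩ := T.q_surj x
      have hc : Commute (π (T.π γ)) (π (T.π δ)) := by
        apply e.injective
        rw [map_mul, map_mul, he', he']
        rw [← QuotientGroup.eq_one_iff] at hx
        simp only [QuotientGroup.mk_mul, QuotientGroup.mk_inv] at hx
        rw [mul_assoc, ← mul_inv_rev, mul_inv_eq_one] at hx
        exact hx.symm
      exact (key γ δ hc).1 (h _ hc)
  refine (Nat.card_congr ((conjClassesCongr e).subtypeEquiv fun C => ?_)).symm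
  constructor
  · rintro ⟨x, rfl, hx⟩
    obtain ⟨γ, rfl⟩ := (hπ.comp T.π_surj) x
    exact ⟨T.q γ, by rw [conjClassesCongr_mk, ← he']; rfl, (good γ).2 hx⟩
  · rintro ⟨g, hg, hx⟩
    obtain ⟨γ, rfl⟩ := T.q_surj g
    refine ⟨π (T.π γ), (conjClassesCongr e).injective ?_, (good γ).1 hx⟩
    rw [conjClassesCongr_mk, he', hg]

/-- Two triples inside one group with the same extendibility to abelian overgroups have the same
number of characters. -/
theorem cnt_zero_eq_of_ext {Γ : Type u} [Group Γ] [Finite Γ] {M T D T' : Subgroup Γ}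
    (hMT : M ≤ T) (hDT : D ≤ T') (hT : T' ≤ T) (hn : ∀ t ∈ T, ∀ m ∈ M, t * m * t⁻¹ ∈ M)
    (hD : D = M ⊓ T') (hsup : ∀ t ∈ T, ∃ m ∈ M, ∃ t' ∈ T', t = m * t')
    {φ : M → ℂ} {φ' : D → ℂ} (hφ : IsIrrCharacter M φ) (hφ' : IsIrrCharacter D φ')
    (hinv : ∀ t ∈ T, InvBy M.subtype φ t) (hinv' : ∀ t ∈ T', InvBy D.subtype φ' t)
    (h : ∀ U : Subgroup Γ, M ≤ U → U ≤ T → ⁅U, U⁆ ≤ M →
      (ExtSub M.subtype φ U ↔ ExtSub D.subtype φ' (U ⊓ T'))) :
    cnt 0 (Subgroup.inclusion hMT) φ = cnt 0 (Subgroup.inclusion hDT) φ' := by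
  have hMn : (M.subgroupOf T).Normal := ⟨fun m hm t => hn t t.2 m hm⟩
  let π := QuotientGroup.mk' (M.subgroupOf T)
  have hπ : ∀ t : T, π t = 1 ↔ (t : Γ) ∈ M := fun t => QuotientGroup.eq_one_iff t
  rw [cnt_zero_eq_good (Subgroup.inclusion_injective hMT) (π := π) (QuotientGroup.mk'_surjective _)
    (by rw [QuotientGroup.ker_mk', Subgroup.inclusion_range]) hφ
    (fun t => InvBy.of_comp (j := T.subtype) (fun _ => rfl) (hinv t t.2)),
    cnt_zero_eq_good (Subgroup.inclusion_injective hDT) (π := π.comp (Subgroup.inclusion hT))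
    (by
      intro x
      obtain ⟨t, rfl⟩ := QuotientGroup.mk'_surjective _ x
      obtain ⟨m, hm, t', ht', e⟩ := hsup t t.2
      refine ⟨⟨t', ht'⟩, ?_⟩
      have : t = ⟨m, hMT hm⟩ * Subgroup.inclusion hT ⟨t', ht'⟩ := Subtype.ext e
      rw [this, map_mul]
      change _ = π _ * _
      rw [(hπ ⟨m, hMT hm⟩).2 hm, one_mul]
      rfl)
    (by
      ext t
      rw [Subgroup.inclusion_range, Subgroup.mem_subgroupOf, MonoidHom.mem_ker,
        MonoidHom.comp_apply, hπ, hD, Subgroup.mem_inf]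
      exact (and_iff_left t.2).symm) hφ'
    (fun t => InvBy.of_comp (j := T'.subtype) (fun _ => rfl) (hinv' t t.2))]
  refine Nat.card_congr (Equiv.subtypeEquivRight fun C => exists_congr fun x =>
    and_congr_right fun _ => forall_congr' fun y => forall_congr' fun hxy => ?_)
  set W := Subgroup.closure {x, y} with hW
  have hWc : IsMulCommutative W := Subgroup.isMulCommutative_closure (by
    rintro a (rfl | rfl) b (rfl | rfl)
    exacts [rfl, hxy.eq, hxy.eq.symm, rfl])
  rw [← extSub_map_iff (j := T.subtype) (i' := M.subtype) T.subtype_injective (fun _ => rfl),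
    ← extSub_map_iff (j := T'.subtype) (i' := D.subtype) T'.subtype_injective (fun _ => rfl)]
  have e : (W.comap (π.comp (Subgroup.inclusion hT))).map T'.subtype =
      (W.comap π).map T.subtype ⊓ T' := by
    ext g
    constructor
    · rintro ⟨t, ht, rfl⟩
      exact ⟨⟨Subgroup.inclusion hT t, ht, rfl⟩, t.2⟩
    · rintro ⟨⟨t, ht, rfl⟩, ht'⟩
      exact ⟨⟨t, ht'⟩, ht, rfl⟩
  rw [e]
  refine h _ (fun m hm => ⟨⟨m, hMT hm⟩, ?_, rfl⟩) (Subgroup.map_subtype_le _) ?_
  · change π _ ∈ W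
    rw [(hπ ⟨m, hMT hm⟩).2 hm]
    exact W.one_mem
  · rw [Subgroup.commutator_le]
    rintro _ ⟨a, ha, rfl⟩ _ ⟨b, hb, rfl⟩
    have := (hπ ⁅a, b⁆).1 (by
      rw [map_commutatorElement, commutatorElement_eq_one_iff_mul_comm]
      exact congrArg Subtype.val (hWc.is_comm.comm (⟨π a, ha⟩ : W) ⟨π b, hb⟩))
    exact this

end Good

end Cfsg.Lib.Char
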