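import Cfsg.Agent.Char.Unitary
import Cfsg.Agent.Char.DegBasic

/-!
# Jordan's theorem on finite linear groups: the large abelian normal subgroup
-/

set_option autoImplicit false

open scoped ComplexConjugate InnerProductSpace commutatorElement
open Cfsg

namespace Cfsg.Lib.Char

section Unitary

variable {G : Type*} [Group G] {E : Type*} [NormedAddCommGroup E] [InnerProductSpace ℂ E]
  [FiniteDimensional ℂ E] {ρ : Representation ℂ G E}

theorem inner_ne_zero_of_norm_sub_one_lt {y : G} (hy : ‖opRep ρ y - 1‖ < 1) {w : E} (hw : w ≠ 0) :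
    ⟪w, ρ y w⟫_ℂ ≠ 0 := by
  intro h
  have h1 : ⟪w, (opRep ρ y - 1) w⟫_ℂ = -⟪w, w⟫_ℂ := by
    rw [sub_apply, inner_sub_right, opRep_apply, h]; simp
  have h2 := norm_inner_le_norm (𝕜 := ℂ) w ((opRep ρ y - 1) w)
  have h3 := (opRep ρ y - 1).le_opNorm w
  have h4 : 0 < ‖w‖ := norm_pos_iff.mpr hw
  rw [h1, norm_neg, inner_self_eq_norm_sq_to_K, norm_pow, RCLike.norm_ofReal, abs_norm] at h2
  nlinarith [mul_lt_mul_of_pos_right hy h4]

/-- If `y` is close to the identity and `x` commutes with `⁅x, y⁆`, then `x` commutes with `y`. -/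
theorem commute_of_commute_commutator (hρ : ∀ g v, ‖ρ g v‖ = ‖v‖) (hinj : Function.Injective ρ)
    [Finite G] {x y : G} (hy : ‖opRep ρ y - 1‖ < 1) (h : Commute x ⁅x, y⁆) : Commute x y := by
  rw [← commutatorElement_eq_one_iff_commute]
  set u := ⁅x, y⁆ with hu
  obtain ⟨b, ε, -, hb, -⟩ := exists_eigenbasis_rep ρ u
    (Nat.cast_ne_zero.mpr (orderOf_pos u).ne') (pow_orderOf_eq_one u)
  suffices ∀ i, ε i = 1 from hinj (by
    rw [map_one]
    exact b.ext fun i => by rw [hb, this, one_smul, Module.End.one_apply])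
  intro i
  by_contra hne
  obtain ⟨v, hv, hv0, hx⟩ := exists_common_eigenvector (fun _ : Unit => ρ x) (fun _ _ => rfl)
    (Module.End.eigenspace (ρ u) (ε i))
    ((Submodule.ne_bot_iff _).mpr ⟨b i, Module.End.mem_eigenspace_iff.mpr (hb i), b.ne_zero i⟩)
    (fun _ v hv => Module.End.mem_eigenspace_iff.mpr (by
      rw [← Module.End.mul_apply, ← map_mul, ← h.eq, map_mul, Module.End.mul_apply,
        Module.End.mem_eigenspace_iff.mp hv, map_smul]))
  obtain ⟨c, hc⟩ := hx ()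
  rw [Module.End.mem_eigenspace_iff] at hv
  have hc0 : c ≠ 0 := norm_ne_zero_iff.mp (by rw [norm_eq_one_of_eigen hρ hv0 hc]; simp)
  have hε0 : ε i ≠ 0 := norm_ne_zero_iff.mp (by rw [norm_eq_one_of_eigen hρ hv0 hv]; simp)
  have h1 : u * (y * x * y⁻¹) = x := by rw [hu, commutatorElement_def]; group
  have h2 : (y * x * y⁻¹) * u = x := by
    have h3 : y * x * y⁻¹ = u⁻¹ * x := eq_inv_mul_of_mul_eq h1
    rw [h3, mul_assoc, h.eq, inv_mul_cancel_left]
  have h3 : ρ x (ρ y⁻¹ v) = (c / ε i) • ρ y⁻¹ v := by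
    have h4 : x * y⁻¹ * u = y⁻¹ * x := by rw [← congrArg (y⁻¹ * ·) h2]; group
    have h5 := congrArg (fun g => ρ g v) h4
    simp only [map_mul, Module.End.mul_apply, hv, hc, map_smul] at h5
    rw [div_eq_inv_mul, mul_smul, ← h5, smul_smul, inv_mul_cancel₀ hε0, one_smul]
  have h4 : ρ y (ρ y⁻¹ v) = v := by
    rw [← Module.End.mul_apply, ← map_mul, mul_inv_cancel, map_one, Module.End.one_apply]
  refine inner_ne_zero_of_norm_sub_one_lt hy (w := ρ y⁻¹ v) (fun h0 => hv0 ?_) ?_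
  · rw [← h4, h0, map_zero]
  · rw [h4]
    refine inner_eq_zero_of_eigen hρ h3 hc fun h5 => hne ?_
    field_simp at h5
    exact h5.symm

theorem norm_commutator_sub_one_le (hρ : ∀ g v, ‖ρ g v‖ = ‖v‖) (x y : G) (c : ℂ) :
    ‖opRep ρ ⁅x, y⁆ - 1‖ ≤ 2 * ‖opRep ρ x - algebraMap ℂ _ c‖ * ‖opRep ρ y - 1‖ := by
  have h1 : opRep ρ ⁅x, y⁆ - 1 = ((opRep ρ x - algebraMap ℂ _ c) * (opRep ρ y - 1) -
      (opRep ρ y - 1) * (opRep ρ x - algebraMap ℂ _ c)) * opRep ρ (x⁻¹ * y⁻¹) := by
    have h2 : (opRep ρ x - algebraMap ℂ _ c) * (opRep ρ y - 1) -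
        (opRep ρ y - 1) * (opRep ρ x - algebraMap ℂ _ c) = opRep ρ (x * y) - opRep ρ (y * x) := by
      simp only [map_mul, sub_mul, mul_sub, mul_one, one_mul, Algebra.commutes c (opRep ρ y)]
      abel
    rw [h2, sub_mul, ← map_mul, ← map_mul, commutatorElement_def]
    simp [mul_assoc]
  rw [h1]
  refine (norm_mul_opRep_le hρ _ _).trans ((norm_sub_le _ _).trans ?_)
  have h2 := norm_mul_le (opRep ρ x - algebraMap ℂ _ c) (opRep ρ y - 1)
  have h3 := norm_mul_le (opRep ρ y - 1) (opRep ρ x - algebraMap ℂ _ c)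
  linarith

/-- An element close to a scalar commutes with every element close to the identity. -/
theorem commute_of_norm_lt (hρ : ∀ g v, ‖ρ g v‖ = ‖v‖) (hinj : Function.Injective ρ) [Finite G]
    {x : G} {c : ℂ} (hx : ‖opRep ρ x - algebraMap ℂ _ c‖ < 1 / 2) (y : G)
    (hy : ‖opRep ρ y - 1‖ < 1) : Commute x y := by
  let r : G → G → Prop := fun a b => ‖opRep ρ a - 1‖ < ‖opRep ρ b - 1‖
  have : IsTrans G r := ⟨fun _ _ _ => lt_trans⟩
  have : Std.Irrefl r := ⟨fun _ => lt_irrefl _⟩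
  induction y using (Finite.wellFounded_of_trans_of_irrefl r).induction with
  | _ y ih =>
  rcases (norm_nonneg (opRep ρ y - 1)).eq_or_lt with h0 | h0
  · have h1 : opRep ρ y = 1 := sub_eq_zero.mp (norm_eq_zero.mp h0.symm)
    obtain rfl : y = 1 := hinj (by
      rw [map_one]
      exact LinearMap.ext fun v => congrArg (fun f : E →L[ℂ] E => f v) h1)
    exact Commute.one_right x
  · have h1 : ‖opRep ρ ⁅x, y⁆ - 1‖ < ‖opRep ρ y - 1‖ := by
      have := norm_commutator_sub_one_le hρ x y c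
      nlinarith
    exact commute_of_commute_commutator hρ hinj hy (ih _ h1 (h1.trans hy))

/-- The simultaneous eigenvalue functions of a subgroup are at most as many as the dimension. -/
theorem card_weights_le (hρ : ∀ g v, ‖ρ g v‖ = ‖v‖) (H : Subgroup G) :
    Finite {μ : H → ℂ // ∃ v : E, v ≠ 0 ∧ ∀ h : H, ρ h v = μ h • v} ∧
      Nat.card {μ : H → ℂ // ∃ v : E, v ≠ 0 ∧ ∀ h : H, ρ h v = μ h • v} ≤ Module.finrank ℂ E := by
  choose v hv0 hv using fun μ : {μ : H → ℂ // ∃ v : E, v ≠ 0 ∧ ∀ h : H, ρ h v = μ h • v} => μ.2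
  have hli : LinearIndependent ℂ v := linearIndependent_of_ne_zero_of_inner_eq_zero hv0
    fun μ ν hne => by
      obtain ⟨h, hh⟩ := Function.ne_iff.mp fun e => hne (Subtype.ext e)
      exact inner_eq_zero_of_eigen hρ (hv μ h) (hv ν h) hh
  have := hli.finite
  have := Fintype.ofFinite {μ : H → ℂ // ∃ v : E, v ≠ 0 ∧ ∀ h : H, ρ h v = μ h • v}
  exact ⟨inferInstance, Nat.card_eq_fintype_card.trans_le hli.fintype_card_le_finrank⟩

end Unitary

/-- The arc of length `π / 6` containing the argument of a complex number. -/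
noncomputable def arcBox (z : ℂ) : Finset.Ioc (-6 : ℤ) 6 :=
  ⟨⌈6 * z.arg / Real.pi⌉, by
    have h1 := Complex.neg_pi_lt_arg z
    have h2 := Complex.arg_le_pi z
    have h3 := Real.pi_pos
    rw [Finset.mem_Ioc, Int.lt_ceil, Int.ceil_le, lt_div_iff₀ h3, div_le_iff₀ h3]
    push_cast
    constructor <;> linarith⟩

theorem norm_sub_lt_of_arcBox_eq {z w u : ℂ} (hz : ‖z‖ = 1) (hw : ‖w‖ = 1)
    (h : arcBox z = arcBox w) (hu : w = z * u) : ‖u - (√3 / 2 : ℝ)‖ < 1 / 2 := by
  have h0 := Real.pi_pos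
  have h1 : ⌈6 * z.arg / Real.pi⌉ = ⌈6 * w.arg / Real.pi⌉ := congrArg Subtype.val h
  have h2 : |w.arg - z.arg| < Real.pi / 6 := by
    have h3 := Int.abs_sub_lt_one_of_floor_eq_floor (a := -(6 * z.arg / Real.pi))
      (b := -(6 * w.arg / Real.pi)) (by rw [Int.floor_neg, Int.floor_neg, h1])
    have h4 : -(6 * z.arg / Real.pi) - -(6 * w.arg / Real.pi) = (w.arg - z.arg) * (6 / Real.pi) := by
      ring
    rw [h4, abs_mul, abs_of_pos (by positivity : 0 < 6 / Real.pi), ← lt_div_iff₀ (by positivity)]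
      at h3
    simpa using h3
  have h3 : u = Complex.exp ((w.arg - z.arg : ℝ) * Complex.I) := by
    have h4 := Complex.norm_mul_exp_arg_mul_I z
    have h5 := Complex.norm_mul_exp_arg_mul_I w
    rw [hz, Complex.ofReal_one, one_mul] at h4
    rw [hw, Complex.ofReal_one, one_mul] at h5
    have hz0 : z ≠ 0 := norm_ne_zero_iff.mp (by rw [hz]; simp)
    rw [Complex.ofReal_sub, sub_mul, Complex.exp_sub, h4, h5, hu, mul_div_cancel_left₀ _ hz0]
  have h4 : √3 / 2 < Real.cos (w.arg - z.arg) := by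
    rw [← Real.cos_pi_div_six, ← Real.cos_abs (w.arg - z.arg)]
    exact Real.cos_lt_cos_of_nonneg_of_le_pi (abs_nonneg _) (by linarith) h2
  have h5 : ‖u - (√3 / 2 : ℝ)‖ ^ 2 < (1 / 2) ^ 2 := by
    rw [← Complex.normSq_eq_norm_sq, Complex.normSq_apply, h3]
    simp only [Complex.sub_re, Complex.sub_im, Complex.exp_ofReal_mul_I_re,
      Complex.exp_ofReal_mul_I_im, Complex.ofReal_re, Complex.ofReal_im, sub_zero]
    have h6 := Real.sin_sq_add_cos_sq (w.arg - z.arg)
    have h7 : √3 * √3 = 3 := Real.mul_self_sqrt (by norm_num)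
    have h8 : 0 < √3 := Real.sqrt_pos.mpr (by norm_num)
    nlinarith
  exact lt_of_pow_lt_pow_left₀ 2 (by norm_num) h5

/-- A finite linear group of degree `n` has an abelian normal subgroup that meets every abelian
subgroup in index at most `12 ^ n`. -/
theorem exists_abelian_normal_relIndex_le {G : Type*} [Group G] [Finite G] {χ : G → ℂ}
    (hχ : IsCharacter G χ) (hfaith : ∀ g : G, χ g = χ 1 → g = 1) {n : ℕ} (hn : χ 1 = n) :
    ∃ A : Subgroup G, A.Normal ∧ (∀ x ∈ A, ∀ y ∈ A, x * y = y * x) ∧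
      ∀ H : Subgroup G, (∀ x ∈ H, ∀ y ∈ H, x * y = y * x) → A.relIndex H ≤ 12 ^ n := by
  obtain ⟨E, _, _, _, ρ, hρ, rfl⟩ := exists_unitary_rep hχ
  have hinj : Function.Injective ρ := by
    rw [injective_iff_map_eq_one]
    exact fun g hg => hfaith g ((char_eq_char_one_iff ρ g).mpr hg)
  obtain rfl : Module.finrank ℂ E = n := by
    rw [ρ.char_one] at hn; exact_mod_cast hn
  let c : ℂ := (√3 / 2 : ℝ)
  let S : Set G := {g | ‖opRep ρ g - algebraMap ℂ _ c‖ < 1 / 2}
  have hS1 : ∀ y ∈ S, ‖opRep ρ y - 1‖ < 1 := fun y hy => by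
    have h1 : opRep ρ y - 1 = (opRep ρ y - algebraMap ℂ _ c) + (c - 1) • 1 := by
      rw [sub_smul, one_smul, Algebra.algebraMap_eq_smul_one]; abel
    have h2 : ‖(c - 1) • (1 : E →L[ℂ] E)‖ ≤ 1 / 2 := by
      have h3 : ‖c - 1‖ ≤ 1 / 2 := by
        have h7 : √3 * √3 = 3 := Real.mul_self_sqrt (by norm_num)
        have h8 : 0 < √3 := Real.sqrt_pos.mpr (by norm_num)
        rw [← Complex.ofReal_one, ← Complex.ofReal_sub, Complex.norm_real, Real.norm_eq_abs, abs_le]
        constructor <;> nlinarith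
      rw [norm_smul]
      exact (mul_le_of_le_one_right (norm_nonneg _) ContinuousLinearMap.norm_id_le).trans h3
    have h3 := norm_add_le (opRep ρ y - algebraMap ℂ _ c) ((c - 1) • 1)
    have h4 : ‖opRep ρ y - algebraMap ℂ _ c‖ < 1 / 2 := hy
    rw [h1]
    linarith
  have hconj : ∀ g, ∀ x ∈ S, g * x * g⁻¹ ∈ S := fun g x hx => by
    have h1 : opRep ρ (g * x * g⁻¹) - algebraMap ℂ _ c =
        opRep ρ g * (opRep ρ x - algebraMap ℂ _ c) * opRep ρ g⁻¹ := by
      rw [mul_sub, sub_mul, ← Algebra.commutes c, mul_assoc (algebraMap ℂ _ c), ← map_mul (opRep ρ) g,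
        ← map_mul (opRep ρ) g]
      simp
    change ‖_‖ < _
    rw [h1]
    exact ((norm_mul_opRep_le hρ _ _).trans (norm_opRep_mul_le hρ _ _)).trans_lt hx
  refine ⟨Subgroup.closure S, ⟨fun x hx g => ?_⟩, fun x hx y hy => ?_, fun H hH => ?_⟩
  · have h1 : (Subgroup.closure S).map (MulAut.conj g).toMonoidHom ≤ Subgroup.closure S := by
      rw [MonoidHom.map_closure]
      refine Subgroup.closure_mono ?_
      rintro _ ⟨y, hy, rfl⟩
      exact hconj g y hy
    exact h1 ⟨x, hx, rfl⟩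
  · have := Subgroup.isMulCommutative_closure (k := S) fun a ha b hb =>
      (commute_of_norm_lt hρ hinj ha b (hS1 b hb)).eq
    exact setLike_mul_comm hx hy
  · obtain ⟨hfin, hcard⟩ := card_weights_le hρ H
    let F : H → {μ : H → ℂ // ∃ v : E, v ≠ 0 ∧ ∀ h : H, ρ h v = μ h • v} → Finset.Ioc (-6 : ℤ) 6 :=
      fun h μ => arcBox (μ.1 h)
    have hF : ∀ a b : H, F a = F b → ((a⁻¹ * b : H) : G) ∈ S := fun a b hab => by
      change ‖_‖ < _
      rcases subsingleton_or_nontrivial E with hE | hE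
      · rw [Subsingleton.elim (opRep ρ _ - _) 0]; norm_num
      obtain ⟨z, v, hv0, hv, hnorm⟩ := exists_eigen_norm_sub_eq hρ ((a⁻¹ * b : H) : G) c
      rw [hnorm]
      have hcomm : ∀ i j : H, ρ i * ρ j = ρ j * ρ i := fun i j => by
        rw [← map_mul, hH _ i.2 _ j.2, map_mul]
      obtain ⟨w, hw, hw0, hw'⟩ := exists_common_eigenvector (fun h : H => ρ h) hcomm
        (Module.End.eigenspace (ρ (a⁻¹ * b : H)) z)
        ((Submodule.ne_bot_iff _).mpr ⟨v, Module.End.mem_eigenspace_iff.mpr hv, hv0⟩)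
        (fun h v hv => Module.End.mem_eigenspace_iff.mpr (by
          rw [← Module.End.mul_apply, hcomm, Module.End.mul_apply,
            Module.End.mem_eigenspace_iff.mp hv, map_smul]))
      choose μ hμ using hw'
      rw [Module.End.mem_eigenspace_iff] at hw
      refine norm_sub_lt_of_arcBox_eq (norm_eq_one_of_eigen hρ hw0 (hμ a))
        (norm_eq_one_of_eigen hρ hw0 (hμ b)) (congrFun hab ⟨μ, w, hw0, hμ⟩) ?_
      apply smul_left_injective ℂ hw0
      simp only []
      rw [← hμ, mul_comm, mul_smul, ← hμ, ← map_smul, ← hw, ← Module.End.mul_apply, ← map_mul]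
      simp
    have hinj' : Function.Injective
        fun q : H ⧸ (Subgroup.closure S).subgroupOf H => F q.out := fun q q' h => by
      rw [← q.out_eq, ← q'.out_eq]
      exact QuotientGroup.eq.mpr (Subgroup.subset_closure (hF _ _ h))
    refine (Nat.card_le_card_of_injective _ hinj').trans ?_
    rw [Nat.card_fun, Nat.card_eq_fintype_card, Fintype.card_coe, Int.card_Ioc]
    exact Nat.pow_le_pow_right (by norm_num) hcard

end Cfsg.Lib.Char
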