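import Mathlib.Data.ZMod.Basic
import Mathlib.GroupTheory.Commutator.Basic
import Mathlib.Tactic.LinearCombination
import Mathlib.Tactic.Group

/-!
# Klinger–Mason I: a quadratic action lemma on a symplectic space over the field of two elements

The space is a subgroup `X` with a biadditive alternating function `b`; elements of the normalizer
act by conjugation.
-/

set_option autoImplicit false

open scoped commutatorElement

namespace Cfsg.Lib.Char.KM

open Subgroup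

variable {G : Type*} [Group G]

theorem z2_add_self (a : ZMod 2) : a + a = 0 := by revert a; decide

theorem core (X : Subgroup G) (b : G → G → ZMod 2)
    (hadd : ∀ x ∈ X, ∀ y ∈ X, ∀ z ∈ X, b (x * y) z = b x z + b y z)
    (hsym : ∀ x y, b x y = b y x) (halt : ∀ x, b x x = 0)
    (hinv : ∀ g x y, b (g * x * g⁻¹) (g * y * g⁻¹) = b x y)
    (u : G) (hu : u * u = 1) (K D : Subgroup G) (huX : u ∈ normalizer (X : Set G))
    (hKX : K ≤ normalizer (X : Set G)) (hDX : D ≤ normalizer (X : Set G))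
    (hKu : ∀ k ∈ K, k * u = u * k) (hDu : ∀ d ∈ D, d * u = u * d)
    (hDK : ∀ d ∈ D, ∀ k ∈ K, d * k * d⁻¹ ∈ K) (hK : K ≤ ⁅K, D⁆) (R : G → Prop)
    (hRc : ∀ x ∈ X, ∀ y ∈ X, R x → (∀ w ∈ X, b x w = b y w) → R y)
    (hR1 : ∀ x ∈ X, ∀ y ∈ X, (∀ w ∈ X, b (u * x * u⁻¹) w = b x w) →
      (∀ w ∈ X, b (u * y * u⁻¹) w = b y w) → ¬ R x → ¬ R y → R (x * y))
    (hRK : ∀ k ∈ K, ∀ r ∈ X, R r → ∀ w ∈ X, b (k * r * k⁻¹) w = b r w)
    (hRg : ∀ g ∈ normalizer (X : Set G), g * u = u * g → ∀ r ∈ X, R r → R (g * r * g⁻¹)) :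
    ∀ k ∈ K, ∀ k' ∈ K, ∀ x ∈ X, ∀ z ∈ X,
      b (k * k' * x * (k * k')⁻¹) z = b (k' * k * x * (k' * k)⁻¹) z := by
  have cj : ∀ g ∈ normalizer (X : Set G), ∀ x ∈ X, g * x * g⁻¹ ∈ X := fun g hg x hx =>
    (mem_normalizer_iff.mp hg x).mp hx
  have hui : u⁻¹ = u := inv_eq_of_mul_eq_one_right hu
  have h1 : ∀ z ∈ X, b 1 z = 0 := fun z hz => by
    have := hadd 1 X.one_mem 1 X.one_mem z hz
    rw [one_mul, z2_add_self] at this; exact this
  have binv : ∀ x ∈ X, ∀ z ∈ X, b x⁻¹ z = b x z := fun x hx z hz => by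
    have := hadd x hx x⁻¹ (X.inv_mem hx) z hz
    rw [mul_inv_cancel, h1 z hz] at this
    linear_combination -this - z2_add_self (b x z)
  set β : G → G → G → ZMod 2 := fun g x z => b (g * x * g⁻¹) z with hβ
  have βadd : ∀ g ∈ normalizer (X : Set G), ∀ x ∈ X, ∀ y ∈ X, ∀ z ∈ X,
      β g (x * y) z = β g x z + β g y z := fun g hg x hx y hy z hz => by
    simp only [hβ]
    rw [← hadd _ (cj g hg x hx) _ (cj g hg y hy) z hz]; congr 1; group
  have βinv : ∀ g ∈ normalizer (X : Set G), ∀ x ∈ X, ∀ z ∈ X, β g x⁻¹ z = β g x z :=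
    fun g hg x hx z hz => by
      simp only [hβ]
      rw [← binv _ (cj g hg x hx) z hz]; congr 1; group
  have βcomp : ∀ g h x z, β g (h * x * h⁻¹) z = β (g * h) x z := fun g h x z => by
    simp only [hβ]; congr 1; group
  have βsym : ∀ g x z, β g x z = β g⁻¹ z x := fun g x z => by
    simp only [hβ]
    rw [hsym, ← hinv g⁻¹]; congr 1; group
  have β1 : ∀ x z, β 1 x z = b x z := fun x z => by simp only [hβ]; congr 1; group
  have hδ : ∀ g ∈ normalizer (X : Set G), ∀ x ∈ X, g * x * g⁻¹ * x⁻¹ ∈ X := fun g hg x hx =>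
    X.mul_mem (cj g hg x hx) (X.inv_mem hx)
  have βδ : ∀ g ∈ normalizer (X : Set G), ∀ h ∈ normalizer (X : Set G), ∀ x ∈ X, ∀ z ∈ X,
      β g (h * x * h⁻¹ * x⁻¹) z = β (g * h) x z + β g x z := fun g hg h hh x hx z hz => by
    rw [βadd g hg _ (cj h hh x hx) _ (X.inv_mem hx) z hz, βcomp, βinv g hg x hx z hz]
  have one_n : (1 : G) ∈ normalizer (X : Set G) := Subgroup.one_mem _
  set G4 : G → G → G → ZMod 2 := fun k x z => β (k * u) x z + β k x z + β u x z + β 1 x z with hG4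
  set T : G → Prop := fun x => R (u * x * u⁻¹ * x⁻¹) with hT
  have ha : ∀ k ∈ K, ∀ x ∈ X, ∀ z ∈ X, T x → G4 k x z = 0 := fun k hk x hx z hz h => by
    have e := hRK k hk _ (hδ u huX x hx) h z hz
    have e1 := βδ k (hKX hk) u huX x hx z hz
    have e2 := βδ 1 one_n u huX x hx z hz
    rw [β1, one_mul] at e2
    simp only [hG4]
    change β k _ z = _ at e
    linear_combination e - e1 + e2 + z2_add_self (β u x z) + z2_add_self (β 1 x z)
  have hb : ∀ k ∈ K, ∀ x z, G4 k x z = G4 k⁻¹ z x := fun k hk x z => by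
    simp only [hG4]
    have e : (k * u)⁻¹ = k⁻¹ * u := by
      rw [mul_inv_rev, hui, hKu k⁻¹ (K.inv_mem hk)]
    rw [βsym (k * u) x z, βsym k x z, βsym u x z, βsym 1 x z, e, hui, inv_one]
  have hc : ∀ k ∈ K, ∀ x ∈ X, ∀ y ∈ X, ∀ z ∈ X, G4 k (x * y) z = G4 k x z + G4 k y z :=
    fun k hk x hx y hy z hz => by
      simp only [hG4]
      rw [βadd _ (mul_mem (hKX hk) huX) x hx y hy z hz, βadd _ (hKX hk) x hx y hy z hz,
        βadd _ huX x hx y hy z hz, βadd _ one_n x hx y hy z hz]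
      ring
  have hCδ : ∀ x ∈ X, ∀ w ∈ X, b (u * (u * x * u⁻¹ * x⁻¹) * u⁻¹) w = b (u * x * u⁻¹ * x⁻¹) w :=
    fun x hx w hw => by
      have e1 := βδ u huX u huX x hx w hw
      have e2 := βδ 1 one_n u huX x hx w hw
      rw [hu] at e1
      rw [β1, one_mul] at e2
      change β u _ w = _
      rw [e1, e2]; ring
  have hd : ∀ x ∈ X, ∀ y ∈ X, ¬ T x → ¬ T y → T (x * y) := fun x hx y hy h h' => by
    refine hRc _ (mul_mem (hδ u huX x hx) (hδ u huX y hy)) _ (hδ u huX _ (mul_mem hx hy))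
      (hR1 _ (hδ u huX x hx) _ (hδ u huX y hy) (hCδ x hx) (hCδ y hy) h h') fun w hw => ?_
    have e1 := βδ 1 one_n u huX x hx w hw
    have e2 := βδ 1 one_n u huX y hy w hw
    have e3 := βδ 1 one_n u huX _ (mul_mem hx hy) w hw
    rw [β1, one_mul] at e1 e2 e3
    rw [hadd _ (hδ u huX x hx) _ (hδ u huX y hy) w hw, e1, e2, e3, βadd u huX x hx y hy w hw,
      βadd 1 one_n x hx y hy w hw]
    ring
  have he : ∀ k ∈ K, ∀ x ∈ X, ∀ y ∈ X, ∀ z ∈ X, ¬ T x → ¬ T y → G4 k x z = G4 k y z :=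
    fun k hk x hx y hy z hz h h' => by
      have e := ha k hk _ (mul_mem hx hy) z hz (hd x hx y hy h h')
      rw [hc k hk x hx y hy z hz] at e
      linear_combination e - z2_add_self (G4 k y z)
  have he' : ∀ k ∈ K, ∀ x ∈ X, ∀ y ∈ X, ∀ z ∈ X, ¬ T x → ¬ T y → G4 k z x = G4 k z y :=
    fun k hk x hx y hy z hz h h' => by
      rw [hb k hk, hb k hk z y]; exact he _ (K.inv_mem hk) x hx y hy z hz h h'
  have hTg : ∀ g ∈ normalizer (X : Set G), g * u = u * g → ∀ x ∈ X, ¬ T x → ¬ T (g * x * g⁻¹) :=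
    fun g hg hgu x hx h h' => by
      apply h
      have hgu' : g⁻¹ * u = u * g⁻¹ := by
        rw [inv_mul_eq_iff_eq_mul, ← mul_assoc, hgu]; group
      have := hRg g⁻¹ (inv_mem hg) hgu' _ (hδ u huX _ (cj g hg x hx)) h'
      have e : g⁻¹ * (u * (g * x * g⁻¹) * u⁻¹ * (g * x * g⁻¹)⁻¹) * g⁻¹⁻¹ = u * x * u⁻¹ * x⁻¹ := by
        have e1 : u * g = g * u := hgu.symm
        calc _ = g⁻¹ * (u * g) * x * (u * g)⁻¹ * g * x⁻¹ := by group
          _ = _ := by rw [e1]; group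
      rw [e] at this
      exact this
  have main : ∀ k ∈ K, ∀ x ∈ X, ∀ z ∈ X, G4 k x z = 0 := by
    by_cases hz : ∀ x ∈ X, T x
    · exact fun k hk x hx z hz' => ha k hk x hx z hz' (hz x hx)
    push Not at hz
    obtain ⟨z0, hz0, hT0⟩ := hz
    have cmul : ∀ k ∈ K, ∀ k' ∈ K, G4 (k * k') z0 z0 = G4 k z0 z0 + G4 k' z0 z0 :=
      fun k hk k' hk' => by
        rw [he k hk z0 hz0 _ (cj k' (hKX hk') z0 hz0) z0 hz0 hT0
          (hTg k' (hKX hk') (hKu k' hk') z0 hz0 hT0)]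
        simp only [hG4]
        rw [βcomp, βcomp, βcomp, βcomp, one_mul, ← hKu k' hk', mul_assoc k u k', ← hKu k' hk',
          ← mul_assoc]
        linear_combination -z2_add_self (β (k' * u) z0 z0) - z2_add_self (β k' z0 z0)
    have c1 : G4 1 z0 z0 = 0 := by
      have := cmul 1 K.one_mem 1 K.one_mem
      rw [one_mul, z2_add_self] at this; exact this
    have cd : ∀ d ∈ D, ∀ k ∈ K, G4 (d * k * d⁻¹) z0 z0 = G4 k z0 z0 := fun d hd k hk => by
      have hd' := D.inv_mem hd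
      have hz1 := cj _ (hDX hd') z0 hz0
      have hT1 := hTg _ (hDX hd') (hDu _ hd') z0 hz0 hT0
      rw [he k hk z0 hz0 _ hz1 z0 hz0 hT0 hT1, he' k hk z0 hz0 _ hz1 _ hz1 hT0 hT1]
      have key : ∀ g, β (d * g * d⁻¹) z0 z0 = β g (d⁻¹ * z0 * d⁻¹⁻¹) (d⁻¹ * z0 * d⁻¹⁻¹) :=
        fun g => by
          simp only [hβ]
          rw [← hinv d⁻¹]; congr 1; group
      simp only [hG4]
      rw [← key, ← key, ← key, ← key]
      have e1 : d * (k * u) * d⁻¹ = d * k * d⁻¹ * u := by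
        rw [mul_assoc (d * k), hDu _ hd']; group
      have e2 : d * u * d⁻¹ = u := by rw [hDu d hd]; group
      rw [e1, e2, mul_one, mul_inv_cancel]
    let K0 : Subgroup G :=
      { carrier := {k | k ∈ K ∧ G4 k z0 z0 = 0}
        one_mem' := ⟨K.one_mem, c1⟩
        mul_mem' := fun {a c} ha hc => ⟨K.mul_mem ha.1 hc.1, by
          rw [cmul a ha.1 c hc.1, ha.2, hc.2, add_zero]⟩
        inv_mem' := fun {a} ha => ⟨K.inv_mem ha.1, by
          have := cmul a ha.1 _ (K.inv_mem ha.1)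
          rw [mul_inv_cancel, c1, ha.2, zero_add] at this; exact this.symm⟩ }
    have hK0 : ⁅K, D⁆ ≤ K0 := by
      refine commutator_le.mpr fun k hk d hd => ?_
      have e : ⁅k, d⁆ = k * (d * k⁻¹ * d⁻¹) := by rw [commutatorElement_def]; group
      have hm := hDK d hd _ (K.inv_mem hk)
      refine ⟨e ▸ K.mul_mem hk hm, ?_⟩
      rw [e, cmul k hk _ hm, cd d hd _ (K.inv_mem hk), ← cmul k hk _ (K.inv_mem hk),
        mul_inv_cancel, c1]
    intro k hk x hx z hz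
    by_cases h : T x
    · exact ha k hk x hx z hz h
    by_cases h' : T z
    · rw [hb k hk]; exact ha _ (K.inv_mem hk) z hz x hx h'
    rw [he k hk x hx z0 hz0 z hz h hT0, he' k hk z hz z0 hz0 z0 hz0 h' hT0]
    exact (hK0 (hK hk)).2
  have hC : ∀ k ∈ K, ∀ x ∈ X, ∀ w ∈ X,
      b (u * (k * x * k⁻¹ * x⁻¹) * u⁻¹) w = b (k * x * k⁻¹ * x⁻¹) w := fun k hk x hx w hw => by
    have e1 := βδ u huX k (hKX hk) x hx w hw
    have e2 := βδ 1 one_n k (hKX hk) x hx w hw
    rw [β1, one_mul] at e2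
    have e3 := main k hk x hx w hw
    simp only [hG4] at e3
    rw [hKu k hk] at e3
    change β u _ w = _
    rw [e1, e2]
    linear_combination e3 - z2_add_self (β k x w) - z2_add_self (β 1 x w)
  have hP : ∀ k ∈ K, ∀ x ∈ X, ∀ r ∈ X, R r → b (k * x * k⁻¹ * x⁻¹) r = 0 :=
    fun k hk x hx r hr h => by
      have e2 := βδ 1 one_n k (hKX hk) x hx r hr
      rw [β1, one_mul] at e2
      have e3 := hRK _ (K.inv_mem hk) r hr h x hx
      change β k⁻¹ r x = _ at e3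
      rw [e2, βsym k, e3, β1, hsym x r, z2_add_self]
  have quad : ∀ k ∈ K, ∀ k' ∈ K, ∀ x ∈ X, ∀ z ∈ X,
      β (k' * k) x z = β k x z + β k' x z + β 1 x z := fun k hk k' hk' x hx z hz => by
    have hk'' := K.inv_mem hk'
    have hy := hδ k (hKX hk) x hx
    have hw := hδ _ (hKX hk'') z hz
    have e0 : b (k * x * k⁻¹ * x⁻¹) (k'⁻¹ * z * k'⁻¹⁻¹ * z⁻¹) = 0 := by
      by_cases h : R (k'⁻¹ * z * k'⁻¹⁻¹ * z⁻¹)
      · exact hP k hk x hx _ hw h
      by_cases h' : R (k * x * k⁻¹ * x⁻¹)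
      · rw [hsym]; exact hP _ hk'' z hz _ hy h'
      have h2 := hR1 _ hy _ hw (hC k hk x hx) (hC _ hk'' z hz) h' h
      have h3 := hP k hk x hx _ (mul_mem hy hw) h2
      rw [hsym, hadd _ hy _ hw _ hy, halt, zero_add, hsym] at h3
      exact h3
    have e1 := βδ 1 one_n _ (hKX hk'') z hz _ hy
    rw [β1, one_mul, hsym, e0, βsym, inv_inv, βsym 1, inv_one, βδ k' (hKX hk') k (hKX hk) x hx z hz,
      βδ 1 one_n k (hKX hk) x hx z hz, one_mul] at e1
    linear_combination -e1 - z2_add_self (β k x z) - z2_add_self (β k' x z) -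
      z2_add_self (β 1 x z)
  intro k hk k' hk' x hx z hz
  change β (k * k') x z = β (k' * k) x z
  rw [quad k hk k' hk' x hx z hz, quad k' hk' k hk x hx z hz]; ring

end Cfsg.Lib.Char.KM
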