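import Cfsg.Agent.Solv.CoprimeGen
import Cfsg.Agent.Solv.CoprimeAbelian
import Cfsg.Agent.Solv.PGroupNormal
import Cfsg.Agent.Solv.Cores

/-!
# Klinger–Mason II: a form of Thompson's dihedral lemma
-/

set_option autoImplicit false

open scoped commutatorElement IsMulCommutative

namespace Cfsg.Lib.Char.KM

open Subgroup Cfsg.Lib.Solv Cfsg.Lib.Solv.Coprime

variable {G : Type*} [Group G]

theorem comm_of_mem {A : Subgroup G} (hA : IsMulCommutative A) {x y : G} (hx : x ∈ A)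
    (hy : y ∈ A) : x * y = y * x := by
  have := hA.is_comm.comm (⟨x, hx⟩ : A) ⟨y, hy⟩
  exact congrArg Subtype.val this

theorem isMulCommutative_of {A : Subgroup G} (h : ∀ x ∈ A, ∀ y ∈ A, x * y = y * x) :
    IsMulCommutative A := ⟨⟨fun a b => Subtype.ext (h a a.2 b b.2)⟩⟩

theorem le_normalizer_of_conj [Finite G] {A H : Subgroup G}
    (h : ∀ g ∈ A, ∀ x ∈ H, g * x * g⁻¹ ∈ H) : A ≤ normalizer (H : Set G) := fun g hg => by
  rw [mem_normalizer_iff]
  intro x
  refine ⟨h g hg x, fun hx => ?_⟩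
  have := h _ (A.inv_mem hg) _ hx
  simpa [mul_assoc] using this

theorem mem_zpowers_sq {a x : G} (ha : a * a = 1) (hx : x ∈ zpowers a) : x = 1 ∨ x = a := by
  obtain ⟨n, rfl⟩ := hx
  have h2 : a ^ (2 : ℤ) = 1 := by rw [zpow_two, ha]
  rcases Int.even_or_odd' n with ⟨k, rfl | rfl⟩
  · left; simp only; rw [zpow_mul, h2, one_zpow]
  · right; simp only; rw [zpow_add, zpow_mul, h2, one_zpow, one_mul, zpow_one]

theorem eq_one_of_inv {p : ℕ} [hp : Fact p.Prime] (hp2 : p ≠ 2) {x : G} {k : ℕ}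
    (hx : x ^ p ^ k = 1) (h : x * x = 1) : x = 1 := by
  have h1 : orderOf x ∣ p ^ k := orderOf_dvd_of_pow_eq_one hx
  have h2 : orderOf x ∣ 2 := orderOf_dvd_of_pow_eq_one (by rw [sq, h])
  have h3 : (p ^ k).Coprime 2 :=
    Nat.Coprime.pow_left k ((Nat.coprime_primes hp.out Nat.prime_two).mpr hp2)
  exact orderOf_eq_one_iff.mp (Nat.eq_one_of_dvd_coprimes h3 h1 h2)

theorem isPGroup_two_of_sq {U : Subgroup G} (h : ∀ v ∈ U, v * v = 1) : IsPGroup 2 U :=
  PG.isPGroup_of_forall_mem fun x hx => ⟨1, by rw [pow_one, sq, h x hx]⟩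

theorem coprime_of_pgroups [Finite G] {p : ℕ} [hp : Fact p.Prime] (hp2 : p ≠ 2) {U A : Subgroup G}
    (hU : IsPGroup 2 U) (hA : IsPGroup p A) : (Nat.card U).Coprime (Nat.card A) := by
  have : Fact (Nat.Prime 2) := ⟨Nat.prime_two⟩
  exact IsPGroup.coprime_card_of_ne 2 p (Ne.symm hp2) U A hU hA

/-- A self-centralizing abelian subgroup invariant under an elementary abelian 2-group. -/
theorem exists_selfCent [Finite G] {p : ℕ} [hp : Fact p.Prime] (hp2 : p ≠ 2) {P D U : Subgroup G}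
    (hP : IsPGroup p P) (hDP : D ≤ P) (hD : IsMulCommutative D) (hPD : P ≤ normalizer (D : Set G))
    (hUD : U ≤ normalizer (D : Set G)) (hUP : U ≤ normalizer (P : Set G))
    (hU : IsMulCommutative U) (hU2 : ∀ v ∈ U, v * v = 1) :
    ∃ A : Subgroup G, D ≤ A ∧ A ≤ P ∧ IsMulCommutative A ∧ P ≤ normalizer (A : Set G) ∧
      U ≤ normalizer (A : Set G) ∧ P ⊓ centralizer (A : Set G) ≤ A := by
  obtain ⟨A, ⟨h1, h2, h3, h4, h5⟩, hmax⟩ := exists_maximal_of_wellFoundedGT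
    (fun A : Subgroup G => D ≤ A ∧ A ≤ P ∧ IsMulCommutative A ∧ P ≤ normalizer (A : Set G) ∧
      U ≤ normalizer (A : Set G)) ⟨D, le_rfl, hDP, hD, hPD, hUD⟩
  refine ⟨A, h1, h2, h3, h4, h5, ?_⟩
  by_contra hn
  have hAC : A ≤ P ⊓ centralizer (A : Set G) := le_inf h2 fun x hx =>
    mem_centralizer_iff.mpr fun y hy => comm_of_mem h3 hy hx
  have cn : ∀ g ∈ normalizer (P : Set G), g ∈ normalizer (A : Set G) →
      ∀ x ∈ P ⊓ centralizer (A : Set G), g * x * g⁻¹ ∈ P ⊓ centralizer (A : Set G) :=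
    fun g hg hg' x hx => by
      refine ⟨(mem_normalizer_iff.mp hg x).mp hx.1, mem_centralizer_iff.mpr fun y hy => ?_⟩
      have hy' : g⁻¹ * y * g⁻¹⁻¹ ∈ A := (mem_normalizer_iff.mp (inv_mem hg') y).mp hy
      have := mem_centralizer_iff.mp hx.2 _ hy'
      calc y * (g * x * g⁻¹) = g * (g⁻¹ * y * g⁻¹⁻¹ * x) * g⁻¹ := by group
        _ = g * (x * (g⁻¹ * y * g⁻¹⁻¹)) * g⁻¹ := by rw [this]
        _ = _ := by group
  obtain ⟨x0, hx0, hx0A, -, -, hx0c⟩ := PG.exists_step_elt hP (hP.to_le inf_le_left) h4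
    (le_normalizer_of_conj fun g hg => cn g (le_normalizer hg) (h4 hg))
    (lt_of_le_of_ne hAC fun e => hn (e ▸ le_rfl))
  let W : Subgroup G :=
    { carrier := {x | x ∈ P ⊓ centralizer (A : Set G) ∧ ∀ g ∈ P, ⁅x, g⁆ ∈ A}
      one_mem' := ⟨one_mem _, fun g _ => by simp⟩
      mul_mem' := fun {a c} ha hc => ⟨mul_mem ha.1 hc.1, fun g hg => by
        have e : ⁅a * c, g⁆ = a * ⁅c, g⁆ * a⁻¹ * ⁅a, g⁆ := by
          simp only [commutatorElement_def]; group
        rw [e]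
        exact mul_mem ((mem_normalizer_iff.mp (h4 ha.1.1) _).mp (hc.2 g hg)) (ha.2 g hg)⟩
      inv_mem' := fun {a} ha => ⟨inv_mem ha.1, fun g hg => by
        have e : ⁅a⁻¹, g⁆ = a⁻¹ * ⁅a, g⁆⁻¹ * a⁻¹⁻¹ := by
          simp only [commutatorElement_def]; group
        rw [e]
        exact (mem_normalizer_iff.mp (inv_mem (h4 ha.1.1)) _).mp (inv_mem (ha.2 g hg))⟩ }
  have hWP : W ≤ P := fun x hx => hx.1.1
  have hUW : U ≤ normalizer (W : Set G) := le_normalizer_of_conj fun g hg x hx =>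
    ⟨cn g (hUP hg) (h5 hg) x hx.1, fun s hs => by
      have e : ⁅g * x * g⁻¹, s⁆ = g * ⁅x, g⁻¹ * s * g⁻¹⁻¹⁆ * g⁻¹ := by
        simp only [commutatorElement_def]; group
      rw [e]
      exact (mem_normalizer_iff.mp (h5 hg) _).mp
        (hx.2 _ ((mem_normalizer_iff.mp (inv_mem (hUP hg)) s).mp hs))⟩
  have hWA : ¬ W ≤ A := fun h => hx0A (h ⟨hx0, fun g hg => hx0c g (mem_sup_left hg)⟩)
  have hex : ∃ B : Subgroup G, B ≤ U ∧ (∃ a ∈ U, B ⊔ zpowers a = U) ∧
      ¬ (W ⊓ centralizer (B : Set G) ≤ A) := by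
    by_contra! h
    exact hWA (le_of_forall_cocyclic hUW
      (coprime_of_pgroups hp2 (isPGroup_two_of_sq hU2) (hP.to_le hWP)) h)
  obtain ⟨B, hBU, ⟨a, haU, hBa⟩, hB⟩ := hex
  obtain ⟨x, hx, hxA⟩ := SetLike.not_le_iff_exists.mp hB
  have hax : a * x * a⁻¹ ∈ W := (mem_normalizer_iff.mp (hUW haU) x).mp hx.1
  have key : ∀ y ∈ W, y ∈ centralizer (B : Set G) → a * y * a⁻¹ ∈ A ⊔ zpowers y → y ∈ A := by
    intro y hy hyB hay
    have hyA : zpowers y ≤ normalizer (A : Set G) := (zpowers_le.mpr (hWP hy)).trans h4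
    have hgen : ∀ g, g ∈ normalizer (A : Set G) → g * y * g⁻¹ ∈ A ⊔ zpowers y →
        ∀ t ∈ A ⊔ zpowers y, g * t * g⁻¹ ∈ A ⊔ zpowers y := fun g hg hgy t ht => by
      obtain ⟨k, hk, s, ⟨n, rfl⟩, rfl⟩ := (mem_sup_iff hyA).mp ht
      have e : g * (k * y ^ n) * g⁻¹ = g * k * g⁻¹ * (g * y * g⁻¹) ^ n := by
        rw [conj_zpow]; group
      simp only
      rw [e]
      exact mul_mem (mem_sup_left ((mem_normalizer_iff.mp hg k).mp hk)) (zpow_mem hgy n)
    have := hmax (y := A ⊔ zpowers y) ⟨h1.trans le_sup_left, sup_le h2 (zpowers_le.mpr (hWP hy)),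
      isMulCommutative_of fun s hs t ht => ?_, le_normalizer_of_conj fun g hg =>
        hgen g (h4 hg) ?_, ?_⟩ le_sup_left
    · exact this (mem_sup_right (mem_zpowers y))
    · obtain ⟨k, hk, _, ⟨n, rfl⟩, rfl⟩ := (mem_sup_iff hyA).mp hs
      obtain ⟨k', hk', _, ⟨n', rfl⟩, rfl⟩ := (mem_sup_iff hyA).mp ht
      have c1 : Commute k k' := comm_of_mem h3 hk hk'
      have c2 : Commute k y := mem_centralizer_iff.mp hy.1.2 k hk
      have c3 : Commute k' y := mem_centralizer_iff.mp hy.1.2 k' hk'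
      exact ((c1.mul_right (c2.zpow_right n')).mul_left
        ((c3.symm.zpow_left n).mul_right (Commute.zpow_zpow_self y n n'))).eq
    · have e : g * y * g⁻¹ = ⁅y, g⁆⁻¹ * y := by simp only [commutatorElement_def]; group
      rw [e]
      exact mul_mem (mem_sup_left (inv_mem (hy.2 g hg))) (mem_sup_right (mem_zpowers y))
    · rw [← hBa]
      refine sup_le (le_normalizer_of_conj fun g hg => hgen g (h5 (hBU hg)) ?_)
        (le_normalizer_of_conj fun g hg => ?_)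
      · rw [mem_centralizer_iff.mp hyB g hg, mul_inv_cancel_right]
        exact mem_sup_right (mem_zpowers y)
      · rcases mem_zpowers_sq (hU2 a haU) hg with rfl | rfl
        · intro t ht; simpa using ht
        · exact hgen g (h5 haU) hay
  have haa : a * a = 1 := hU2 a haU
  have hxB' : a * x * a⁻¹ ∈ centralizer (B : Set G) := mem_centralizer_iff.mpr fun c hc => by
    have c1 : Commute c a := comm_of_mem hU (hBU hc) haU
    have c2 : Commute c x := mem_centralizer_iff.mp hx.2 c hc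
    exact ((c1.mul_right c2).mul_right c1.inv_right).eq
  have h6 : x * (a * x * a⁻¹) ∈ A := by
    refine key _ (mul_mem hx.1 hax) (mul_mem hx.2 hxB') ?_
    have e : a * (x * (a * x * a⁻¹)) * a⁻¹ = ⁅a * x * a⁻¹, x⁆ * (x * (a * x * a⁻¹)) := by
      calc _ = a * x * a⁻¹ * ((a * a) * x * (a * a)⁻¹) := by group
        _ = _ := by rw [haa]; simp only [commutatorElement_def]; group
    rw [e]
    exact mul_mem (mem_sup_left (hax.2 x (hWP hx.1))) (mem_sup_right (mem_zpowers _))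
  refine hxA (key x hx.1 hx.2 ?_)
  have e : a * x * a⁻¹ = x⁻¹ * (x * (a * x * a⁻¹)) := by group
  rw [e]
  exact mul_mem (mem_sup_right (inv_mem (mem_zpowers x))) (mem_sup_left h6)

/-- Eigenvectors of an elementary abelian 2-group in an abelian `p`-group. -/
theorem exists_eigen [Finite G] {p : ℕ} [hp : Fact p.Prime] (hp2 : p ≠ 2) {A U : Subgroup G}
    (hA : IsPGroup p A) (hAc : IsMulCommutative A) (hUA : U ≤ normalizer (A : Set G))
    (hU : IsMulCommutative U) (hU2 : ∀ v ∈ U, v * v = 1) {v : G} (hv : v ∈ U)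
    (hvA : v ∉ centralizer (A : Set G)) :
    ∃ x ∈ A, x ≠ 1 ∧ x ^ p = 1 ∧ v * x * v⁻¹ = x⁻¹ ∧
      ∀ w ∈ U, w * x * w⁻¹ = x ∨ w * x * w⁻¹ = x⁻¹ := by
  let W : Subgroup G :=
    { carrier := {x | x ∈ A ∧ x ^ p = 1 ∧ v * x * v⁻¹ = x⁻¹}
      one_mem' := ⟨one_mem _, by simp, by simp⟩
      mul_mem' := fun {a c} ha hc => ⟨mul_mem ha.1 hc.1, by
        rw [Commute.mul_pow (comm_of_mem hAc ha.1 hc.1), ha.2.1, hc.2.1, one_mul], by
        rw [comm_of_mem hAc ha.1 hc.1, mul_inv_rev, ← ha.2.2, ← hc.2.2,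
          ← comm_of_mem hAc ha.1 hc.1]; group⟩
      inv_mem' := fun {a} ha => ⟨inv_mem ha.1, by rw [inv_pow, ha.2.1, inv_one], by
        calc _ = (v * a * v⁻¹)⁻¹ := by group
          _ = _ := by rw [ha.2.2]⟩ }
  have hWA : W ≤ A := fun x hx => hx.1
  have hUW : U ≤ normalizer (W : Set G) := le_normalizer_of_conj fun g hg x hx =>
    ⟨(mem_normalizer_iff.mp (hUA hg) x).mp hx.1, by rw [conj_pow, hx.2.1]; group, by
      have c : v * g = g * v := comm_of_mem hU hv hg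
      calc _ = (v * g) * x * (v * g)⁻¹ := by group
        _ = g * (v * x * v⁻¹) * g⁻¹ := by rw [c]; group
        _ = _ := by rw [hx.2.2]; group⟩
  have hW : ¬ W ≤ ⊥ := fun h => by
    apply hvA
    have hz : zpowers v ≤ U := zpowers_le.mpr hv
    refine le_centralizer_of_pow_prime_eq_one hA (hz.trans hUA) ?_ (fun y hy hyp => ?_)
      (mem_zpowers v)
    · have : Fact (Nat.Prime 2) := ⟨Nat.prime_two⟩
      exact coprime_card_of_isPGroup ((isPGroup_two_of_sq hU2).to_le hz)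
        ((Nat.coprime_primes hp.out Nat.prime_two).mpr hp2)
    have hy' : v * y * v⁻¹ ∈ A := (mem_normalizer_iff.mp (hUA hv) y).mp hy
    have hm : y⁻¹ * (v * y * v⁻¹) ∈ W := ⟨mul_mem (inv_mem hy) hy', by
      rw [Commute.mul_pow (comm_of_mem hAc (inv_mem hy) hy'), conj_pow, inv_pow, hyp]; group, by
      calc _ = (v * y * v⁻¹)⁻¹ * ((v * v) * y * (v * v)⁻¹) := by group
        _ = _ := by rw [hU2 v hv]; group⟩
    have h1 := mem_bot.mp (h hm)
    have h2 : Commute v y := by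
      rw [inv_mul_eq_one, eq_mul_inv_iff_mul_eq] at h1; exact h1.symm
    refine mem_centralizer_iff.mpr ?_
    rintro _ ⟨n, rfl⟩
    exact (h2.zpow_left n).eq
  have hex : ∃ B : Subgroup G, B ≤ U ∧ (∃ a ∈ U, B ⊔ zpowers a = U) ∧
      ¬ (W ⊓ centralizer (B : Set G) ≤ ⊥) := by
    by_contra! h
    exact hW (le_of_forall_cocyclic hUW
      (coprime_of_pgroups hp2 (isPGroup_two_of_sq hU2) (hA.to_le hWA)) h)
  obtain ⟨B, hBU, ⟨a, haU, hBa⟩, hB⟩ := hex
  obtain ⟨x, hx, hx1⟩ := SetLike.not_le_iff_exists.mp hB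
  have hx1' : x ≠ 1 := fun e => hx1 (mem_bot.mpr e)
  have hn : zpowers a ≤ normalizer (B : Set G) :=
    (zpowers_le.mpr haU).trans (le_normalizer_of_le_of_comm hBU)
  have dec : ∀ w ∈ U, w * x * w⁻¹ = x ∨ w * x * w⁻¹ = a * x * a⁻¹ := fun w hw => by
    rw [← hBa] at hw
    obtain ⟨s, hs, c, hc, rfl⟩ := (mem_sup_iff' hn).mp hw
    have e : s * c * x * (s * c)⁻¹ = s * x * s⁻¹ := by
      rw [mul_assoc s, mem_centralizer_iff.mp hx.2 c hc]; group
    rw [e]
    rcases mem_zpowers_sq (hU2 a haU) hs with rfl | rfl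
    · left; group
    · right; rfl
  refine ⟨x, hx.1.1, hx1', hx.1.2.1, hx.1.2.2, fun w hw => ?_⟩
  rcases dec v hv with h | h
  · exfalso
    rw [hx.1.2.2] at h
    exact hx1' (eq_one_of_inv hp2 (k := 1) (by rw [pow_one]; exact hx.1.2.1)
      (by nth_rewrite 1 [← h]; group))
  · rcases dec w hw with h' | h'
    · exact Or.inl h'
    · exact Or.inr (by rw [h', ← h, hx.1.2.2])

/-- The dihedral lemma in a group of local characteristic `p`. -/
theorem dihedral_lemma [Finite G] {p : ℕ} [hp : Fact p.Prime] (hp2 : p ≠ 2)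
    (hG : ∀ T : Subgroup G, IsPGroup p T → T ≠ ⊥ →
      centralizer (pCore p ↥(normalizer (T : Set G)) : Set ↥(normalizer (T : Set G))) ≤
        pCore p ↥(normalizer (T : Set G)))
    {D U : Subgroup G} (hD : IsPGroup p D) (hDc : IsMulCommutative D) (hD1 : D ≠ ⊥)
    (hU : IsMulCommutative U) (hU2 : ∀ v ∈ U, v * v = 1) (hUD : U ≤ centralizer (D : Set G)) :
    ∃ A : Subgroup G, D ≤ A ∧ IsMulCommutative A ∧ ∀ v ∈ U, v ≠ 1 →
      ∃ x ∈ A, x ≠ 1 ∧ x ^ p = 1 ∧ v * x * v⁻¹ = x⁻¹ ∧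
        ∀ w ∈ U, w * x * w⁻¹ = x ∨ w * x * w⁻¹ = x⁻¹ := by
  set N := normalizer (D : Set G) with hN
  set P := (pCore p N).map N.subtype with hPdef
  have hP : IsPGroup p P := isPGroup_map_pCore p N
  have hPN : P ≤ N := map_subtype_le _
  have hNP : N ≤ normalizer (P : Set G) :=
    le_normalizer.trans (normalizer_le_normalizer_map_pCore p N)
  have hUN : U ≤ N := hUD.trans (centralizer_le_normalizer _)
  obtain ⟨A, h1, h2, h3, h4, h5, h6⟩ := exists_selfCent hp2 hP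
    (le_map_pCore le_normalizer le_rfl hD) hDc hPN hUN (hUN.trans hNP) hU hU2
  refine ⟨A, h1, h3, fun v hv hv1 => exists_eigen hp2 (hP.to_le h2) h3 h5 hU hU2 hv fun hc => ?_⟩
  have hz : zpowers v ≤ U := zpowers_le.mpr hv
  have hzc : zpowers v ≤ centralizer (A : Set G) := zpowers_le.mpr hc
  have h7 : ⁅P, zpowers v⁆ ≤ A := (le_inf (le_normalizer_iff_commutator_le_left.mp (hz.trans
    (hUN.trans hNP))) (commutator_le_centralizer_of_le_centralizer h4 hzc)).trans h6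
  have h8 := le_centralizer_of_commutator_le (coprime_of_pgroups hp2
    ((isPGroup_two_of_sq hU2).to_le hz) (hP.to_le h2)) h7 hzc (mem_zpowers v)
  have h9 : (⟨v, hUN hv⟩ : N) ∈ pCore p N := hG D hD hD1 (mem_centralizer_iff.mpr fun y hy =>
    Subtype.ext (mem_centralizer_iff.mp h8 y ⟨y, hy, rfl⟩))
  obtain ⟨k, hk⟩ := PG.exists_pow_prime_pow_eq_one hP (x := v) ⟨_, h9, rfl⟩
  exact hv1 (eq_one_of_inv hp2 hk (hU2 v hv))

end Cfsg.Lib.Char.KM
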