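import Cfsg.Agent.Char.KM2
import Cfsg.Agent.Trans.CriticalOmega

/-!
# Klinger–Mason III: pairs (elementary abelian `p`-group, involution centralizing it)
-/

set_option autoImplicit false

open scoped commutatorElement IsMulCommutative

namespace Cfsg.Lib.Char.KM

open Subgroup Cfsg.Lib.Solv Cfsg.Lib.Solv.Coprime

variable {G : Type*} [Group G]

/-- `D` is an elementary abelian `p`-group centralized by the involution `u`. -/
structure Pair (p : ℕ) (D : Subgroup G) (u : G) : Prop where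
  comm : IsMulCommutative D
  pow : ∀ d ∈ D, d ^ p = 1
  sq : u * u = 1
  ne : u ≠ 1
  cent : ∀ d ∈ D, d * u = u * d

/-- every `p`-local subgroup has characteristic `p`. -/
def LocChar (p : ℕ) (G : Type*) [Group G] : Prop :=
  ∀ T : Subgroup G, IsPGroup p T → T ≠ ⊥ →
    centralizer (pCore p ↥(normalizer (T : Set G)) : Set ↥(normalizer (T : Set G))) ≤
      pCore p ↥(normalizer (T : Set G))

theorem isPGroup_of_pow {p : ℕ} {D : Subgroup G} (h : ∀ d ∈ D, d ^ p = 1) : IsPGroup p D :=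
  PG.isPGroup_of_forall_mem fun x hx => ⟨1, by rw [pow_one, h x hx]⟩

theorem adjoin_elt [Finite G] {p : ℕ} [hp : Fact p.Prime] {A D : Subgroup G}
    (hA : IsMulCommutative A) (hDA : D ≤ A) (hD : ∀ d ∈ D, d ^ p = 1) {x : G} (hx : x ∈ A)
    (hxp : x ^ p = 1) (hxD : x ∉ D) :
    D ⊔ zpowers x ≤ A ∧ (∀ d ∈ D ⊔ zpowers x, d ^ p = 1) ∧
      Nat.card (D ⊔ zpowers x : Subgroup G) = p * Nat.card D ∧
      ∀ g : G, (∀ d ∈ D, d * g = g * d) → x * g = g * x → ∀ d ∈ D ⊔ zpowers x, d * g = g * d := by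
  have hz : zpowers x ≤ A := zpowers_le.mpr hx
  have hn : zpowers x ≤ normalizer (D : Set G) := hz.trans (le_normalizer_of_le_of_comm hDA)
  have hx1 : x ≠ 1 := fun e => hxD (e ▸ D.one_mem)
  have ho : orderOf x = p := orderOf_eq_prime hxp hx1
  refine ⟨sup_le hDA hz, fun d hd => ?_, ?_, fun g h1 h2 d hd => ?_⟩
  · obtain ⟨k, hk, s, ⟨n, rfl⟩, rfl⟩ := (mem_sup_iff hn).mp hd
    simp only
    rw [Commute.mul_pow (comm_of_mem hA (hDA hk) (zpow_mem hx n)), hD k hk, ← zpow_natCast,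
      ← zpow_mul, mul_comm n, zpow_mul, zpow_natCast, hxp, one_zpow, one_mul]
  · rw [card_sup hn, Nat.card_zpowers, ho, mul_comm]
    rw [disjoint_iff, inf_comm]
    have : Fact (Nat.card (zpowers x)).Prime := ⟨by rw [Nat.card_zpowers, ho]; exact hp.out⟩
    rcases (D.subgroupOf (zpowers x)).eq_bot_or_eq_top_of_prime_card with h | h
    · rw [subgroupOf_eq_bot, disjoint_iff, inf_comm] at h; exact h
    · rw [subgroupOf_eq_top] at h; exact absurd (h (mem_zpowers x)) hxD
  · have : D ⊔ zpowers x ≤ centralizer {g} := sup_le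
      (fun d hd => mem_centralizer_singleton_iff.mpr (h1 d hd))
      (zpowers_le.mpr (mem_centralizer_singleton_iff.mpr h2))
    exact mem_centralizer_singleton_iff.mp (this hd)

theorem closure_elem {S : Set G} (hc : ∀ x ∈ S, ∀ y ∈ S, x * y = y * x)
    (h2 : ∀ x ∈ S, x * x = 1) :
    IsMulCommutative (closure S) ∧ ∀ v ∈ closure S, v * v = 1 := by
  have h1 : ∀ x ∈ closure S, ∀ y ∈ closure S, x * y = y * x := by
    have h : closure S ≤ centralizer S := (closure_le _).mpr fun x hx =>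
      mem_centralizer_iff.mpr fun y hy => hc y hy x hx
    intro x hx y hy
    have h' : closure S ≤ centralizer {y} := (closure_le _).mpr fun z hz =>
      mem_centralizer_singleton_iff.mpr (mem_centralizer_iff.mp (h hy) z hz)
    exact mem_centralizer_singleton_iff.mp (h' hx)
  refine ⟨isMulCommutative_of h1, fun v hv => ?_⟩
  induction hv using closure_induction with
  | mem x hx => exact h2 x hx
  | one => simp
  | mul x y hx hy ihx ihy =>
    calc x * y * (x * y) = x * (y * x) * y := by group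
      _ = x * x * (y * y) := by rw [h1 y hy x hx]; group
      _ = 1 := by rw [ihx, ihy, one_mul]
  | inv x _ ih => rw [← mul_inv_rev, ih, inv_one]

theorem fix_or {x v w : G} (hv : v * x * v⁻¹ = x⁻¹) (hw : w * x * w⁻¹ = x ∨ w * x * w⁻¹ = x⁻¹) :
    ∃ a, (a = w ∨ a = v * w) ∧ x * a = a * x := by
  rcases hw with h | h
  · exact ⟨w, Or.inl rfl, by nth_rewrite 1 [← h]; group⟩
  · refine ⟨v * w, Or.inr rfl, ?_⟩
    have : v * w * x * (v * w)⁻¹ = x := by
      calc _ = v * (w * x * w⁻¹) * v⁻¹ := by group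
        _ = (v * x * v⁻¹)⁻¹ := by rw [h]; group
        _ = x := by rw [hv, inv_inv]
    nth_rewrite 1 [← this]; group

theorem not_comm_of_inv {p : ℕ} [hp : Fact p.Prime] (hp2 : p ≠ 2) {x v : G} (hx1 : x ≠ 1)
    (hx : x ^ p = 1) (hv : v * x * v⁻¹ = x⁻¹) : x * v ≠ v * x := fun h => by
  rw [← h, mul_inv_cancel_right] at hv
  exact hx1 (eq_one_of_inv hp2 (k := 1) (by rw [pow_one]; exact hx)
    (by nth_rewrite 1 [hv]; group))

theorem pair_of_four [Finite G] {p : ℕ} [hp : Fact p.Prime] (hp2 : p ≠ 2) (hG : LocChar p G)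
    {D : Subgroup G} {u w : G} (hD1 : D ≠ ⊥) (h : Pair p D u) (hw : w * w = 1) (hw1 : w ≠ 1)
    (hwu : w ≠ u) (hc : u * w = w * u) (hwD : ∀ d ∈ D, d * w = w * d) :
    ∃ (E : Subgroup G) (a : G), Pair p E a ∧ Nat.card E = p * Nat.card D := by
  obtain ⟨hU, hU2⟩ := closure_elem (S := {u, w})
    (by rintro x (rfl | rfl) y (rfl | rfl) <;> simp [hc]) (by rintro x (rfl | rfl); exacts [h.sq, hw])
  have hu : u ∈ closure ({u, w} : Set G) := subset_closure (by simp)
  have hw' : w ∈ closure ({u, w} : Set G) := subset_closure (by simp)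
  have hUD : closure ({u, w} : Set G) ≤ centralizer (D : Set G) := (closure_le _).mpr (by
    rintro x (rfl | rfl)
    exacts [mem_centralizer_iff.mpr h.cent, mem_centralizer_iff.mpr hwD])
  obtain ⟨A, hDA, hA, hx⟩ := dihedral_lemma hp2 hG (isPGroup_of_pow h.pow) h.comm hD1 hU hU2 hUD
  obtain ⟨x, hxA, hx1, hxp, hxu, hxe⟩ := hx u hu h.ne
  obtain ⟨a, ha, hax⟩ := fix_or hxu (hxe w hw')
  have haU : a ∈ closure ({u, w} : Set G) := by
    rcases ha with rfl | rfl
    exacts [hw', mul_mem hu hw']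
  obtain ⟨e1, e2, e3, e4⟩ := adjoin_elt hA hDA h.pow hxA hxp
    fun hd => not_comm_of_inv hp2 hx1 hxp hxu (h.cent x hd)
  refine ⟨_, a, ⟨isMulCommutative_of fun s hs t ht => comm_of_mem hA (e1 hs) (e1 ht), e2,
    hU2 a haU, ?_, e4 a (mem_centralizer_iff.mp (hUD haU)) hax⟩, e3⟩
  rcases ha with rfl | rfl
  · exact hw1
  · intro e; apply hwu; rw [← inv_eq_of_mul_eq_one_right e]; exact inv_eq_of_mul_eq_one_right h.sq

theorem pair_of_eight [Finite G] {p : ℕ} [hp : Fact p.Prime] (hp2 : p ≠ 2) (hG : LocChar p G)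
    {D : Subgroup G} {u w w' : G} (hD1 : D ≠ ⊥) (h : Pair p D u) (hw : w * w = 1)
    (hw' : w' * w' = 1) (hc : u * w = w * u) (hc' : u * w' = w' * u) (hc'' : w * w' = w' * w)
    (n1 : w ≠ 1) (n2 : w ≠ u) (n3 : w' ≠ 1) (n4 : w' ≠ u) (n5 : w * w' ≠ 1) (n6 : w * w' ≠ u)
    (hwD : ∀ d ∈ D, d * w = w * d) (hwD' : ∀ d ∈ D, d * w' = w' * d) :
    ∃ (E : Subgroup G) (a : G), Pair p E a ∧ Nat.card E = p * (p * Nat.card D) ∧ D ≤ E ∧
      a ∈ closure ({u, w, w'} : Set G) ∧ a ≠ u ∧ ∃ x ∈ E, x ≠ 1 ∧ u * x * u⁻¹ = x⁻¹ := by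
  obtain ⟨hU, hU2⟩ := closure_elem (S := {u, w, w'})
    (by rintro x (rfl | rfl | rfl) y (rfl | rfl | rfl) <;> simp [hc, hc', hc''])
    (by rintro x (rfl | rfl | rfl); exacts [h.sq, hw, hw'])
  set U := closure ({u, w, w'} : Set G) with hUdef
  have hu : u ∈ U := subset_closure (by simp)
  have hwU : w ∈ U := subset_closure (by simp)
  have hwU' : w' ∈ U := subset_closure (by simp)
  have hUD : U ≤ centralizer (D : Set G) := (closure_le _).mpr (by
    rintro x (rfl | rfl | rfl)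
    exacts [mem_centralizer_iff.mpr h.cent, mem_centralizer_iff.mpr hwD,
      mem_centralizer_iff.mpr hwD'])
  obtain ⟨A, hDA, hA, hx⟩ := dihedral_lemma hp2 hG (isPGroup_of_pow h.pow) h.comm hD1 hU hU2 hUD
  obtain ⟨x, hxA, hx1, hxp, hxu, hxe⟩ := hx u hu h.ne
  obtain ⟨b, hb, hbx⟩ := fix_or hxu (hxe w hwU)
  obtain ⟨c, hc0, hcx⟩ := fix_or hxu (hxe w' hwU')
  have hbU : b ∈ U := by
    rcases hb with rfl | rfl
    exacts [hwU, mul_mem hu hwU]
  have hcU : c ∈ U := by
    rcases hc0 with rfl | rfl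
    exacts [hwU', mul_mem hu hwU']
  have hui : ∀ t, u * t = 1 → t = u := fun t e => by
    rw [← inv_eq_of_mul_eq_one_right e]; exact inv_eq_of_mul_eq_one_right h.sq
  have hb1 : b ≠ 1 := by
    rcases hb with rfl | rfl
    exacts [n1, fun e => n2 (hui _ e)]
  have hc1 : c ≠ 1 := by
    rcases hc0 with rfl | rfl
    exacts [n3, fun e => n4 (hui _ e)]
  have hbc : b * c ≠ 1 := by
    rcases hb with rfl | rfl <;> rcases hc0 with rfl | rfl
    · exact n5
    · intro e; apply n6; apply hui; rw [← mul_assoc, hc, mul_assoc, e]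
    · intro e; apply n6; apply hui; rw [← mul_assoc, e]
    · intro e; apply n5
      rw [← e, ← mul_assoc, mul_assoc u w u, ← hc, ← mul_assoc, h.sq, one_mul]
  obtain ⟨y, hyA, hy1, hyp, hyb, hye⟩ := hx b hbU hb1
  obtain ⟨a, ha, hay⟩ := fix_or hyb (hye c hcU)
  have haU : a ∈ U := by
    rcases ha with rfl | rfl
    exacts [hcU, mul_mem hbU hcU]
  have hax : x * a = a * x := by
    rcases ha with rfl | rfl
    · exact hcx
    · rw [← mul_assoc, hbx, mul_assoc, hcx, mul_assoc]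
  obtain ⟨e1, e2, e3, e4⟩ := adjoin_elt hA hDA h.pow hxA hxp
    fun hd => not_comm_of_inv hp2 hx1 hxp hxu (h.cent x hd)
  obtain ⟨f1, f2, f3, f4⟩ := adjoin_elt hA e1 e2 hyA hyp
    fun hd => not_comm_of_inv hp2 hy1 hyp hyb
      (e4 b (mem_centralizer_iff.mp (hUD hbU)) hbx y hd)
  refine ⟨_, a, ⟨isMulCommutative_of fun s hs t ht => comm_of_mem hA (f1 hs) (f1 ht), f2,
    hU2 a haU, ?_, f4 a (e4 a (mem_centralizer_iff.mp (hUD haU)) hax) hay⟩, by rw [f3, e3],
    le_sup_left.trans le_sup_left, haU, fun e => not_comm_of_inv hp2 hx1 hxp hxu (e ▸ hax),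
    x, mem_sup_left (mem_sup_right (mem_zpowers x)), hx1, hxu⟩
  rcases ha with rfl | rfl
  exacts [hc1, hbc]

/-- The properties of a critical subgroup of `O₂(C(u))`. -/
structure Crit (u : G) (X : Subgroup G) : Prop where
  pgrp : IsPGroup 2 X
  cent : ∀ x ∈ X, x * u = u * x
  norm : ∀ g, g * u = u * g → g ∈ normalizer (X : Set G)
  four : ∀ x ∈ X, x ^ 4 = 1
  sq : ∀ x ∈ X, x ^ 2 ∈ centralizer (X : Set G)
  comm : ∀ x ∈ X, ∀ y ∈ X, ⁅x, y⁆ ∈ centralizer (X : Set G)
  faith : ∀ g, g * u = u * g → (orderOf g).Coprime 2 → g ∈ centralizer (X : Set G) → g = 1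

theorem exists_crit [Finite G] (hG : LocChar 2 G) {u : G} (hu : u * u = 1) (hu1 : u ≠ 1) :
    ∃ X, Crit u X := by
  have : Fact (Nat.Prime 2) := ⟨Nat.prime_two⟩
  set N := normalizer (zpowers u : Set G) with hN
  have hNu : ∀ g, g ∈ N ↔ g * u = u * g := fun g => by
    constructor
    · intro hg
      rcases mem_zpowers_sq hu ((mem_normalizer_iff.mp hg u).mp (mem_zpowers u)) with h | h
      · exact absurd (by simpa using h) hu1
      · nth_rewrite 2 [← h]; group
    · intro hg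
      exact centralizer_le_normalizer _ (mem_centralizer_iff.mpr (by
        rintro _ ⟨n, rfl⟩; exact (Commute.zpow_left hg.symm n).eq))
  set Q := (pCore 2 N).map N.subtype with hQ
  have hQp : IsPGroup 2 Q := isPGroup_map_pCore 2 N
  have hQN : Q ≤ N := map_subtype_le _
  have hNQ : N ≤ normalizer (Q : Set G) :=
    le_normalizer.trans (normalizer_le_normalizer_map_pCore 2 N)
  obtain ⟨Y, hY, h1, h2, h3, h4⟩ := Trans.exists_characteristic_critical_omega hQp
  have lift : ∀ y : Q, y ∈ centralizer (Y : Set Q) → (y : G) ∈ centralizer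
      ((Y.map Q.subtype : Subgroup G) : Set G) := fun y hy => mem_centralizer_iff.mpr (by
    rintro _ ⟨z, hz, rfl⟩
    exact congrArg Subtype.val (mem_centralizer_iff.mp hy z hz))
  refine ⟨Y.map Q.subtype, hQp.to_le (map_subtype_le _),
    fun x hx => (hNu x).mp (hQN (map_subtype_le _ hx)), fun g hg => ?_, ?_, ?_, ?_,
    fun g hg ho hc => ?_⟩
  · refine le_normalizer_of_conj (A := N) ?_ ((hNu g).mpr hg)
    rintro g hg _ ⟨y, hy, rfl⟩
    exact ⟨Q.normalizerMonoidHom ⟨g, hNQ hg⟩ y,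
      Trans.characteristic_iff_forall_mem.mp hY _ y hy, rfl⟩
  · rintro _ ⟨y, hy, rfl⟩
    have := h1 y hy
    rw [Trans.critExp_two] at this
    exact congrArg Subtype.val this
  · rintro _ ⟨y, hy, rfl⟩
    exact lift _ (h2 y hy)
  · rintro _ ⟨y, hy, rfl⟩ _ ⟨z, hz, rfl⟩
    exact lift _ (h3 (commutator_mem_commutator hy (mem_top z))).2
  · have hgN := (hNu g).mpr hg
    have e := h4 (Q.normalizerMonoidHom ⟨g, hNQ hgN⟩) (Nat.Coprime.coprime_dvd_left
      ((orderOf_map_dvd _ _).trans (by rw [← orderOf_coe])) ho) fun d hd => Subtype.ext (by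
        change g * d * g⁻¹ = d
        rw [← mem_centralizer_iff.mp hc d ⟨d, hd, rfl⟩, mul_inv_cancel_right])
    have h9 : (⟨g, hgN⟩ : N) ∈ pCore 2 N := hG _ (isPGroup_two_of_sq fun v hv => by
      rcases mem_zpowers_sq hu hv with rfl | rfl
      exacts [one_mul _, hu]) (by simpa using hu1) (mem_centralizer_iff.mpr fun y hy =>
        Subtype.ext (by
          have := congrArg Subtype.val (DFunLike.congr_fun e ⟨y, y, hy, rfl⟩)
          change g * y * g⁻¹ = y at this
          change y * g = g * y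
          nth_rewrite 1 [← this]; group))
    obtain ⟨k, hk⟩ := PG.exists_pow_prime_pow_eq_one hQp (x := g) ⟨_, h9, rfl⟩
    exact orderOf_eq_one_iff.mp (Nat.eq_one_of_dvd_coprimes (ho.pow_right k) dvd_rfl
      (orderOf_dvd_of_pow_eq_one hk))

end Cfsg.Lib.Char.KM
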