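import Cfsg.Agent.Char.KM4

/-!
# Klinger–Mason V: there is no maximal pair of rank at least three
-/

set_option autoImplicit false
set_option linter.unusedSectionVars false

open scoped commutatorElement IsMulCommutative

namespace Cfsg.Lib.Char.KM

open Subgroup Cfsg.Lib.Solv Cfsg.Lib.Solv.Coprime

variable {G : Type*} [Group G] [Finite G] {p : ℕ} [hp : Fact p.Prime] (hp2 : p ≠ 2)
  (hG : LocChar p G) {D : Subgroup G} {u : G} (h : MaxP p D u) {X : Subgroup G} (hX : Crit u X)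
include hp2 hG h hX

theorem MaxP.exists_second : ∃ (D2 E : Subgroup G) (a : G), D2 ≤ D ∧ D2 ≠ ⊥ ∧ D2 ≤ E ∧
    MaxP p E a ∧ a ∈ X ∧ a ≠ u ∧ ∃ x ∈ E, x ≠ 1 ∧ u * x * u⁻¹ = x⁻¹ := by
  have := h.comm
  have hex : ∀ H : Subgroup G, H ≤ D → H ≠ ⊥ → ∃ B : Subgroup G, B ≤ D ∧ B.relIndex D = p ∧
      ¬ (X ⊓ centralizer (B : Set G) ≤ centralizer (H : Set G)) := fun H hH hH1 => by
    by_contra! hn
    exact h.not_cent hp2 hG hX hH hH1 (le_of_forall_hyperplane h.pow h.ne_bot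
      (h.norm hp2 hG hX) (h.cop hp2 hG hX le_rfl le_rfl) hn)
  obtain ⟨E, hE, hEi, hEn⟩ := hex D le_rfl h.ne_bot
  obtain ⟨F, hF, hFi, hFn⟩ := hex E hE (h.ne_bot_hyp hE hEi)
  have hEF : ¬ E ≤ F := fun hle => hFn (inf_le_right.trans (centralizer_le hle))
  have hFE : ¬ F ≤ E := fun hle => hEF (by
    have h1 := card_of_relIndex hE
    have h2 := card_of_relIndex hF
    rw [hEi] at h1; rw [hFi, h1] at h2
    exact (eq_of_le_of_card_ge hle (Nat.eq_of_mul_eq_mul_left hp.out.pos h2).le).ge)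
  obtain ⟨x1, hx1, y1, hy1, s1, t1, b1⟩ := h.quat hp2 hG hX hE hF hEi hFE hEn
  obtain ⟨x2, hx2, y2, hy2, s2, t2, b2⟩ := h.quat hp2 hG hX hF hE hFi hEF
    fun hc => hFn (hc.trans (centralizer_le hE))
  have nle : ∀ A B : Subgroup G, A ≤ D → B ≤ D →
      ⁅X ⊓ centralizer (A : Set G), B⁆ ≤ X ⊓ centralizer (A : Set G) := fun A B hA hB =>
    commutator_le.mpr fun x hx d hd => by
      have hd' : d ∈ centralizer (A : Set G) :=
        mem_centralizer_iff.mpr fun e he => comm_of_mem h.comm (hA he) (hB hd)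
      have e : ⁅x, d⁆ = x * (d * x⁻¹ * d⁻¹) := by rw [commutatorElement_def]; group
      refine ⟨e ▸ X.mul_mem hx.1 ((mem_normalizer_iff.mp (h.norm hp2 hG hX (hB hd)) _).mp
        (X.inv_mem hx.1)), ?_⟩
      have hx2 : x ∈ centralizer (A : Set G) := hx.2
      rw [commutatorElement_def]
      exact (centralizer (A : Set G)).mul_mem (mul_mem (mul_mem hx2 hd') (inv_mem hx2)) (inv_mem hd')
  have m1 := nle E F hE hF hx1
  have m2 := nle E F hE hF hy1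
  have m3 := nle F E hF hE hx2
  have m4 := nle F E hF hE hy2
  have cr : ∀ s ∈ ⁅X ⊓ centralizer (E : Set G), F⁆, ∀ t ∈ X ⊓ centralizer (F : Set G),
      bb s t = 0 := fun s hs t ht => bb_eq_zero.mpr (mem_centralizer_singleton_iff.mp
        (h.comm_cent hp2 hG hX hF ht.1 ht.2 (commutator_mono inf_le_left le_rfl hs)))
  have c11 := cr x1 hx1 x2 m3
  have c12 := cr x1 hx1 y2 m4
  have c21 := cr y1 hy1 x2 m3
  have c22 := cr y1 hy1 y2 m4
  have add := h.add hp2 hG hX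
  have mw := X.mul_mem m1.1 m3.1
  have mw' := X.mul_mem m2.1 m4.1
  have sq2 : ∀ s t : G, s * s = u → t * t = u → bb s t = 0 → s * t * (s * t) = 1 :=
    fun s t hs ht hb => by
      calc _ = s * (t * s) * t := by group
        _ = s * s * (t * t) := by rw [← bb_eq_zero.mp hb]; group
        _ = 1 := by rw [hs, ht, h.sq]
  have ne1 : ∀ s, ∀ t ∈ X, bb s t = 1 → s ≠ 1 ∧ s ≠ u := fun s t ht hb =>
    ⟨fun e => bb_eq_one.mp hb (by simp [e]), fun e => bb_eq_one.mp hb (e ▸ (hX.cent t ht).symm)⟩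
  have k1 : bb (x1 * x2) y1 = 1 := by rw [add _ m1.1 _ m3.1 _ m2.1, b1, bb_symm, c21]; rfl
  have k2 : bb (y1 * y2) x1 = 1 := by
    rw [add _ m2.1 _ m4.1 _ m1.1, bb_symm, b1, bb_symm, c12]; rfl
  have k3 : bb (x1 * x2 * (y1 * y2)) x1 = 1 := by
    rw [add _ mw _ mw' _ m1.1, k2, add _ m1.1 _ m3.1 _ m1.1, bb_self, bb_symm, c11]; rfl
  have k4 : bb (x1 * x2) (y1 * y2) = 0 := by
    rw [add _ m1.1 _ m3.1 _ mw', bb_symm x1, k2, bb_symm, add _ m2.1 _ m4.1 _ m3.1, c21, bb_symm,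
      b2]; rfl
  have hD2 : Nat.card D ≤ p * (p * Nat.card (E ⊓ F : Subgroup G)) := by
    have := relIndex_inf_le (H := E) (K := F) (L := D)
    rw [hEi, hFi] at this
    rw [card_of_relIndex (inf_le_left.trans hE : E ⊓ F ≤ D), ← mul_assoc]
    exact Nat.mul_le_mul_right _ this
  have cc : ∀ s ∈ X ⊓ centralizer (E : Set G), ∀ t ∈ X ⊓ centralizer (F : Set G),
      s * t ∈ centralizer ((E ⊓ F : Subgroup G) : Set G) := fun s hs t ht =>
    mul_mem (centralizer_le (s := ((E ⊓ F : Subgroup G) : Set G)) (fun _ h => h.1) hs.2)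
      (centralizer_le (s := ((E ⊓ F : Subgroup G) : Set G)) (fun _ h => h.2) ht.2)
  have hle : E ⊓ F ≤ D := inf_le_left.trans hE
  obtain ⟨D', a, h1, h2, h3, h4, h5, h6⟩ := pair_of_eight hp2 hG (h.ne_bot_of hD2)
    (⟨isMulCommutative_of fun s hs t ht => comm_of_mem h.comm (hle hs) (hle ht),
      fun s hs => h.pow s (hle hs), h.sq, h.ne, fun s hs => h.cent s (hle hs)⟩ :
        Pair p (E ⊓ F) u)
    (sq2 _ _ s1 s2 c11) (sq2 _ _ t1 t2 c22) (hX.cent _ mw).symm (hX.cent _ mw').symm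
    (bb_eq_zero.mp k4) (ne1 _ _ m2.1 k1).1 (ne1 _ _ m2.1 k1).2 (ne1 _ _ m1.1 k2).1
    (ne1 _ _ m1.1 k2).2 (ne1 _ _ m1.1 k3).1 (ne1 _ _ m1.1 k3).2
    (mem_centralizer_iff.mp (cc _ m1 _ m3)) (mem_centralizer_iff.mp (cc _ m2 _ m4))
  refine ⟨E ⊓ F, D', a, hle, h.ne_bot_of hD2, h3, ⟨h1, fun B c hB => (h.max B c hB).trans
    (h2 ▸ hD2), h.big.trans (h2 ▸ hD2)⟩, ?_, h5, h6⟩
  refine (closure_le X).mpr ?_ h4
  rintro x (rfl | rfl | rfl)
  exacts [h.mem hp2 hG hX, mw, mw']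

/-- an involution inverting an element of `D` acts nontrivially on `X / Z(X)`. -/
theorem MaxP.not_triv {v x : G} (hv : v * u = u * v) (hx : x ∈ D) (hx1 : x ≠ 1)
    (hvx : v * x * v⁻¹ = x⁻¹) : ¬ ∀ y ∈ X, ∀ w ∈ X, bb (v * y * v⁻¹) w = bb y w := fun ht => by
  have add := h.add hp2 hG hX
  have hxn := h.norm hp2 hG hX hx
  have hvn := hX.norm v hv
  have key : ∀ y ∈ X, ∀ w ∈ X, bb (x * x * y * (x * x)⁻¹) w = bb y w := fun y hy w hw => by
    have e : x * x * y * (x * x)⁻¹ = x * (v * (x⁻¹ * (v⁻¹ * y * v⁻¹⁻¹) * x⁻¹⁻¹) * v⁻¹) * x⁻¹ := by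
      calc _ = x * (v * x * v⁻¹)⁻¹ * y * (v * x * v⁻¹) * x⁻¹ := by rw [hvx]; group
        _ = _ := by group
    have e' : w = x * (x⁻¹ * w * x⁻¹⁻¹) * x⁻¹ := by group
    have hy1 := (mem_normalizer_iff.mp (inv_mem hvn) y).mp hy
    rw [e, e', bb_conj, ht _ ((mem_normalizer_iff.mp (inv_mem hxn) _).mp hy1) _
      ((mem_normalizer_iff.mp (inv_mem hxn) _).mp hw), bb_conj, ← ht _ hy1 _ hw, ← e']
    congr 1; group
  have hz : zpowers (x * x) ≤ D := zpowers_le.mpr (mul_mem hx hx)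
  let T : Subgroup G :=
    { carrier := {g | g ∈ normalizer (X : Set G) ∧ ∀ y ∈ X, ∀ w ∈ X, bb (g * y * g⁻¹) w = bb y w}
      one_mem' := ⟨one_mem _, by simp⟩
      mul_mem' := fun {a c} ha hc => ⟨mul_mem ha.1 hc.1, fun y hy w hw => by
        rw [← hc.2 y hy w hw, ← ha.2 _ ((mem_normalizer_iff.mp hc.1 y).mp hy) w hw]
        congr 1; group⟩
      inv_mem' := fun {a} ha => ⟨inv_mem ha.1, fun y hy w hw => by
        rw [← ha.2 _ ((mem_normalizer_iff.mp (inv_mem ha.1) y).mp hy) w hw]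
        congr 1; group⟩ }
  have hT : zpowers (x * x) ≤ T := zpowers_le.mpr ⟨mul_mem hxn hxn, key⟩
  have h1 : ⁅X, zpowers (x * x)⁆ ≤ X ⊓ centralizer (X : Set G) := commutator_le.mpr
    fun y hy g hg => by
      have e : ⁅y, g⁆ = y * (g * y⁻¹ * g⁻¹) := by rw [commutatorElement_def]; group
      have hm := (mem_normalizer_iff.mp (hT hg).1 _).mp (inv_mem hy)
      refine ⟨e ▸ mul_mem hy hm, mem_centralizer_iff.mpr fun w hw => (bb_eq_zero.mp ?_).symm⟩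
      rw [e, add _ hy _ hm w hw, (hT hg).2 _ (inv_mem hy) w hw, h.binv hp2 hG hX hy hw,
        z2_add_self]
  have h2 := le_centralizer_of_commutator_le (h.cop hp2 hG hX hz inf_le_left) h1
    (hz.trans (h.cent_center hp2 hG hX)) (mem_zpowers _)
  exact hx1 (eq_one_of_inv hp2 (k := 1) (by rw [pow_one]; exact h.pow x hx)
    (h.faith hp2 hG hX (mul_mem hx hx) h2))

/-- the intersection of the two critical subgroups. -/
theorem MaxP.inter {a : G} {Y : Subgroup G} (hY : Crit a Y) (haX : a ∈ X) (haY : a ∈ Y)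
    (ha2 : a * a = 1) (hu : u ∉ Y) {n : G} (hn : n ∈ X) (hn' : n ∈ Y) :
    n = 1 ∨ n = a := by
  have add := h.add hp2 hG hX
  have c1 : ∀ y ∈ X, bb a y = 0 → bb n y = 0 := fun y hy hb => by
    by_contra hc
    apply hu
    rw [← h.comm_eq hp2 hG hX hn hy fun e => hc (bb_eq_zero.mpr e)]
    have e : ⁅n, y⁆ = n * (y * n⁻¹ * y⁻¹) := by rw [commutatorElement_def]; group
    rw [e]
    exact mul_mem hn' ((mem_normalizer_iff.mp (hY.norm y (bb_eq_zero.mp hb).symm) _).mp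
      (inv_mem hn'))
  have c2 : ∀ z ∈ X, z ∈ Y → (∀ y ∈ X, bb z y = 0) → z = 1 := fun z hz hz' hc => by
    have hz2 : z * z = 1 := (h.sq_or hp2 hG hX hz).resolve_right
      fun e => hu (e ▸ mul_mem hz' hz')
    exact (h.center_invol hp2 hG hX hz (mem_centralizer_iff.mpr fun y hy =>
      (bb_eq_zero.mp (hc y hy)).symm) hz2).resolve_right fun e => hu (e ▸ hz')
  have z01 : ∀ t : ZMod 2, t ≠ 0 → t = 1 := by decide
  by_cases hc : ∀ y ∈ X, bb n y = 0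
  · exact Or.inl (c2 n hn hn' hc)
  push Not at hc
  obtain ⟨t, ht, hnt⟩ := hc
  have hat : bb a t = 1 := z01 _ fun e => hnt (c1 t ht e)
  have := c2 (n * a) (mul_mem hn haX) (mul_mem hn' haY) fun y hy => by
    rw [add _ hn _ haX y hy]
    by_cases hb : bb a y = 0
    · rw [hb, c1 y hy hb, add_zero]
    · have e := c1 (y * t) (mul_mem hy ht) (by
        rw [bb_symm, add _ hy _ ht _ haX, bb_symm, z01 _ hb, bb_symm, hat]; rfl)
      rw [bb_symm, add _ hy _ ht _ hn, bb_symm, bb_symm t, z01 _ hnt] at e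
      rw [z01 _ hb, e]
  right
  rw [← inv_eq_of_mul_eq_one_right ha2]; exact eq_inv_of_mul_eq_one_left this

/-- the fixed points of `v` on `X / Z(X)` that lift to fixed points have index at most two. -/
theorem MaxP.index_two {v : G} (hv : v * u = u * v) (hv2 : v * v = 1) {x y : G} (hx : x ∈ X)
    (hy : y ∈ X) (h1 : ∀ w ∈ X, bb (v * x * v⁻¹) w = bb x w)
    (h2 : ∀ w ∈ X, bb (v * y * v⁻¹) w = bb y w)
    (n1 : ¬ ∃ r ∈ X, r * v = v * r ∧ ∀ w ∈ X, bb x w = bb r w)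
    (n2 : ¬ ∃ r ∈ X, r * v = v * r ∧ ∀ w ∈ X, bb y w = bb r w) :
    ∃ r ∈ X, r * v = v * r ∧ ∀ w ∈ X, bb (x * y) w = bb r w := by
  have add := h.add hp2 hG hX
  have hvn := hX.norm v hv
  have cm : ∀ x ∈ X, v * x * v⁻¹ * x⁻¹ ∈ X := fun x hx =>
    mul_mem ((mem_normalizer_iff.mp hvn x).mp hx) (inv_mem hx)
  have cz : ∀ x ∈ X, (∀ w ∈ X, bb (v * x * v⁻¹) w = bb x w) →
      ∀ w ∈ X, bb (v * x * v⁻¹ * x⁻¹) w = 0 := fun x hx h1 w hw => by
    rw [add _ ((mem_normalizer_iff.mp hvn x).mp hx) _ (inv_mem hx) w hw, h1 w hw,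
      h.binv hp2 hG hX hx hw, z2_add_self]
  have cmul : ∀ x ∈ X, ∀ y ∈ X, (∀ w ∈ X, bb (v * y * v⁻¹ * y⁻¹) w = 0) →
      v * (x * y) * v⁻¹ * (x * y)⁻¹ = v * x * v⁻¹ * x⁻¹ * (v * y * v⁻¹ * y⁻¹) :=
    fun x hx y hy hz => by
      calc _ = v * x * v⁻¹ * ((v * y * v⁻¹ * y⁻¹) * x⁻¹) := by group
        _ = _ := by rw [bb_eq_zero.mp (hz _ (inv_mem hx))]; group
  have fix : ∀ r, v * r * v⁻¹ * r⁻¹ = 1 → r * v = v * r := fun r hr => by
    rw [mul_inv_eq_one, mul_inv_eq_iff_eq_mul] at hr; exact hr.symm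
  have R0 : ∀ x ∈ X, v * x * v⁻¹ * x⁻¹ = 1 → ∃ r ∈ X, r * v = v * r ∧ ∀ w ∈ X, bb x w = bb r w :=
    fun x hx hc => ⟨x, hx, fix x hc, fun _ _ => rfl⟩
  have cen : ∀ z, (∀ w ∈ X, bb z w = 0) → z ∈ centralizer (X : Set G) := fun z hz =>
    mem_centralizer_iff.mpr fun w hw => (bb_eq_zero.mp (hz w hw)).symm
  by_cases hz : ∃ z ∈ X, (∀ w ∈ X, bb z w = 0) ∧ v * z * v⁻¹ * z⁻¹ = u
  · obtain ⟨z, hz, hz0, hzu⟩ := hz
    have R1 : ∀ x ∈ X, v * x * v⁻¹ * x⁻¹ = u →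
        ∃ r ∈ X, r * v = v * r ∧ ∀ w ∈ X, bb x w = bb r w := fun x hx hc =>
      ⟨x * z, mul_mem hx hz, fix _ (by
        rw [cmul x hx z hz (fun w hw => by rw [hzu]; exact bb_eq_zero.mpr (hX.cent w hw).symm),
          hc, hzu, h.sq]), fun w hw => by rw [add x hx z hz w hw, hz0 w hw, add_zero]⟩
    have sq : ∀ x ∈ X, (∀ w ∈ X, bb (v * x * v⁻¹) w = bb x w) →
        (¬ ∃ r ∈ X, r * v = v * r ∧ ∀ w ∈ X, bb x w = bb r w) →
        (v * x * v⁻¹ * x⁻¹) * (v * x * v⁻¹ * x⁻¹) = u := fun x hx h1 n1 =>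
      (h.sq_or hp2 hG hX (cm x hx)).resolve_left fun e =>
        (h.center_invol hp2 hG hX (cm x hx) (cen _ (cz x hx h1)) e).elim
          (fun e => n1 (R0 x hx e)) fun e => n1 (R1 x hx e)
    have e := cmul x hx y hy (cz y hy h2)
    have hxy := mul_mem hx hy
    have := h.center_invol hp2 hG hX (cm _ hxy) (by
      rw [e]; exact mul_mem (cen _ (cz x hx h1)) (cen _ (cz y hy h2))) (by
      rw [e]
      have c := bb_eq_zero.mp (cz y hy h2 _ (cm x hx))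
      calc _ = (v * x * v⁻¹ * x⁻¹) * ((v * y * v⁻¹ * y⁻¹) * (v * x * v⁻¹ * x⁻¹)) *
            (v * y * v⁻¹ * y⁻¹) := by simp only [mul_assoc]
        _ = (v * x * v⁻¹ * x⁻¹) * (v * x * v⁻¹ * x⁻¹) *
            ((v * y * v⁻¹ * y⁻¹) * (v * y * v⁻¹ * y⁻¹)) := by rw [c]; simp only [mul_assoc]
        _ = 1 := by rw [sq x hx h1 n1, sq y hy h2 n2, h.sq])
    exact this.elim (R0 _ hxy) (R1 _ hxy)
  · have eq : ∀ x ∈ X, (∀ w ∈ X, bb (v * x * v⁻¹) w = bb x w) →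
        (¬ ∃ r ∈ X, r * v = v * r ∧ ∀ w ∈ X, bb x w = bb r w) →
        v * x * v⁻¹ * x⁻¹ = u := fun x hx h1 n1 => by
      rcases h.sq_or hp2 hG hX (cm x hx) with e | e
      · exact (h.center_invol hp2 hG hX (cm x hx) (cen _ (cz x hx h1)) e).resolve_left
          fun e => n1 (R0 x hx e)
      · exfalso
        refine hz ⟨_, cm x hx, cz x hx h1, ?_⟩
        have c := bb_eq_zero.mp (cz x hx h1 x hx)
        have e1 : v * (v * x * v⁻¹ * x⁻¹) * v⁻¹ = (v * x * v⁻¹ * x⁻¹)⁻¹ := by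
          calc _ = (v * v) * x * (v * v)⁻¹ * (v * x * v⁻¹)⁻¹ := by group
            _ = _ := by rw [hv2]; group
        rw [e1, ← mul_inv_rev, e]
        exact inv_eq_of_mul_eq_one_right h.sq
    refine R0 _ (mul_mem hx hy) ?_
    rw [cmul x hx y hy (cz y hy h2), eq x hx h1 n1, eq y hy h2 n2, h.sq]

omit hX in
theorem MaxP.false (hG2 : LocChar 2 G) : False := by
  obtain ⟨X, hX⟩ := exists_crit hG2 h.sq h.ne
  obtain ⟨D2, E, a, hD2, hD21, hD2E, h', haX, -, x, hx, hx1, hux⟩ := h.exists_second hp2 hG hX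
  obtain ⟨Y, hY⟩ := exists_crit hG2 h'.sq h'.ne
  have hua : u * a = a * u := (hX.cent a haX).symm
  have nt := h'.not_triv hp2 hG hY hua hx hx1 hux
  have add := h'.add hp2 hG hY
  have huY : u ∉ Y := fun hu => nt fun y hy w hw => by
    rw [add _ (mul_mem hu hy) _ (inv_mem hu) w hw, add _ hu _ hy w hw, h'.binv hp2 hG hY hu hw]
    linear_combination z2_add_self (bb u w)
  have hle : ⁅X, D2⁆ ≤ X := le_normalizer_iff_commutator_le_left.mp (hD2.trans (h.norm hp2 hG hX))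
  have hKa : ∀ k ∈ ⁅X, D2⁆, k * a = a * k := fun k hk => mem_centralizer_singleton_iff.mp
    (h.comm_cent hp2 hG hX hD2 haX (mem_centralizer_iff.mpr fun d hd => h'.cent d (hD2E hd)) hk)
  obtain ⟨k, hk, k', hk', hn⟩ := h.nonab hp2 hG hX le_rfl hD2 (h.norm hp2 hG hX)
    (h.not_cent hp2 hG hX hD2 hD21)
  have hc := core Y bb add bb_symm bb_self bb_conj u h.sq ⁅X, D2⁆ D2 (hY.norm u hua)
    (fun k hk => hY.norm k (hKa k hk)) (hD2E.trans (h'.norm hp2 hG hY))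
    (fun k hk => hX.cent k (hle hk)) (fun d hd => h.cent d (hD2 hd))
    (fun d hd k hk => by
      have e : d * k * d⁻¹ = ⁅k, d⁆⁻¹ * k := by simp only [commutatorElement_def]; group
      rw [e]; exact mul_mem (inv_mem (commutator_mem_commutator (hle hk) hd)) hk)
    (commutator_commutator (hD2.trans (h.norm hp2 hG hX)) (h.cop hp2 hG hX hD2 le_rfl)).ge
    (fun x => ∃ r ∈ Y, r * u = u * r ∧ ∀ w ∈ Y, bb x w = bb r w)
    (fun x _ y _ ⟨r, h1, h2, h3⟩ h4 => ⟨r, h1, h2, fun w hw => by rw [← h4 w hw, h3 w hw]⟩)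
    (fun x hx y hy h1 h2 n1 n2 => h'.index_two hp2 hG hY hua h.sq hx hy h1 h2 n1 n2)
    (fun k hk x _ ⟨r, h1, h2, h3⟩ w hw => by
      have hkn := hY.norm k (hKa k hk)
      have e' : w = k * (k⁻¹ * w * k⁻¹⁻¹) * k⁻¹ := by group
      have hw' := (mem_normalizer_iff.mp (inv_mem hkn) _).mp hw
      have m1 : k * r * k⁻¹ * r⁻¹ ∈ Y := mul_mem ((mem_normalizer_iff.mp hkn _).mp h1) (inv_mem h1)
      have m2 : k * r * k⁻¹ * r⁻¹ ∈ X := by
        rw [mul_assoc k, mul_assoc k]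
        exact mul_mem (hle hk) ((mem_normalizer_iff.mp (hX.norm r h2) _).mp (inv_mem (hle hk)))
      have b0 : bb (k * r * k⁻¹ * r⁻¹) w = 0 := by
        rcases h.inter hp2 hG hX hY haX (h'.mem hp2 hG hY) h'.sq huY m2 m1 with e | e
        · rw [e]; exact bb_eq_zero.mpr (by simp)
        · rw [e]; exact bb_eq_zero.mpr (hY.cent w hw).symm
      have e1 : bb (k * x * k⁻¹) w = bb (k * r * k⁻¹) w := by
        rw [e', bb_conj, bb_conj, h3 _ hw']
      rw [e1, h3 w hw, ← inv_mul_cancel_right (k * r * k⁻¹) r, add _ m1 _ h1 w hw, b0, zero_add])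
    (fun g hg hgu x _ ⟨r, h1, h2, h3⟩ => ⟨g * r * g⁻¹, (mem_normalizer_iff.mp hg _).mp h1, by
      have c1 : Commute g u := hgu
      have c2 : Commute r u := h2
      exact ((c1.mul_left c2).mul_left c1.inv_left).eq, fun w hw => by
      have e' : w = g * (g⁻¹ * w * g⁻¹⁻¹) * g⁻¹ := by group
      rw [e', bb_conj, bb_conj, h3 _ ((mem_normalizer_iff.mp (inv_mem hg) _).mp hw)]⟩)
  refine nt fun y hy w hw => ?_
  have hn' : (k' * k)⁻¹ ∈ normalizer (Y : Set G) :=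
    inv_mem (hY.norm _ (hKa _ (mul_mem hk' hk)))
  have := hc k hk k' hk' _ ((mem_normalizer_iff.mp hn' y).mp hy) w hw
  rw [← h.comm_eq hp2 hG hX (hle hk) (hle hk') hn, commutatorElement_def]
  convert this using 2 <;> group

end Cfsg.Lib.Char.KM
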