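import Cfsg.Agent.Char.McKayNormal
import Cfsg.Agent.Solv.SylowNumber
import Cfsg.Agent.Solv.CoprimeSylow
import Cfsg.Agent.Solv.PSolvable

/-!
# The McKay conjecture for `p`-solvable groups (relative form)
-/

set_option autoImplicit false

open scoped ComplexConjugate commutatorElement Pointwise
open Cfsg

namespace Cfsg.Lib.Char

universe u

section Partition

variable {G : Type u} [Group G] [Finite G] {p : ℕ} [hp : Fact p.Prime] (S : Sylow p G)

omit [Finite G] in
theorem cnt_top (q : ℕ) (L : Subgroup G) (ν : L → ℂ) :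
    cnt q (Subgroup.inclusion (le_top : L ≤ ⊤)) ν = cnt q L.subtype ν :=
  cnt_congr q Subgroup.topEquiv (MulEquiv.refl L) (fun _ => rfl) (fun _ => rfl)

omit [Finite G] in
theorem cnt_inclusion_congr (q : ℕ) {L X Y : Subgroup G} (h : X = Y) (hX : L ≤ X) (hY : L ≤ Y)
    (ν : L → ℂ) : cnt q (Subgroup.inclusion hX) ν = cnt q (Subgroup.inclusion hY) ν := by
  subst h; rfl

omit [Finite G] in
theorem over_conjChar {K X : Subgroup G} [K.Normal] (hKX : K ≤ X) {χ : X → ℂ}
    (hχ : IsClassFunction X χ) {θ : K → ℂ} {x : G} (hx : x ∈ X) :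
    Over (Subgroup.inclusion hKX) χ (conjChar K θ x) ↔ Over (Subgroup.inclusion hKX) χ θ :=
  Over.of_conj hχ (MulAut.conjNormal x) (g := ⟨x, hx⟩) (fun _ => rfl) (fun _ => rfl)

/-- a character of `p'`-degree lies over an `S`-invariant character of a normal subgroup -/
theorem exists_sylow_inv_under {K X : Subgroup G} [K.Normal] (hKX : K ≤ X)
    (hSX : (S : Subgroup G) ≤ X) {χ : X → ℂ} (hχ : IsIrrCharacter X χ) (hd : ¬ p ∣ charDegree χ) :
    ∃ θ, IsIrrCharacter K θ ∧ (S : Subgroup G) ≤ inertia K θ ∧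
      Over (Subgroup.inclusion hKX) χ θ := by
  have := Fintype.ofFinite K
  obtain ⟨θ, h1, h2⟩ := exists_over (Subgroup.inclusion hKX) hχ
  have h3 : ¬ p ∣ (inertia K θ).relIndex X := by
    intro h
    have h4 := clifford_degree_le hKX hχ h1 ((over_inclusion_iff hKX).1 h2)
    obtain ⟨e, he⟩ := (hχ.isCharacter.res_le hKX).exists_nat_classInner h1.isCharacter
    rw [he, Deg.apply_one_eq hχ.isCharacter, Deg.apply_one_eq h1.isCharacter] at h4
    have h5 : charDegree χ = e * (inertia K θ).relIndex X * charDegree θ := by exact_mod_cast h4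
    exact hd (h5 ▸ (h.mul_left e).mul_right _)
  obtain ⟨P, -, hP1, hP2, hP3⟩ := Solv.Coprime.exists_le_sylow_ambient (p := p)
    (K := inertia K θ ⊓ X) (U := ⊥) bot_le IsPGroup.of_bot
  obtain ⟨x, hx, hxP⟩ := Solv.Coprime.exists_conj_eq_of_sylow hSX S.isPGroup'
    (not_dvd_relIndex_of_sylow_le S le_rfl hSX) (hP1.trans inf_le_right) hP2 (by
      rw [← Subgroup.relIndex_mul_relIndex _ _ _ hP1 inf_le_right, hp.out.dvd_mul,
        Subgroup.inf_relIndex_right]
      tauto)
  refine ⟨conjChar K θ x, h1.conjChar x, fun s hs => mem_inertia_conjChar.2 ?_,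
    (over_conjChar hKX hχ.isClassFunction hx).2 h2⟩
  exact (hP1 (hxP ▸ Solv.conj_mem_conj_smul x hs)).1

/-- two `S`-invariant constituents are conjugate under the normalizer of `S` -/
theorem exists_normalizer_conjChar {K X : Subgroup G} [K.Normal] (hKX : K ≤ X)
    {χ : X → ℂ} (hχ : IsIrrCharacter X χ) {θ θ' : K → ℂ} (hθ : IsIrrCharacter K θ)
    (hθ' : IsIrrCharacter K θ') (h1 : (S : Subgroup G) ≤ inertia K θ)
    (h2 : (S : Subgroup G) ≤ inertia K θ') (h3 : Over (Subgroup.inclusion hKX) χ θ)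
    (h4 : Over (Subgroup.inclusion hKX) χ θ') :
    ∃ n ∈ Subgroup.normalizer ((S : Subgroup G) : Set G), conjChar K θ n = θ' := by
  have := Fintype.ofFinite K
  obtain ⟨g, -, rfl⟩ := exists_conjChar_eq_of_lies_over_le hKX hχ hθ hθ'
    ((over_inclusion_iff hKX).1 h3) ((over_inclusion_iff hKX).1 h4)
  obtain ⟨h, hh, n, hn, rfl⟩ := Solv.exists_mem_mul_normalizer_sylow S h1 (g := g)
    (Solv.conj_smul_le_iff.2 fun s hs => mem_inertia_conjChar.1 (h2 hs))
  exact ⟨n, hn, (conjChar_mul_of_mem hh n).symm⟩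

theorem cnt_eq_of_forall_inv {L K X Y : Subgroup G} [L.Normal] [K.Normal] (hLK : L ≤ K)
    (hKX : K ≤ X) (hKY : K ≤ Y) (hX : Subgroup.normalizer ((S : Subgroup G) : Set G) ≤ X)
    (hY : Subgroup.normalizer ((S : Subgroup G) : Set G) ≤ Y) {ν : L → ℂ}
    (hν : IsIrrCharacter L ν) (hinv : ∀ g, InvBy L.subtype ν g)
    (h : ∀ θ, IsIrrCharacter K θ → (S : Subgroup G) ≤ inertia K θ →
      cnt p (Subgroup.inclusion hKX) θ = cnt p (Subgroup.inclusion hKY) θ) :
    cnt p (Subgroup.inclusion (hLK.trans hKX)) ν = cnt p (Subgroup.inclusion (hLK.trans hKY)) ν := by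
  classical
  have hn : ∀ Z : Subgroup G, Z ≤ Subgroup.normalizer (L : Set G) := fun Z x _ =>
    Subgroup.le_normalizer_of_normal (Subgroup.mem_top x)
  refine card_eq_of_double (X := {θ : IrrCharacter K // (S : Subgroup G) ≤ inertia K θ.1})
    (fun a θ => Over (Subgroup.inclusion hKX) a.1.1 θ.1.1)
    (fun b θ => Over (Subgroup.inclusion hKY) b.1.1 θ.1.1)
    (fun θ θ' => ∃ n ∈ Subgroup.normalizer ((S : Subgroup G) : Set G), conjChar K θ.1.1 n = θ'.1.1)
    (fun a => ?_) (fun a θ h θ' => ?_) (fun a => ?_) (fun a θ h θ' => ?_) (fun θ => ?_)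
  · obtain ⟨θ, h1, h2, h3⟩ := exists_sylow_inv_under S hKX (Subgroup.le_normalizer.trans hX)
      a.1.2 a.2.1
    exact ⟨⟨⟨θ, h1⟩, h2⟩, h3⟩
  · exact ⟨exists_normalizer_conjChar S hKX a.1.2 θ.1.2 θ'.1.2 θ.2 θ'.2 h, fun ⟨n, hn, e⟩ =>
      e ▸ (over_conjChar hKX a.1.2.isClassFunction (hX hn)).2 h⟩
  · obtain ⟨θ, h1, h2, h3⟩ := exists_sylow_inv_under S hKY (Subgroup.le_normalizer.trans hY)
      a.1.2 a.2.1
    exact ⟨⟨⟨θ, h1⟩, h2⟩, h3⟩
  · exact ⟨exists_normalizer_conjChar S hKY a.1.2 θ.1.2 θ'.1.2 θ.2 θ'.2 h, fun ⟨n, hn, e⟩ =>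
      e ▸ (over_conjChar hKY a.1.2.isClassFunction (hY hn)).2 h⟩
  · rw [card_fiber_over (k := Subgroup.inclusion hLK) (fun _ => rfl)
        (Subgroup.inclusion_injective _) (normal_range_inclusion _ (hn X)) hν
        (fun g => (invBy_inclusion _).2 (hinv g)) θ.1.2,
      card_fiber_over (k := Subgroup.inclusion hLK) (fun _ => rfl)
        (Subgroup.inclusion_injective _) (normal_range_inclusion _ (hn Y)) hν
        (fun g => (invBy_inclusion _).2 (hinv g)) θ.1.2, h θ.1.1 θ.1.2 θ.2]

end Partition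

/-- The relative McKay statement for index `n`. -/
def McKayStmt (p n : ℕ) : Prop :=
  ∀ (G : Type u) [Group G] [Finite G], IsPSolvable p G → ∀ (L : Subgroup G) [L.Normal]
    (S : Sylow p G) (hLN : L ≤ Subgroup.normalizer ((L ⊔ S : Subgroup G) : Set G)) (ν : L → ℂ),
    IsIrrCharacter L ν → (∀ s ∈ (S : Subgroup G), InvBy L.subtype ν s) → L.index = n →
    cnt p L.subtype ν = cnt p (Subgroup.inclusion hLN) ν

section Main

variable {p : ℕ} [hp : Fact p.Prime]

omit hp in
theorem McKayStmt.sub {n : ℕ} (h : McKayStmt.{u} p n) {G : Type u} [Group G] [Finite G]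
    {L X : Subgroup G} [L.Normal] (hX : IsPSolvable p X) (S : Sylow p G) (hLX : L ≤ X)
    (hSX : (S : Subgroup G) ≤ X)
    (hLN : L ≤ X ⊓ Subgroup.normalizer ((L ⊔ S : Subgroup G) : Set G)) {ν : L → ℂ}
    (hν : IsIrrCharacter L ν) (hi : ∀ s ∈ (S : Subgroup G), InvBy L.subtype ν s)
    (hn : L.relIndex X = n) :
    cnt p (Subgroup.inclusion hLX) ν = cnt p (Subgroup.inclusion hLN) ν := by
  let f := Subgroup.subgroupOfEquivOfLe hLX
  have hN : Subgroup.normalizer
      ((L.subgroupOf X ⊔ (S.subtype hSX : Subgroup X) : Subgroup X) : Set X) =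
      (Subgroup.normalizer ((L ⊔ S : Subgroup G) : Set G)).subgroupOf X := by
    rw [Sylow.coe_subtype, ← Subgroup.subgroupOf_sup hLX hSX,
      Subgroup.subgroupOf_normalizer_eq (sup_le hLX hSX)]
  have := h X hX (L.subgroupOf X) (S.subtype hSX)
    (le_sup_left.trans Subgroup.le_normalizer) (fun l => ν (f l)) (hν.comp_equiv f)
    (fun s hs a b e => hi s hs _ _ (congrArg Subtype.val e)) hn
  rw [cnt_inclusion_congr p hN _ (fun l hl => (hLN hl).2)] at this
  refine (cnt_congr p (MulEquiv.refl X) f (fun _ => rfl) (fun _ => rfl)).symm.trans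
    (this.trans (cnt_congr p ?_ f ?_ fun _ => rfl))
  · exact
      { toFun := fun x => ⟨x, (x : X).2, x.2⟩
        invFun := fun x => ⟨⟨x, x.2.1⟩, x.2.2⟩
        left_inv := fun _ => rfl
        right_inv := fun _ => rfl
        map_mul' := fun _ _ => rfl }
  · exact fun _ => rfl

omit hp in
theorem normalizer_sup_sylow_of_le_center {G : Type*} [Group G] [Finite G] (S : Sylow p G)
    {L : Subgroup G} (hL : L ≤ Subgroup.center G) :
    Subgroup.normalizer ((L ⊔ S : Subgroup G) : Set G) =
      Subgroup.normalizer ((S : Subgroup G) : Set G) := by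
  have hLn : L.Normal := ⟨fun a ha g => by
    rw [Subgroup.mem_center_iff.1 (hL ha) g, mul_inv_cancel_right]; exact ha⟩
  refine le_antisymm (fun n hn => Solv.mem_normalizer_of_conj_mem fun s hs => ?_)
    (Solv.le_normalizer_sup (fun x _ => Subgroup.le_normalizer_of_normal (Subgroup.mem_top x)) le_rfl)
  have h1 : MulAut.conj n • (S : Subgroup G) ≤ Subgroup.normalizer ((S : Subgroup G) : Set G) := by
    refine le_trans ?_ (sup_le (hL.trans (Subgroup.center_le_normalizer _)) Subgroup.le_normalizer)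
    exact Solv.conj_smul_le_iff.2 fun x hx =>
      Solv.conj_mem_of_mem_normalizer hn (Subgroup.mem_sup_right hx)
  have h2 := (Solv.isPGroup_conj_smul S.isPGroup' n).inf_normalizer_sylow S
  have h3 := Solv.conj_mem_conj_smul n hs
  exact (h2.le ⟨h3, h1 h3⟩).2

theorem mckay_central {n : ℕ} (ih : ∀ m < n, McKayStmt.{u} p m) {G : Type u} [Group G] [Finite G]
    (hG : IsPSolvable p G) {L : Subgroup G} [L.Normal] (hL : L ≤ Subgroup.center G) (S : Sylow p G)
    (hLN : L ≤ Subgroup.normalizer ((L ⊔ S : Subgroup G) : Set G)) {ν : L → ℂ}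
    (hν : IsIrrCharacter L ν) (hn : L.index = n) :
    cnt p L.subtype ν = cnt p (Subgroup.inclusion hLN) ν := by
  by_cases htop : Subgroup.normalizer ((L ⊔ S : Subgroup G) : Set G) = ⊤
  · rw [cnt_inclusion_congr p htop hLN le_top, cnt_top]
  have hinv : ∀ g, InvBy L.subtype ν g := fun g => invBy_of_mem_centralizer ν fun x hx =>
    (Subgroup.mem_center_iff.1 (hL hx) g).symm
  have hNS := normalizer_sup_sylow_of_le_center S hL
  have hnorm : ∀ {Z : Subgroup G} [Z.Normal] (W : Subgroup G),
      W ≤ Subgroup.normalizer (Z : Set G) := fun W x _ =>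
    Subgroup.le_normalizer_of_normal (Subgroup.mem_top x)
  have hLt : L ≠ ⊤ := by
    rintro rfl
    exact htop (top_le_iff.1 hLN)
  obtain ⟨M, hMn, hM0, -, hM⟩ := ((hG.quotient L).subgroup ⊤).exists_normal_le (by
    have := QuotientGroup.nontrivial_iff.2 hLt
    exact top_ne_bot)
  set K := M.comap (QuotientGroup.mk' L) with hK
  have hLK : L ≤ K := fun x hx => by
    rw [hK, Subgroup.mem_comap, QuotientGroup.mk'_apply, (QuotientGroup.eq_one_iff x).2 hx]
    exact M.one_mem
  have hMK : K.map (QuotientGroup.mk' L) = M :=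
    Subgroup.map_comap_eq_self_of_surjective (QuotientGroup.mk'_surjective L) M
  have hrel : L.relIndex K = Nat.card M := by rw [← Solv.card_map_mk', hMK]
  have hlt : K.index < n := by
    rw [← hn, ← Subgroup.relIndex_mul_index hLK, hrel]
    have h1 : 1 < Nat.card M := (Subgroup.one_lt_card_iff_ne_bot M).2 hM0
    have h2 := Nat.pos_of_ne_zero K.index_ne_zero_of_finite
    nlinarith
  set X := Subgroup.normalizer ((K ⊔ S : Subgroup G) : Set G) with hX
  have hKX : K ≤ X := le_sup_left.trans Subgroup.le_normalizer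
  have hNX : Subgroup.normalizer ((S : Subgroup G) : Set G) ≤ X :=
    Solv.le_normalizer_sup (hnorm _) le_rfl
  by_cases hXt : X = ⊤
  · have hKS : (K ⊔ S).Normal := Subgroup.normalizer_eq_top_iff.1 hXt
    rcases hM with hM | hM
    · exfalso
      apply htop
      have h1 : K ≤ L ⊔ S := by
        have := hM.le_sylow_of_normal (S.mapSurjective (QuotientGroup.mk'_surjective L))
        have h2 := Subgroup.comap_mono (f := QuotientGroup.mk' L) this
        rwa [Sylow.coe_mapSurjective, Subgroup.comap_map_eq, QuotientGroup.ker_mk',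
          sup_comm] at h2
      rw [← le_antisymm (sup_le h1 le_sup_right) (sup_le_sup_right hLK _)]
      exact hXt
    · have hZ : (L ⊓ S).Normal := ⟨fun a ha g => by
        rw [Subgroup.mem_center_iff.1 (hL ha.1) g, mul_inv_cancel_right]; exact ha⟩
      have hZK : L ⊓ S ≤ K := inf_le_left.trans hLK
      have h1 := Solv.le_sup_piCore_compl_of_central (π := {p}) hZK
        (Solv.isPGroup_iff_isPiNum.1 (S.isPGroup'.to_le inf_le_right)) (by
          rw [Solv.isPiNum_compl_singleton_iff hp.out,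
            ← Subgroup.relIndex_mul_relIndex _ _ _ inf_le_left hLK, hrel]
          refine Nat.Coprime.mul_left ?_ hM
          rw [Subgroup.inf_relIndex_left, ← relIndex_sup_of_normalizes (hnorm _)]
          exact (hp.out.coprime_iff_not_dvd.2
            (not_dvd_relIndex_of_sylow_le S le_rfl le_sup_right)).symm)
        (fun x _ y hy => (Subgroup.mem_center_iff.1 (hL hy.1) x).symm)
      set Q := piCore {p}ᶜ G ⊓ K with hQ
      have h2 : K = L ⊓ S ⊔ Q := by
        rw [hQ, ← Solv.sup_inf_assoc_of_le_normalizer (hnorm _) hZK, inf_eq_right.2 h1]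
      have h3 : Q ⊔ S = K ⊔ S := by
        refine le_antisymm (sup_le_sup_right inf_le_right _) (sup_le ?_ le_sup_right)
        rw [h2]
        exact sup_le (inf_le_right.trans le_sup_right) le_sup_left
      have h4 : (Q ⊔ S).Normal := h3 ▸ hKS
      rw [cnt_inclusion_congr p hNS hLN (hNS ▸ hLN)]
      refine mckay_normal S (Q := Q) ?_ hL (h3 ▸ hLK.trans le_sup_left) _ hν
      rw [← hp.out.coprime_iff_not_dvd, Nat.coprime_comm,
        ← Solv.isPiNum_compl_singleton_iff hp.out]
      exact (Solv.isPiNum_card_piCore _ G).card_of_le inf_le_left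
  · have h1 := cnt_eq_of_forall_inv S hLK le_top hKX le_top hNX hν hinv fun θ hθ hi => by
      rw [cnt_top]
      exact ih _ hlt G hG K S hKX θ hθ (fun s hs => invBy_subtype_iff.2 (hi hs)) rfl
    rw [cnt_top] at h1
    have hLX := hLK.trans hKX
    rw [h1, (ih (L.relIndex X) ?_).sub (hG.subgroup X) S hLX (Subgroup.le_normalizer.trans hNX)
      (le_inf hLX hLN) hν (fun s _ => hinv s) rfl]
    · exact cnt_inclusion_congr p (inf_eq_right.2 (hNS ▸ hNX)) _ _ ν
    · rw [← hn, ← Subgroup.relIndex_mul_index hLX]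
      have h1 : 1 < X.index := Subgroup.one_lt_index_of_ne_top hXt
      have h2 : 0 < L.relIndex X := Nat.pos_of_ne_zero Subgroup.index_ne_zero_of_finite
      nlinarith

theorem mckayStmt (n : ℕ) : McKayStmt.{u} p n := by
  induction n using Nat.strong_induction_on with
  | _ n ih =>
  intro G _ _ hG L hLn S hLN ν hν hi hn
  have hLr : L.subtype.range.Normal := by rw [Subgroup.range_subtype]; exact hLn
  have hnorm : ∀ W : Subgroup G, W ≤ Subgroup.normalizer (L : Set G) := fun W x _ =>
    Subgroup.le_normalizer_of_normal (Subgroup.mem_top x)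
  by_cases hd : p ∣ charDegree ν
  · rw [cnt_eq_zero_of_dvd L.subtype_injective hLr hν hd, cnt_eq_zero_of_dvd
      (Subgroup.inclusion_injective _) (normal_range_inclusion hLN (hnorm _)) hν hd]
  set N := Subgroup.normalizer ((L ⊔ S : Subgroup G) : Set G) with hN
  set T := inertia L ν with hT
  have hLT : L ≤ T := le_inertia hν.isClassFunction
  have hST : (S : Subgroup G) ≤ T := fun s hs => invBy_subtype_iff.1 (hi s hs)
  have hSN : (S : Subgroup G) ≤ N := le_sup_right.trans Subgroup.le_normalizer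
  by_cases hTt : T = ⊤
  · obtain ⟨K, _, _, A, lam, R, hR, hA, -, -⟩ := exists_cTriple L hν (inertia_eq_top_iff.1 hTt)
      (Deg.apply_one_eq hν.isCharacter)
    have hAn : A.Normal := hR.normal_iff.1 hLn
    have hP := R.rel_star (H := L ⊔ S) fun l => Subgroup.mem_sup_left l.2
    have hAP := (hR.le_iff hP).1 le_sup_left
    obtain ⟨S', -, hS'1, hS'2, hS'3⟩ := Solv.Coprime.exists_le_sylow_ambient (p := p)
      (K := R.star (L ⊔ S)) (U := ⊥) bot_le IsPGroup.of_bot
    let S'' : Sylow p K := hS'2.toSylow (by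
      rw [← Subgroup.relIndex_mul_index hS'1, hp.out.dvd_mul, ← hP.index_eq]
      rintro (h | h)
      · exact hS'3 h
      · exact S.not_dvd_index (h.trans (Subgroup.index_dvd_of_le le_sup_right)))
    have hPe : A ⊔ S'' = R.star (L ⊔ S) := by
      refine le_antisymm (sup_le hAP hS'1) (Subgroup.relIndex_eq_one.1 ?_)
      have h1 : (A ⊔ S').relIndex (R.star (L ⊔ S)) ∣ L.relIndex (L ⊔ S) := by
        rw [hR.relIndex_eq hP]
        exact Subgroup.relIndex_dvd_of_le_left _ le_sup_left
      have h2 := coprime_relIndex_sup (hnorm _) S.isPGroup'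
        (d := (A ⊔ S').relIndex (R.star (L ⊔ S)))
        (fun h => hS'3 (h.trans (Subgroup.relIndex_dvd_of_le_left _ le_sup_right)))
      exact (Nat.coprime_self _).1 (h2.coprime_dvd_right h1)
    have hRN := hP.normalizer
    rw [← hPe] at hRN
    have hK : IsPSolvable p K := by
      refine IsPSolvable.extension A ?_ ((hG.quotient L).of_equiv hR.quotEquiv)
      have : Group.IsSolvable A := Group.isSolvable_of_comm fun a b =>
        Subtype.ext (Subgroup.mem_center_iff.1 (hA b.2) a)
      exact IsPSolvable.of_isSolvable p A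
    rw [R.cnt_eq hp.out hd, mckay_central ih hK hA S'' (le_sup_left.trans Subgroup.le_normalizer)
      (isIrrCharacter_monoidHom lam) (hR.index_eq.symm.trans hn)]
    exact ((CTriple.restrict hRN).cnt_eq hp.out hd).symm
  · rw [cnt_clifford hp.out L.subtype_injective hLr T.subtype_injective
        (k := Subgroup.inclusion hLT) (fun _ => rfl) hν
        (fun g hg => by rw [Subgroup.range_subtype]; exact invBy_subtype_iff.1 hg)
        (by
          rw [Subgroup.range_subtype]
          exact fun h => S.not_dvd_index (h.trans (Subgroup.index_dvd_of_le hST))),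
      cnt_clifford hp.out (Subgroup.inclusion_injective hLN) (normal_range_inclusion hLN (hnorm _))
        (Subgroup.inclusion_injective (inf_le_right : T ⊓ N ≤ N))
        (k := Subgroup.inclusion (le_inf hLT hLN)) (fun _ => rfl) hν
        (fun g hg => ⟨⟨g, invBy_subtype_iff.1 ((invBy_inclusion _).1 hg), g.2⟩, rfl⟩)
        (by
          rw [index_range_inclusion]
          exact not_dvd_relIndex_of_sylow_le S (le_inf hST hSN) inf_le_right)]
    refine (ih (L.relIndex T) ?_).sub (hG.subgroup T) S hLT hST _ hν hi rfl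
    rw [← hn, ← Subgroup.relIndex_mul_index hLT]
    have h1 : 1 < T.index := Subgroup.one_lt_index_of_ne_top hTt
    have h2 : 0 < L.relIndex T := Nat.pos_of_ne_zero Subgroup.index_ne_zero_of_finite
    nlinarith

/-- **McKay for `p`-solvable groups**, relative form. -/
theorem mckay_relative {G : Type u} [Group G] [Finite G] (hG : IsPSolvable p G) (L : Subgroup G)
    [L.Normal] (S : Sylow p G) (hLN : L ≤ Subgroup.normalizer ((L ⊔ S : Subgroup G) : Set G))
    {ν : L → ℂ} (hν : IsIrrCharacter L ν) (hi : ∀ s ∈ (S : Subgroup G), InvBy L.subtype ν s) :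
    cnt p L.subtype ν = cnt p (Subgroup.inclusion hLN) ν :=
  mckayStmt _ G hG L S hLN ν hν hi rfl

theorem cnt_bot {G H : Type*} [Group G] [Group H] [Subsingleton H] (q : ℕ) (i : H →* G) :
    cnt q i (fun _ => 1) = Nat.card {χ : IrrCharacter G // ¬ q ∣ charDegree χ.1} := by
  refine Nat.card_congr (Equiv.subtypeEquivRight fun χ => and_iff_left ?_)
  have : Unique H := uniqueOfSubsingleton 1
  rw [Over, finsum_unique, Subsingleton.elim default (1 : H)]
  simpa using χ.2.apply_one_ne_zero

/-- **McKay for `p`-solvable groups.** -/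
theorem mckay {G : Type u} [Group G] [Finite G] (hG : IsPSolvable p G) (S : Sylow p G) :
    Nat.card {χ : IrrCharacter G // ¬ p ∣ charDegree χ.1} =
      Nat.card {χ : IrrCharacter (Subgroup.normalizer ((S : Subgroup G) : Set G)) //
        ¬ p ∣ charDegree χ.1} := by
  have := mckay_relative hG ⊥ S bot_le isIrrCharacter_one (fun _ _ _ _ _ => rfl)
  rw [cnt_inclusion_congr p (by rw [bot_sup_eq]) _
    (bot_le : ⊥ ≤ Subgroup.normalizer ((S : Subgroup G) : Set G)), cnt_bot, cnt_bot] at this
  exact this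

end Main

end Cfsg.Lib.Char
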