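import Cfsg.Agent.Char.McKayParam

/-!
# The McKay count when `Q S` is normal
-/

set_option autoImplicit false

open scoped ComplexConjugate commutatorElement
open Cfsg

namespace Cfsg.Lib.Char

universe u

theorem over_iff_of_over {L M : Type*} {G : Type u} [Group L] [Group M] [Group G] [Finite G]
    [Finite M] {i : L →* G} {j : M →* G} {k : L →* M} (hk : ∀ n, j (k n) = i n)
    (hi : Function.Injective i) (hN : i.range.Normal) {ν : L → ℂ} (hν : IsIrrCharacter L ν)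
    (hinv : ∀ g, InvBy i ν g) {χ : G → ℂ} {φ : M → ℂ} (hχ : IsIrrCharacter G χ)
    (hφ : IsIrrCharacter M φ) (h : Over j χ φ) : Over i χ ν ↔ Over k φ ν := by
  have : Finite L := Finite.of_injective i hi
  refine ⟨fun h' => ?_, fun h' => h.trans hk hχ.isCharacter hφ hν.isCharacter h'⟩
  obtain ⟨ν', h1, h2⟩ := exists_over k hφ
  rwa [← h'.eq_of_invariant hi hN hχ hν h1 (h.trans hk hχ.isCharacter hφ h1.isCharacter h2) hinv]

theorem card_fiber_over {L M : Type*} {G : Type u} [Group L] [Group M] [Group G] [Finite G]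
    [Finite M] {i : L →* G} {j : M →* G} {k : L →* M} (hk : ∀ n, j (k n) = i n)
    (hi : Function.Injective i) (hN : i.range.Normal) {ν : L → ℂ} (hν : IsIrrCharacter L ν)
    (hinv : ∀ g, InvBy i ν g) {φ : M → ℂ} (hφ : IsIrrCharacter M φ) (p : ℕ)
    [Decidable (Over k φ ν)] :
    Nat.card {a : {χ : IrrCharacter G // ¬ p ∣ charDegree χ.1 ∧ Over i χ.1 ν} //
      Over j a.1.1 φ} = if Over k φ ν then cnt p j φ else 0 := by
  split_ifs with h
  · refine Nat.card_congr ((Equiv.subtypeSubtypeEquivSubtypeInter _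
      (fun χ : IrrCharacter G => Over j χ.1 φ)).trans (Equiv.subtypeEquivRight fun χ => ?_))
    exact ⟨fun h' => ⟨h'.1.1, h'.2⟩, fun h' =>
      ⟨⟨h'.1, (over_iff_of_over hk hi hN hν hinv χ.2 hφ h'.2).2 h⟩, h'.2⟩⟩
  · rw [Nat.card_eq_zero]
    exact Or.inl ⟨fun a => h ((over_iff_of_over hk hi hN hν hinv a.1.1.2 hφ a.2).1 a.1.2.2)⟩

namespace GlSetup

variable {Γ : Type u} [Group Γ] {p : ℕ} {Q S C : Subgroup Γ} (H : GlSetup p Q S C)

/-- the correspondence between `p'`-characters of `Q S` and of `C_Q(S) S` -/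
def MCor (φ : (Q ⊔ S : Subgroup Γ) → ℂ) (φ' : (C ⊔ S : Subgroup Γ) → ℂ) : Prop :=
  ∃ θ η μ, Param Q S φ θ μ ∧ Param C S φ' η μ ∧ GCor p (Subgroup.inclusion H.le) θ η

include H in
theorem cop' : ¬ p ∣ Nat.card C := fun h => H.cop (h.trans (Subgroup.card_dvd_of_le H.le))

include H in
theorem norm' : S ≤ Subgroup.normalizer (C : Set Γ) := fun _ hs =>
  H.mem_normalizer (H.norm hs) (Subgroup.le_normalizer hs)

include H in
theorem le_centralizer : C ≤ Subgroup.centralizer (S : Set Γ) := H.eq ▸ inf_le_right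

variable [Finite Γ] [hp : Fact p.Prime] {φ ψ : (Q ⊔ S : Subgroup Γ) → ℂ}
  {φ' ψ' : (C ⊔ S : Subgroup Γ) → ℂ}

theorem mcor_right (hφ : IsIrrCharacter _ φ) (hd : ¬ p ∣ charDegree φ) : ∃ φ', H.MCor φ φ' := by
  obtain ⟨θ, μ, h⟩ := Param.exists_of_irr H.pgrp H.norm hφ hd
  obtain ⟨η, h1, h2⟩ := H.exists_right h.irr'
  obtain ⟨φ', h3⟩ := Param.exists_of_inv H.pgrp H.cop' H.norm' h1
    (fun s hs => invBy_of_mem_centralizer η (Subgroup.le_centralizer_iff.1 H.le_centralizer hs)) μ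
  exact ⟨φ', θ, η, μ, h, h3, h2⟩

theorem mcor_left (hφ : IsIrrCharacter _ φ') (hd : ¬ p ∣ charDegree φ') : ∃ φ, H.MCor φ φ' := by
  obtain ⟨η, μ, h⟩ := Param.exists_of_irr H.pgrp H.norm' hφ hd
  obtain ⟨θ, h1, h2, h3⟩ := H.exists_left h.irr'
  obtain ⟨φ, h4⟩ := Param.exists_of_inv H.pgrp H.cop H.norm h1 h2 μ
  exact ⟨φ, θ, η, μ, h4, h, h3⟩

variable {H}

omit [Finite Γ] hp in
theorem MCor.irr (h : H.MCor φ φ') : IsIrrCharacter _ φ := by
  obtain ⟨_, _, _, h, -⟩ := h; exact h.irr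

omit [Finite Γ] hp in
theorem MCor.irr' (h : H.MCor φ φ') : IsIrrCharacter _ φ' := by
  obtain ⟨_, _, _, -, h, -⟩ := h; exact h.irr

omit hp in
theorem MCor.not_dvd (h : H.MCor φ φ') : ¬ p ∣ charDegree φ := by
  obtain ⟨_, _, _, h, -⟩ := h; rw [h.deg]; exact Param.not_dvd H.cop h.irr'

omit hp in
theorem MCor.not_dvd' (h : H.MCor φ φ') : ¬ p ∣ charDegree φ' := by
  obtain ⟨_, _, _, -, h, -⟩ := h; rw [h.deg]; exact Param.not_dvd H.cop' h.irr'

theorem MCor.unique_right (h : H.MCor φ φ') (h' : H.MCor φ ψ') : φ' = ψ' := by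
  obtain ⟨θ, η, μ, h1, h2, h3⟩ := h
  obtain ⟨θ', η', μ', h1', h2', h3'⟩ := h'
  obtain ⟨rfl, rfl⟩ := h1.unique_left H.pgrp H.cop h1'
  obtain rfl := H.unique_right h1.irr' h1.inv h2.irr' h2'.irr' h3 h3'
  exact h2.unique H.pgrp H.cop' H.norm' h2'

theorem MCor.unique_left (h : H.MCor φ φ') (h' : H.MCor ψ φ') : φ = ψ := by
  obtain ⟨θ, η, μ, h1, h2, h3⟩ := h
  obtain ⟨θ', η', μ', h1', h2', h3'⟩ := h'
  obtain ⟨rfl, rfl⟩ := h2.unique_left H.pgrp H.cop' h2'
  obtain rfl := H.unique_left h1.irr' h1.inv h1'.irr' h1'.inv h2.irr' h3 h3'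
  exact h1.unique H.pgrp H.cop H.norm h1'

omit hp in
theorem MCor.conjugate (h : H.MCor φ φ') {g : Γ} (h1 : g ∈ Subgroup.normalizer (Q : Set Γ))
    (h2 : g ∈ Subgroup.normalizer (S : Set Γ))
    (h3 : g ∈ Subgroup.normalizer ((Q ⊔ S : Subgroup Γ) : Set Γ))
    (h4 : g ∈ Subgroup.normalizer ((C ⊔ S : Subgroup Γ) : Set Γ)) :
    H.MCor (fun m => φ (conjAut _ h3 m)) (fun m => φ' (conjAut _ h4 m)) := by
  obtain ⟨θ, η, μ, a, b, c⟩ := h
  have h5 := H.mem_normalizer h1 h2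
  exact ⟨_, _, _, a.conjugate h1 h2 h3, b.conjugate h5 h2 h4, (H.gcor_conj h1 h5).2 c⟩

omit H [Finite Γ] hp in
theorem mem_normalizer_sup {A B : Subgroup Γ} {g : Γ} (h1 : g ∈ Subgroup.normalizer (A : Set Γ))
    (h2 : g ∈ Subgroup.normalizer (B : Set Γ)) :
    g ∈ Subgroup.normalizer ((A ⊔ B : Subgroup Γ) : Set Γ) :=
  Solv.le_normalizer_sup (A := Subgroup.zpowers g) (by simpa using h1) (by simpa using h2)
    (Subgroup.mem_zpowers g)

theorem MCor.invBy_iff (h : H.MCor φ φ') {g : Γ} (h1 : g ∈ Subgroup.normalizer (Q : Set Γ))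
    (h2 : g ∈ Subgroup.normalizer (S : Set Γ)) :
    InvBy (Q ⊔ S).subtype φ g ↔ InvBy (C ⊔ S).subtype φ' g := by
  have h3 := mem_normalizer_sup h1 h2
  have h4 := mem_normalizer_sup (H.mem_normalizer h1 h2) h2
  have := h.conjugate h1 h2 h3 h4
  rw [invBy_iff_conjAut h3, invBy_iff_conjAut h4]
  constructor
  · intro e; rw [e] at this; exact this.unique_right h
  · intro e; rw [e] at this; exact this.unique_left h

theorem MCor.over_iff (h : H.MCor φ φ') {L : Subgroup Γ} (hL : L ≤ Subgroup.center Γ)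
    (hLS : ∀ x ∈ L, (∃ k, orderOf x = p ^ k) → x ∈ S) (hLM : L ≤ Q ⊔ S) (hLD : L ≤ C ⊔ S)
    {ν : L → ℂ} (hν : IsIrrCharacter L ν) :
    Over (Subgroup.inclusion hLM) φ ν ↔ Over (Subgroup.inclusion hLD) φ' ν := by
  have hc : ∀ {X : Subgroup Γ} (hX : L ≤ X) (a : L) (k : X),
      Subgroup.inclusion hX a * k = k * Subgroup.inclusion hX a := fun hX a k =>
    Subtype.ext (Subgroup.mem_center_iff.1 (hL a.2) k).symm
  obtain ⟨lam, rfl⟩ := hν.exists_monoidHom_of_comm fun a b => hc le_rfl a b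
  obtain ⟨l₁, h₁⟩ := exists_liesOverLin (hc hLM) h.irr
  obtain ⟨l₂, h₂⟩ := exists_liesOverLin (hc hLD) h.irr'
  have uniq : ∀ {X : Subgroup Γ} {hX : L ≤ X} {β : X → ℂ} {l : L →* ℂˣ}, IsIrrCharacter X β →
      LiesOverLin (Subgroup.inclusion hX) l β →
      (LiesOverLin (Subgroup.inclusion hX) lam β ↔ lam = l) := by
    intro X hX β l hβ hl
    refine ⟨fun h' => MonoidHom.ext fun a => Units.ext ?_, fun e => e ▸ hl⟩
    exact mul_right_cancel₀ hβ.apply_one_ne_zero ((h'.apply_ι a).symm.trans (hl.apply_ι a))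
  rw [over_iff_liesOverLin (hc hLM) h.irr, over_iff_liesOverLin (hc hLD) h.irr', uniq h.irr h₁,
    uniq h.irr' h₂]
  suffices l₁ = l₂ by rw [this]
  obtain ⟨θ, η, μ, a, b, c⟩ := h
  refine MonoidHom.ext fun z => ?_
  obtain ⟨u, hu, v, hv, rfl, -, ⟨k, hk⟩, hv'⟩ := Parts.exists_pPart_mul_pPrimePart hp.out
    (isOfFinOrder_of_finite z)
  clear hu hv
  rw [map_mul, map_mul]
  have huS : (u : Γ) ∈ S := hLS u u.2 ⟨k, by rw [Subgroup.orderOf_coe, hk]⟩
  have hpow : ∀ l : L →* ℂˣ, l u ^ p ^ k = 1 := fun l => by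
    rw [← map_pow, ← hk, pow_orderOf_eq_one, map_one]
  have e1 := a.apply_eq H.pgrp H.cop ⟨u, huS⟩ (hpow l₁) (h₁ u)
  have e2 := b.apply_eq H.pgrp H.cop' ⟨u, huS⟩ (hpow l₂) (h₂ u)
  rw [← e1, ← e2]
  congr 1
  have hvC : (v : Γ) ∈ C := mem_of_mem_sup_of_coprime H.norm' H.pgrp (hLD v.2)
    (by rwa [Subgroup.orderOf_coe])
  have := Fintype.ofFinite C
  have ho := c.over
  rw [Over, finsum_eq_sum_of_fintype] at ho
  have hn : (l₂ v : ℂ) * conj (l₂ v : ℂ) = 1 := by
    rw [← monoidHom_apply_inv, ← Units.val_mul, ← map_mul, mul_inv_cancel, map_one, Units.val_one]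
  have key : ∑ x : C, θ (Subgroup.inclusion H.le x) * conj (η x) =
      l₁ v * conj (l₂ v : ℂ) * ∑ x : C, θ (Subgroup.inclusion H.le x) * conj (η x) := by
    rw [Finset.mul_sum, ← Equiv.sum_comp (Equiv.mulLeft (⟨v, hvC⟩ : C))]
    refine Finset.sum_congr rfl fun x _ => ?_
    have f1 := h₁ v (Subgroup.inclusion le_sup_left (Subgroup.inclusion H.le x))
    have f2 := h₂ v (Subgroup.inclusion le_sup_left x)
    rw [a.ext] at f1
    rw [b.ext] at f2
    rw [← a.ext, ← b.ext]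
    erw [f1, f2]
    rw [map_mul]; ring
  have h3 : (l₁ v : ℂ) * conj (l₂ v : ℂ) = 1 := by
    have := mul_right_cancel₀ ho ((one_mul _).trans key)
    exact this.symm
  apply Units.ext
  have h4 : conj (l₂ v : ℂ) ≠ 0 := by simp
  exact mul_right_cancel₀ h4 (h3.trans hn.symm)

end GlSetup

section Normal

variable {G : Type u} [Group G] [Finite G] {p : ℕ} [hp : Fact p.Prime] {Q C : Subgroup G}
  (S : Sylow p G)

theorem not_dvd_relIndex_of_sylow_le {A B : Subgroup G} (h : (S : Subgroup G) ≤ A) (hAB : A ≤ B) :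
    ¬ p ∣ A.relIndex B := fun hd => S.not_dvd_index
  (hd.trans ((Subgroup.relIndex_dvd_index_of_le hAB).trans (Subgroup.index_dvd_of_le h)))

theorem GlSetup.sup_inf_normalizer (H : GlSetup p Q S C) [Q.Normal] :
    (Q ⊔ S) ⊓ Subgroup.normalizer ((S : Subgroup G) : Set G) = C ⊔ S := by
  rw [Solv.sup_inf_assoc_of_le_normalizer' H.norm Subgroup.le_normalizer]
  congr 1
  rw [H.eq]
  refine le_antisymm (le_inf inf_le_left ?_)
    (inf_le_inf_left _ (Subgroup.centralizer_le_normalizer _))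
  refine Solv.le_centralizer_of_disjoint inf_le_right
    (Solv.le_normalizer_inf H.norm (Solv.le_normalizer_normalizer Subgroup.le_normalizer)) ?_
  rw [eq_bot_iff, ← Solv.inf_eq_bot_of_coprime_card (Param.coprime H.pgrp H.cop)]
  exact inf_le_inf_right _ inf_le_left

theorem GlSetup.MCor.cnt_eq {H : GlSetup p Q S C} [Q.Normal] [hM : (Q ⊔ S).Normal]
    (hDN : C ⊔ S ≤ Subgroup.normalizer ((S : Subgroup G) : Set G))
    {φ : (Q ⊔ S : Subgroup G) → ℂ} {φ' : (C ⊔ S : Subgroup G) → ℂ} (h : H.MCor φ φ') :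
    cnt p (Q ⊔ S).subtype φ = cnt p (Subgroup.inclusion hDN) φ' := by
  set N := Subgroup.normalizer ((S : Subgroup G) : Set G) with hN
  have hD := H.sup_inf_normalizer S
  have hnQ : ∀ g, g ∈ Subgroup.normalizer (Q : Set G) := fun g =>
    Subgroup.le_normalizer_of_normal (Subgroup.mem_top g)
  have hnM : ∀ g, g ∈ Subgroup.normalizer ((Q ⊔ S : Subgroup G) : Set G) := fun g =>
    Subgroup.le_normalizer_of_normal (Subgroup.mem_top g)
  have hnD : N ≤ Subgroup.normalizer ((C ⊔ S : Subgroup G) : Set G) := fun g hg =>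
    GlSetup.mem_normalizer_sup (H.mem_normalizer (hnQ g) hg) hg
  set T := inertia (Q ⊔ S) φ with hT
  have hMT : Q ⊔ S ≤ T := le_inertia h.irr.isClassFunction
  have hDM : C ⊔ S ≤ Q ⊔ S := sup_le_sup_right H.le _
  have hDT : C ⊔ S ≤ T ⊓ N := le_inf (hDM.trans hMT) hDN
  have hinv : ∀ t ∈ T, InvBy (Q ⊔ S).subtype φ t := fun t ht => invBy_subtype_iff.2 ht
  have hinv' : ∀ t ∈ T ⊓ N, InvBy (C ⊔ S).subtype φ' t := fun t ht =>
    (h.invBy_iff (hnQ t) ht.2).1 (hinv t ht.1)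
  have hfr : ∀ g : G, ∃ m ∈ Q ⊔ S, ∃ n ∈ N, m * n = g := fun g => by
    have := S.normalizer_sup_eq_top' (le_sup_right : (S : Subgroup G) ≤ Q ⊔ S)
    rw [sup_comm] at this
    exact (Solv.mem_sup_of_le_normalizer (fun x _ => hnM x)).1 (this ▸ Subgroup.mem_top g)
  rw [cnt_clifford hp.out (Subgroup.subtype_injective _) (by rw [Subgroup.range_subtype]; exact hM)
      T.subtype_injective (k := Subgroup.inclusion hMT) (fun _ => rfl) h.irr
      (fun g hg => by rw [Subgroup.range_subtype]; exact invBy_subtype_iff.1 hg)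
      (by
        rw [Subgroup.range_subtype]
        exact fun hd => S.not_dvd_index (hd.trans (Subgroup.index_dvd_of_le
          (le_sup_right.trans hMT)))),
    cnt_clifford hp.out (Subgroup.inclusion_injective hDN) (normal_range_inclusion hDN hnD)
      (Subgroup.inclusion_injective (inf_le_right : T ⊓ N ≤ N)) (k := Subgroup.inclusion hDT)
      (fun _ => rfl) h.irr'
      (fun g hg => ⟨⟨g, invBy_subtype_iff.1 ((h.invBy_iff (hnQ g) g.2).2
        ((invBy_inclusion _).1 hg)), g.2⟩, rfl⟩)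
      (by
        rw [index_range_inclusion]
        exact not_dvd_relIndex_of_sylow_le S (le_sup_right.trans hDT) inf_le_right),
    cnt_eq_cnt_zero hp.out (Subgroup.inclusion_injective hMT)
      (normal_range_inclusion hMT fun x _ => hnM x) h.irr h.not_dvd
      (by rw [index_range_inclusion]; exact not_dvd_relIndex_of_sylow_le S le_sup_right hMT),
    cnt_eq_cnt_zero hp.out (Subgroup.inclusion_injective hDT)
      (normal_range_inclusion hDT (inf_le_right.trans hnD)) h.irr' h.not_dvd'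
      (by rw [index_range_inclusion]; exact not_dvd_relIndex_of_sylow_le S le_sup_right hDT)]
  refine cnt_zero_eq_of_ext hMT hDT inf_le_left (fun t _ m hm => hM.conj_mem m hm t)
    (by rw [← inf_assoc, inf_eq_left.2 hMT, hD]) (fun t ht => ?_) h.irr h.irr' hinv hinv'
    fun U hMU hUT hUU => ?_
  · obtain ⟨m, hm, n, hn, rfl⟩ := hfr t
    exact ⟨m, hm, n, ⟨(T.mul_mem_cancel_left (hMT hm)).1 ht, hn⟩, rfl⟩
  rw [← inf_assoc, inf_eq_left.2 hUT]
  have hSU : (S : Subgroup G) ≤ U ⊓ N := le_inf (le_sup_right.trans hMU) Subgroup.le_normalizer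
  have hidx := not_dvd_relIndex_of_sylow_le S le_rfl hSU
  obtain ⟨V, hVU, hSV, -, hV⟩ := Solv.exists_complement_ambient S (U ⊓ N) hSU inf_le_right
    (Param.coprime H.pgrp hidx).symm
  rw [← hV] at hidx
  obtain ⟨θ, η, μ, a, b, c⟩ := h
  have hVT : V ≤ T ⊓ N := hVU.trans (inf_le_inf_right _ hUT)
  rw [extSub_iff_complement H.pgrp hidx (fun x _ => hnQ x) (fun x _ => hnM x) ?_ a.irr
      (fun u hu => hinv u (hUT hu)) a.irr' a.ext,
    extSub_iff_complement (U := U ⊓ N) H.pgrp hidx (fun x hx => H.mem_normalizer (hnQ x) hx.2)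
      (inf_le_right.trans hnD) ?_ b.irr (fun u hu => hinv' u ⟨hUT hu.1, hu.2⟩) b.irr' b.ext]
  · refine H.okuyama_wajima (fun x _ => hnQ x) (hVU.trans inf_le_right) hidx (fun x hx => ?_) a.irr'
      a.inv (fun x hx => ?_) b.irr' c
    · have hxV : x ∈ V := Solv.commutator_le_left_of_le_normalizer Subgroup.le_normalizer hx
      refine mem_of_mem_sup_of_coprime H.norm' H.pgrp ?_ fun hd => hidx (hd.trans
        (Subgroup.orderOf_dvd_natCard V hxV))
      rw [← hD]
      exact ⟨hUU (Subgroup.commutator_mono (hVU.trans inf_le_left) (hVU.trans inf_le_left) hx),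
        (hVU hxV).2⟩
    · have := invBy_res_le le_sup_left (hinv x (hVT hx).1)
      rwa [funext a.ext] at this
  · rw [sup_assoc, hSV, sup_eq_right]
    exact le_inf ((H.le.trans le_sup_left).trans hMU) (le_sup_left.trans hDN)
  · rw [sup_assoc, hSV]
    refine le_antisymm (sup_le (le_sup_left.trans hMU) inf_le_left) fun u hu => ?_
    obtain ⟨m, hm, n, hn, rfl⟩ := hfr u
    exact Subgroup.mul_mem _ (sup_le_sup_left hSU _ hm)
      (Subgroup.mem_sup_right ⟨(U.mul_mem_cancel_left (hMU hm)).1 hu, hn⟩)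

omit [Finite G] hp in
theorem mem_sylow_of_mem_center {x : G} (hx : x ∈ Subgroup.center G) (hk : ∃ k, orderOf x = p ^ k) :
    x ∈ (S : Subgroup G) := by
  obtain ⟨k, hk⟩ := hk
  have h1 : IsPGroup p (Subgroup.zpowers x) := IsPGroup.of_card ((Nat.card_zpowers x).trans hk)
  have h2 := h1.inf_normalizer_sylow S
  have h3 : x ∈ Subgroup.zpowers x ⊓ Subgroup.normalizer ((S : Subgroup G) : Set G) :=
    ⟨Subgroup.mem_zpowers x, Subgroup.center_le_normalizer _ hx⟩
  exact (h2.le h3).2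

/-- The McKay count over a central character when `Q S` is normal. -/
theorem mckay_normal [Q.Normal] (hQ : ¬ p ∣ Nat.card Q) [hM : (Q ⊔ S).Normal] {L : Subgroup G}
    (hL : L ≤ Subgroup.center G) (hLM : L ≤ Q ⊔ S)
    (hLN : L ≤ Subgroup.normalizer ((S : Subgroup G) : Set G)) {ν : L → ℂ}
    (hν : IsIrrCharacter L ν) : cnt p L.subtype ν = cnt p (Subgroup.inclusion hLN) ν := by
  classical
  set N := Subgroup.normalizer ((S : Subgroup G) : Set G) with hN
  have hnQ : ∀ g, g ∈ Subgroup.normalizer (Q : Set G) := fun g =>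
    Subgroup.le_normalizer_of_normal (Subgroup.mem_top g)
  have hnM : ∀ g, g ∈ Subgroup.normalizer ((Q ⊔ S : Subgroup G) : Set G) := fun g =>
    Subgroup.le_normalizer_of_normal (Subgroup.mem_top g)
  have H : GlSetup p Q S (Q ⊓ Subgroup.centralizer ((S : Subgroup G) : Set G)) :=
    ⟨S.isPGroup', hQ, fun x _ => hnQ x, rfl⟩
  set C := Q ⊓ Subgroup.centralizer ((S : Subgroup G) : Set G) with hC
  have hD := H.sup_inf_normalizer S
  have hDN : C ⊔ S ≤ N := hD ▸ inf_le_right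
  have hLD : L ≤ C ⊔ S := hD ▸ le_inf hLM hLN
  have hnD : N ≤ Subgroup.normalizer ((C ⊔ S : Subgroup G) : Set G) := fun g hg =>
    GlSetup.mem_normalizer_sup (H.mem_normalizer (hnQ g) hg) hg
  have hLn : L.subtype.range.Normal := by
    rw [Subgroup.range_subtype]
    exact ⟨fun a ha g => by
      rw [Subgroup.mem_center_iff.1 (hL ha) g, mul_inv_cancel_right]; exact ha⟩
  have hcen : ∀ g, g ∈ Subgroup.centralizer (L : Set G) := fun g x hx =>
    (Subgroup.mem_center_iff.1 (hL hx) g).symm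
  have hMr : (Q ⊔ S).subtype.range.Normal := by rw [Subgroup.range_subtype]; exact hM
  refine card_eq_of_double
    (X := {φ : IrrCharacter (Q ⊔ S : Subgroup G) // ¬ p ∣ charDegree φ.1})
    (fun a φ => Over (Q ⊔ S).subtype a.1.1 φ.1.1)
    (fun b φ => ∃ φ', H.MCor φ.1.1 φ' ∧ Over (Subgroup.inclusion hDN) b.1.1 φ')
    (fun φ ψ => ∃ n ∈ N, ψ.1.1 = fun m => φ.1.1 (conjAut _ (hnM n) m)) (fun a => ?_)
    (fun a φ h ψ => ?_) (fun b => ?_) (fun b φ h ψ => ?_) (fun φ => ?_)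
  · obtain ⟨φ, h1, h2⟩ := exists_over (Q ⊔ S).subtype a.1.2
    exact ⟨⟨⟨φ, h1⟩, fun hd => a.2.1
      (hd.trans (h2.deg_dvd (Subgroup.subtype_injective _) hMr a.1.2 h1))⟩, h2⟩
  · constructor
    · intro h'
      obtain ⟨g, hg⟩ := h.exists_conj (Subgroup.subtype_injective _) hMr a.1.2 φ.1.2 ψ.1.2 h'
      have := S.normalizer_sup_eq_top' (le_sup_right : (S : Subgroup G) ≤ Q ⊔ S)
      rw [sup_comm] at this
      obtain ⟨m, hm, n, hn, rfl⟩ :=
        (Solv.mem_sup_of_le_normalizer (fun x _ => hnM x)).1 (this ▸ Subgroup.mem_top g)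
      refine ⟨n, hn, funext fun x => ?_⟩
      rw [hg x (conjAut _ (hnM (m * n)) x) rfl]
      exact invBy_self φ.1.2.isClassFunction m hm _ _ (by simp [mul_assoc])
    · rintro ⟨n, hn, e⟩
      rw [e]
      exact (Over.of_conj a.1.2.isClassFunction (conjAut _ (hnM n)) (g := n) (fun _ => rfl)
        (fun _ => rfl)).2 h
  · obtain ⟨φ', h1, h2⟩ := exists_over (Subgroup.inclusion hDN) b.1.2
    obtain ⟨φ, h3⟩ := H.mcor_left h1 fun hd => b.2.1 (hd.trans (h2.deg_dvd
      (Subgroup.inclusion_injective _) (normal_range_inclusion hDN hnD) b.1.2 h1))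
    exact ⟨⟨⟨φ, h3.irr⟩, h3.not_dvd⟩, φ', h3, h2⟩
  · obtain ⟨φ', h1, h2⟩ := h
    constructor
    · rintro ⟨ψ', h3, h4⟩
      obtain ⟨n, hn⟩ := h2.exists_conj (Subgroup.inclusion_injective _)
        (normal_range_inclusion hDN hnD) b.1.2 h1.irr' h3.irr' h4
      refine ⟨n, n.2, h3.unique_left ?_⟩
      have := h1.conjugate (hnQ n) n.2 (hnM n) (hnD n.2)
      rwa [← (funext fun x => hn x (conjAut _ (hnD n.2) x) rfl : ψ' = _)] at this
    · rintro ⟨n, hn, e⟩
      refine ⟨_, e ▸ h1.conjugate (hnQ n) hn (hnM n) (hnD hn), ?_⟩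
      exact (Over.of_conj b.1.2.isClassFunction (conjAut _ (hnD hn)) (g := ⟨n, hn⟩) (fun _ => rfl)
        (fun _ => rfl)).2 h2
  · obtain ⟨φ', h1⟩ := H.mcor_right φ.1.2 φ.2
    rw [Nat.card_congr (Equiv.subtypeEquivRight (q := fun b : {χ : IrrCharacter N //
        ¬ p ∣ charDegree χ.1 ∧ Over (Subgroup.inclusion hLN) χ.1 ν} =>
        Over (Subgroup.inclusion hDN) b.1.1 φ') fun b =>
        ⟨fun ⟨ψ', h2, h3⟩ => h2.unique_right h1 ▸ h3, fun h => ⟨φ', h1, h⟩⟩),
      card_fiber_over (k := Subgroup.inclusion hLM) (fun _ => rfl) L.subtype_injective hLn hν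
        (fun g => invBy_of_mem_centralizer ν (hcen g)) φ.1.2,
      card_fiber_over (k := Subgroup.inclusion hLD) (fun _ => rfl) (Subgroup.inclusion_injective _)
        (normal_range_inclusion hLN fun g _ => Subgroup.centralizer_le_normalizer _ (hcen g)) hν
        (fun g => (invBy_inclusion _).2 (invBy_of_mem_centralizer ν (hcen g))) h1.irr',
      h1.cnt_eq S hDN]
    exact if_congr (h1.over_iff hL (fun x hx hk => mem_sylow_of_mem_center S (hL hx) hk) hLM hLD hν)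
      rfl rfl

end Normal

end Cfsg.Lib.Char
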