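import Cfsg.Agent.Char.OkuyamaWajima
import Cfsg.Agent.Char.ElemParts
import Cfsg.Agent.Solv.SchurZassenhaus

/-!
# Characters of `p'`-degree of a group with a normal `p`-complement
-/

set_option autoImplicit false

open scoped ComplexConjugate commutatorElement
open Cfsg

namespace Cfsg.Lib.Char

universe u

section Lin

variable {N : Type*} {G : Type u} [Group N] [Group G] [Finite G] {i : N →* G}

theorem monoidHom_eq_of_mul_eq (hi : Function.Injective i) (hN : i.range.Normal) {χ : G → ℂ}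
    (hχ : IsCharacter G χ) (hirr : IsIrrCharacter N fun n => χ (i n)) {μ μ' : G →* ℂˣ}
    (h1 : ∀ n, μ (i n) = 1) (h2 : ∀ n, μ' (i n) = 1)
    (h : ∀ g, χ g * μ g = χ g * μ' g) : μ = μ' := by
  have := Fintype.ofFinite G
  have := Fintype.ofFinite i.range
  ext g
  obtain ⟨_, ⟨n, rfl⟩, hn⟩ := exists_apply_coset_ne_zero_of_res_irr (N := i.range) hχ
    (by
      have := hirr.comp_equiv (MonoidHom.ofInjective hi).symm
      simpa only [MonoidHom.apply_ofInjective_symm] using this) g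
  have := mul_left_cancel₀ hn (h (i n * g))
  rwa [map_mul, map_mul, h1, h2, one_mul, one_mul] at this

theorem ext_of_coprime_detOrder (hi : Function.Injective i) (hN : i.range.Normal) {θ : N → ℂ}
    (hθ : IsIrrCharacter N θ) (hinv : ∀ g, InvBy i θ g)
    (hc : i.range.index.Coprime (detOrder θ * charDegree θ)) : Ext i θ := by
  have : Finite N := Finite.of_injective i hi
  refine (ext_toRange hi).1 (exists_ext_of_coprime (isIrr_toRange hi hθ) (invariant_toRange hi hinv)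
    (Deg.apply_one_eq (isIrr_toRange hi hθ).isCharacter) ?_)
  rw [deg_toRange]
  have : detOrder (toRange hi θ) = detOrder θ :=
    detOrder_comp_of_surjective hθ.isCharacter (MonoidHom.ofInjective hi).symm.toMonoidHom
      (MonoidHom.ofInjective hi).symm.surjective
  rwa [this]

theorem exists_pow_eq_of_coprime {S : Type*} [Group S] [Finite S] {d : ℕ}
    (hd : d.Coprime (Nat.card S)) (τ : S →* ℂˣ) : ∃ μ : S →* ℂˣ, μ ^ d = τ := by
  obtain ⟨m, hm⟩ := exists_pow_eq_self_of_coprime (x := τ)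
    (hd.coprime_dvd_right (orderOf_monoidHom_dvd_card τ))
  refine ⟨τ ^ m, MonoidHom.ext fun s => ?_⟩
  have := DFunLike.congr_fun hm s
  simp only [MonoidHom.pow_apply] at this ⊢
  rw [← pow_mul, mul_comm, pow_mul, this]

theorem eq_of_pow_eq_of_coprime {S : Type*} [Group S] [Finite S] {d : ℕ}
    (hd : d.Coprime (Nat.card S)) {μ μ' : S →* ℂˣ} (h : μ ^ d = μ' ^ d) : μ = μ' := by
  refine MonoidHom.ext fun s => ?_
  have h0 := DFunLike.congr_fun h s
  simp only [MonoidHom.pow_apply] at h0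
  have h1 : (μ s * (μ' s)⁻¹) ^ d = 1 := by rw [mul_pow, h0, inv_pow, mul_inv_cancel]
  have h3 : (μ s * (μ' s)⁻¹) ^ Nat.card S = 1 := by
    rw [mul_pow, inv_pow, ← map_pow, ← map_pow, pow_card_eq_one', map_one, map_one, inv_one, mul_one]
  have h2 := Nat.dvd_gcd (orderOf_dvd_of_pow_eq_one h1) (orderOf_dvd_of_pow_eq_one h3)
  rw [hd, Nat.dvd_one, orderOf_eq_one_iff] at h2
  exact mul_inv_eq_one.1 h2

end Lin

section Group

variable {Γ : Type*} [Group Γ]

theorem relIndex_sup_of_normalizes [Finite Γ] {A K : Subgroup Γ}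
    (h : K ≤ Subgroup.normalizer (A : Set Γ)) : K.relIndex (A ⊔ K) = K.relIndex A := by
  have h1 := Solv.card_sup_mul_card_inf_of_le_normalizer h
  rw [← Solv.card_mul_relIndex_of_le (le_sup_right : K ≤ A ⊔ K), ← Solv.card_inf_mul_relIndex K A,
    inf_comm K A] at h1
  have h2 : 0 < Nat.card K * Nat.card (A ⊓ K : Subgroup Γ) := Nat.mul_pos Nat.card_pos Nat.card_pos
  exact Nat.eq_of_mul_eq_mul_left h2 (by linarith)

theorem relIndex_sup_dvd_card {Q S : Subgroup Γ} (h : S ≤ Subgroup.normalizer (Q : Set Γ)) :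
    Q.relIndex (Q ⊔ S) ∣ Nat.card S := by
  rw [Solv.Coprime.relIndex_sup_of_le_normalizer h]
  exact Subgroup.relIndex_dvd_card Q S

theorem coprime_relIndex_sup [Finite Γ] {p : ℕ} [hp : Fact p.Prime] {Q S : Subgroup Γ}
    (h : S ≤ Subgroup.normalizer (Q : Set Γ)) (hS : IsPGroup p S) {d : ℕ} (hd : ¬ p ∣ d) :
    d.Coprime (Q.relIndex (Q ⊔ S)) := by
  obtain ⟨n, hn⟩ := hS.exists_card_eq
  exact ((hp.out.coprime_iff_not_dvd.2 hd).symm.pow_right n).coprime_dvd_right
    (hn ▸ relIndex_sup_dvd_card h)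

theorem mem_of_mem_sup_of_coprime {p : ℕ} [hp : Fact p.Prime] {Q S : Subgroup Γ}
    (h : S ≤ Subgroup.normalizer (Q : Set Γ)) (hS : IsPGroup p S) {x : Γ} (hx : x ∈ Q ⊔ S)
    (ho : ¬ p ∣ orderOf x) : x ∈ Q := by
  have := Solv.Coprime.normal_subgroupOf_sup h
  obtain ⟨q, hq, s, hs, e⟩ := (Solv.mem_sup_of_le_normalizer h).1 hx
  let π := QuotientGroup.mk' (Q.subgroupOf (Q ⊔ S))
  have h1 : π ⟨x, hx⟩ = π ⟨s, Subgroup.mem_sup_right hs⟩ := by
    have : (⟨x, hx⟩ : (Q ⊔ S : Subgroup Γ)) =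
        ⟨q, Subgroup.mem_sup_left hq⟩ * ⟨s, Subgroup.mem_sup_right hs⟩ := Subtype.ext e.symm
    rw [this, map_mul, QuotientGroup.mk'_apply,
      (QuotientGroup.eq_one_iff (⟨q, Subgroup.mem_sup_left hq⟩ : (Q ⊔ S : Subgroup Γ))).2 hq, one_mul]
  obtain ⟨k, hk⟩ := hS ⟨s, hs⟩
  have h2 : orderOf (π ⟨x, hx⟩) ∣ p ^ k := by
    rw [h1, orderOf_dvd_iff_pow_eq_one, ← map_pow]
    have : (⟨s, Subgroup.mem_sup_right hs⟩ : (Q ⊔ S : Subgroup Γ)) ^ p ^ k = 1 :=
      Subtype.ext (congrArg (Subtype.val : S → Γ) hk)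
    rw [this, map_one]
  have h3 : orderOf (π ⟨x, hx⟩) ∣ orderOf x := by
    rw [← Subgroup.orderOf_mk x hx]; exact orderOf_map_dvd π _
  have h4 := Nat.dvd_gcd h2 h3
  rw [((hp.out.coprime_iff_not_dvd.2 ho).pow_left k), Nat.dvd_one, orderOf_eq_one_iff] at h4
  exact (QuotientGroup.eq_one_iff (⟨x, hx⟩ : (Q ⊔ S : Subgroup Γ))).1 h4

theorem exists_retraction {Q S : Subgroup Γ} (h : S ≤ Subgroup.normalizer (Q : Set Γ))
    (hd : Disjoint Q S) : ∃ r : (Q ⊔ S : Subgroup Γ) →* S,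
      (∀ q, r (Subgroup.inclusion le_sup_left q) = 1) ∧
      ∀ s, r (Subgroup.inclusion le_sup_right s) = s := by
  have := Solv.Coprime.normal_subgroupOf_sup h
  let π := QuotientGroup.mk' (Q.subgroupOf (Q ⊔ S))
  let f : S →* _ := π.comp (Subgroup.inclusion le_sup_right)
  have hf : Function.Bijective f := by
    constructor
    · rw [injective_iff_map_eq_one]
      intro s hs
      have : (s : Γ) ∈ Q := (QuotientGroup.eq_one_iff
        (Subgroup.inclusion (le_sup_right : S ≤ Q ⊔ S) s)).1 hs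
      exact Subtype.ext (Subgroup.disjoint_def.1 hd this s.2)
    · intro y
      obtain ⟨⟨x, hx⟩, rfl⟩ := QuotientGroup.mk_surjective y
      obtain ⟨s, hs, q, hq, rfl⟩ := (Solv.mem_sup_of_le_normalizer' h).1 (sup_comm Q S ▸ hx)
      refine ⟨⟨s, hs⟩, QuotientGroup.eq.2 ?_⟩
      change s⁻¹ * (s * q) ∈ Q
      rwa [inv_mul_cancel_left]
  let e := MulEquiv.ofBijective f hf
  refine ⟨e.symm.toMonoidHom.comp π, fun q => ?_, fun s => e.symm_apply_apply s⟩
  have : π (Subgroup.inclusion le_sup_left q) = 1 := (QuotientGroup.eq_one_iff _).2 q.2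
  rw [MonoidHom.comp_apply, this, map_one]

theorem monoidHom_sup_ext {M : Type*} [Monoid M] {Q S : Subgroup Γ}
    (h : S ≤ Subgroup.normalizer (Q : Set Γ)) {f g : (Q ⊔ S : Subgroup Γ) →* M}
    (h1 : ∀ q, f (Subgroup.inclusion le_sup_left q) = g (Subgroup.inclusion le_sup_left q))
    (h2 : ∀ s, f (Subgroup.inclusion le_sup_right s) = g (Subgroup.inclusion le_sup_right s)) :
    f = g := by
  ext ⟨x, hx⟩
  obtain ⟨q, hq, s, hs, rfl⟩ := (Solv.mem_sup_of_le_normalizer h).1 hx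
  have : (⟨q * s, hx⟩ : (Q ⊔ S : Subgroup Γ)) =
      Subgroup.inclusion le_sup_left ⟨q, hq⟩ * Subgroup.inclusion le_sup_right ⟨s, hs⟩ := rfl
  rw [this, map_mul, map_mul, h1, h2]

theorem invBy_res_le {Q M : Subgroup Γ} (h : Q ≤ M) {φ : M → ℂ} {g : Γ}
    (hg : InvBy M.subtype φ g) : InvBy Q.subtype (fun q => φ (Subgroup.inclusion h q)) g :=
  fun _ _ e => hg _ _ e

end Group

section ExtLemma

variable {Γ : Type u} [Group Γ] [Finite Γ] {p : ℕ} [hp : Fact p.Prime]

/-- Extending over a normal `p`-complement step only depends on a `p`-complement. -/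
theorem extSub_iff_complement {Q S U V : Subgroup Γ} (hS : IsPGroup p S) (hV : ¬ p ∣ Nat.card V)
    (hUQ : U ≤ Subgroup.normalizer (Q : Set Γ))
    (hUM : U ≤ Subgroup.normalizer ((Q ⊔ S : Subgroup Γ) : Set Γ)) (hU : Q ⊔ S ⊔ V = U)
    {φ : (Q ⊔ S : Subgroup Γ) → ℂ} (hφ : IsIrrCharacter _ φ)
    (hinv : ∀ u ∈ U, InvBy (Q ⊔ S).subtype φ u) {θ : Q → ℂ} (hθ : IsIrrCharacter Q θ)
    (he : ∀ q, φ (Subgroup.inclusion le_sup_left q) = θ q) :
    ExtSub (Q ⊔ S).subtype φ U ↔ ExtSub Q.subtype θ (Q ⊔ V) := by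
  have hMU : Q ⊔ S ≤ U := hU ▸ le_sup_left
  have hQU : Q ≤ U := le_sup_left.trans hMU
  have hVU : V ≤ U := hU ▸ le_sup_right
  have hSQ : S ≤ Subgroup.normalizer (Q : Set Γ) := (le_sup_right.trans hMU).trans hUQ
  rw [extSub_subtype_iff hMU]
  constructor
  · intro h
    refine ExtSub.mono (fun q => Subgroup.mem_sup_left q.2) (sup_le hQU hVU) hθ ?_
    rw [extSub_subtype_iff hQU]
    exact Ext.trans (j := Subgroup.inclusion hMU) (k := Subgroup.inclusion le_sup_left)
      (fun _ => rfl) he h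
  intro h
  have hidx : ¬ p ∣ (Q ⊔ S).relIndex U := fun h => hV (h.trans (by
    rw [← hU]; exact relIndex_sup_dvd_card (hVU.trans hUM)))
  have hθi : ∀ u ∈ U, InvBy Q.subtype θ u := fun u hu => by
    have := invBy_res_le le_sup_left (hinv u hu)
    rwa [funext he] at this
  obtain ⟨χ, hχ, hχe⟩ : Ext (Subgroup.inclusion hQU) θ := by
    refine ext_of_forall_prime (Subgroup.inclusion_injective _) (normal_range_inclusion hQU hUQ) hθ
      (fun g => (invBy_inclusion _).2 (hθi g g.2)) fun q hq => ?_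
    by_cases hqp : q = p
    · subst hqp
      refine ⟨(Q ⊔ S).subgroupOf U, fun n => Subgroup.mem_sup_left n.2, hidx, ?_⟩
      rw [← extSub_map_iff (j := U.subtype) (i' := Q.subtype) U.subtype_injective (fun _ => rfl),
        Subgroup.subgroupOf_map_subtype, inf_eq_left.2 hMU, extSub_subtype_iff le_sup_left]
      exact ⟨φ, hφ, he⟩
    · refine ⟨(Q ⊔ V).subgroupOf U, fun n => Subgroup.mem_sup_left n.2, fun hd => ?_, ?_⟩
      · have e : U = Q ⊔ S ⊔ (Q ⊔ V) := by
          rw [← hU, ← sup_assoc, sup_eq_left.2 (le_sup_left : Q ≤ Q ⊔ S)]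
        have h1 : (Q ⊔ V).relIndex U = (Q ⊔ V).relIndex (Q ⊔ S) := by
          conv_lhs => rw [e]
          exact relIndex_sup_of_normalizes ((sup_le hQU hVU).trans hUM)
        have h2 : q ∣ Q.relIndex (Q ⊔ S) :=
          Dvd.dvd.trans (h1 ▸ hd : q ∣ (Q ⊔ V).relIndex (Q ⊔ S))
            (Subgroup.relIndex_dvd_of_le_left _ le_sup_left)
        have h3 := coprime_relIndex_sup hSQ hS (d := q)
          (fun h => hqp ((Nat.prime_dvd_prime_iff_eq hp.out hq).1 h).symm)
        exact hq.coprime_iff_not_dvd.1 h3 h2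
      · rwa [← extSub_map_iff (j := U.subtype) (i' := Q.subtype) U.subtype_injective (fun _ => rfl),
          Subgroup.subgroupOf_map_subtype, inf_eq_left.2 (sup_le hQU hVU)]
  have hnQ := normal_range_inclusion (le_sup_left : Q ≤ Q ⊔ S) (hMU.trans hUQ)
  have hχM := hχ.isCharacter.comp (Subgroup.inclusion hMU)
  obtain ⟨μ, hμ1, hμ2⟩ := exists_monoidHom_of_ext (Subgroup.inclusion_injective _) hnQ hθ hχM
    hφ.isCharacter hχe he
  have hμi : ∀ u : U, InvBy (Subgroup.inclusion hMU) (fun m => (μ m : ℂ)) u := by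
    intro u
    rw [invBy_inclusion, invBy_iff_conjAut (hUM u.2)]
    have := monoidHom_eq_of_mul_eq (Subgroup.inclusion_injective _) hnQ hχM
      ((funext hχe : (fun k => χ (Subgroup.inclusion hQU k)) = θ) ▸ hθ)
      (μ := μ.comp (conjAut _ (hUM u.2)).toMonoidHom) (μ' := μ)
      (fun n => hμ1 ⟨_, Solv.conj_mem_of_mem_normalizer (hUQ u.2) n.2⟩) hμ1 (fun m => by
        have h1 := hinv u u.2 m (conjAut _ (hUM u.2) m) rfl
        rw [hμ2] at h1
        simp only [Pi.mul_apply] at h1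
        rw [← h1]
        congr 1
        exact (invBy_res hχ.isClassFunction u m _ rfl).symm)
    ext m
    exact congrArg Units.val (DFunLike.congr_fun this m)
  obtain ⟨ξ, hξ, hξe⟩ := ext_of_coprime_detOrder (Subgroup.inclusion_injective hMU)
    (normal_range_inclusion hMU hUM) (isIrrCharacter_monoidHom μ) hμi (by
      rw [Deg.deg_monoidHom, mul_one, detOrder_monoidHom, index_range_inclusion]
      refine (coprime_relIndex_sup hSQ hS hidx).coprime_dvd_right ?_
      rw [← index_range_inclusion le_sup_left]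
      refine orderOf_monoidHom_dvd_index μ _ ?_
      rintro _ ⟨n, rfl⟩
      exact hμ1 n)
  have key : ∀ m, (χ * ξ) (Subgroup.inclusion hMU m) = φ m := fun m => by
    rw [hμ2, Pi.mul_apply, hξe]; rfl
  exact ⟨χ * ξ, (hχ.isCharacter.mul hξ.isCharacter).isIrrCharacter_of_comp _
    ((funext key).symm ▸ hφ), key⟩

end ExtLemma

/-- `φ` is the extension of `θ` to `Q S` whose determinant on `S` is `μ ^ θ(1)`. -/
structure Param {Γ : Type*} [Group Γ] (Q S : Subgroup Γ) (φ : (Q ⊔ S : Subgroup Γ) → ℂ)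
    (θ : Q → ℂ) (μ : S →* ℂˣ) : Prop where
  irr : IsIrrCharacter _ φ
  irr' : IsIrrCharacter Q θ
  ext : ∀ q, φ (Subgroup.inclusion le_sup_left q) = θ q
  det : μ ^ charDegree θ = (detHom φ).comp (Subgroup.inclusion le_sup_right)

namespace Param

variable {Γ : Type u} [Group Γ] [Finite Γ] {p : ℕ} [hp : Fact p.Prime] {Q S : Subgroup Γ}
  {φ φ' : (Q ⊔ S : Subgroup Γ) → ℂ} {θ θ' : Q → ℂ} {μ μ' : S →* ℂˣ}

omit [Finite Γ] in
theorem deg (h : Param Q S φ θ μ) : charDegree φ = charDegree θ :=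
  Deg.deg_congr (by rw [← h.ext, map_one])

omit [Finite Γ] in
theorem inv (h : Param Q S φ θ μ) : ∀ s ∈ S, InvBy Q.subtype θ s := fun s hs => by
  have := invBy_res_le le_sup_left (invBy_self h.irr.isClassFunction s (Subgroup.mem_sup_right hs))
  rwa [funext h.ext] at this

omit hp in
theorem not_dvd (hQ : ¬ p ∣ Nat.card Q) (hθ : IsIrrCharacter Q θ) : ¬ p ∣ charDegree θ :=
  fun h => hQ (h.trans (Deg.deg_dvd_card hθ))

theorem coprime (hS : IsPGroup p S) {d : ℕ} (hd : ¬ p ∣ d) : d.Coprime (Nat.card S) := by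
  obtain ⟨n, hn⟩ := hS.exists_card_eq
  rw [hn]
  exact (hp.out.coprime_iff_not_dvd.2 hd).symm.pow_right n

theorem exists_of_irr (hS : IsPGroup p S) (hn : S ≤ Subgroup.normalizer (Q : Set Γ))
    (hφ : IsIrrCharacter _ φ) (hd : ¬ p ∣ charDegree φ) : ∃ θ μ, Param Q S φ θ μ := by
  obtain ⟨μ, hμ⟩ := exists_pow_eq_of_coprime (coprime hS hd)
    ((detHom φ).comp (Subgroup.inclusion le_sup_right))
  refine ⟨fun q => φ (Subgroup.inclusion le_sup_left q), μ, hφ,
    irr_comp_of_coprime (Subgroup.inclusion_injective _)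
      (normal_range_inclusion _ (sup_le Subgroup.le_normalizer hn)) hφ ?_, fun _ => rfl, ?_⟩
  · rw [index_range_inclusion]; exact coprime_relIndex_sup hn hS hd
  · rw [Deg.deg_comp, hμ]

theorem unique_left (hS : IsPGroup p S) (hQ : ¬ p ∣ Nat.card Q) (h : Param Q S φ θ μ)
    (h' : Param Q S φ θ' μ') : θ = θ' ∧ μ = μ' := by
  obtain rfl : θ = θ' := funext fun q => (h.ext q).symm.trans (h'.ext q)
  exact ⟨rfl, eq_of_pow_eq_of_coprime (coprime hS (not_dvd hQ h.irr')) (h.det.trans h'.det.symm)⟩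

theorem unique (hS : IsPGroup p S) (hQ : ¬ p ∣ Nat.card Q)
    (hn : S ≤ Subgroup.normalizer (Q : Set Γ)) (h : Param Q S φ θ μ) (h' : Param Q S φ' θ μ) :
    φ = φ' := by
  obtain ⟨ν, h1, rfl⟩ := exists_monoidHom_of_ext (Subgroup.inclusion_injective _)
    (normal_range_inclusion _ (sup_le Subgroup.le_normalizer hn)) h.irr' h.irr.isCharacter
    h'.irr.isCharacter h.ext h'.ext
  have h2 := h'.det
  rw [detHom_mul_monoidHom h.irr.isCharacter (Deg.apply_one_eq h.irr.isCharacter), h.det,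
    h.deg] at h2
  have h3 : ν.comp (Subgroup.inclusion le_sup_right) = 1 := by
    refine eq_of_pow_eq_of_coprime (coprime hS (not_dvd hQ h.irr')) ?_
    ext s
    have := DFunLike.congr_fun h2 s
    simp only [MonoidHom.comp_apply, MonoidHom.mul_apply, left_eq_mul] at this
    simpa using congrArg Units.val this
  have h4 : ν = 1 := monoidHom_sup_ext hn h1 fun s => DFunLike.congr_fun h3 s
  ext g
  simp [h4]

theorem exists_of_inv (hS : IsPGroup p S) (hQ : ¬ p ∣ Nat.card Q)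
    (hn : S ≤ Subgroup.normalizer (Q : Set Γ)) (hθ : IsIrrCharacter Q θ)
    (hi : ∀ s ∈ S, InvBy Q.subtype θ s) (μ : S →* ℂˣ) : ∃ φ, Param Q S φ θ μ := by
  obtain ⟨η, hη, he⟩ := ext_of_coprime_card
    (Subgroup.inclusion_injective (le_sup_left : Q ≤ Q ⊔ S))
    (normal_range_inclusion _ (sup_le Subgroup.le_normalizer hn)) hθ
    (fun g => (invBy_inclusion _).2 (invBy_sup Subgroup.le_normalizer hn
      (invBy_self hθ.isClassFunction) hi g g.2))
    (by rw [index_range_inclusion]; exact coprime_relIndex_sup hn hS hQ)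
  obtain ⟨τ, hτ⟩ := exists_pow_eq_of_coprime (coprime hS (not_dvd hQ hθ))
    ((detHom η).comp (Subgroup.inclusion le_sup_right))
  obtain ⟨r, hr1, hr2⟩ := exists_retraction hn
    (disjoint_iff.2 (Solv.inf_eq_bot_of_coprime_card (coprime hS hQ)))
  refine ⟨η * fun g => (((μ * τ⁻¹).comp r) g : ℂ), hη.mul_monoidHom _, hθ, fun q => by
    simp [hr1, he], ?_⟩
  have hd : η 1 = charDegree θ := by rw [← Deg.apply_one_eq hθ.isCharacter, ← he, map_one]
  rw [detHom_mul_monoidHom hη.isCharacter hd]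
  ext s
  have := DFunLike.congr_fun hτ s
  simp only [MonoidHom.comp_apply, MonoidHom.pow_apply] at this
  simp only [MonoidHom.comp_apply, MonoidHom.pow_apply, MonoidHom.mul_apply, hr2, ← this,
    MonoidHom.inv_apply, mul_pow, inv_pow]
  rw [mul_comm (μ s ^ _), mul_inv_cancel_left]

theorem conjugate (h : Param Q S φ θ μ) {g : Γ} (h1 : g ∈ Subgroup.normalizer (Q : Set Γ))
    (h2 : g ∈ Subgroup.normalizer (S : Set Γ))
    (h3 : g ∈ Subgroup.normalizer ((Q ⊔ S : Subgroup Γ) : Set Γ)) :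
    Param Q S (fun m => φ (conjAut _ h3 m)) (fun q => θ (conjAut Q h1 q))
      (μ.comp (conjAut S h2).toMonoidHom) where
  irr := h.irr.comp_equiv _
  irr' := h.irr'.comp_equiv _
  ext q := h.ext (conjAut Q h1 q)
  det := by
    have e1 := detHom_comp h.irr.isCharacter (conjAut _ h3).toMonoidHom
    have e2 := Deg.deg_comp (conjAut Q h1).toMonoidHom θ
    simp only [MulEquiv.coe_toMonoidHom] at e1 e2
    rw [e1, e2]
    ext s
    exact congrArg Units.val (DFunLike.congr_fun h.det (conjAut S h2 s))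

/-- on central elements of `S` the central character is `μ` -/
theorem apply_eq (hS : IsPGroup p S) (hQ : ¬ p ∣ Nat.card Q) (h : Param Q S φ θ μ) (s : S)
    {c : ℂˣ} {k : ℕ} (hc : c ^ p ^ k = 1)
    (hs : ∀ x, φ (Subgroup.inclusion le_sup_right s * x) = c * φ x) : μ s = c := by
  have h1 := detChar_of_forall_mul_eq h.irr.isCharacter (Deg.apply_one_eq h.irr.isCharacter) hs
  have h2 := congrArg Units.val (DFunLike.congr_fun h.det s)
  simp only [MonoidHom.comp_apply, MonoidHom.pow_apply, coe_detHom, h1, h.deg] at h2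
  have h3 : (μ s * c⁻¹) ^ charDegree θ = 1 := by
    rw [mul_pow, inv_pow, mul_inv_eq_one]
    exact Units.ext (by simpa using h2)
  obtain ⟨j, hj⟩ := hS s
  have h4 : (μ s * c⁻¹) ^ p ^ (j + k) = 1 := by
    rw [mul_pow, inv_pow, pow_add, pow_mul, ← map_pow, hj, map_one, one_pow, mul_comm (p ^ j),
      pow_mul, hc, one_pow, inv_one, mul_one]
  have h5 := Nat.dvd_gcd (orderOf_dvd_of_pow_eq_one h4) (orderOf_dvd_of_pow_eq_one h3)
  rw [((hp.out.coprime_iff_not_dvd.2 (not_dvd hQ h.irr')).pow_left _), Nat.dvd_one,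
    orderOf_eq_one_iff] at h5
  exact mul_inv_eq_one.1 h5

end Param

end Cfsg.Lib.Char
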