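import Cfsg.Agent.Char.GlaubermanAmb
import Cfsg.Agent.Solv.ActionTransport

/-!
# The Okuyama–Wajima extension theorem
-/

set_option autoImplicit false

open scoped ComplexConjugate commutatorElement
open Cfsg

namespace Cfsg.Lib.Char

universe u

theorem card_eq_of_rel {A B : Type*} (R : A → B → Prop) (h1 : ∀ a, ∃! b, R a b)
    (h2 : ∀ b, ∃! a, R a b) : Nat.card A = Nat.card B := by
  choose f hf hf' using h1
  refine Nat.card_congr (Equiv.ofBijective f ⟨fun a a' h => ?_, fun b => ?_⟩)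
  · exact (h2 (f a)).unique (hf a) (h ▸ hf a')
  · obtain ⟨a, ha, -⟩ := h2 b
    exact ⟨a, (hf' a b ha).symm⟩

section Group

variable {Γ : Type*} [Group Γ] {K W V : Subgroup Γ}

theorem le_normalizer_sup_of_commutator_le [Finite Γ] (hV : V ≤ Subgroup.normalizer (K : Set Γ))
    (hW : W ≤ V) (hc : ⁅V, V⁆ ≤ K) : V ≤ Subgroup.normalizer ((K ⊔ W : Subgroup Γ) : Set Γ) := by
  intro v hv
  refine Solv.mem_normalizer_of_conj_mem fun x hx => ?_
  obtain ⟨k, hk, w, hw, rfl⟩ := (Solv.mem_sup_of_le_normalizer (hW.trans hV)).1 hx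
  have : v * (k * w) * v⁻¹ = v * k * v⁻¹ * ⁅v, w⁆ * w := by
    rw [commutatorElement_def]; group
  rw [this]
  exact Subgroup.mul_mem_sup (K.mul_mem (Solv.conj_mem_of_mem_normalizer (hV hv) hk)
    (hc (Subgroup.commutator_mem_commutator hv (hW hw)))) hw

theorem commutator_sup_le_of_le (hW : W ≤ Subgroup.normalizer (K : Set Γ)) (hc : ⁅W, W⁆ ≤ K) :
    ⁅K ⊔ W, K ⊔ W⁆ ≤ K := by
  rw [Subgroup.commutator_le]
  intro x hx y hy
  obtain ⟨k, hk, w, hw, rfl⟩ := (Solv.mem_sup_of_le_normalizer hW).1 hx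
  obtain ⟨k', hk', w', hw', rfl⟩ := (Solv.mem_sup_of_le_normalizer hW).1 hy
  have : ⁅k * w, k' * w'⁆ = k * (w * k' * w⁻¹) * ⁅w, w'⁆ * (w' * k⁻¹ * w'⁻¹) * k'⁻¹ := by
    simp only [commutatorElement_def]; group
  rw [this]
  exact K.mul_mem (K.mul_mem (K.mul_mem (K.mul_mem hk (Solv.conj_mem_of_mem_normalizer (hW hw) hk'))
    (hc (Subgroup.commutator_mem_commutator hw hw')))
    (Solv.conj_mem_of_mem_normalizer (hW hw') (K.inv_mem hk))) (K.inv_mem hk')

theorem not_dvd_card_sup {p : ℕ} (hp : p.Prime) (hW : W ≤ Subgroup.normalizer (K : Set Γ))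
    (h1 : ¬ p ∣ Nat.card K) (h2 : ¬ p ∣ Nat.card W) : ¬ p ∣ Nat.card (K ⊔ W : Subgroup Γ) :=
  fun h => ((hp.dvd_mul.1 (h.trans (Solv.card_sup_dvd_of_le_normalizer hW))).elim h1 h2)

theorem exists_cocyclic_fixed [Finite Γ] {p : ℕ} [hp : Fact p.Prime] {P : Subgroup Γ}
    (hP : IsPGroup p P) (hPK : P ≤ Subgroup.normalizer (K : Set Γ))
    (hVP : V ≤ Subgroup.normalizer (P : Set Γ)) (hVK : V ≤ Subgroup.normalizer (K : Set Γ))
    (hV : ¬ p ∣ Nat.card V) (hc : ⁅V, V⁆ ≤ Subgroup.centralizer (P : Set Γ))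
    (hne : ¬ K ≤ Subgroup.centralizer (P : Set Γ)) :
    ∃ (R W : Subgroup Γ) (v : Γ), R ≤ P ∧ V ≤ Subgroup.normalizer (R : Set Γ) ∧
      ¬ K ≤ Subgroup.centralizer (R : Set Γ) ∧
      P ≤ Subgroup.normalizer ((K ⊓ Subgroup.centralizer (R : Set Γ) : Subgroup Γ) : Set Γ) ∧
      W ≤ V ∧ W ≤ Subgroup.centralizer (R : Set Γ) ∧ v ∈ V ∧ W ⊔ Subgroup.zpowers v = V := by
  let P₀ := (Subgroup.centralizer (K : Set Γ)).subgroupOf P
  have hn : ∀ {g x : Γ}, g ∈ Subgroup.normalizer (K : Set Γ) →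
      x ∈ Subgroup.centralizer (K : Set Γ) → g * x * g⁻¹ ∈ Subgroup.centralizer (K : Set Γ) :=
    fun hg hx => Solv.conj_mem_of_mem_normalizer (Solv.normalizer_le_normalizer_centralizer K hg) hx
  have hP₀ : P₀.Normal := ⟨fun x hx y => hn (hPK y.2) hx⟩
  let Z := (Subgroup.center (P ⧸ P₀)).comap (QuotientGroup.mk' P₀)
  have hZ : ∀ x : P, x ∈ Z ↔ ∀ y : P,
      ((y : Γ) * x)⁻¹ * (x * y) ∈ Subgroup.centralizer (K : Set Γ) := by
    intro x
    rw [Subgroup.mem_comap, Subgroup.mem_center_iff, QuotientGroup.mk'_apply,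
      (QuotientGroup.mk'_surjective P₀).forall]
    refine forall_congr' fun y => ?_
    rw [QuotientGroup.mk'_apply, ← QuotientGroup.mk_mul, ← QuotientGroup.mk_mul, QuotientGroup.eq]
    rfl
  have hZP : ¬ Z ≤ P₀ := by
    intro h
    have hnt : Nontrivial (P ⧸ P₀) := by
      rw [QuotientGroup.nontrivial_iff]
      intro ht
      refine hne (Subgroup.le_centralizer_iff.2 fun x hx => ?_)
      have : (⟨x, hx⟩ : P) ∈ P₀ := ht ▸ Subgroup.mem_top _
      exact this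
    have := (hP.to_quotient P₀).center_nontrivial
    obtain ⟨z, hz⟩ := exists_ne (1 : Subgroup.center (P ⧸ P₀))
    obtain ⟨x, hx⟩ := QuotientGroup.mk'_surjective P₀ z
    refine hz (Subtype.ext ?_)
    rw [← hx]
    exact (QuotientGroup.eq_one_iff x).2 (h (by rw [Subgroup.mem_comap, hx]; exact z.2))
  let φ : V →* MulAut P := conjHom P V fun s hs g hg => Solv.conj_mem_of_mem_normalizer (hVP hs) hg
  have hφ : ∀ (s : V) (g : P), (φ s g : Γ) = s * g * (s : Γ)⁻¹ := fun _ _ => rfl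
  have hcomm : ∀ s t : V, φ s * φ t = φ t * φ s := by
    intro s t
    rw [← commutatorElement_eq_one_iff_mul_comm, ← map_commutatorElement]
    ext g
    rw [hφ, MulAut.one_apply, mul_inv_eq_iff_eq_mul]
    exact ((hc (Subgroup.commutator_mem_commutator s.2 t.2)) g g.2).symm
  have : IsMulCommutative φ.range := ⟨⟨by
    rintro ⟨_, s, rfl⟩ ⟨_, t, rfl⟩
    exact Subtype.ext (hcomm s t)⟩⟩
  have hinv : Solv.Act.Inv (MonoidHom.id (MulAut P)) φ.range Z := by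
    rintro _ ⟨s, rfl⟩ x hx
    rw [hZ] at hx ⊢
    intro y
    have := hn (hVK s.2) (hx (φ s⁻¹ y))
    convert this using 1
    simp only [MonoidHom.id_apply, hφ, Subgroup.coe_inv]
    group
  have hcop : (Nat.card φ.range).Coprime (Nat.card Z) := by
    obtain ⟨n, hn⟩ := (hP.to_subgroup Z).exists_card_eq
    rw [hn]
    refine Nat.Coprime.pow_right n (Nat.Coprime.symm (hp.out.coprime_iff_not_dvd.2 fun h => hV ?_))
    exact h.trans (Subgroup.card_range_dvd φ)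
  have key := mt (Solv.Act.le_of_forall_cocyclic hinv hcop (U := P₀)) hZP
  push Not at key
  obtain ⟨C, hCB, ⟨_, ⟨v, rfl⟩, hv⟩, hC⟩ := key
  have hfix : ∀ x : P, x ∈ Solv.Act.fix (MonoidHom.id (MulAut P)) C ↔ ∀ c ∈ C, c x = x :=
    fun x => Solv.Act.mem_fix
  refine ⟨(Z ⊓ Solv.Act.fix (MonoidHom.id (MulAut P)) C).map P.subtype, (C.comap φ).map V.subtype,
    v, Subgroup.map_subtype_le _, fun s hs => ?_, fun h => hC fun x hx => ?_, fun y hy => ?_,
    Subgroup.map_subtype_le _, ?_, v.2, ?_⟩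
  · refine Solv.mem_normalizer_of_conj_mem ?_
    rintro _ ⟨x, hx, rfl⟩
    refine ⟨φ ⟨s, hs⟩ x, ⟨hinv _ ⟨_, rfl⟩ x hx.1, (hfix _).2 fun c hc => ?_⟩, rfl⟩
    obtain ⟨t, rfl⟩ := hCB hc
    rw [← MulAut.mul_apply, hcomm, MulAut.mul_apply, (hfix _).1 hx.2 _ hc]
  · exact Subgroup.le_centralizer_iff.1 h ⟨x, hx, rfl⟩
  · refine Solv.mem_normalizer_of_conj_mem fun k hk =>
      ⟨Solv.conj_mem_of_mem_normalizer (hPK hy) hk.1, ?_⟩
    rintro _ ⟨x, hx, rfl⟩
    have h1 := (hZ x).1 hx.1 ⟨y, hy⟩ k hk.1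
    have h2 := hk.2 x ⟨x, hx, rfl⟩
    simp only [Subgroup.coe_subtype] at h1 h2 ⊢
    calc (x : Γ) * (y * k * y⁻¹) = y * x * (((y : Γ) * x)⁻¹ * (x * y) * k) * y⁻¹ := by group
      _ = y * (x * k) * ((y : Γ) * x)⁻¹ * x := by rw [← h1]; group
      _ = _ := by rw [h2]; group
  · rintro _ ⟨w, hw, rfl⟩ _ ⟨x, hx, rfl⟩
    have := congrArg Subtype.val ((hfix x).1 hx.2 _ hw)
    rw [hφ, mul_inv_eq_iff_eq_mul] at this
    exact this.symm
  · have e : C.comap φ ⊔ Subgroup.zpowers v = ⊤ := by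
      have h1 := Subgroup.comap_sup_eq_of_le_range φ hCB
        (K := Subgroup.zpowers (φ v)) (by simp)
      rw [hv, ← MonoidHom.map_zpowers, Subgroup.comap_map_eq, sup_comm _ φ.ker, ← sup_assoc,
        sup_eq_left.2 (Subgroup.ker_le_comap φ C)] at h1
      rw [h1, eq_top_iff]
      exact fun x _ => ⟨x, rfl⟩
    have := congrArg (Subgroup.map V.subtype) e
    rwa [Subgroup.map_sup, MonoidHom.map_zpowers, ← MonoidHom.range_eq_map,
      Subgroup.range_subtype] at this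

end Group

section Step

variable {Γ : Type u} [Group Γ] [Finite Γ] {K W V : Subgroup Γ} {v : Γ}

omit [Finite Γ] in
theorem invBy_zpowers {A : Subgroup Γ} (hv : v ∈ Subgroup.normalizer (A : Set Γ))
    {ψ : A → ℂ} (hi : InvBy A.subtype ψ v) : ∀ x ∈ Subgroup.zpowers v, InvBy A.subtype ψ x := by
  let I : Subgroup Γ :=
    { carrier := {x | x ∈ Subgroup.normalizer (A : Set Γ) ∧ InvBy A.subtype ψ x}
      one_mem' := ⟨Subgroup.one_mem _, fun n n' e => by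
        rw [one_mul, inv_one, mul_one] at e; rw [Subtype.ext e]⟩
      mul_mem' := fun {a b} ha hb => ⟨Subgroup.mul_mem _ ha.1 hb.1, ha.2.mul hb.2 fun n => by
        rw [Subgroup.range_subtype]; exact Solv.conj_mem_of_mem_normalizer hb.1 n.2⟩
      inv_mem' := fun {a} ha => ⟨Subgroup.inv_mem _ ha.1, ha.2.inv⟩ }
  have : Subgroup.zpowers v ≤ I := Subgroup.zpowers_le.2 ⟨hv, hi⟩
  exact fun x hx => (this hx).2

theorem extSub_sup_zpowers {A : Subgroup Γ} (hv : v ∈ Subgroup.normalizer (A : Set Γ))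
    {ψ : A → ℂ} (hψ : IsIrrCharacter A ψ) (hi : InvBy A.subtype ψ v) :
    ExtSub A.subtype ψ (A ⊔ Subgroup.zpowers v) := by
  have hz : Subgroup.zpowers v ≤ Subgroup.normalizer (A : Set Γ) := by simpa using hv
  rw [extSub_subtype_iff le_sup_left]
  have := normal_range_inclusion (le_sup_left : A ≤ A ⊔ Subgroup.zpowers v)
    (sup_le Subgroup.le_normalizer hz)
  refine ext_of_isCyclic (Subgroup.inclusion_injective _) ?_ hψ fun g => (invBy_inclusion _).2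
    (invBy_sup Subgroup.le_normalizer hz (invBy_self hψ.isClassFunction) ?_ g g.2)
  · refine ⟨⟨((⟨v, Subgroup.mem_sup_right (Subgroup.mem_zpowers v)⟩ :
      (A ⊔ Subgroup.zpowers v : Subgroup Γ)) : _ ⧸ _), fun x => ?_⟩⟩
    obtain ⟨⟨x, hx⟩, rfl⟩ := QuotientGroup.mk_surjective x
    obtain ⟨_, ⟨n, rfl⟩, a, ha, rfl⟩ := (Solv.mem_sup_of_le_normalizer' hz).1 (sup_comm A _ ▸ hx)
    refine ⟨n, ?_⟩
    simp only
    rw [← QuotientGroup.mk_zpow, QuotientGroup.eq]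
    exact ⟨⟨a, ha⟩, Subtype.ext (by simp)⟩
  · exact invBy_zpowers hv hi

theorem extSub_sup_iff (hV : V ≤ Subgroup.normalizer (K : Set Γ)) (hW : W ≤ V) (hv : v ∈ V)
    (hWv : W ⊔ Subgroup.zpowers v = V) (hc : ⁅V, V⁆ ≤ K) {θ : K → ℂ} (hθ : IsIrrCharacter K θ) :
    ExtSub K.subtype θ (K ⊔ V) ↔ ∃ ψ : (K ⊔ W : Subgroup Γ) → ℂ, IsIrrCharacter _ ψ ∧
      (∀ k, ψ (Subgroup.inclusion le_sup_left k) = θ k) ∧ InvBy (K ⊔ W).subtype ψ v := by
  have hle : K ⊔ W ≤ K ⊔ V := sup_le_sup_left hW K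
  rw [extSub_subtype_iff le_sup_left]
  constructor
  · rintro ⟨χ, h1, h2⟩
    refine ⟨fun a => χ (Subgroup.inclusion hle a),
      (h1.isCharacter.comp _).isIrrCharacter_of_comp (Subgroup.inclusion le_sup_left) ?_, h2, ?_⟩
    · exact (funext h2 : (fun k => χ (Subgroup.inclusion le_sup_left k)) = θ) ▸ hθ
    · exact (invBy_inclusion hle (x := ⟨v, Subgroup.mem_sup_right hv⟩)).1
        (invBy_res h1.isClassFunction _)
  · rintro ⟨ψ, h1, h2, h3⟩
    have := extSub_sup_zpowers (le_normalizer_sup_of_commutator_le hV hW hc hv) h1 h3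
    rw [sup_assoc, hWv, extSub_subtype_iff hle] at this
    exact Ext.trans (j := Subgroup.inclusion hle) (k := Subgroup.inclusion le_sup_left)
      (fun _ => rfl) h2 this

end Step

namespace GlSetup

variable {Γ : Type u} [Group Γ] [Finite Γ] {p : ℕ} [hp : Fact p.Prime]

theorem ow_base {K R C V W : Subgroup Γ} (H : GlSetup p K R C) {v : Γ}
    (hVK : V ≤ Subgroup.normalizer (K : Set Γ)) (hVR : V ≤ Subgroup.normalizer (R : Set Γ))
    (hV : ¬ p ∣ Nat.card V) (hW : W ≤ V) (hWR : W ≤ Subgroup.centralizer (R : Set Γ))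
    (hv : v ∈ V) (hWv : W ⊔ Subgroup.zpowers v = V) (hc : ⁅V, V⁆ ≤ C)
    {θ : K → ℂ} {η : C → ℂ} (hθ : IsIrrCharacter K θ) (hi : ∀ r ∈ R, InvBy K.subtype θ r)
    (hiV : ∀ x ∈ V, InvBy K.subtype θ x) (hη : IsIrrCharacter C η)
    (h : GCor p (Subgroup.inclusion H.le) θ η) :
    ExtSub K.subtype θ (K ⊔ V) ↔ ExtSub C.subtype η (C ⊔ V) := by
  have hVC : V ≤ Subgroup.normalizer (C : Set Γ) := fun x hx => H.mem_normalizer (hVK hx) (hVR hx)
  have hiV' : ∀ x ∈ V, InvBy C.subtype η x := fun x hx =>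
    H.invBy_right hθ hi hη h (hVK hx) (hVC hx) (hiV x hx)
  have hWK := hW.trans hVK
  have hWC := hW.trans hVC
  have hRW : R ≤ Subgroup.centralizer (W : Set Γ) := Subgroup.le_centralizer_iff.1 hWR
  have H' : GlSetup p (K ⊔ W) R (C ⊔ W) :=
    ⟨H.pgrp, not_dvd_card_sup hp.out hWK H.cop
      (fun h => hV (h.trans (Subgroup.card_dvd_of_le hW))),
      Solv.le_normalizer_sup H.norm (hRW.trans (Subgroup.centralizer_le_normalizer _)),
      by rw [Solv.sup_inf_assoc_of_le_normalizer' hWK hWR, ← H.eq]⟩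
  have hWW : ⁅W, W⁆ ≤ C := (Subgroup.commutator_mono hW hW).trans hc
  have hnA : K ⊔ W ≤ Subgroup.normalizer (K : Set Γ) := sup_le Subgroup.le_normalizer hWK
  have hnB : C ⊔ W ≤ Subgroup.normalizer (C : Set Γ) := sup_le Subgroup.le_normalizer hWC
  have habA := commutator_le_range_inclusion le_sup_left
    (commutator_sup_le_of_le hWK (hWW.trans H.le))
  have habB := commutator_le_range_inclusion le_sup_left (commutator_sup_le_of_le hWC hWW)
  have eA := ext_iff_cnt_of_abelian (Subgroup.inclusion_injective _)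
    (normal_range_inclusion le_sup_left hnA) habA hθ fun g => (invBy_inclusion _).2
      (invBy_sup Subgroup.le_normalizer hWK (invBy_self hθ.isClassFunction)
        (fun w hw => hiV w (hW hw)) g g.2)
  have eB := ext_iff_cnt_of_abelian (Subgroup.inclusion_injective _)
    (normal_range_inclusion le_sup_left hnB) habB hη fun g => (invBy_inclusion _).2
      (invBy_sup Subgroup.le_normalizer hWC (invBy_self hη.isClassFunction)
        (fun w hw => hiV' w (hW hw)) g g.2)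
  have hall : ∀ ψ : (K ⊔ W : Subgroup Γ) → ℂ, IsIrrCharacter _ ψ →
      Over (Subgroup.inclusion le_sup_left) ψ θ → ∀ r ∈ R, InvBy (K ⊔ W).subtype ψ r := by
    intro ψ hψ ho r hr a a' e
    obtain ⟨ψ₀, h1, h2, h3⟩ := H'.exists_inv_over le_sup_left hnA H.norm hθ hi
    obtain ⟨lam, h4, rfl⟩ := Over.exists_monoidHom_mul (Subgroup.inclusion_injective _)
      (normal_range_inclusion le_sup_left hnA) habA hθ h1 hψ h3 ho
    simp only [Pi.mul_apply]
    rw [h2 r hr a a' e]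
    congr 2
    obtain ⟨k, hk, w, hw, hkw⟩ := (Solv.mem_sup_of_le_normalizer hWK).1 a.2
    have e1 : a = Subgroup.inclusion le_sup_left ⟨k, hk⟩ * ⟨w, Subgroup.mem_sup_right hw⟩ :=
      Subtype.ext hkw.symm
    have e2 : a' = Subgroup.inclusion le_sup_left ⟨_, H.conj_mem r hr k hk⟩ *
        ⟨w, Subgroup.mem_sup_right hw⟩ := Subtype.ext (by
      have := hRW hr w hw
      simp only [Subgroup.coe_subtype] at e
      change _ = r * k * r⁻¹ * w
      rw [e, ← hkw, mul_assoc (r * k), ← mul_assoc r, mul_assoc (r * k)]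
      congr 1
      rw [mul_inv_eq_iff_eq_mul, mul_assoc, this, inv_mul_cancel_left])
    rw [e1, e2, map_mul, map_mul, h4, h4]
  have hover : ∀ {ψ : (K ⊔ W : Subgroup Γ) → ℂ} {ξ : (C ⊔ W : Subgroup Γ) → ℂ},
      IsIrrCharacter _ ψ → (∀ r ∈ R, InvBy (K ⊔ W).subtype ψ r) → IsIrrCharacter _ ξ →
      GCor p (Subgroup.inclusion H'.le) ψ ξ →
      (Over (Subgroup.inclusion le_sup_left) ψ θ ↔ Over (Subgroup.inclusion le_sup_left) ξ η) :=
    fun h1 h2 h3 h4 => H'.over_iff H le_sup_left le_sup_left hnA h1 h2 h3 h4 hθ hi hη h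
  have hcnt : cnt 0 (Subgroup.inclusion (le_sup_left : K ≤ K ⊔ W)) θ =
      cnt 0 (Subgroup.inclusion (le_sup_left : C ≤ C ⊔ W)) η := by
    rw [cnt_zero, cnt_zero]
    refine card_eq_of_rel (fun a b => GCor p (Subgroup.inclusion H'.le) a.1.1 b.1.1)
      (fun a => ?_) (fun b => ?_)
    · obtain ⟨ξ, h1, h2⟩ := H'.exists_right a.1.2
      have h3 := hall _ a.1.2 a.2
      exact ⟨⟨⟨ξ, h1⟩, (hover a.1.2 h3 h1 h2).1 a.2⟩, h2, fun b hb =>
        Subtype.ext (Subtype.ext (H'.unique_right a.1.2 h3 b.1.2 h1 hb h2))⟩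
    · obtain ⟨ψ, h1, h2, h3⟩ := H'.exists_left b.1.2
      exact ⟨⟨⟨ψ, h1⟩, (hover h1 h2 b.1.2 h3).2 b.2⟩, h3, fun a ha =>
        Subtype.ext (Subtype.ext (H'.unique_left a.1.2 (hall _ a.1.2 a.2) h1 h2 b.1.2 ha h3))⟩
  have hidx : (Subgroup.inclusion (le_sup_left : K ≤ K ⊔ W)).range.index =
      (Subgroup.inclusion (le_sup_left : C ≤ C ⊔ W)).range.index := by
    rw [index_range_inclusion, index_range_inclusion,
      Solv.Coprime.relIndex_sup_of_le_normalizer hWK,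
      Solv.Coprime.relIndex_sup_of_le_normalizer hWC, ← Subgroup.inf_relIndex_right K,
      ← Subgroup.inf_relIndex_right C, H.eq, inf_assoc, inf_eq_right.2 hWR]
  have hext : Ext (Subgroup.inclusion (le_sup_left : K ≤ K ⊔ W)) θ ↔
      Ext (Subgroup.inclusion (le_sup_left : C ≤ C ⊔ W)) η := by
    rw [eA.1, eB.1, hcnt, hidx]
  have hvA := le_normalizer_sup_of_commutator_le hVK hW (hc.trans H.le) hv
  have hvB := le_normalizer_sup_of_commutator_le hVC hW hc hv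
  rw [extSub_sup_iff hVK hW hv hWv (hc.trans H.le) hθ, extSub_sup_iff hVC hW hv hWv hc hη]
  constructor
  · rintro ⟨ψ, h1, h2, h3⟩
    obtain ⟨ξ, h4, h5⟩ := H'.exists_right h1
    have h6 := hall ψ h1 (over_of_ext hθ h2)
    exact ⟨ξ, h4, eB.2 (hext.1 ⟨ψ, h1, h2⟩) ξ h4 ((hover h1 h6 h4 h5).1 (over_of_ext hθ h2)),
      H'.invBy_right h1 h6 h4 h5 hvA hvB h3⟩
  · rintro ⟨ξ, h1, h2, h3⟩
    obtain ⟨ψ, h4, h5, h6⟩ := H'.exists_left h1
    exact ⟨ψ, h4, eA.2 (hext.2 ⟨ξ, h1, h2⟩) ψ h4 ((hover h4 h5 h1 h6).2 (over_of_ext hη h2)),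
      H'.invBy_left h4 h5 h1 h6 hvA (hVR hv) h3⟩

theorem okuyama_wajima_aux {P C V : Subgroup Γ} (hVP : V ≤ Subgroup.normalizer (P : Set Γ))
    (hV : ¬ p ∣ Nat.card V) (hc : ⁅V, V⁆ ≤ C) {η : C → ℂ} (hη : IsIrrCharacter C η) (n : ℕ) :
    ∀ (K : Subgroup Γ) (H : GlSetup p K P C), Nat.card K = n →
      V ≤ Subgroup.normalizer (K : Set Γ) → ∀ θ : K → ℂ, IsIrrCharacter K θ →
      (∀ r ∈ P, InvBy K.subtype θ r) → (∀ x ∈ V, InvBy K.subtype θ x) →
      GCor p (Subgroup.inclusion H.le) θ η →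
      (ExtSub K.subtype θ (K ⊔ V) ↔ ExtSub C.subtype η (C ⊔ V)) := by
  induction n using Nat.strong_induction_on with
  | _ n ih =>
  intro K H hn hVK θ hθ hi hiV h
  by_cases hK : K ≤ Subgroup.centralizer (P : Set Γ)
  · obtain rfl : C = K := H.eq.trans (inf_eq_left.2 hK)
    rw [Over.eq_of_ext hθ hη (χ := θ) (fun _ => rfl) h.over]
  have hCP : C ≤ Subgroup.centralizer (P : Set Γ) := H.eq ▸ inf_le_right
  obtain ⟨R, W, v, hRP, hVR, hKR, hPK, hW, hWR, hv, hWv⟩ :=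
    exists_cocyclic_fixed H.pgrp H.norm hVP hVK hV (hc.trans hCP) hK
  have H₁ : GlSetup p K R (K ⊓ Subgroup.centralizer (R : Set Γ)) :=
    ⟨H.pgrp.to_le hRP, H.cop, hRP.trans H.norm, rfl⟩
  have hCR : Subgroup.centralizer (P : Set Γ) ≤ Subgroup.centralizer (R : Set Γ) :=
    Subgroup.centralizer_le hRP
  have H₂ : GlSetup p (K ⊓ Subgroup.centralizer (R : Set Γ)) P C :=
    ⟨H.pgrp, fun h => H.cop (h.trans (Subgroup.card_dvd_of_le inf_le_left)), hPK, by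
      rw [inf_assoc, inf_eq_right.2 hCR, H.eq]⟩
  have hi₁ : ∀ r ∈ R, InvBy K.subtype θ r := fun r hr => hi r (hRP hr)
  obtain ⟨θ₁, h1, h2⟩ := H₁.exists_right hθ
  have hVK₁ := Solv.le_normalizer_inf_centralizer hVK hVR
  rw [H₁.ow_base hVK hVR hV hW hWR hv hWv (hc.trans H₂.le) hθ hi₁ hiV h1 h2]
  refine ih _ ?_ _ H₂ rfl hVK₁ θ₁ h1
    (fun r hr => H₁.invBy_right hθ hi₁ h1 h2 (H.norm hr) (hPK hr) (hi r hr))
    (fun x hx => H₁.invBy_right hθ hi₁ h1 h2 (hVK hx) (hVK₁ hx) (hiV x hx))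
    ((H₁.gcor_trans H₂.le hθ hi₁ h1 h2 hη).1 h)
  rw [← hn]
  exact lt_of_le_of_ne (Subgroup.card_le_of_le inf_le_left) fun e =>
    hKR (inf_eq_left.1 (Subgroup.eq_of_le_of_card_ge inf_le_left e.ge))

/-- **Okuyama–Wajima.** -/
theorem okuyama_wajima {K P C V : Subgroup Γ} (H : GlSetup p K P C)
    (hVK : V ≤ Subgroup.normalizer (K : Set Γ)) (hVP : V ≤ Subgroup.normalizer (P : Set Γ))
    (hV : ¬ p ∣ Nat.card V) (hc : ⁅V, V⁆ ≤ C) {θ : K → ℂ} {η : C → ℂ} (hθ : IsIrrCharacter K θ)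
    (hi : ∀ r ∈ P, InvBy K.subtype θ r) (hiV : ∀ x ∈ V, InvBy K.subtype θ x)
    (hη : IsIrrCharacter C η) (h : GCor p (Subgroup.inclusion H.le) θ η) :
    ExtSub K.subtype θ (K ⊔ V) ↔ ExtSub C.subtype η (C ⊔ V) :=
  okuyama_wajima_aux hVP hV hc hη _ K H rfl hVK θ hθ hi hiV h

end GlSetup

end Cfsg.Lib.Char
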