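import Cfsg.Agent.Char.Special
import Cfsg.Agent.Char.Extension
import Cfsg.Agent.Char.DegBasic
import Cfsg.Agent.Char.Ramified

/-!
# Counting characters over a given character

`Over i χ θ`: `χ` lies over `θ` along `i : N →* G`; `cnt p i θ` counts the irreducible characters
of `p'`-degree over `θ` (`p = 0`: all of them).  Clifford correspondence, character triples and
Gallagher's count of good classes in this language.
-/

set_option autoImplicit false

open scoped ComplexConjugate
open Cfsg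

namespace Cfsg.Lib.Char

universe u

section Over

variable {N G : Type*} [Group N] [Group G]

/-- `χ` lies over `θ` along `i`. -/
def Over (i : N →* G) (χ : G → ℂ) (θ : N → ℂ) : Prop :=
  ∑ᶠ n, χ (i n) * conj (θ n) ≠ 0

theorem over_iff [Fintype N] {i : N →* G} {χ : G → ℂ} {θ : N → ℂ} :
    Over i χ θ ↔ classInner (fun n => χ (i n)) θ ≠ 0 := by
  rw [Over, finsum_eq_sum_of_fintype, ← card_mul_classInner (fun n => χ (i n)) θ]
  simp

theorem over_subtype_iff {H : Subgroup G} [Fintype H] {χ : G → ℂ} {θ : H → ℂ} :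
    Over H.subtype χ θ ↔ classInner (fun n : H => χ n) θ ≠ 0 := over_iff

theorem over_inclusion_iff {H K : Subgroup G} [Fintype H] (h : H ≤ K) {χ : K → ℂ} {θ : H → ℂ} :
    Over (Subgroup.inclusion h) χ θ ↔ classInner (fun n : H => χ ⟨n, h n.2⟩) θ ≠ 0 := over_iff

/-- `θ` is invariant under conjugation by `g`. -/
def InvBy (i : N →* G) (θ : N → ℂ) (g : G) : Prop :=
  ∀ n n', i n' = g * i n * g⁻¹ → θ n' = θ n

theorem invBy_subtype_iff {K : Subgroup G} [hK : K.Normal] {θ : K → ℂ} {g : G} :
    InvBy K.subtype θ g ↔ g ∈ inertia K θ := by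
  rw [mem_inertia']
  refine ⟨fun h n => h n _ rfl, fun h n n' hn => ?_⟩
  rw [← h n]
  congr 1
  exact Subtype.ext hn

theorem InvBy.of_comp {T : Type*} [Group T] {j : T →* G} {k : N →* T} {i : N →* G}
    (hk : ∀ n, j (k n) = i n) {θ : N → ℂ} {t : T} (h : InvBy i θ (j t)) : InvBy k θ t :=
  fun n n' hn => h n n' (by rw [← hk, ← hk, hn, map_mul, map_mul, map_inv])

theorem InvBy.comp {T : Type*} [Group T] {j : T →* G} (hj : Function.Injective j) {k : N →* T}
    {i : N →* G} (hk : ∀ n, j (k n) = i n) {θ : N → ℂ} {t : T} (h : InvBy k θ t) :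
    InvBy i θ (j t) :=
  fun n n' hn => h n n' (hj (by rw [map_mul, map_mul, map_inv, hk, hk, hn]))

theorem invBy_of_mem {i : N →* G} (hi : Function.Injective i) {θ : N → ℂ}
    (hθ : IsClassFunction N θ) (m : N) : InvBy i θ (i m) := by
  intro n n' hn
  rw [← map_inv, ← map_mul, ← map_mul] at hn
  rw [hi hn, hθ.apply_conj]

theorem InvBy.mul {i : N →* G} {θ : N → ℂ} {g h : G} (hg : InvBy i θ g) (hh : InvBy i θ h)
    (hn : ∀ n, h * i n * h⁻¹ ∈ i.range) : InvBy i θ (g * h) := by
  intro n n' e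
  obtain ⟨m, hm⟩ := hn n
  rw [hg m n' (by rw [hm, e]; group), hh n m hm]

theorem InvBy.inv {i : N →* G} {θ : N → ℂ} {g : G} (hg : InvBy i θ g) : InvBy i θ g⁻¹ := by
  intro n n' e
  exact (hg n' n (by rw [e]; group)).symm

theorem invBy_res {i : N →* G} {χ : G → ℂ} (hχ : IsClassFunction G χ) (g : G) :
    InvBy i (fun n => χ (i n)) g := by
  intro n n' e
  simp only [e, hχ.apply_conj]

/-- the number of irreducible characters of `p'`-degree over `θ` -/
noncomputable def cnt (p : ℕ) (i : N →* G) (θ : N → ℂ) : ℕ :=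
  Nat.card {χ : IrrCharacter G // ¬ p ∣ charDegree χ.1 ∧ Over i χ.1 θ}

theorem cnt_zero (i : N →* G) (θ : N → ℂ) :
    cnt 0 i θ = Nat.card {χ : IrrCharacter G // Over i χ.1 θ} := by
  refine Nat.card_congr (Equiv.subtypeEquivRight fun χ => ?_)
  have := Deg.deg_pos χ.2
  simp only [zero_dvd_iff, and_iff_right_iff_imp]
  intro _; omega

theorem Over.congr {N' G' : Type*} [Group N'] [Group G'] {i : N →* G} {i' : N' →* G'}
    (f : N ≃* N') {χ : G → ℂ} {χ' : G' → ℂ} {θ : N → ℂ} {θ' : N' → ℂ}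
    (h : ∀ n, χ (i n) = χ' (i' (f n))) (hθ : ∀ n, θ n = θ' (f n)) :
    Over i χ θ ↔ Over i' χ' θ' := by
  unfold Over
  rw [← finsum_comp_equiv f.toEquiv]
  simp only [h, hθ]
  rfl

/-- transport of irreducible characters along an isomorphism -/
def irrCongr {G' : Type*} [Group G'] (e : G ≃* G') : IrrCharacter G ≃ IrrCharacter G' where
  toFun χ := ⟨fun g => χ.1 (e.symm g), IsIrrCharacter.comp_equiv χ.2 e.symm⟩
  invFun χ := ⟨fun g => χ.1 (e g), IsIrrCharacter.comp_equiv χ.2 e⟩
  left_inv χ := Subtype.ext (by ext g; simp)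
  right_inv χ := Subtype.ext (by ext g; simp)

@[simp] theorem irrCongr_apply {G' : Type*} [Group G'] (e : G ≃* G') (χ : IrrCharacter G)
    (g : G') : (irrCongr e χ).1 g = χ.1 (e.symm g) := rfl

theorem cnt_congr {N' G' : Type*} [Group N'] [Group G'] (p : ℕ) {i : N →* G} {i' : N' →* G'}
    (e : G ≃* G') (f : N ≃* N') (h : ∀ n, e (i n) = i' (f n)) {θ : N → ℂ} {θ' : N' → ℂ}
    (hθ : ∀ n, θ n = θ' (f n)) : cnt p i θ = cnt p i' θ' := by
  refine Nat.card_congr ((irrCongr e).subtypeEquiv fun χ => and_congr ?_ ?_)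
  · rw [Deg.deg_congr (χ := χ.1) (φ := (irrCongr e χ).1) (by simp)]
  · exact Over.congr f (fun n => by simp [← h]) hθ

theorem Over.trans {T : Type*} [Group T] [Finite T] [Finite N] {j : T →* G} {k : N →* T}
    {i : N →* G} (hk : ∀ n, j (k n) = i n) {χ : G → ℂ} {ψ : T → ℂ} {θ : N → ℂ}
    (hχ : IsCharacter G χ) (hψ : IsIrrCharacter T ψ) (hθ : IsCharacter N θ) (h1 : Over j χ ψ)
    (h2 : Over k ψ θ) : Over i χ θ := by
  have := Fintype.ofFinite T
  have := Fintype.ofFinite N
  rw [over_iff] at *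
  have h3 := ((hχ.comp j).sub_of_classInner_ne_zero hψ h1).comp k
  obtain ⟨a, ha⟩ := h3.exists_nat_classInner hθ
  obtain ⟨b, hb⟩ := (hψ.isCharacter.comp k).exists_nat_classInner hθ
  have e : (fun n => χ (i n)) = (fun n => ((fun h => χ (j h)) - ψ) (k n)) + fun n => ψ (k n) := by
    ext n; simp [hk]
  rw [e, classInner_add_left, ha, hb]
  rw [hb] at h2
  rw [← Nat.cast_add, Nat.cast_ne_zero]
  have : b ≠ 0 := by exact_mod_cast h2
  omega

theorem exists_over [Finite N] (i : N →* G) {χ : G → ℂ} (hχ : IsIrrCharacter G χ) :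
    ∃ θ, IsIrrCharacter N θ ∧ Over i χ θ := by
  have := Fintype.ofFinite N
  obtain ⟨θ, hθ, h⟩ := (hχ.isClassFunction.comp i).exists_irr_classInner_ne_zero (fun h => by
    have := congrFun h 1
    simp only [map_one, Pi.zero_apply] at this
    exact hχ.apply_one_ne_zero this)
  exact ⟨θ, hθ, over_iff.2 h⟩

theorem exists_between {T : Type*} [Group T] [Finite T] [Finite N] {j : T →* G} {k : N →* T}
    {i : N →* G} (hk : ∀ n, j (k n) = i n) {χ : G → ℂ} {θ : N → ℂ}
    (hχ : IsCharacter G χ) (h : Over i χ θ) :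
    ∃ ψ, IsIrrCharacter T ψ ∧ Over j χ ψ ∧ Over k ψ θ := by
  have := Fintype.ofFinite T
  have := Fintype.ofFinite N
  by_contra hc
  push Not at hc
  rw [over_iff] at h
  apply h
  have e : (fun n => χ (i n)) = ∑ ψ : IrrCharacter T,
      classInner (fun t => χ (j t)) ψ • fun n => ψ.1 (k n) := by
    ext n
    rw [← hk, (hχ.comp j).isClassFunction.apply_eq_sum_irr (k n)]
    simp
  rw [e, classInner_sum_left]
  refine Finset.sum_eq_zero fun ψ _ => ?_
  rw [classInner_smul_left]
  by_cases h1 : Over j χ ψ.1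
  · have := hc ψ.1 ψ.2 h1
    rw [over_iff, not_not] at this
    rw [this, mul_zero]
  · rw [over_iff, not_not] at h1
    rw [h1, zero_mul]

theorem over_of_ext [Finite N] {i : N →* G} {χ : G → ℂ} {θ : N → ℂ} (hθ : IsIrrCharacter N θ)
    (h : ∀ n, χ (i n) = θ n) : Over i χ θ := by
  have := Fintype.ofFinite N
  rw [over_iff, funext h, hθ.classInner_self]
  exact one_ne_zero

theorem Over.eq_of_ext [Finite N] {i : N →* G} {χ : G → ℂ} {θ θ' : N → ℂ}
    (hθ : IsIrrCharacter N θ) (hθ' : IsIrrCharacter N θ') (h : ∀ n, χ (i n) = θ n)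
    (ho : Over i χ θ') : θ = θ' := by
  have := Fintype.ofFinite N
  rw [over_iff, funext h] at ho
  exact hθ.eq_of_classInner_ne_zero hθ' ho

theorem Over.conj {i : N →* G} {χ : G → ℂ} {θ : N → ℂ} [Finite N] (h : Over i χ θ) :
    Over i (fun g => conj (χ g)) (fun n => conj (θ n)) := by
  have := Fintype.ofFinite N
  rw [over_iff] at *
  rw [classInner_conj_conj (fun n => χ (i n)) θ]
  exact fun h' => h (classInner_eq_zero_comm.1 h')

/-- `Over` is unchanged by conjugating the small character. -/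
theorem Over.of_conj {i : N →* G} {χ : G → ℂ} (hχ : IsClassFunction G χ) {θ θ' : N → ℂ}
    (a : N ≃* N) {g : G} (ha : ∀ n, i (a n) = g * i n * g⁻¹) (hθ : ∀ n, θ' n = θ (a n)) :
    Over i χ θ' ↔ Over i χ θ :=
  Over.congr a (fun n => by rw [ha, hχ.apply_conj]) hθ

end Over

section Range

variable {N G : Type*} [Group N] [Group G] {i : N →* G}

/-- transport of a function to the range of an injective homomorphism -/
noncomputable def toRange (hi : Function.Injective i) (θ : N → ℂ) : i.range → ℂ :=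
  fun x => θ ((MonoidHom.ofInjective hi).symm x)

theorem toRange_apply (hi : Function.Injective i) (θ : N → ℂ) (n : N) :
    toRange hi θ ⟨i n, n, rfl⟩ = θ n := by
  have : (⟨i n, n, rfl⟩ : i.range) = MonoidHom.ofInjective hi n := rfl
  rw [toRange, this, MulEquiv.symm_apply_apply]

theorem toRange_ofInjective (hi : Function.Injective i) (θ : N → ℂ) (n : N) :
    toRange hi θ (MonoidHom.ofInjective hi n) = θ n := toRange_apply hi θ n

theorem isIrr_toRange (hi : Function.Injective i) {θ : N → ℂ} (hθ : IsIrrCharacter N θ) :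
    IsIrrCharacter i.range (toRange hi θ) := hθ.comp_equiv _

theorem over_toRange (hi : Function.Injective i) {χ : G → ℂ} {θ : N → ℂ} :
    Over i.range.subtype χ (toRange hi θ) ↔ Over i χ θ :=
  (Over.congr (MonoidHom.ofInjective hi) (fun _ => rfl)
    (fun n => (toRange_ofInjective hi θ n).symm)).symm

theorem invBy_toRange (hi : Function.Injective i) {θ : N → ℂ} {g : G} :
    InvBy i.range.subtype (toRange hi θ) g ↔ InvBy i θ g := by
  constructor
  · intro h n n' e
    rw [← toRange_apply hi θ n, ← toRange_apply hi θ n']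
    exact h _ _ e
  · rintro h ⟨_, n, rfl⟩ ⟨_, n', rfl⟩ e
    rw [toRange_apply, toRange_apply]
    exact h _ _ e

theorem deg_toRange (hi : Function.Injective i) (θ : N → ℂ) :
    charDegree (toRange hi θ) = charDegree θ :=
  Deg.deg_congr (by simp [toRange])

theorem toRange_injective (hi : Function.Injective i) :
    Function.Injective (toRange hi) := fun θ θ' h => by
  ext n
  rw [← toRange_apply hi θ n, h, toRange_apply]

theorem invariant_toRange (hi : Function.Injective i) [hN : i.range.Normal] {θ : N → ℂ}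
    (h : ∀ g, InvBy i θ g) (g : G) (n : i.range) :
    toRange hi θ ⟨g * n * g⁻¹, hN.conj_mem n n.2 g⟩ = toRange hi θ n :=
  (invBy_toRange hi).2 (h g) n _ rfl

end Range

section Normal

variable {N G : Type*} [Group N] [Group G] [Finite G] {i : N →* G} {χ : G → ℂ} {θ : N → ℂ}

theorem Over.deg_dvd (hi : Function.Injective i) (hN : i.range.Normal) (hχ : IsIrrCharacter G χ)
    (hθ : IsIrrCharacter N θ) (h : Over i χ θ) : charDegree θ ∣ charDegree χ := by
  have := Fintype.ofFinite i.range
  rw [← deg_toRange hi]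
  exact Deg.deg_dvd_of_lies_over hχ (isIrr_toRange hi hθ) (over_subtype_iff.1 ((over_toRange hi).2 h))

theorem Over.exists_conj (hi : Function.Injective i) (hN : i.range.Normal)
    (hχ : IsIrrCharacter G χ) (hθ : IsIrrCharacter N θ) {θ' : N → ℂ} (hθ' : IsIrrCharacter N θ')
    (h : Over i χ θ) (h' : Over i χ θ') :
    ∃ g : G, ∀ n n', i n' = g * i n * g⁻¹ → θ' n = θ n' := by
  have := Fintype.ofFinite i.range
  have := Fintype.ofFinite G
  obtain ⟨g, hg⟩ := exists_conjChar_eq_of_lies_over hχ (isIrr_toRange hi hθ)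
    (isIrr_toRange hi hθ') (over_subtype_iff.1 ((over_toRange hi).2 h))
    (over_subtype_iff.1 ((over_toRange hi).2 h'))
  refine ⟨g, fun n n' e => ?_⟩
  rw [← toRange_apply hi θ' n, ← hg, conjChar_apply, ← toRange_apply hi θ n']
  congr 1
  exact Subtype.ext e.symm

theorem Over.eq_of_invariant (hi : Function.Injective i) (hN : i.range.Normal)
    (hχ : IsIrrCharacter G χ) (hθ : IsIrrCharacter N θ) {θ' : N → ℂ} (hθ' : IsIrrCharacter N θ')
    (h : Over i χ θ) (h' : Over i χ θ') (hinv : ∀ g, InvBy i θ g) : θ' = θ := by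
  obtain ⟨g, hg⟩ := h.exists_conj hi hN hχ hθ hθ' h'
  ext n
  obtain ⟨n', hn'⟩ := hN.conj_mem (i n) ⟨n, rfl⟩ g
  rw [hg n n' hn', hinv g n n' hn']

end Normal

section Clifford

variable {N G T : Type*} [Group N] [Group G] [Group T] [Finite G] {i : N →* G} {θ : N → ℂ}
  {j : T →* G} {k : N →* T}

/-- The Clifford correspondence along homomorphisms. -/
theorem exists_clifford_equiv (hi : Function.Injective i) (hN : i.range.Normal)
    (hj : Function.Injective j) (hk : ∀ n, j (k n) = i n) (hθ : IsIrrCharacter N θ)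
    (hT : ∀ g, InvBy i θ g → g ∈ j.range) :
    ∃ e : {ψ : IrrCharacter T // Over k ψ.1 θ} ≃ {χ : IrrCharacter G // Over i χ.1 θ},
      (∀ ψ χ, e ψ = χ ↔ Over j χ.1.1 ψ.1.1) ∧
      ∀ ψ, charDegree (e ψ).1.1 = j.range.index * charDegree ψ.1.1 := by
  have := Fintype.ofFinite G
  have := Fintype.ofFinite i.range
  have := Fintype.ofFinite j.range
  have hNT : i.range ≤ j.range := by
    rintro _ ⟨n, rfl⟩
    exact ⟨k n, hk n⟩
  have hT' : inertia i.range (toRange hi θ) ≤ j.range := fun g hg =>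
    hT g ((invBy_toRange hi).1 (invBy_subtype_iff.2 hg))
  have hθ' := isIrr_toRange hi hθ
  have key : ∀ ψ : T → ℂ, Over k ψ θ ↔
      classInner (fun n : i.range => toRange hj ψ ⟨n, hNT n.2⟩) (toRange hi θ) ≠ 0 := by
    intro ψ
    rw [← over_inclusion_iff hNT]
    refine Over.congr (MonoidHom.ofInjective hi) (fun n => ?_)
      (fun n => (toRange_ofInjective hi θ n).symm)
    rw [← toRange_apply hj ψ (k n)]
    congr 1
    exact Subtype.ext (hk n)
  let F : {ψ : IrrCharacter T // Over k ψ.1 θ} → {χ : IrrCharacter G // Over i χ.1 θ} :=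
    fun ψ => ⟨⟨indFun j.range (toRange hj ψ.1.1), (clifford_indFun_irr hNT hT' hθ'
      (isIrr_toRange hj ψ.1.2) ((key _).1 ψ.2)).1⟩, by
      rw [← over_toRange hi, over_subtype_iff]
      have := (clifford_indFun_irr hNT hT' hθ' (isIrr_toRange hj ψ.1.2) ((key _).1 ψ.2)).2
      exact fun h => (key _).1 ψ.2 (this.symm.trans h)⟩
  have hF : Function.Bijective F := by
    constructor
    · intro ψ ψ' h
      have h1 : indFun j.range (toRange hj ψ.1.1) = indFun j.range (toRange hj ψ'.1.1) :=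
        congrArg (fun x => x.1.1) h
      exact Subtype.ext (Subtype.ext (toRange_injective hj (clifford_indFun_injective hNT hT' hθ'
        (isIrr_toRange hj ψ.1.2) ((key _).1 ψ.2) (isIrr_toRange hj ψ'.1.2) ((key _).1 ψ'.2) h1)))
    · intro χ
      have h0 := over_subtype_iff.1 ((over_toRange hi).2 χ.2)
      obtain ⟨ψ, hψ, h1, h2⟩ := clifford_exists_indFun_eq hNT hT' hθ' χ.1.2 h0
      have e : toRange hj (fun t => ψ (MonoidHom.ofInjective hj t)) = ψ := by
        ext x; simp [toRange]
      refine ⟨⟨⟨fun t => ψ (MonoidHom.ofInjective hj t), hψ.comp_equiv _⟩, ?_⟩, ?_⟩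
      · rw [key, e, h2]; exact h0
      · refine Subtype.ext (Subtype.ext ?_)
        change indFun j.range (toRange hj _) = _
        rw [e, h1]
  refine ⟨Equiv.ofBijective F hF, fun ψ χ => ?_, fun ψ => ?_⟩
  · rw [← over_toRange hj, over_subtype_iff]
    constructor
    · rintro rfl
      change classInner (fun n : j.range => indFun j.range (toRange hj ψ.1.1) n) _ ≠ 0
      have h1 := clifford_indFun_irr hNT hT' hθ' (isIrr_toRange hj ψ.1.2) ((key _).1 ψ.2)
      rw [← classInner_indFun_irr_eq (isIrr_toRange hj ψ.1.2).isCharacter h1.1.isCharacter,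
        h1.1.classInner_self]
      exact one_ne_zero
    · intro h
      exact Subtype.ext (Subtype.ext (clifford_indFun_eq hNT hT' hθ' (isIrr_toRange hj ψ.1.2)
        ((key _).1 ψ.2) χ.1.2 h))
  · change charDegree (indFun j.range (toRange hj ψ.1.1)) = _
    rw [Deg.deg_indFun _ (isIrr_toRange hj ψ.1.2).isCharacter, deg_toRange]

theorem card_and_eq {X : Type*} (P Q : X → Prop) :
    Nat.card {x // P x ∧ Q x} = Nat.card {x : {x // Q x} // P x.1} :=
  Nat.card_congr ((Equiv.subtypeEquivRight fun _ => and_comm).trans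
    (Equiv.subtypeSubtypeEquivSubtypeInter Q P).symm)

theorem cnt_clifford {p : ℕ} (hp : p.Prime) (hi : Function.Injective i) (hN : i.range.Normal)
    (hj : Function.Injective j) (hk : ∀ n, j (k n) = i n) (hθ : IsIrrCharacter N θ)
    (hT : ∀ g, InvBy i θ g → g ∈ j.range) (hpT : ¬ p ∣ j.range.index) :
    cnt p i θ = cnt p k θ := by
  obtain ⟨e, -, he⟩ := exists_clifford_equiv hi hN hj hk hθ hT
  rw [cnt, cnt, card_and_eq, card_and_eq]
  refine (Nat.card_congr (e.subtypeEquiv fun ψ => ?_)).symm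
  rw [he, hp.dvd_mul]
  tauto

end Clifford

section Triple

variable {N G A K : Type*} [Group N] [Group G] [Group A] [Group K]
  {i : N →* G} {θ : N → ℂ} {ι : A →* K} {lam : A →* ℂˣ}

theorem over_iff_liesOverLin [Finite A] (hc : ∀ a k, ι a * k = k * ι a) {β : K → ℂ}
    (hβ : IsIrrCharacter K β) : Over ι β (fun a => (lam a : ℂ)) ↔ LiesOverLin ι lam β := by
  have := Fintype.ofFinite A
  rw [over_iff, liesOverLin_iff hc hβ]

theorem CTriple.cnt_eq (T : CTriple i θ ι lam) {p : ℕ} (hp : p.Prime)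
    (hθ : ¬ p ∣ charDegree θ) : cnt p i θ = cnt p ι fun a => (lam a : ℂ) := by
  have := T.finite_N
  have := T.finite_A
  have := Fintype.ofFinite N
  rw [cnt, cnt, card_and_eq, card_and_eq]
  let e : {χ : IrrCharacter G // Over i χ.1 θ} ≃
      {β : IrrCharacter K // Over ι β.1 fun a => (lam a : ℂ)} :=
    ((Equiv.subtypeEquivRight fun _ => over_iff).trans T.irrEquiv).trans
      (Equiv.subtypeEquivRight fun β => (over_iff_liesOverLin T.central β.2).symm)
  refine Nat.card_congr (e.subtypeEquiv fun χ => ?_)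
  have h := (T.corr_irrEquiv ⟨χ.1, over_iff.1 χ.2⟩).apply_one
  have h' : charDegree χ.1.1 = charDegree θ * charDegree (e χ).1.1 := by
    apply Deg.deg_eq
    rw [Nat.cast_mul, Deg.cast_deg_irr T.irr, Deg.cast_deg_irr (e χ).1.2]
    exact h
  rw [h', hp.dvd_mul]
  tauto

end Triple

section Double

/-- Double counting along a relation whose fibres are classes of an equivalence relation. -/
theorem card_eq_sum_div {A X : Type*} [Finite A] [Fintype X] (R : A → X → Prop)
    (E : X → X → Prop) (h1 : ∀ a, ∃ x, R a x) (h2 : ∀ a x, R a x → ∀ y, R a y ↔ E x y) :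
    (Nat.card A : ℚ) = ∑ x, (Nat.card {a // R a x} : ℚ) / Nat.card {y // E x y} := by
  classical
  have := Fintype.ofFinite A
  have e1 : ∀ x, (Nat.card {a // R a x} : ℚ) / Nat.card {y // E x y} =
      ∑ a, if R a x then (1 : ℚ) / Nat.card {y // R a y} else 0 := by
    intro x
    rw [Nat.card_eq_fintype_card (α := {a // R a x}), Fintype.card_subtype, Finset.card_filter,
      Nat.cast_sum, Finset.sum_div]
    refine Finset.sum_congr rfl fun a _ => ?_
    split_ifs with h
    · rw [Nat.card_congr (Equiv.subtypeEquivRight (h2 a x h))]; simp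
    · simp
  simp_rw [e1]
  rw [Finset.sum_comm, Nat.card_eq_fintype_card, ← Finset.card_univ, Finset.card_eq_sum_ones,
    Nat.cast_sum]
  refine Finset.sum_congr rfl fun a _ => ?_
  rw [← Finset.sum_filter, Finset.sum_const, nsmul_eq_mul, ← Fintype.card_subtype,
    ← Nat.card_eq_fintype_card]
  obtain ⟨x, hx⟩ := h1 a
  have : Nonempty {y // R a y} := ⟨⟨x, hx⟩⟩
  have : (Nat.card {y // R a y} : ℚ) ≠ 0 := by exact_mod_cast Nat.card_pos.ne'
  field_simp
  simp

theorem card_eq_of_double {A B X : Type*} [Finite A] [Finite B] [Finite X] (R : A → X → Prop)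
    (R' : B → X → Prop) (E : X → X → Prop) (h1 : ∀ a, ∃ x, R a x)
    (h2 : ∀ a x, R a x → ∀ y, R a y ↔ E x y) (h1' : ∀ b, ∃ x, R' b x)
    (h2' : ∀ b x, R' b x → ∀ y, R' b y ↔ E x y)
    (h : ∀ x, Nat.card {a // R a x} = Nat.card {b // R' b x}) : Nat.card A = Nat.card B := by
  have := Fintype.ofFinite X
  have := (card_eq_sum_div R E h1 h2).trans ((Finset.sum_congr rfl fun x _ => by rw [h x]).trans
    (card_eq_sum_div R' E h1' h2').symm)
  exact_mod_cast this

end Double

end Cfsg.Lib.Char
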