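import Cfsg.Agent.Char.PReg1
import Cfsg.Agent.Char.CtLow
import Cfsg.Agent.Solv.ElemAb
import Cfsg.Agent.Solv.PSolvable
import Cfsg.Agent.WalCor.DGrp2
import Cfsg.Agent.S0689

/-! Groups of characteristic `p` with one class of non-trivial `p`-elements. -/

set_option autoImplicit false

namespace Cfsg.Lib.Char.PReg

open Subgroup Cfsg.Lib.Solv Cfsg.Lib.Perm Cfsg.Lib.Char.Ct
open scoped MatrixGroups Pointwise

variable {X : Type*} [Group X] [Finite X] {p : ℕ} [hp : Fact p.Prime]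

/-- An elementary abelian self-centralising `V` with a transitive `p'`-complement `K`. -/
structure St (p : ℕ) (V K : Subgroup X) : Prop where
  normal : V.Normal
  ne : V ≠ ⊥
  exp : ∀ v ∈ V, v ^ p = 1
  cop : ¬ p ∣ Nat.card K
  cent : centralizer (V : Set X) = V
  compl : IsComplement' V K
  trans : ∀ v ∈ V, ∀ w ∈ V, v ≠ 1 → w ≠ 1 → ∃ g ∈ K, g * v * g⁻¹ = w

theorem exists_st (hC : centralizer (pCore p X : Set X) ≤ pCore p X) (hd : p ∣ Nat.card X)
    (h : ∀ x y : X, x ≠ 1 → y ≠ 1 → (∃ k : ℕ, orderOf x = p ^ k) → (∃ k : ℕ, orderOf y = p ^ k) →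
      IsConj x y) : ∃ V K : Subgroup X, St p V K := by
  set V := pCore p X
  have hV : IsPGroup p V := pCore_isPGroup p X
  have h0 : V ≠ ⊥ := fun e => by
    have : (⊤ : Subgroup X) = ⊥ := eq_bot_iff.2 fun x _ => e.le (hC (by
      rw [e]; rintro _ rfl; simp))
    rw [← card_top, this, card_bot] at hd
    exact hp.out.one_lt.ne' (Nat.dvd_one.1 hd)
  obtain ⟨z, hz, hz1⟩ := PG.exists_orderOf_eq_prime (hV.to_le inf_le_left)
    (PG.inf_centralizer_ne_bot hV hV le_normalizer h0)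
  have h1 : ∀ x : X, (∃ k : ℕ, orderOf x = p ^ k) →
      x ∈ V ⊓ centralizer (V : Set X) ∧ x ^ p = 1 := fun x hx => by
    by_cases hx1 : x = 1
    · simp [hx1, one_mem]
    obtain ⟨c, rfl⟩ := isConj_iff.1 (h z x (fun e => hp.out.one_lt.ne
      (by rw [← hz1, e, orderOf_one])) hx1 ⟨1, by simp [hz1]⟩ hx)
    exact ⟨Normal.conj_mem inferInstance z hz c, by
      rw [conj_pow, ← hz1, pow_orderOf_eq_one]; simp⟩
  have h2 : ∀ v ∈ V, ∃ k : ℕ, orderOf v = p ^ k := fun v hv => by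
    simpa using IsPGroup.iff_orderOf.1 hV ⟨v, hv⟩
  have h3 : ¬ p ∣ V.index := fun e => by
    obtain ⟨y, hy⟩ := exists_prime_orderOf_dvd_card' (G := X ⧸ V) p e
    obtain ⟨x, rfl, hx⟩ := exists_lift_prime_pow _ (QuotientGroup.mk'_surjective V) hp.out
      (hy.trans (pow_one p).symm)
    rw [QuotientGroup.mk'_apply, (QuotientGroup.eq_one_iff x).2 (h1 x hx).1.1, orderOf_one] at hy
    exact hp.out.one_lt.ne hy
  obtain ⟨K, hK⟩ := exists_right_complement'_of_coprime (N := V) (by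
    obtain ⟨k, hk⟩ := IsPGroup.iff_card.1 hV
    rw [hk]
    exact (hp.out.coprime_iff_not_dvd.2 h3).pow_left k)
  refine ⟨V, K, inferInstance, h0, fun v hv => (h1 v (h2 v hv)).2,
    hK.symm.index_eq_card ▸ h3, le_antisymm hC fun v hv => (h1 v (h2 v hv)).1.2, hK,
    fun v hv w hw hv1 hw1 => ?_⟩
  obtain ⟨c, rfl⟩ := isConj_iff.1 (h v w hv1 hw1 (h2 v hv) (h2 w hw))
  obtain ⟨⟨u, k⟩, rfl⟩ := hK.2 c
  refine ⟨k, k.2, ?_⟩
  have := (h1 u (h2 u u.2)).1.2 _ (Normal.conj_mem inferInstance v hv k)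
  calc _ = (k * v * (k : X)⁻¹ * u) * (u : X)⁻¹ := by group
    _ = _ := by rw [this]; simp only; group

namespace St

variable {V K : Subgroup X}

omit [Finite X] hp in
theorem comm (h : St p V K) : ∀ a ∈ V, ∀ b ∈ V, a * b = b * a :=
  fun a ha _ hb => (h.cent.ge hb) a ha

omit hp in
theorem exists_proj (h : St p V K) : ∃ π : X →* K, π.ker = V ∧ ∀ k : K, π k = k := by
  have := h.normal
  refine ⟨h.compl.symm.QuotientMulEquiv.toMonoidHom.comp (QuotientGroup.mk' V), ?_, fun k => ?_⟩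
  · ext g
    simp
  · exact h.compl.symm.QuotientMulEquiv.symm.injective (by simp; rfl)

omit [Finite X] in
theorem affine (h : St p V K) (hV : Nat.card V = p) :
    (∀ a ∈ K, ∀ b ∈ K, a * b = b * a) ∧ Nonempty (X ≃* affineGroup (ZMod p)) := by
  have := h.normal
  let e : Multiplicative (ZMod p) ≃* V := mulEquivOfPrimeCardEq (p := p) (by simp) hV
  let ψ : Multiplicative (ZMod p) →* X := V.subtype.comp e.toMonoidHom
  have hψ : Function.Injective ψ := V.subtype_injective.comp e.injective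
  have h1 : ∀ v ∈ V, ∃ b, ψ (.ofAdd b) = v := fun v hv =>
    ⟨(e.symm ⟨v, hv⟩).toAdd, by simp [ψ]⟩
  have h2 : ∀ b, ψ b ∈ V := fun b => (e b).2
  have A : WalCor.Aff ψ K :=
    { inj := hψ
      dec := fun g => by
        obtain ⟨⟨u, k⟩, rfl⟩ := h.compl.2 g
        obtain ⟨b, hb⟩ := h1 u u.2
        exact ⟨b, k, k.2, by rw [hb]⟩
      disj := fun b hb => hψ ((disjoint_def.1 h.compl.disjoint (h2 _) hb).trans (map_one ψ).symm)
      faith := fun k hk e => disjoint_def.1 h.compl.disjoint (h.cent.le fun v hv => by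
        obtain ⟨b, rfl⟩ := h1 v hv
        exact (mul_inv_eq_iff_eq_mul.1 (e b)).symm) hk
      semi := fun k _ => by
        obtain ⟨a, ha⟩ := h1 _ (Normal.conj_mem ‹_› _ (h2 (.ofAdd 1)) k)
        refine ⟨a, 1, fun c => ?_⟩
        obtain ⟨n, rfl⟩ := ZMod.natCast_zmod_surjective c
        rw [← nsmul_one, RingAut.one_apply, mul_smul_comm, mul_one, ofAdd_nsmul, ofAdd_nsmul, map_pow,
          map_pow, ha, conj_pow]
      trans := fun a ha => by
        obtain ⟨g, -, hg⟩ := h.trans _ (h2 (.ofAdd 1)) _ (h2 (.ofAdd a))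
          ((map_ne_one_iff ψ hψ).2 (by simp)) ((map_ne_one_iff ψ hψ).2 (by simpa using ha))
        exact ⟨g, hg⟩ }
  have h3 : ∀ g : X, ∃ a : ZMod p, a ≠ 0 ∧ ∀ c, g * ψ (.ofAdd c) * g⁻¹ = ψ (.ofAdd (a * c)) :=
    fun g => by
      obtain ⟨σ, a, ha, e⟩ := A.semi' g
      refine ⟨a, ha, fun c => ?_⟩
      obtain ⟨n, rfl⟩ := ZMod.natCast_zmod_surjective c
      rw [e, map_natCast]
  refine ⟨fun a ha b hb => ?_, ?_⟩
  · obtain ⟨s, -, hs⟩ := h3 a
    obtain ⟨t, -, ht⟩ := h3 b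
    refine (inv_mul_eq_one.1 (A.faith _ (mul_mem (inv_mem (mul_mem hb ha)) (mul_mem ha hb))
      fun c => ?_)).symm
    calc _ = (b * a)⁻¹ * (a * (b * ψ (.ofAdd c) * b⁻¹) * a⁻¹) * (b * a) := by group
      _ = (b * a)⁻¹ * (b * (a * ψ (.ofAdd c) * a⁻¹) * b⁻¹) * (b * a) := by
        rw [ht, hs, hs, ht, mul_left_comm s]
      _ = _ := by group
  obtain ⟨ι, hι, h4⟩ := A.exists_hom
  refine ⟨(MonoidHom.ofInjective hι).trans (MulEquiv.subgroupCongr (le_antisymm ?_ ?_))⟩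
  · rintro _ ⟨g, rfl⟩
    obtain ⟨b, k, hk, rfl⟩ := A.dec g
    obtain ⟨a, ha, e⟩ := h3 k
    exact ⟨Units.mk0 a ha, b, fun c => h4 b k hk c _ (e c)⟩
  · rintro σ ⟨a, b, hσ⟩
    obtain ⟨k, hk, hg⟩ := h.trans _ (h2 (.ofAdd 1)) _ (h2 (.ofAdd (a : ZMod p)))
      ((map_ne_one_iff ψ hψ).2 (by simp)) ((map_ne_one_iff ψ hψ).2 (by simp))
    obtain ⟨a', -, e⟩ := h3 k
    have e1 : a' * 1 = a := hψ ((e 1).symm.trans hg)
    rw [mul_one] at e1
    exact ⟨ψ (.ofAdd b) * k, Equiv.ext fun c => by rw [h4 b k hk c _ (e c), hσ, e1]⟩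

theorem low (h : St p V K) : p ≤ Nat.card (ConjClasses K) ∨
    (p - 1 ≤ Nat.card (ConjClasses K) ∧ Nonempty (X ≃* affineGroup (ZMod p))) ∨
    (p = 11 ∧ Nat.card V = 121 ∧ Nat.card K = 120 ∧ Nonempty (K ≃* SL(2, ZMod 5)) ∧
      ∀ g : X, ∀ v ∈ V, v ≠ 1 → g * v = v * g → g ∈ V) := by
  have := h.normal
  have : ElemAb p V := ⟨fun a b => Subtype.ext (h.comm a a.2 b b.2),
    fun a => Subtype.ext (h.exp a a.2)⟩
  have := (nontrivial_iff_ne_bot V).2 h.ne
  let α := conjAutOf V K le_normalizer_of_normal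
  let ρ : K →* (Vec p V ≃ₗ[ZMod p] Vec p V) := (Vec.autEquiv p V).toMonoidHom.comp α
  have hρ1 : ∀ (g : K) (v : V) (w : V), ρ g (Vec.ofMul p v) = Vec.ofMul p w ↔
      (g : X) * v * (g : X)⁻¹ = w := fun g v w =>
    (Vec.ofMul p).injective.eq_iff.trans Subtype.ext_iff
  have hρ : Function.Injective ρ := (Vec.autEquiv p V).injective.comp
    ((injective_iff_map_eq_one α).2 fun g hg => Subtype.ext (disjoint_def.1 h.compl.disjoint
      (h.cent.le ((mem_ker_conjAutOf _).1 hg)) g.2))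
  have ht : VTrans ρ := fun v w hv hw => by
    obtain ⟨g, hg, h1⟩ := h.trans _ (Vec.toMul v).2 _ (Vec.toMul w).2
      (fun e => hv (Vec.toMul_eq_one.1 (Subtype.ext e)))
      (fun e => hw (Vec.toMul_eq_one.1 (Subtype.ext e)))
    exact ⟨⟨g, hg⟩, (hρ1 _ _ _).2 h1⟩
  rcases lower ht hρ h.cop with h1 | h1 | ⟨h1, h2, h3, h4⟩
  · exact Or.inl h1
  · have h2 := Nat.le_of_dvd Nat.card_pos (card_sub_dvd ht)
    rw [h1] at h2
    obtain ⟨h3, h4⟩ := h.affine (Vec.card_vec.symm.trans h1)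
    refine Or.inr (Or.inl ⟨h2.trans (Nat.card_le_card_of_injective ConjClasses.mk
      fun a b e => ?_), h4⟩)
    obtain ⟨c, rfl⟩ := isConj_iff.1 (ConjClasses.mk_eq_mk_iff_isConj.1 e)
    exact eq_mul_inv_iff_mul_eq.2 (Subtype.ext (h3 a a.2 c c.2))
  have h5 : ∀ v, v ≠ 0 → ∀ g, ρ g v = v → g = 1 := fun v hv g hg => by
    have h5 := card_eq_mul ht hv
    rw [h2, h3] at h5
    exact (card_eq_one.1 (by omega : Nat.card (vStab ρ v) = 1)).le (mem_vStab.2 hg)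
  refine Or.inr (Or.inr ⟨h1, Vec.card_vec.symm.trans h2, h3, ?_, fun g v hv hv1 e => ?_⟩)
  · have f := MonoidHom.ofInjective hρ
    rcases Cfsg.Agent.S0689.result ρ.range (fun v w hv hw => by
        obtain ⟨g, hg⟩ := ht v w hv hw
        refine ⟨⟨_, g, rfl⟩, hg, ?_⟩
        rintro ⟨_, k, rfl⟩ hk
        have := h5 v hv (g⁻¹ * k) (by
          rw [map_mul, LinearEquiv.mul_apply, hk, ← hg, ← LinearEquiv.mul_apply, ← map_mul,
            inv_mul_cancel, map_one]; rfl)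
        exact Subtype.ext (congrArg ρ (inv_mul_eq_one.1 this).symm))
      (fun _ => h4 (Group.isSolvable_of_isSolvable_injective (f := f.toMonoidHom) f.injective))
      with ⟨-, ⟨e⟩⟩ | ⟨e, -⟩ | ⟨e, -⟩
    · exact ⟨f.trans e⟩
    · omega
    · omega
  · obtain ⟨⟨u, k⟩, rfl⟩ := h.compl.2 g
    have := h5 (Vec.ofMul p ⟨v, hv⟩) (fun e => hv1 (congrArg Subtype.val (Vec.ofMul_eq_zero.1 e))) k
      ((hρ1 _ _ _).2 (by
        simp only at e ⊢
        rw [mul_inv_eq_iff_eq_mul, ← mul_right_inj (u : X), ← mul_assoc, e, ← mul_assoc, ← mul_assoc,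
          h.comm u u.2 v hv]))
    simp [this]

end St

variable {G K : Type*} [Group G] [Finite G] [Group K] [Finite K]

omit hp in
theorem exists_reg (hp : p.Prime) (π : G →* K) (hπ : Function.Surjective π)
    (hK : ¬ p ∣ Nat.card K) (c : ConjClasses K) :
    ∃ g : G, ¬ p ∣ orderOf g ∧ ConjClasses.mk (π g) = c := by
  obtain ⟨k, rfl⟩ := ConjClasses.mk_surjective c
  obtain ⟨g, rfl, h⟩ := exists_lift_of_primes π hπ k
  exact ⟨g, fun e => hK ((h p hp e).trans (orderOf_dvd_natCard _)), rfl⟩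

theorem card_reg_eq (π : G →* K) (hπ : Function.Surjective π) (hK : ¬ p ∣ Nat.card K)
    (hk : IsPGroup p π.ker) :
    Nat.card {c : ConjClasses G // ∃ g : G, ConjClasses.mk g = c ∧ ¬ p ∣ orderOf g} =
      Nat.card (ConjClasses K) := by
  refine Nat.card_eq_of_bijective (fun c => ConjClasses.map π c.1) ⟨?_, fun c => ?_⟩
  · rintro ⟨_, g, rfl, hg⟩ ⟨_, k, rfl, hk'⟩ e
    obtain ⟨c, hc⟩ := isConj_iff.1 (ConjClasses.mk_eq_mk_iff_isConj.1 e)
    obtain ⟨d, rfl⟩ := hπ c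
    obtain ⟨i, hi⟩ := IsPGroup.iff_card.1 hk
    refine Subtype.ext (ConjClasses.mk_eq_mk_iff_isConj.2 ((isConj_iff.2 ⟨d, rfl⟩).trans
      (isConj_of_coset (K := π.ker) ?_ ?_ (by simp [MonoidHom.mem_ker, ← hc])))) <;> rw [hi]
    · rw [show orderOf (d * g * d⁻¹) = orderOf g from MulEquiv.orderOf_eq (MulAut.conj d) g]
      exact (hp.out.coprime_iff_not_dvd.2 hg).symm.pow_right i
    · exact (hp.out.coprime_iff_not_dvd.2 hk').symm.pow_right i
  · obtain ⟨g, hg, rfl⟩ := exists_reg hp.out π hπ hK c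
    exact ⟨⟨_, g, rfl, hg⟩, rfl⟩

theorem card_reg_ge (π : G →* K) (hπ : Function.Surjective π) (hK : ¬ p ∣ Nat.card K) {n : G}
    (hn : n ≠ 1) (hn1 : ¬ p ∣ orderOf n) (hn2 : π n = 1) :
    Nat.card (ConjClasses K) + 1 ≤
      Nat.card {c : ConjClasses G // ∃ g : G, ConjClasses.mk g = c ∧ ¬ p ∣ orderOf g} ∧
    (Nat.card {c : ConjClasses G // ∃ g : G, ConjClasses.mk g = c ∧ ¬ p ∣ orderOf g} ≤
      Nat.card (ConjClasses K) + 1 → ∀ g k : G, g ≠ 1 → k ≠ 1 → ¬ p ∣ orderOf g →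
        ¬ p ∣ orderOf k → IsConj (π g) (π k) → IsConj g k) := by
  classical
  set R := {c : ConjClasses G // ∃ g : G, ConjClasses.mk g = c ∧ ¬ p ∣ orderOf g}
  let o : R := ⟨_, 1, rfl, by simp [hp.out.ne_one]⟩
  have h0 : ∀ {g : G} (hg : ¬ p ∣ orderOf g), g ≠ 1 → (⟨_, g, rfl, hg⟩ : R) ≠ o := fun hg h e =>
    h (isConj_one_left.1 (ConjClasses.mk_eq_mk_iff_isConj.1 (congrArg Subtype.val e)))
  let f : {c : R // c ≠ o} → ConjClasses K := fun c => ConjClasses.map π c.1.1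
  have hf : Function.Surjective f := fun c => by
    obtain ⟨g, hg, rfl⟩ := exists_reg hp.out π hπ hK c
    by_cases h : g = 1
    · exact ⟨⟨_, h0 hn1 hn⟩, congrArg ConjClasses.mk (by rw [hn2, h, map_one])⟩
    · exact ⟨⟨_, h0 hg h⟩, rfl⟩
  have := Fintype.ofFinite R
  have h1 : Nat.card {c : R // c ≠ o} + 1 = Nat.card R := by
    have : 0 < Fintype.card R := Fintype.card_pos_iff.2 ⟨o⟩
    simp only [Nat.card_eq_fintype_card, ne_eq, Fintype.card_subtype_compl, Fintype.card_unique]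
    omega
  have h2 := Nat.card_le_card_of_surjective f hf
  refine ⟨by omega, fun h g k hg hk hg1 hk1 e => ?_⟩
  have h3 := (hf.bijective_of_nat_card_le (by omega)).1 (a₁ := ⟨_, h0 hg1 hg⟩)
    (a₂ := ⟨_, h0 hk1 hk⟩) (ConjClasses.mk_eq_mk_iff_isConj.2 e)
  exact ConjClasses.mk_eq_mk_iff_isConj.1 (congrArg (fun c => c.1.1) h3)

end Cfsg.Lib.Char.PReg
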