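import Cfsg.Agent.Char.Prod
import Cfsg.Agent.Char.IndTransport

/-!
# Characters of finite direct products `∀ i, H i`
-/

set_option autoImplicit false

open scoped ComplexConjugate
open Cfsg

namespace Cfsg.Lib.Char

theorem isCharacter_finsetProd {G ι : Type*} [Group G] (s : Finset ι) (f : ι → G → ℂ)
    (hf : ∀ i ∈ s, IsCharacter G (f i)) : IsCharacter G (fun g => ∏ i ∈ s, f i g) := by
  classical
  induction s using Finset.induction_on with
  | empty => simpa using isCharacter_one
  | insert a s ha ih =>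
    simp only [Finset.prod_insert ha]
    exact (hf a (Finset.mem_insert_self a s)).mul
      (ih fun i hi => hf i (Finset.mem_insert_of_mem hi))

variable {ι : Type*} [Fintype ι] {H : ι → Type*} [∀ i, Group (H i)]

theorem isCharacter_pi {φ : ∀ i, H i → ℂ} (hφ : ∀ i, IsCharacter (H i) (φ i)) :
    IsCharacter (∀ i, H i) (fun x => ∏ i, φ i (x i)) :=
  isCharacter_finsetProd Finset.univ (fun i (x : ∀ i, H i) => φ i (x i)) fun i _ =>
    (hφ i).comp (Pi.evalMonoidHom H i)

theorem classInner_pi [∀ i, Fintype (H i)] [Fintype (∀ i, H i)] (φ ψ : ∀ i, H i → ℂ) :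
    classInner (fun x : ∀ i, H i => ∏ i, φ i (x i)) (fun x => ∏ i, ψ i (x i)) =
      ∏ i, classInner (φ i) (ψ i) := by
  classical
  rw [classInner_inst _ (Pi.instFintype)]
  simp only [classInner, Nat.card_pi, Nat.cast_prod, Finset.prod_mul_distrib, map_prod,
    Finset.prod_inv_distrib, Finset.prod_univ_sum, Fintype.piFinset_univ]

theorem isIrrCharacter_pi [∀ i, Finite (H i)] {φ : ∀ i, H i → ℂ}
    (hφ : ∀ i, IsIrrCharacter (H i) (φ i)) :
    IsIrrCharacter (∀ i, H i) (fun x => ∏ i, φ i (x i)) := by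
  have := fun i => Fintype.ofFinite (H i)
  have := Fintype.ofFinite (∀ i, H i)
  refine (isCharacter_pi fun i => (hφ i).isCharacter).isIrrCharacter_of_classInner_self ?_
  rw [classInner_pi]
  exact Finset.prod_eq_one fun i _ => (hφ i).classInner_self

theorem pi_irr_injective [∀ i, Finite (H i)] {φ ψ : ∀ i, H i → ℂ}
    (hφ : ∀ i, IsIrrCharacter (H i) (φ i)) (hψ : ∀ i, IsIrrCharacter (H i) (ψ i))
    (h : (fun x : ∀ i, H i => ∏ i, φ i (x i)) = fun x => ∏ i, ψ i (x i)) : φ = ψ := by
  have := fun i => Fintype.ofFinite (H i)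
  have := Fintype.ofFinite (∀ i, H i)
  have h1 := (isIrrCharacter_pi hψ).classInner_self
  nth_rewrite 1 [← h] at h1
  rw [classInner_pi] at h1
  funext i
  refine (hφ i).eq_of_classInner_ne_zero (hψ i) fun h0 => ?_
  rw [Finset.prod_eq_zero (Finset.mem_univ i) h0] at h1
  exact zero_ne_one h1

/-- Every irreducible character of a finite direct product is a product. -/
theorem exists_pi_of_irr [∀ i, Finite (H i)] {θ : (∀ i, H i) → ℂ}
    (hθ : IsIrrCharacter (∀ i, H i) θ) :
    ∃ φ : ∀ i, H i → ℂ, (∀ i, IsIrrCharacter (H i) (φ i)) ∧ θ = fun x => ∏ i, φ i (x i) := by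
  classical
  have := fun i => Fintype.ofFinite (H i)
  have := Fintype.ofFinite (∀ i, H i)
  by_contra hne
  push Not at hne
  have h1 : (fun x : ∀ i, H i => if x = 1 then (Nat.card (∀ i, H i) : ℂ) else 0) =
      ∑ φ : ∀ i, IrrCharacter (H i), (∏ i, (φ i : H i → ℂ) 1) •
        fun x : ∀ i, H i => ∏ i, (φ i : H i → ℂ) (x i) := by
    funext x
    simp only [Finset.sum_apply, Pi.smul_apply, smul_eq_mul, ← Finset.prod_mul_distrib]
    rw [← Fintype.piFinset_univ, ← Finset.prod_univ_sum (fun _ => Finset.univ)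
      (fun i (χ : IrrCharacter (H i)) => (χ : H i → ℂ) 1 * (χ : H i → ℂ) (x i))]
    simp only [sum_irr_degree_mul]
    split_ifs with hx
    · subst hx
      simp only [Pi.one_apply, if_true, Nat.card_pi, Nat.cast_prod]
    · obtain ⟨i, hi⟩ := Function.ne_iff.mp hx
      exact (Finset.prod_eq_zero (Finset.mem_univ i) (if_neg hi)).symm
  have h2 := congrArg (fun f => classInner f θ) h1
  simp only [classInner_sum_left, classInner_smul_left] at h2
  rw [Finset.sum_eq_zero fun φ _ => by
    rw [(isIrrCharacter_pi fun i => (φ i).2).classInner_of_ne hθ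
      (hne _ (fun i => (φ i).2)).symm, mul_zero]] at h2
  simp only [classInner, ite_mul, zero_mul, Finset.sum_ite_eq', Finset.mem_univ, if_true] at h2
  have h3 : (Nat.card (∀ i, H i) : ℂ) ≠ 0 := Nat.cast_ne_zero.mpr Nat.card_pos.ne'
  rw [inv_mul_cancel_left₀ h3, map_eq_zero] at h2
  exact hθ.apply_one_ne_zero h2

theorem extendByZero_pi (K : ∀ i, Subgroup (H i)) (lam : ∀ i, K i → ℂ) (x : ∀ i, H i) :
    extendByZero (Subgroup.pi Set.univ K) (fun y => ∏ i, lam i ⟨y.1 i, y.2 i trivial⟩) x =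
      ∏ i, extendByZero (K i) (lam i) (x i) := by
  by_cases hx : x ∈ Subgroup.pi Set.univ K
  · rw [extendByZero_of_mem _ _ hx]
    exact Finset.prod_congr rfl fun i _ => (extendByZero_of_mem _ _ (hx i trivial)).symm
  · rw [extendByZero_of_notMem _ _ hx]
    rw [Subgroup.mem_pi] at hx
    push Not at hx
    obtain ⟨i, -, hi⟩ := hx
    exact (Finset.prod_eq_zero (Finset.mem_univ i)
      (extendByZero_of_notMem (K i) (lam i) hi)).symm

omit [Fintype ι] in
/-- A product subgroup as a product of the subgroups. -/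
def piSubgroupEquiv (K : ∀ i, Subgroup (H i)) : Subgroup.pi Set.univ K ≃ ∀ i, K i where
  toFun y i := ⟨y.1 i, y.2 i trivial⟩
  invFun y := ⟨fun i => y i, fun i _ => (y i).2⟩
  left_inv _ := rfl
  right_inv _ := rfl

theorem card_piSubgroup (K : ∀ i, Subgroup (H i)) :
    Nat.card (Subgroup.pi Set.univ K) = ∏ i, Nat.card (K i) := by
  rw [Nat.card_congr (piSubgroupEquiv K), Nat.card_pi]

/-- Induction commutes with direct products. -/
theorem indFun_pi [∀ i, Fintype (H i)] [Fintype (∀ i, H i)] (K : ∀ i, Subgroup (H i))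
    (lam : ∀ i, K i → ℂ) (x : ∀ i, H i) :
    indFun (Subgroup.pi Set.univ K) (fun y => ∏ i, lam i ⟨y.1 i, y.2 i trivial⟩) x =
      ∏ i, indFun (K i) (lam i) (x i) := by
  classical
  obtain rfl : ‹Fintype (∀ i, H i)› = Pi.instFintype := Subsingleton.elim _ _
  simp only [indFun_apply, extendByZero_pi, card_piSubgroup, Nat.cast_prod,
    Finset.prod_mul_distrib, Finset.prod_inv_distrib, Finset.prod_univ_sum,
    Fintype.piFinset_univ, Pi.mul_apply, Pi.inv_apply]

end Cfsg.Lib.Char
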