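import Mathlib.GroupTheory.GroupAction.Jordan
import Mathlib.GroupTheory.SpecificGroups.Alternating.Simple
import Mathlib.GroupTheory.Perm.Fin
import Mathlib.GroupTheory.Perm.Cycle.Type
import Mathlib.Tactic

/-! The subgroups of index six of the symmetric group of degree six. -/

set_option autoImplicit false

namespace Cfsg.Lib.Char.Six

open Equiv Equiv.Perm

/-- A one-factorisation of the complete graph on six points. -/
def col (x y : Fin 6) : ℕ :=
  if x = 0 then 2 * y.1 % 5 else if y = 0 then 2 * x.1 % 5 else (x.1 + y.1) % 5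

/-- Membership in the stabiliser of the one-factorisation. -/
def InK (g : Fin 6 → Fin 6) : Prop :=
  ∀ x y z w : Fin 6, x ≠ y → z ≠ w → (col x y = col z w ↔ col (g x) (g y) = col (g z) (g w))

instance (g : Fin 6 → Fin 6) : Decidable (InK g) := by unfold InK; infer_instance

/-- The transitive `S₅` in `S₆`. -/
def K0 : Subgroup (Perm (Fin 6)) where
  carrier := {g | InK g}
  one_mem' := fun _ _ _ _ _ _ => Iff.rfl
  mul_mem' := fun {g h} hg hh x y z w h1 h2 =>
    (hh x y z w h1 h2).trans (hg _ _ _ _ (h.injective.ne h1) (h.injective.ne h2))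
  inv_mem' := fun {g} hg x y z w h1 h2 => by
    have := hg (g⁻¹ x) (g⁻¹ y) (g⁻¹ z) (g⁻¹ w) (g⁻¹.injective.ne h1) (g⁻¹.injective.ne h2)
    simpa using this.symm

/-- A five-cycle. -/
def c0 : Perm (Fin 6) := ⟨![0, 2, 3, 4, 5, 1], ![0, 5, 1, 2, 3, 4], by decide, by decide⟩

theorem card_filter : (Finset.univ.filter fun g : Perm (Fin 6) => InK g).card = 120 := by
  decide +kernel

theorem norm : ∀ g : Perm (Fin 6), g 0 ≠ 0 → ∃ i j : Fin 5,
    (c0 ^ i.1 * g * c0 ^ j.1) 0 = 1 ∧ (c0 ^ i.1 * g * c0 ^ j.1) 1 = 0 := by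
  decide +kernel

set_option synthInstance.maxSize 2000 in
theorem two_trans : ∀ g : Perm (Fin 6), g 0 = 1 → g 1 = 0 → ∀ u v : Fin 6, u ≠ v → ∃ i j : Fin 5,
    ((c0 ^ i.1 * g * c0 ^ j.1) 0 = u ∧ (c0 ^ i.1 * g * c0 ^ j.1) 1 = v) ∨
      ((c0 ^ i.1) 0 = u ∧ (c0 ^ i.1) 1 = v) := by
  decide +kernel

set_option synthInstance.maxSize 2000 in
theorem words : ∀ g : Perm (Fin 6), g 0 = 1 → g 1 = 0 → InK g ∨ ∃ i j k : Fin 5,
    (g * c0 ^ i.1 * g * c0 ^ j.1 * g * c0 ^ k.1).support.card = 2 ∨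
    (g * c0 ^ i.1 * g * c0 ^ j.1 * g * c0 ^ k.1).support.card = 3 ∨
    ((g * c0 ^ i.1 * g * c0 ^ j.1 * g * c0 ^ k.1) ^ 2).support.card = 3 := by
  decide +kernel

theorem c0_mem : c0 ∈ K0 := by
  show InK c0
  decide +kernel

/-- Coset representatives of `K0`. -/
def rep : Fin 6 → Perm (Fin 6) :=
  ![1, swap 4 5, swap 3 4, swap 3 4 * swap 4 5, swap 4 5 * swap 3 4, swap 3 5]

theorem rep_inj : ∀ i j : Fin 6,
    InK ((rep j)⁻¹ * (rep i * c0 * (rep i)⁻¹) * rep j : Perm (Fin 6)) → i = j := by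
  decide +kernel

theorem rep_cos : ∀ i j : Fin 6, InK ((rep i)⁻¹ * rep j : Perm (Fin 6)) → i = j := by
  decide +kernel

theorem swap_mem : swap 0 1 * swap 3 4 ∈ K0 := by
  show InK (swap 0 1 * swap 3 4 : Perm (Fin 6))
  decide +kernel

end Cfsg.Lib.Char.Six
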