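import Cfsg.Agent.Char.SixData

/-! The subgroups of index six of the symmetric group of degree six. -/

set_option autoImplicit false

namespace Cfsg.Lib.Char.Six

open Equiv Equiv.Perm MulAction

theorem card_S6 : Nat.card (Perm (Fin 6)) = 720 := by
  rw [Nat.card_perm]; simp [Nat.factorial]

theorem card_of_index {H : Subgroup (Perm (Fin 6))} (h : H.index = 6) : Nat.card H = 120 := by
  have := H.index_mul_card
  rw [h, card_S6] at this; omega

theorem index_K0 : K0.index = 6 := by
  have h1 : Nat.card K0 = 120 := by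
    rw [← card_filter, ← Fintype.card_subtype, ← Nat.card_eq_fintype_card]; rfl
  have := K0.index_mul_card
  rw [h1, card_S6] at this; omega

theorem index_stab (a : Fin 6) : (stabilizer (Perm (Fin 6)) a).index = 6 := by
  rw [index_stabilizer_of_transitive]; simp

theorem index_conj {G : Type*} [Group G] (H : Subgroup G) (g : G) :
    (H.map (MulAut.conj g).toMonoidHom).index = H.index :=
  Subgroup.index_map_equiv H (MulAut.conj g)

theorem not_alt_le {H : Subgroup (Perm (Fin 6))} (h : H.index = 6) :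
    ¬ alternatingGroup (Fin 6) ≤ H := fun hc => by
  have := Subgroup.index_dvd_of_le hc
  rw [h, alternatingGroup.index_eq_two] at this; omega

theorem eq_of_le {H K : Subgroup (Perm (Fin 6))} (h : H.index = 6) (h' : K.index = 6)
    (hle : H ≤ K) : H = K :=
  Subgroup.eq_of_le_of_card_ge hle (by rw [card_of_index h, card_of_index h'])

theorem le_K0 {H : Subgroup (Perm (Fin 6))} (h : H.index = 6) (hc : c0 ∈ H) {g : Perm (Fin 6)}
    (hg : g ∈ H) (h0 : g 0 ≠ 0) : H ≤ K0 := by
  have key : ∀ g ∈ H, g 0 ≠ 0 → g ∈ K0 := fun g hg h0 => by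
    obtain ⟨i, j, h1, h2⟩ := norm g h0
    have hg' : c0 ^ i.1 * g * c0 ^ j.1 ∈ H := mul_mem (mul_mem (pow_mem hc _) hg) (pow_mem hc _)
    generalize e : c0 ^ i.1 * g * c0 ^ j.1 = k at h1 h2 hg'
    have hp : IsPreprimitive H (Fin 6) := by
      have t : ∀ {u v : Fin 6}, u ≠ v → ∃ x ∈ H, x 0 = u ∧ x 1 = v := fun {u v} huv => by
        obtain ⟨i, j, h | h⟩ := two_trans k h1 h2 u v huv
        · exact ⟨_, mul_mem (mul_mem (pow_mem hc _) hg') (pow_mem hc _), h⟩
        · exact ⟨_, pow_mem hc _, h⟩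
      apply isPreprimitive_of_is_two_pretransitive
      rw [is_two_pretransitive_iff]
      intro p q r s hpq hrs
      obtain ⟨x, hx, h1, h2⟩ := t hpq
      obtain ⟨y, hy, h1', h2'⟩ := t hrs
      refine ⟨⟨y * x⁻¹, mul_mem hy (inv_mem hx)⟩, ?_, ?_⟩
      · show y (x⁻¹ p) = r
        rw [← h1]; simpa using h1'
      · show y (x⁻¹ q) = s
        rw [← h2]; simpa using h2'
    rcases words k h1 h2 with hk | ⟨a, b, c, hk⟩
    · have hk' : k ∈ K0 := hk
      rw [← e] at hk'
      exact (mul_mem_cancel_left (pow_mem c0_mem _)).1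
        ((mul_mem_cancel_right (pow_mem c0_mem _)).1 hk')
    · exfalso
      have hw : k * c0 ^ a.1 * k * c0 ^ b.1 * k * c0 ^ c.1 ∈ H :=
        mul_mem (mul_mem (mul_mem (mul_mem (mul_mem hg' (pow_mem hc _)) hg') (pow_mem hc _)) hg')
          (pow_mem hc _)
      apply not_alt_le h
      rcases hk with hk | hk | hk
      · rw [subgroup_eq_top_of_isPreprimitive_of_isSwap_mem hp _ (card_support_eq_two.1 hk) hw]
        exact le_top
      · exact alternatingGroup_le_of_isPreprimitive_of_isThreeCycle_mem hp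
          (card_support_eq_three_iff.1 hk) hw
      · exact alternatingGroup_le_of_isPreprimitive_of_isThreeCycle_mem hp
          (card_support_eq_three_iff.1 hk) (pow_mem hw _)
  intro x hx
  by_cases hx0 : x 0 = 0
  · exact (mul_mem_cancel_left (key g hg h0)).1 (key _ (mul_mem hg hx) (by simpa [hx0] using h0))
  · exact key x hx hx0

theorem cycleType_five {x : Perm (Fin 6)} (hx : orderOf x = 5) : x.cycleType = {5} := by
  obtain ⟨n, hn⟩ := cycleType_prime_order (σ := x) (by rw [hx]; norm_num)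
  have h1 := x.sum_cycleType ▸ Finset.card_le_univ x.support
  rw [hn, hx] at h1
  simp only [Multiset.sum_replicate, smul_eq_mul, Fintype.card_fin] at h1
  obtain rfl : n = 0 := by omega
  rw [hn, hx]; rfl

theorem map_stab (g : Perm (Fin 6)) (a : Fin 6) :
    (stabilizer (Perm (Fin 6)) a).map (MulAut.conj g).toMonoidHom = stabilizer _ (g a) :=
  (stabilizer_smul_eq_stabilizer_map_conj g a).symm

theorem map_map_conj {G : Type*} [Group G] (H : Subgroup G) (g k : G) :
    (H.map (MulAut.conj k).toMonoidHom).map (MulAut.conj g).toMonoidHom =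
      H.map (MulAut.conj (g * k)).toMonoidHom := by
  rw [Subgroup.map_map]; congr 1; ext x; simp [mul_assoc]

theorem classify {H : Subgroup (Perm (Fin 6))} (h : H.index = 6) :
    ∃ g, (stabilizer (Perm (Fin 6)) (0 : Fin 6)).map (MulAut.conj g).toMonoidHom = H ∨
      K0.map (MulAut.conj g).toMonoidHom = H := by
  have : Fact (Nat.Prime 5) := ⟨by norm_num⟩
  obtain ⟨x, hx⟩ := exists_prime_orderOf_dvd_card' (G := H) 5 (by rw [card_of_index h]; norm_num)
  have hc : orderOf c0 = 5 := orderOf_eq_prime (by decide) (by decide)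
  obtain ⟨g, hg⟩ := isConj_iff.1 (isConj_iff_cycleType_eq.2
    ((cycleType_five hc).trans (cycleType_five ((Subgroup.orderOf_coe x).trans hx)).symm))
  have h1 : (H.map (MulAut.conj g⁻¹).toMonoidHom).index = 6 := (index_conj _ _).trans h
  have h2 : c0 ∈ H.map (MulAut.conj g⁻¹).toMonoidHom := ⟨x, x.2, by simp [← hg, mul_assoc]⟩
  have h3 : (H.map (MulAut.conj g⁻¹).toMonoidHom).map (MulAut.conj g).toMonoidHom = H := by
    rw [map_map_conj]; ext y; simp
  refine ⟨g, ?_⟩
  by_cases h0 : ∀ k ∈ H.map (MulAut.conj g⁻¹).toMonoidHom, k 0 = 0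
  · exact .inl (by rw [← eq_of_le h1 (index_stab 0) h0, h3])
  · push Not at h0
    obtain ⟨k, hk, h0⟩ := h0
    exact .inr (by rw [← eq_of_le h1 index_K0 (le_K0 h1 h2 hk h0), h3])

theorem K0_ne (g : Perm (Fin 6)) (a : Fin 6) :
    K0.map (MulAut.conj g).toMonoidHom ≠ stabilizer _ a := fun h => by
  have h1 : ∀ k ∈ K0, k (g⁻¹ a) = g⁻¹ a := fun k hk => by
    have : g * k * g⁻¹ ∈ stabilizer (Perm (Fin 6)) a := h ▸ ⟨k, hk, rfl⟩
    have h2 : g (k (g⁻¹ a)) = a := this
    exact g.injective (by simpa using h2)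
  have h2 := h1 _ c0_mem
  have h3 := h1 _ swap_mem
  revert h2 h3
  generalize g⁻¹ a = b
  revert b; decide

theorem card_index_six : Nat.card {H : Subgroup (Perm (Fin 6)) // H.index = 6} = 12 := by
  let F : Fin 6 ⊕ Fin 6 → {H : Subgroup (Perm (Fin 6)) // H.index = 6} := fun x => match x with
    | .inl a => ⟨stabilizer _ a, index_stab a⟩
    | .inr j => ⟨K0.map (MulAut.conj (rep j)).toMonoidHom, (index_conj _ _).trans index_K0⟩
  rw [← Nat.card_eq_of_bijective F ⟨?_, ?_⟩]
  · simp
  · rintro (a | i) (b | j) h <;> have h1 := congrArg Subtype.val h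
    · by_contra hab
      have hab' : a ≠ b := fun e => hab (by rw [e])
      obtain ⟨c, hc, hc'⟩ : ∃ c : Fin 6, a ≠ c ∧ b ≠ c := by
        have : ∀ a b : Fin 6, ∃ c : Fin 6, a ≠ c ∧ b ≠ c := by decide
        exact this a b
      have h2 : swap b c ∈ stabilizer (Perm (Fin 6)) a := swap_apply_of_ne_of_ne hab' hc
      have h1' : stabilizer (Perm (Fin 6)) a = stabilizer (Perm (Fin 6)) b := h1
      rw [h1'] at h2
      exact hc' (by simpa using h2.symm)
    · exact (K0_ne _ _ h1.symm).elim
    · exact (K0_ne _ _ h1).elim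
    · have h1' : K0.map (MulAut.conj (rep i)).toMonoidHom = K0.map (MulAut.conj (rep j)).toMonoidHom := h1
      obtain ⟨k, hk, e⟩ : rep i * c0 * (rep i)⁻¹ ∈ K0.map (MulAut.conj (rep j)).toMonoidHom :=
        h1' ▸ ⟨c0, c0_mem, rfl⟩
      rw [rep_inj i j (by
        rw [← e]
        have : (rep j)⁻¹ * (MulAut.conj (rep j)).toMonoidHom k * rep j = k := by simp [mul_assoc]
        rw [this]; exact hk)]
  · rintro ⟨H, hH⟩
    obtain ⟨g, rfl | rfl⟩ := classify hH
    · exact ⟨.inl (g 0), Subtype.ext (map_stab g 0).symm⟩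
    · have hb : Function.Bijective fun j : Fin 6 => (rep j : Perm (Fin 6) ⧸ K0) :=
        (Nat.bijective_iff_injective_and_card _).2 ⟨fun i j h => rep_cos i j (QuotientGroup.eq.1 h),
          by rw [← Subgroup.index, index_K0]; simp⟩
      obtain ⟨j, hj⟩ := hb.2 g
      refine ⟨.inr j, Subtype.ext ?_⟩
      have hk : (rep j)⁻¹ * g ∈ K0 := QuotientGroup.eq.1 hj
      have : K0.map (MulAut.conj ((rep j)⁻¹ * g)).toMonoidHom = K0 :=
        eq_of_le ((index_conj _ _).trans index_K0) index_K0 (by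
          rintro _ ⟨k, hk', rfl⟩
          exact mul_mem (mul_mem hk hk') (inv_mem hk))
      show K0.map (MulAut.conj (rep j)).toMonoidHom = K0.map (MulAut.conj g).toMonoidHom
      conv_lhs => rw [← this, map_map_conj, mul_inv_cancel_left]

/-- A point stabiliser of a symmetric group is a symmetric group. -/
theorem nonempty_stabilizer_equiv {Ω : Type*} (a : Ω) :
    Nonempty (stabilizer (Perm Ω) a ≃* Perm {x // x ≠ a}) := by
  classical
  have : (ofSubtype : Perm {x // x ≠ a} →* Perm Ω).range = stabilizer (Perm Ω) a := by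
    ext g
    constructor
    · rintro ⟨k, rfl⟩
      exact ofSubtype_apply_of_not_mem k (by simp)
    · intro hg
      have hg' : g a = a := hg
      exact ⟨g.subtypePerm fun x => by
        rw [ne_eq, ne_eq, not_iff_not]
        exact ⟨fun e => g.injective (e.trans hg'.symm), fun e => by rw [e, hg']⟩,
        ofSubtype_subtypePerm _ fun x hx e => hx (by rw [e, hg'])⟩
  exact ⟨(MulEquiv.subgroupCongr this.symm).trans (MonoidHom.ofInjective ofSubtype_injective).symm⟩

theorem nonempty_equiv {H : Subgroup (Perm (Fin 6))} (h : H.index = 6) :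
    Nonempty (H ≃* Perm (Fin 5)) := by
  classical
  let φ := MulAction.toPermHom (Perm (Fin 6)) (Perm (Fin 6) ⧸ H)
  have hi : Function.Injective φ := by
    rw [← MonoidHom.ker_eq_bot_iff, ← Subgroup.normalCore_eq_ker]
    by_contra hc
    exact not_alt_le h ((alternatingGroup_le_of_normal (by simp)
      ((Subgroup.nontrivial_iff_ne_bot _).2 hc)).trans H.normalCore_le)
  have hb : Function.Bijective φ := (Nat.bijective_iff_injective_and_card _).2
    ⟨hi, by rw [Nat.card_perm, Nat.card_perm, ← Subgroup.index, h]; simp⟩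
  let e := MulEquiv.ofBijective φ hb
  have hm : H.map e.toMonoidHom = stabilizer _ ((1 : Perm (Fin 6)) : Perm (Fin 6) ⧸ H) := by
    ext g
    obtain ⟨g, rfl⟩ := e.surjective g
    have h1 : e g ∈ H.map e.toMonoidHom ↔ g ∈ H := Subgroup.mem_map_iff_mem e.injective
    rw [h1]
    conv_lhs => rw [← MulAction.stabilizer_quotient H]
    rfl
  obtain ⟨e'⟩ := nonempty_stabilizer_equiv ((1 : Perm (Fin 6)) : Perm (Fin 6) ⧸ H)
  have hc : Nat.card {x : Perm (Fin 6) ⧸ H // x ≠ ((1 : Perm (Fin 6)) : Perm (Fin 6) ⧸ H)} = 5 := by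
    have := Fintype.ofFinite (Perm (Fin 6) ⧸ H)
    rw [Nat.card_eq_fintype_card, Fintype.card_subtype_compl, Fintype.card_subtype_eq,
      ← Nat.card_eq_fintype_card, ← Subgroup.index, h]
  exact ⟨((e.subgroupMap H).trans (MulEquiv.subgroupCongr hm)).trans
    (e'.trans (Finite.equivFinOfCardEq hc).permCongrHom)⟩

end Cfsg.Lib.Char.Six
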