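import Cfsg.Agent.Char.TriplePrim
import Cfsg.Agent.Char.PermLemma

/-!
# Characters over a linear character of a central subgroup: special classes
-/

set_option autoImplicit false

open scoped ComplexConjugate
open Cfsg

namespace Cfsg.Lib.Char

variable {G : Type*} [Group G] {N : Subgroup G}

/-- `g` is special modulo `N`: what commutes with `g` modulo `N` commutes with `g`. -/
def IsSpecialMod (N : Subgroup G) (g : G) : Prop :=
  ∀ x : G, x * g * x⁻¹ * g⁻¹ ∈ N → x * g = g * x

theorem isSpecialMod_iff [hN : N.Normal] (g : G) :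
    IsSpecialMod N g ↔ ∀ x : G, x⁻¹ * g⁻¹ * x * g ∈ N → x * g = g * x := by
  refine forall_congr' fun x => imp_congr_left ⟨fun h => ?_, fun h => ?_⟩
  · have := hN.conj_mem _ h (g * x)⁻¹
    convert this using 1
    group
  · have := hN.conj_mem _ h (g * x)
    convert this using 1
    group

theorem IsSpecialMod.of_isConj [hN : N.Normal] (hZ : N ≤ Subgroup.center G) {g h : G}
    (hg : IsSpecialMod N g) (hc : IsConj (g : G ⧸ N) h) : IsSpecialMod N h := by
  obtain ⟨c, hc⟩ := isConj_iff.mp hc
  obtain ⟨c, rfl⟩ := QuotientGroup.mk_surjective c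
  rw [← QuotientGroup.mk_inv, ← QuotientGroup.mk_mul, ← QuotientGroup.mk_mul,
    QuotientGroup.eq] at hc
  obtain ⟨n, hn, rfl⟩ : ∃ n ∈ N, h = c * g * c⁻¹ * n := ⟨_, hc, by group⟩
  have hn' := Subgroup.mem_center_iff.mp (hZ hn)
  intro x hx
  have h1 : x * (c * g * c⁻¹ * n) * x⁻¹ * (c * g * c⁻¹ * n)⁻¹ =
      c * (c⁻¹ * x * c * g * (c⁻¹ * x * c)⁻¹ * g⁻¹) * c⁻¹ := by
    rw [← mul_assoc x, mul_assoc _ n, ← hn' x⁻¹]
    group
  rw [h1] at hx
  have h2 := hg (c⁻¹ * x * c) (by simpa [mul_assoc] using hN.conj_mem _ hx c⁻¹)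
  calc x * (c * g * c⁻¹ * n) = c * (c⁻¹ * x * c * g) * c⁻¹ * n := by group
    _ = c * g * c⁻¹ * (x * n) := by rw [h2]; group
    _ = _ := by rw [hn' x]; group

open Classical in
/-- Projection onto the characters over `lam`. -/
theorem sum_conj_mul_apply_mul [Finite G] [Fintype N] (hZ : N ≤ Subgroup.center G)
    (lam : N →* ℂˣ) {χ : G → ℂ} (hχ : IsIrrCharacter G χ) (g : G) :
    ∑ n : N, conj (lam n : ℂ) * χ (n * g) =
      if LiesOverLin N.subtype lam χ then (Nat.card N : ℂ) * χ g else 0 := by
  obtain ⟨mu, hmu⟩ := exists_liesOverLin (ι := N.subtype)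
    (fun a k => (Subgroup.mem_center_iff.mp (hZ a.2) k).symm) hχ
  have h1 : ∑ n : N, conj (lam n : ℂ) * χ (n * g) =
      Nat.card N * classInner (fun n => (mu n : ℂ)) (fun n => (lam n : ℂ)) * χ g := by
    rw [card_mul_classInner, Finset.sum_mul]
    refine Finset.sum_congr rfl fun n _ => ?_
    rw [show χ (n * g) = mu n * χ g from hmu n g]
    ring
  rw [h1, classInner_monoidHom]
  have := Fintype.ofFinite G
  by_cases h : LiesOverLin N.subtype lam χ
  · rw [if_pos h, if_pos (hmu.eq_of_classInner_ne_zero h (by rw [hχ.classInner_self]; simp)),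
      mul_one]
  · rw [if_neg h, if_neg (fun h' : mu = lam => h (h' ▸ hmu)), mul_zero, zero_mul]

open Classical in
/-- Column orthogonality for the characters over a faithful linear character of a central
subgroup. -/
theorem sum_liesOver_mul_conj [Finite G] [N.Normal] (hZ : N ≤ Subgroup.center G)
    {lam : N →* ℂˣ} (hlam : Function.Injective lam) (g : G) :
    ∑ χ : IrrCharacter G with LiesOverLin N.subtype lam χ.1,
        (χ : G → ℂ) g * conj ((χ : G → ℂ) g) =
      if IsSpecialMod N g then (Nat.card (Subgroup.centralizer {(g : G ⧸ N)}) : ℂ) else 0 := by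
  have := Fintype.ofFinite G
  have := Fintype.ofFinite N
  let D := (Subgroup.centralizer {(g : G ⧸ N)}).comap (QuotientGroup.mk' N)
  have hD : ∀ y, y ∈ D ↔ y * g * y⁻¹ * g⁻¹ ∈ N := fun y => by
    rw [Subgroup.mem_comap, Subgroup.mem_centralizer_singleton_iff, ← QuotientGroup.eq_one_iff,
      QuotientGroup.mk'_apply]
    simp only [QuotientGroup.mk_mul, QuotientGroup.mk_inv, mul_inv_eq_iff_eq_mul, one_mul]
  let c : D →* N := MonoidHom.mk' (fun y => ⟨_, (hD y).1 y.2⟩) fun y z => Subtype.ext (by
    have h1 := Subgroup.mem_center_iff.mp (hZ ((hD z).1 z.2))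
    simp only [Subgroup.coe_mul]
    rw [h1]
    calc (y : G) * z * g * ((y : G) * z)⁻¹ * g⁻¹
        = y * (z * g * (z : G)⁻¹ * g⁻¹) * g * (y : G)⁻¹ * g⁻¹ := by group
      _ = _ := by rw [h1]; group)
  have hcard : (Nat.card D : ℂ) =
      Nat.card N * Nat.card (Subgroup.centralizer {(g : G ⧸ N)}) := by
    rw [← Nat.cast_mul, Nat.cast_inj]
    exact QuotientGroup.card_preimage_mk N (Subgroup.centralizer {(g : G ⧸ N)} : Subgroup (G ⧸ N))
  apply mul_left_cancel₀ (card_ne_zero N)
  calc (Nat.card N : ℂ) * ∑ χ : IrrCharacter G with LiesOverLin N.subtype lam χ.1,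
        (χ : G → ℂ) g * conj ((χ : G → ℂ) g)
      = ∑ χ : IrrCharacter G, (∑ n : N, conj (lam n : ℂ) * (χ : G → ℂ) (n * g)) *
          conj ((χ : G → ℂ) g) := by
        rw [Finset.mul_sum, Finset.sum_filter]
        refine Finset.sum_congr rfl fun χ _ => ?_
        rw [sum_conj_mul_apply_mul hZ lam χ.2]
        split_ifs <;> ring
    _ = ∑ n : N, ∑ y : G, if y * g * y⁻¹ = n * g then conj (lam n : ℂ) else 0 := by
        simp only [Finset.sum_mul, mul_assoc (conj _)]
        rw [Finset.sum_comm]
        refine Finset.sum_congr rfl fun n _ => ?_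
        rw [← Finset.mul_sum, sum_irr_mul_conj, Nat.card_eq_fintype_card, Fintype.card_subtype,
          ← Finset.sum_filter, Finset.sum_const, nsmul_eq_mul, mul_comm]
    _ = ∑ y : D, (((lam.comp c)⁻¹ y : ℂˣ) : ℂ) := by
        rw [Finset.sum_comm, ← Finset.sum_subset (Finset.subset_univ (Finset.univ.filter (· ∈ D))),
          Finset.sum_subtype (p := (· ∈ D)) _ (by simp)]
        · refine Finset.sum_congr rfl fun y _ => ?_
          rw [Finset.sum_eq_single (c y), if_pos (by simp [c]), MonoidHom.inv_apply,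
            ← monoidHom_apply_inv, map_inv, MonoidHom.comp_apply]
          · intro n _ hn
            refine if_neg fun h => hn (Subtype.ext ?_)
            simp [c, h]
          · simp
        · intro y _ hy
          refine Finset.sum_eq_zero fun n _ => if_neg fun h => hy ?_
          simp [hD, h]
    _ = _ := by
        by_cases h : IsSpecialMod N g
        · have h1 : ∀ y, c y = 1 := fun y => Subtype.ext (by simp [c, h y ((hD y).1 y.2)])
          rw [if_pos h, ← hcard]
          simp [h1]
        · rw [if_neg h, mul_zero]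
          refine sum_monoidHom_apply_of_ne_one fun h1 => h fun y hy => ?_
          have h2 := DFunLike.congr_fun h1 ⟨y, (hD y).2 hy⟩
          rw [MonoidHom.inv_apply, MonoidHom.one_apply, inv_eq_one, MonoidHom.comp_apply,
            ← map_one lam] at h2
          have h3 : y * g * y⁻¹ * g⁻¹ = 1 := congrArg Subtype.val (hlam h2)
          rwa [mul_inv_eq_one, mul_inv_eq_iff_eq_mul] at h3

/-- Some character over `lam` does not vanish at a special element. -/
theorem IsSpecialMod.exists_apply_ne_zero [Finite G] [N.Normal] (hZ : N ≤ Subgroup.center G)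
    {lam : N →* ℂˣ} (hlam : Function.Injective lam) {g : G} (hg : IsSpecialMod N g) :
    ∃ χ : G → ℂ, IsIrrCharacter G χ ∧ LiesOverLin N.subtype lam χ ∧ χ g ≠ 0 := by
  classical
  have h := sum_liesOver_mul_conj hZ hlam g
  rw [if_pos hg] at h
  obtain ⟨χ, h1, h2⟩ := Finset.exists_ne_zero_of_sum_ne_zero (h ▸ card_ne_zero _)
  exact ⟨χ, χ.2, (Finset.mem_filter.mp h1).2, left_ne_zero_of_mul h2⟩

/-- The number of irreducible characters over `lam` is the number of special classes. -/
theorem card_liesOver_eq [Finite G] [N.Normal] (hZ : N ≤ Subgroup.center G)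
    {lam : N →* ℂˣ} (hlam : Function.Injective lam) :
    Nat.card {χ : IrrCharacter G // LiesOverLin N.subtype lam (χ : G → ℂ)} =
      Nat.card {C : ConjClasses (G ⧸ N) //
        ∃ g : G, ConjClasses.mk (g : G ⧸ N) = C ∧ IsSpecialMod N g} := by
  classical
  have := Fintype.ofFinite G
  have := Fintype.ofFinite (ConjClasses (G ⧸ N))
  let F : ConjClasses (G ⧸ N) → ℂ := fun C =>
    if ∃ g : G, ConjClasses.mk (g : G ⧸ N) = C ∧ IsSpecialMod N g then 1 else 0
  have h1 : ∑ g : G, ∑ χ : IrrCharacter G with LiesOverLin N.subtype lam χ.1,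
      (χ : G → ℂ) g * conj ((χ : G → ℂ) g) =
      Nat.card G * Nat.card {χ : IrrCharacter G // LiesOverLin N.subtype lam (χ : G → ℂ)} := by
    rw [Finset.sum_comm]
    simp only [← card_mul_classInner, fun χ : IrrCharacter G => χ.2.classInner_self]
    rw [Nat.card_eq_fintype_card (α := Subtype _), Fintype.card_subtype]
    simp [mul_comm]
  have h2 : ∀ g : G, (if IsSpecialMod N g then
      (Nat.card (Subgroup.centralizer {(g : G ⧸ N)}) : ℂ) else 0) =
      Nat.card (Subgroup.centralizer {QuotientGroup.mk' N g}) *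
        F (ConjClasses.mk (QuotientGroup.mk' N g)) := fun g => by
    by_cases h : IsSpecialMod N g
    · simp only [F]
      rw [if_pos h, if_pos ⟨g, rfl, h⟩, mul_one, QuotientGroup.mk'_apply]
    · simp only [F]
      rw [if_neg h, if_neg, mul_zero]
      rintro ⟨g', h1, h2⟩
      exact h (h2.of_isConj hZ (ConjClasses.mk_eq_mk_iff_isConj.mp h1))
  simp only [sum_liesOver_mul_conj hZ hlam, h2] at h1
  rw [sum_comp_surjective (QuotientGroup.mk' N) (QuotientGroup.mk'_surjective N)
    (fun x => Nat.card (Subgroup.centralizer {x}) * F (ConjClasses.mk x)),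
    sum_card_centralizer_mul, QuotientGroup.ker_mk', ← mul_assoc, ← Nat.cast_mul, mul_comm (Nat.card N),
    ← Subgroup.card_eq_card_quotient_mul_card_subgroup, Finset.sum_boole] at h1
  have h3 := mul_left_cancel₀ (card_ne_zero G) h1
  rw [Nat.card_eq_fintype_card (α := {C : ConjClasses (G ⧸ N) // _}), Fintype.card_subtype]
  exact_mod_cast h3.symm

end Cfsg.Lib.Char
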