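import Cfsg.Agent.Char.SqFourC

/-! Four primes, pairwise but not triply joined: the general case, faithful actions. -/

set_option autoImplicit false
set_option linter.unusedSectionVars false

namespace Cfsg.Lib.Char.Sq4

open Subgroup Cfsg Cfsg.Lib Cfsg.Lib.Solv Cfsg.Lib.Trans Cfsg.Lib.Char.Sq
open scoped commutatorElement Pointwise

variable {M V : Type*} [Group M] [Group V]

/-- The coprime action of a Hall subgroup for three of the primes on an abelian normal subgroup for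
the fourth. -/
structure Cf (φ : M →* MulAut V) (σ : Set ℕ) : Prop where
  solv : Group.IsSolvable M
  vsolv : Group.IsSolvable V
  vcomm : ∀ a b : V, a * b = b * a
  vne : Nontrivial V
  cop : (Nat.card V).Coprime (Nat.card M)
  prime : ∀ r ∈ σ, r.Prime
  mem : ∀ r : ℕ, r.Prime → r ∣ Nat.card M → r ∈ σ
  three : ∀ r ∈ σ, ∀ s ∈ σ, ∀ t ∈ σ, ∀ u ∈ σ, r ≠ s → r ≠ t → s ≠ t → u = r ∨ u = s ∨ u = t
  trip : ∀ (g : M) (r s t : ℕ), r.Prime → s.Prime → t.Prime → r ≠ s → r ≠ t → s ≠ t →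
    orderOf g ≠ r * s * t
  mix : ∀ (g : M) (r s : ℕ), r.Prime → s.Prime → r ≠ s → orderOf g = r * s → ¬ Vis φ g

structure Cf2 (φ : M →* MulAut V) (σ : Set ℕ) : Prop extends Cf φ σ where
  ex : ∀ r s : ℕ, ∃ t ∈ σ, t ≠ r ∧ t ≠ s
  pairs : ∀ r ∈ σ, ∀ s ∈ σ, r ≠ s → ∃ y z : M, orderOf y = r ∧ orderOf z = s ∧ Commute y z
  ell : ∀ r ∈ σ, Ell r (⊤ : Subgroup M)

variable [Finite M] [Finite V] {φ : M →* MulAut V} {σ : Set ℕ}

theorem cent_facts {a : ℕ} (ha : a.Prime) {T : Subgroup M} (hT : IsPGroup a T) (hne : T ≠ ⊥) :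
    T ⊓ centralizer (T : Set M) ≠ ⊥ := fun e => by
  have := Fact.mk ha
  obtain ⟨u, hu, ho, hc⟩ := exists_central hT hne
  have : u = 1 := mem_bot.1 (e ▸ (⟨hu, fun x hx => (hc x hx).symm⟩ : u ∈ T ⊓ centralizer (T : Set M)))
  rw [this, orderOf_one] at ho
  exact ha.one_lt.ne ho

omit [Finite V] in
theorem index_eq_relIndex {N H : Subgroup M} [N.Normal] (h : N ⊔ H = ⊤) :
    H.index = H.relIndex N := by
  have h1 : N.relIndex H = N.index := by
    rw [← relIndex_sup_right, sup_comm, h, relIndex_top_right]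
  have h2 : (H ⊓ N).relIndex N * N.index = (H ⊓ N).index := relIndex_mul_index inf_le_right
  have h3 : (H ⊓ N).relIndex H * H.index = (H ⊓ N).index := relIndex_mul_index inf_le_left
  rw [inf_relIndex_right] at h2
  rw [inf_comm, inf_relIndex_right, h1, inf_comm, ← h2, mul_comm] at h3
  exact Nat.eq_of_mul_eq_mul_right (Nat.pos_of_ne_zero index_ne_zero_of_finite) h3

namespace Cf

theorem trip' (h : Cf φ σ) {r s t : ℕ} (hr : r.Prime) (hs : s.Prime) (ht : t.Prime) (hrs : r ≠ s)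
    (hrt : r ≠ t) (hst : s ≠ t) {x y z : M} (hxy : Commute x y) (hxz : Commute x z)
    (hyz : Commute y z) (hx : r ∣ orderOf x) (hy : s ∣ orderOf y) (hz : t ∣ orderOf z) : False := by
  obtain ⟨g, hg⟩ := exists_triple hr hs ht hrs hrt hst hxy hxz hyz hx hy hz
  exact h.trip g r s t hr hs ht hrs hrt hst hg

theorem mix' (h : Cf φ σ) {r s : ℕ} (hr : r.Prime) (hs : s.Prime) (hrs : r ≠ s) {y z : M}
    (hc : Commute y z) (hy : r ∣ orderOf y) (hz : s ∣ orderOf z) {v : V} (hv : v ≠ 1)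
    (h1 : φ y v = v) (h2 : φ z v = v) : False := by
  obtain ⟨a, ha, b, hb, hab⟩ := exists_mul_orderOf hr hs hrs hc hy hz
  refine h.mix _ r s hr hs hrs hab ⟨v, hv, ?_⟩
  rw [map_mul, MulAut.mul_apply, fix_of_mem_zpowers h2 hb, fix_of_mem_zpowers h1 ha]

theorem not_ell (h : Cf φ σ) {r s : ℕ} (hr : r.Prime) (hs : s.Prime) (hrs : r ≠ s) {y : M}
    (hy : r ∣ orderOf y) (hv : Vis φ y) {X : Subgroup M} (hX : X ≤ centralizer {y}) :
    ¬ Ell s X := by
  intro hE
  obtain ⟨e, he, ho, v, hv1, h1, h2⟩ := hE.exists_fix_act h.cop hs hv hX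
  exact h.mix' hr hs hrs (mem_centralizer_singleton_iff.1 (hX he)).symm hy (ho ▸ dvd_rfl) hv1 h1 h2

theorem exists_vis (h : Cf φ σ) {r : ℕ} (hr : r.Prime) {X : Subgroup M} (hE : Ell r X) :
    ∃ e ∈ X, orderOf e = r ∧ Vis φ e := by
  have := h.vne
  obtain ⟨v, hv⟩ := exists_ne (1 : V)
  obtain ⟨e, he, ho, v, hv1, -, h2⟩ := hE.exists_fix_act h.cop hr (y := 1) ⟨v, hv, by simp⟩
    (fun x _ => mem_centralizer_singleton_iff.2 (by simp))
  exact ⟨e, he, ho, v, hv1, h2⟩

theorem vis_of_mem_ker (h : Cf φ σ) {d : M} (hd : d ∈ φ.ker) : Vis φ d := by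
  have := h.vne
  obtain ⟨v, hv⟩ := exists_ne (1 : V)
  exact ⟨v, hv, by rw [MonoidHom.mem_ker.1 hd]; rfl⟩

theorem comm_le_ker (h : Cf φ σ) {r s : ℕ} (hr : r.Prime) (hs : s.Prime) (hrs : r ≠ s) {y : M}
    (hy : orderOf y = r) (hv : ¬ Vis φ y) (hne : s ≠ 2 ∨ ¬ Fer r) {Q : Subgroup M} [Q.Normal]
    (hQ : IsPGroup s Q) : ⁅zpowers y, Q⁆ ≤ φ.ker := by
  have := h.solv
  have := Fact.mk hs
  refine shult h.vsolv h.cop hr hy hv inferInstance (by rw [normalizer_eq_top]; trivial)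
    (not_dvd_of_isPGroup hr hs hrs hQ) fun d hd h1 h2 => ?_
  obtain ⟨m, hm⟩ := IsPGroup.iff_card.1 hQ
  obtain ⟨h3, n, rfl⟩ := FT.eq_two_of_sq_dvd_prime_pow hs hr hd h1 (hm ▸ h2)
  rcases hne with h4 | h4
  · exact absurd h3 h4
  · refine absurd ⟨n, ?_, h1.symm⟩ h4
    rcases n with _ | n
    · simp at hd
    · omega

theorem cent_of_invis (h : Cf φ σ) (hk : φ.ker = ⊥) {r s : ℕ} (hr : r.Prime) (hs : s.Prime)
    (hrs : r ≠ s) {y : M} (hy : orderOf y = r) (hv : ¬ Vis φ y) (hne : s ≠ 2 ∨ ¬ Fer r)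
    {Q : Subgroup M} [Q.Normal] (hQ : IsPGroup s Q) : y ∈ centralizer (Q : Set M) :=
  mem_centralizer_of_commutator_eq_bot
    (le_bot_iff.1 (hk ▸ h.comm_le_ker hr hs hrs hy hv hne hQ))

/-- An invisible element of prime order `r` outside the Fitting subgroup. -/
theorem fa (h : Cf φ σ) (hk : φ.ker = ⊥) {r : ℕ} (hr : r.Prime) {y : M} (hy : orderOf y = r)
    (hv : ¬ Vis φ y) (h0 : pCore r M = ⊥) :
    Fer r ∧ ∀ s : ℕ, s.Prime → s ≠ 2 → pCore s M = ⊥ := by
  have hc : ∀ s : ℕ, s.Prime → s ≠ 2 ∨ ¬ Fer r → y ∈ centralizer (pCore s M : Set M) := by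
    intro s hs hne
    by_cases hrs : r = s
    · subst hrs
      rw [h0]
      rintro _ rfl
      simp
    · exact h.cent_of_invis hk hr hs hrs hy hv hne (pCore_isPGroup s M)
  have hn : ¬ ∀ s : ℕ, s.Prime → y ∈ centralizer (pCore s M : Set M) := by
    intro hall
    have := mem_pCore_of_forall h.solv hr hy hall
    rw [h0, mem_bot] at this
    rw [this, orderOf_one] at hy
    exact hr.one_lt.ne hy
  have hF : Fer r := by
    by_contra hF
    exact hn fun s hs => hc s hs (Or.inr hF)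
  refine ⟨hF, fun s hs hs2 => ?_⟩
  by_contra hne
  have hrs : r ≠ s := by
    rintro rfl
    exact hne h0
  have := Fact.mk hs
  obtain ⟨u, hu, huo⟩ := exists_orderOf_mem hs (dvd_card_of_ne_bot (pCore_isPGroup s M) hne)
  have h2 : pCore 2 M ≤ φ.ker := by
    refine wielandt h.vsolv h.cop hv (by rw [normalizer_eq_top]; trivial)
      (hy ▸ (Nat.Prime.coprime_iff_not_dvd hr).2
        (not_dvd_of_isPGroup hr Nat.prime_two hF.ne_two (pCore_isPGroup 2 M))) ?_
    intro w hw hw1 k hk hwk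
    by_contra hk1
    exact h.trip' hr hs Nat.prime_two hrs hF.ne_two hs2 (hc s hs (Or.inl hs2) u hu).symm
      (commute_of_mem_zpowers hr hy hw hw1 hwk) (commute_pCore hs Nat.prime_two hs2 hu hk)
      (hy ▸ dvd_rfl) (huo ▸ dvd_rfl) (dvd_orderOf_of_mem Nat.prime_two (pCore_isPGroup 2 M) hk hk1)
  refine hn fun t ht => ?_
  by_cases ht2 : t = 2
  · subst ht2
    rw [le_bot_iff.1 (h2.trans hk.le)]
    rintro _ rfl
    simp
  · exact hc t ht (Or.inl ht2)

theorem mem_of_ne_bot (h : Cf φ σ) {a : ℕ} (ha : a.Prime) {A : Subgroup M} (hA : IsPGroup a A)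
    (hne : A ≠ ⊥) : a ∈ σ := by
  have := Fact.mk ha
  exact h.mem a ha ((dvd_card_of_ne_bot hA hne).trans (card_subgroup_dvd_card A))

theorem pCore_eq_bot (h : Cf φ σ) {a c t : ℕ} (ha : a.Prime) (hc : c.Prime) (ht : t.Prime)
    (hac : a ≠ c) (hat : a ≠ t) (hct : c ≠ t) (h1 : pCore a M ≠ ⊥) (h2 : pCore c M ≠ ⊥) :
    pCore t M = ⊥ := by
  by_contra h3
  obtain ⟨⟨x, hx⟩, hx1⟩ := ne_bot_iff_exists_ne_one.1 h1
  obtain ⟨⟨y, hy⟩, hy1⟩ := ne_bot_iff_exists_ne_one.1 h2
  obtain ⟨⟨z, hz⟩, hz1⟩ := ne_bot_iff_exists_ne_one.1 h3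
  exact h.trip' ha hc ht hac hat hct (commute_pCore ha hc hac hx hy) (commute_pCore ha ht hat hx hz)
    (commute_pCore hc ht hct hy hz)
    (dvd_orderOf_of_mem ha (pCore_isPGroup a M) hx fun h => hx1 (Subtype.ext h))
    (dvd_orderOf_of_mem hc (pCore_isPGroup c M) hy fun h => hy1 (Subtype.ext h))
    (dvd_orderOf_of_mem ht (pCore_isPGroup t M) hz fun h => hz1 (Subtype.ext h))

/-- Passage to the faithful action. -/
theorem quot (h : Cf φ σ) : Cf (QuotientGroup.kerLift φ) σ where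
  solv := by have := h.solv; infer_instance
  vsolv := h.vsolv
  vcomm := h.vcomm
  vne := h.vne
  cop := h.cop.coprime_dvd_right (card_quotient_dvd_card _)
  prime := h.prime
  mem := fun r hr hd => h.mem r hr (hd.trans (card_quotient_dvd_card _))
  three := h.three
  trip := by
    intro g r s t hr hs ht hrs hrt hst hg
    obtain ⟨g, rfl⟩ := QuotientGroup.mk'_surjective _ g
    have := hg ▸ orderOf_map_dvd (QuotientGroup.mk' φ.ker) g
    exact h.trip' hr hs ht hrs hrt hst (Commute.refl g) (Commute.refl g) (Commute.refl g)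
      (((dvd_mul_right r s).mul_right t).trans this) (((dvd_mul_left s r).mul_right t).trans this)
      ((dvd_mul_left t _).trans this)
  mix := by
    rintro g r s hr hs hrs hg ⟨v, hv, h1⟩
    obtain ⟨g, rfl⟩ := QuotientGroup.mk'_surjective _ g
    have := hg ▸ orderOf_map_dvd (QuotientGroup.mk' φ.ker) g
    exact h.mix' hr hs hrs (Commute.refl g) ((dvd_mul_right r s).trans this)
      ((dvd_mul_left s r).trans this) hv h1 h1

theorem luc (h : Cf φ σ) (y u w : M) (r s t : ℕ) (hr : r.Prime) (hs : s.Prime) (ht : t.Prime)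
    (hrs : r ≠ s) (hrt : r ≠ t) (hst : s ≠ t) (hy : orderOf y = r) (hv : Vis φ y)
    (hyu : Commute y u) (hyw : Commute y w) (hu : s ∣ orderOf u) (hw : t ∣ orderOf w) : False := by
  have := h.solv
  have := h.vsolv
  have : Group.IsSolvable (V ⋊[φ] M) := Group.isSolvable_of_ker_le_range SemidirectProduct.inl
    SemidirectProduct.rightHom SemidirectProduct.range_inl_eq_ker_rightHom.ge
  obtain ⟨v, hv1, hv⟩ := hv
  obtain ⟨p, hp, hpv⟩ := Nat.exists_prime_and_dvd (mt orderOf_eq_one_iff.1 hv1)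
  have hpM : ¬ p ∣ Nat.card M := fun e => hp.one_lt.ne' ((Nat.coprime_self _).1
    ((h.cop.coprime_dvd_left (hpv.trans (orderOf_dvd_natCard v))).coprime_dvd_right e))
  have k1 : ∀ {q : ℕ} {x : V ⋊[φ] M}, q.Prime → q ∣ Nat.card M → q ∣ orderOf x →
      q ∣ orderOf (SemidirectProduct.rightHom x) := fun {q x} hq h1 h2 => by
    obtain ⟨a, ha⟩ := SemidirectProduct.range_inl_eq_ker_rightHom.ge
      (show x ^ orderOf (SemidirectProduct.rightHom x) ∈ SemidirectProduct.rightHom.ker by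
        rw [MonoidHom.mem_ker, map_pow, pow_orderOf_eq_one])
    have h3 : x ^ (orderOf (SemidirectProduct.rightHom x) * Nat.card V) = 1 := by
      rw [pow_mul, ← ha, ← map_pow, pow_card_eq_one', map_one]
    exact (h.cop.symm.coprime_dvd_left h1).dvd_of_dvd_mul_right
      (h2.trans (orderOf_dvd_of_pow_eq_one h3))
  have k2 : ∀ {x : V ⋊[φ] M} {a : V}, Commute x (SemidirectProduct.inl a) →
      φ (SemidirectProduct.rightHom x) a = a := fun {x a} e => by
    have := congrArg SemidirectProduct.left e.eq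
    simp only [SemidirectProduct.mul_left, SemidirectProduct.left_inl, SemidirectProduct.right_inl,
      map_one, MulAut.one_apply] at this
    rw [h.vcomm a] at this
    exact mul_left_cancel this
  have k3 : ∀ {q : ℕ} {x : V ⋊[φ] M}, q.Prime → r ≠ q → q ∣ Nat.card M →
      Commute (SemidirectProduct.inr y) x → orderOf x = q * p → False := fun {q x} hq h0 h1 h2 h3 => by
    obtain ⟨a, ha⟩ := SemidirectProduct.range_inl_eq_ker_rightHom.ge
      (show x ^ q ∈ SemidirectProduct.rightHom.ker by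
        rw [MonoidHom.mem_ker]
        by_contra hne
        refine hpM (orderOf_eq_of_pow hp ?_ hne ▸ orderOf_dvd_natCard _)
        rw [← map_pow, ← pow_mul, ← h3, pow_orderOf_eq_one, map_one])
    refine h.mix' hr hq h0 (h2.map SemidirectProduct.rightHom) (by simp [hy])
      (k1 hq h1 (h3 ▸ dvd_mul_right q p)) (v := a) (fun e => ?_) (k2 (ha ▸ h2.pow_right q))
      (k2 (ha ▸ (Commute.refl x).pow_right q))
    rw [e, map_one, eq_comm, ← orderOf_dvd_iff_pow_eq_one, h3] at ha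
    exact hp.one_lt.ne' (Nat.eq_one_of_dvd_one (Nat.dvd_of_mul_dvd_mul_left hq.pos
      (by rwa [mul_one])))
  have hsM := hu.trans (orderOf_dvd_natCard u)
  have htM := hw.trans (orderOf_dvd_natCard w)
  obtain ⟨x, hx, e | e | e⟩ := exists_triple_of_cent (y := (SemidirectProduct.inr y : V ⋊[φ] M))
    inferInstance hs ht hp hst (fun e => hpM (e ▸ hsM)) (fun e => hpM (e ▸ htM))
    (hyu.map SemidirectProduct.inr) (hyw.map SemidirectProduct.inr) (c := SemidirectProduct.inl v)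
    (SemidirectProduct.ext (by simp [hv]) (by simp))
    (by rwa [orderOf_injective _ SemidirectProduct.inr_injective])
    (by rwa [orderOf_injective _ SemidirectProduct.inr_injective])
    (by rwa [orderOf_injective _ SemidirectProduct.inl_injective])
  · have hx' := hx.map SemidirectProduct.rightHom
    exact h.trip' hr hs ht hrs hrt hst hx' hx' (Commute.refl _) (by simp [hy])
      (k1 hs hsM (e ▸ dvd_mul_right s t)) (k1 ht htM (e ▸ dvd_mul_left t s))
  · exact k3 hs hrs hsM hx e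
  · exact k3 ht hrt htM hx e

/-- An invisible element centralizes the abelian normal subgroups of coprime order. -/
theorem cent_ab (h : Cf φ σ) (hk : φ.ker = ⊥) {r s : ℕ} (hr : r.Prime) (hs : s.Prime) (hrs : r ≠ s)
    {y : M} (hy : orderOf y = r) (hv : ¬ Vis φ y) {T : Subgroup M} [T.Normal] (hT : IsPGroup s T) :
    y ∈ centralizer ((T ⊓ centralizer (T : Set M) : Subgroup M) : Set M) := by
  have := h.solv
  refine mem_centralizer_of_commutator_eq_bot (le_bot_iff.1 (hk ▸ shult h.vsolv h.cop hr hy hv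
    inferInstance (by rw [normalizer_eq_top]; trivial)
    (not_dvd_of_isPGroup hr hs hrs hT.to_inf_left) fun _ _ _ _ a ha b hb => ha.2 b hb.1))

/-- A normal `2`-subgroup has rank at least two. -/
theorem c2 (h : Cf φ σ) {b c : ℕ} (hb : b.Prime) (hc : c.Prime) (hb2 : b ≠ 2) (hc2 : c ≠ 2)
    (hbc : b ≠ c) {y z : M} (hy : orderOf y = b) (hz : orderOf z = c) (hyz : Commute y z)
    {T : Subgroup M} [T.Normal] (hT : IsPGroup 2 T) (hne : T ≠ ⊥) : Ell 2 T := by
  by_contra hn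
  obtain ⟨γ, hγ, ho⟩ := exists_orderOf_mem Nat.prime_two (dvd_card_of_ne_bot hT hne)
  have := normal_zpowers_of_not_ell Nat.prime_two hT hn hγ ho
  exact h.trip' hb hc Nat.prime_two hbc hb2 hc2 hyz
    (commute_of_normal_zpowers Nat.prime_two ho (by simp))
    (commute_of_normal_zpowers Nat.prime_two ho (by simp)) (hy ▸ dvd_rfl) (hz ▸ dvd_rfl)
    (ho ▸ dvd_rfl)

/-- Two invisible elements of different odd prime orders. -/
theorem two_invis (h : Cf φ σ) (hk : φ.ker = ⊥) {b c : ℕ} (hb : b.Prime) (hc : c.Prime)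
    (hb2 : b ≠ 2) (hc2 : c ≠ 2) (hbc : b ≠ c) {y z : M} (hy : orderOf y = b) (hz : orderOf z = c)
    (hyz : Commute y z) {u w : M} (hu : orderOf u = b) (hu' : ¬ Vis φ u) (hw : orderOf w = c)
    (hw' : ¬ Vis φ w) : pCore 2 M = ⊥ := by
  by_contra hne
  have hT := pCore_isPGroup 2 M
  obtain ⟨e, he, heo, hev⟩ := h.exists_vis Nat.prime_two (h.c2 hb hc hb2 hc2 hbc hy hz hyz
    hT.to_inf_left (cent_facts Nat.prime_two hT hne))
  exact h.luc e u w 2 b c Nat.prime_two hb hc hb2.symm hc2.symm hbc heo hev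
    (h.cent_ab hk hb Nat.prime_two hb2 hu hu' hT e he)
    (h.cent_ab hk hc Nat.prime_two hc2 hw hw' hT e he) (hu ▸ dvd_rfl) (hw ▸ dvd_rfl)

end Cf

namespace Cf2

theorem both_vis (h : Cf2 φ σ) {a b c : ℕ} (ha : a.Prime) (hb : b.Prime) (hc : c.Prime)
    (hab : a ≠ b) (hac : a ≠ c) (hbc : b ≠ c) {y z : M} (hyz : Commute y z) (hy : orderOf y = b)
    (hz : orderOf z = c) (hyv : Vis φ y) (hzv : Vis φ z) {A : Subgroup M} [A.Normal]
    (hA : IsPGroup a A) : A ≤ φ.ker := by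
  have ho : orderOf (y * z) = b * c := by
    rw [orderOf_mul_of_commute hyz (by rw [hy, hz]; exact (Nat.coprime_primes hb hc).2 hbc), hy, hz]
  refine wielandt h.vsolv h.cop (h.mix _ b c hb hc hbc ho) (by rw [normalizer_eq_top]; trivial)
    (ho ▸ Nat.Coprime.mul_left
      ((Nat.Prime.coprime_iff_not_dvd hb).2 (not_dvd_of_isPGroup hb ha hab.symm hA))
      ((Nat.Prime.coprime_iff_not_dvd hc).2 (not_dvd_of_isPGroup hc ha hac.symm hA))) ?_
  rintro _ ⟨i, rfl⟩ hw1 k hk hwk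
  by_contra hk1
  have hka := dvd_orderOf_of_mem ha hA hk hk1
  simp only [hyz.mul_zpow] at hw1 hwk
  by_cases h1 : y ^ i = 1
  · rw [h1, one_mul] at hw1 hwk
    exact h.luc z k y c a b hc ha hb hac.symm hbc.symm hab hz hzv
      (commute_of_mem_zpowers hc hz ⟨i, rfl⟩ hw1 hwk) hyz.symm hka (hy ▸ dvd_rfl)
  · have h2 : (y ^ i * z ^ i) ^ c = (y ^ i) ^ c := by
      rw [(hyz.zpow_zpow i i).mul_pow, ← zpow_natCast (z ^ i), ← zpow_mul, mul_comm i, zpow_mul,
        zpow_natCast, ← hz, pow_orderOf_eq_one, one_zpow, mul_one]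
    have h3 : (y ^ i) ^ c ≠ 1 := fun h3 => hbc ((Nat.prime_dvd_prime_iff_eq hb hc).1
      ((dvd_orderOf_of_mem hb (isPGroup_zpowers hy) ⟨i, rfl⟩ h1).trans
        (orderOf_dvd_of_pow_eq_one h3)))
    exact h.luc y k z b a c hb ha hc hab.symm hbc hac hy hyv
      (commute_of_mem_zpowers hb hy (pow_mem (zpow_mem (mem_zpowers y) i) c) h3 (h2 ▸ hwk.pow_left c)) hyz hka
      (hz ▸ dvd_rfl)

theorem c2' (h : Cf2 φ σ) {T : Subgroup M} [T.Normal] (hT : IsPGroup 2 T) (hne : T ≠ ⊥) :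
    Ell 2 T := by
  obtain ⟨b, hb, hb2, -⟩ := h.ex 2 2
  obtain ⟨c, hc, hc2, hcb⟩ := h.ex 2 b
  obtain ⟨y, z, hy, hz, hyz⟩ := h.pairs b hb c hc hcb.symm
  exact h.c2 (h.prime b hb) (h.prime c hc) hb2 hc2 hcb.symm hy hz hyz hT hne

theorem ec (h : Cf2 φ σ) {c : ℕ} (hc : c ∈ σ) (hc2 : c ≠ 2)
    (hall : ∀ e : M, orderOf e = c → Vis φ e) : pCore 2 M = ⊥ := by
  classical
  by_contra hne
  have hcp := h.prime c hc
  have hT : IsPGroup 2 (pCore 2 M ⊓ centralizer (pCore 2 M : Set M) : Subgroup M) :=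
    (pCore_isPGroup 2 M).to_inf_left
  have hE := h.c2' hT (cent_facts Nat.prime_two (pCore_isPGroup 2 M) hne)
  obtain ⟨E, -, h3, h4, h5⟩ := h.ell c hc
  obtain ⟨e, he, heo, -⟩ := Ell.exists_ne hcp ⟨E, le_rfl, h3, h4, h5⟩ 1
  refine h.not_ell hcp Nat.prime_two hc2 (heo ▸ dvd_rfl) (hall e heo) ?_ hE
  refine Coprime.le_of_forall_centralizer_singleton h4 le_normalizer_of_normal
    (coprime_of_isPGroup hcp Nat.prime_two hc2 (isPGroup_of_pow h5) hT) fun a ha ha1 x hx => ?_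
  have hao := orderOf_eq_of_pow hcp (h5 a ha) ha1
  have hn := h.not_ell hcp Nat.prime_two hc2 (hao ▸ dvd_rfl) (hall a hao)
    (inf_le_right (a := pCore 2 M ⊓ centralizer (pCore 2 M : Set M)))
  have hN := mem_normalizer_inf (T := pCore 2 M ⊓ centralizer (pCore 2 M : Set M))
    (by rw [normalizer_eq_top]; trivial) (congrArg Subtype.val (mul_comm' (⟨e, he⟩ : E) ⟨a, ha⟩))
  have : IsMulCommutative ↥(pCore 2 M ⊓ centralizer (pCore 2 M : Set M) ⊓ centralizer {a}) :=
    ⟨⟨fun s t => Subtype.ext (t.2.1.2 s s.2.1.1)⟩⟩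
  refine mem_centralizer_singleton_iff.2 (Coprime.le_centralizer_of_pow_prime_eq_one (p := 2)
    hT.to_inf_left (zpowers_le.2 hN) (by
      rw [Nat.card_zpowers, heo]; exact (Nat.coprime_primes hcp Nat.prime_two).2 hc2)
    (fun v hv hv2 => ?_) (mem_zpowers e) x hx)
  by_cases hv1 : v = 1
  · rw [hv1]; exact one_mem _
  have ho := orderOf_eq_of_pow Nat.prime_two hv2 hv1
  have k := mem_zpowers_of_not_ell Nat.prime_two hT.to_inf_left hn hv (mem_normalizer_conj hN hv) ho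
    (by rw [conj_pow, hv2]; simp)
  rw [mem_zpowers_iff_mem_range_orderOf, ho] at k
  obtain ⟨i, hi, e1⟩ := Finset.mem_image.1 k
  rw [Finset.mem_range] at hi
  interval_cases i
  · exact absurd (by simpa using e1.symm) hv1
  · exact fun g hg => (Commute.of_mem_zpowers (show Commute e v from
      mul_inv_eq_iff_eq_mul.1 (by rw [← e1, pow_one])) hg (mem_zpowers v)).eq

theorem one (h : Cf2 φ σ) (hk : φ.ker = ⊥) {a b c : ℕ} (ha : a.Prime) (hb : b ∈ σ) (hc : c ∈ σ)
    (hab : a ≠ b) (hac : a ≠ c) (hbc : b ≠ c) (h1 : pCore a M ≠ ⊥)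
    (h0 : ∀ t : ℕ, t.Prime → t ≠ a → pCore t M = ⊥) {y : M} (hy : orderOf y = b)
    (hv : ¬ Vis φ y) : False := by
  have hbp := h.prime b hb
  have hcp := h.prime c hc
  obtain ⟨hF, h2⟩ := h.fa hk hbp hy hv (h0 b hbp hab.symm)
  have ha2 : a = 2 := by
    by_contra ha2
    exact h1 (h2 a ha ha2)
  subst ha2
  refine h1 (h.ec hc hac.symm fun e he => by_contra fun hev => ?_)
  obtain ⟨u, w, hu, hw, huw⟩ := h.pairs b hb c hc hbc
  exact h1 (h.two_invis hk hbp hcp hab.symm hac.symm hbc hu hw huw hy hv he hev)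

theorem two (h : Cf2 φ σ) (hk : φ.ker = ⊥) {a c : ℕ} (ha : a.Prime) (hcp : c.Prime)
    (hac : a ≠ c) (h1 : pCore a M ≠ ⊥) (h2 : pCore c M ≠ ⊥) (hn : ¬ Ell c (pCore c M)) :
    False := by
  have hsol := h.solv
  obtain ⟨b, hb, hba, hbc⟩ := h.ex a c
  have hbp := h.prime b hb
  have hc : c ∈ σ := h.mem_of_ne_bot hcp (pCore_isPGroup c M) h2
  have hFa := Fact.mk ha
  have hFb := Fact.mk hbp
  have hFc := Fact.mk hcp
  have h0 : ∀ t : ℕ, t.Prime → t ≠ a → t ≠ c → pCore t M = ⊥ := fun t ht h3 h4 =>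
    h.pCore_eq_bot ha hcp ht hac h3.symm h4.symm h1 h2
  have hc2 : c ≠ 2 := by
    rintro rfl
    exact hn (h.c2' (pCore_isPGroup 2 M) h2)
  have hall : ∀ e : M, orderOf e = b → Vis φ e := fun e he => by
    by_contra hv
    exact h2 ((h.fa hk hbp he hv (h0 b hbp hba hbc)).2 c hcp hc2)
  obtain ⟨γ, hγ, hγo⟩ := exists_orderOf_mem hcp (dvd_card_of_ne_bot (pCore_isPGroup c M) h2)
  have hγn := normal_zpowers_of_not_ell hcp (pCore_isPGroup c M) hn hγ hγo
  have hγ1 : zpowers γ ≠ ⊥ := by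
    rw [Ne, zpowers_eq_bot]
    rintro rfl
    exact hcp.one_lt.ne (by rw [← hγo, orderOf_one])
  obtain ⟨E, -, h3, h4, h5⟩ := h.ell b hb
  have hE : Ell b E := ⟨E, le_rfl, h3, h4, h5⟩
  obtain ⟨e₀, he₀, he₀o, k, hk1, hk2, hk3⟩ := hE.exists_fix hbp (K := zpowers γ)
    le_normalizer_of_normal (not_dvd_of_isPGroup hbp hcp hbc (isPGroup_zpowers hγo)) hγ1
  have he₀γ : Commute e₀ γ := (commute_of_mem_zpowers hcp hγo hk1 hk2 hk3.symm).symm
  have hA : ∀ e u : M, orderOf e = b → Commute e γ → u ∈ pCore a M → Commute e u → u = 1 := by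
    intro e u he h6 hu h7
    by_contra hu1
    exact h.trip' hbp ha hcp hba hbc hac h7 h6 (commute_pCore ha hcp hac hu hγ) (he ▸ dvd_rfl)
      (dvd_orderOf_of_mem ha (pCore_isPGroup a M) hu hu1) (hγo ▸ dvd_rfl)
  have ha2 : a ≠ 2 := by
    rintro rfl
    exact h1 (h.ec hb hba hall)
  set N := centralizer ((zpowers γ : Subgroup M) : Set M) with hN
  have hmemN : ∀ g : M, Commute g γ → g ∈ N := fun g hg x hx =>
    (Commute.of_mem_zpowers hg.symm hx (mem_zpowers g)).eq
  have hNb : ¬ Ell b N := fun hE' => by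
    obtain ⟨e, he, heo, u, hu, hu1, h6⟩ := hE'.exists_fix hbp (K := pCore a M)
      le_normalizer_of_normal (not_dvd_of_isPGroup hbp ha hba (pCore_isPGroup a M)) h1
    exact hu1 (hA e u heo (he γ (mem_zpowers γ)).symm hu h6)
  have hlt : b < c := by
    by_contra hlt
    refine hNb (hE.mono fun e he => hmemN e (commute_of_normal_zpowers hcp hγo ?_))
    exact (coprime_pred hcp hbp (by omega)).coprime_dvd_left (orderOf_dvd_of_pow_eq_one (h5 e he))
  have key : ∀ u y : M, orderOf u = c → orderOf y = b → Commute y u → u ∈ zpowers γ := by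
    intro u y hu hy hyu
    have hv : ¬ Vis φ u := fun hv => h1 (le_bot_iff.1 ((h.both_vis ha hbp hcp hba.symm hac hbc hyu
      hy hu (hall y hy) hv (pCore_isPGroup a M)).trans hk.le))
    have h6 := h.cent_of_invis hk hcp ha hac.symm hu hv (Or.inl ha2) (pCore_isPGroup a M)
    refine mem_zpowers_of_cyc hsol hcp hc2 hn h6 hu hγ hγo fun t ht htc => ?_
    by_cases hta : t = a
    · subst hta
      exact ⟨h6, commutator_le_left _ _⟩
    · exact ⟨mem_centralizer_bot (h0 t ht hta htc), fun _ _ => mem_centralizer_bot (h0 t ht hta htc)⟩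
  have hidx : pPrimeCore b M ⊔ normalizer ((zpowers e₀ : Subgroup M) : Set M) = ⊤ := by
    set π := QuotientGroup.mk' (pPrimeCore b M) with hπ
    have hπs : Function.Surjective π := QuotientGroup.mk'_surjective _
    have hNn : (N.map π).Normal := Normal.map inferInstance π hπs
    set B := pCore b (M ⧸ pPrimeCore b M) with hB
    have hRp : IsPGroup b (B ⊓ N.map π : Subgroup _) := (pCore_isPGroup b _).to_inf_left
    have hK := not_dvd_card_pPrimeCore b M
    have hn' : ¬ Ell b (N.map π) := fun hE' => hNb (Ell.of_map hbp π (by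
      rwa [hπ, QuotientGroup.ker_mk']) hE')
    have ho : orderOf (π e₀) = b := orderOf_eq_of_pow hbp (by rw [← map_pow, h5 e₀ he₀, map_one])
      fun e => hK (he₀o.symm.dvd.trans (Subgroup.orderOf_dvd_natCard _
        ((QuotientGroup.eq_one_iff (N := pPrimeCore b M) e₀).1 e)))
    have hm := mem_map_of_mem π (hmemN e₀ he₀γ)
    have hne : B ⊓ N.map π ≠ ⊥ := fun e => by
      have h8 := (IsPSolvable.of_isSolvable b (M ⧸ pPrimeCore b M)).centralizer_pCore_le
        (pPrimeCore_quotient_pPrimeCore b M) (commutator_eq_bot_iff_le_centralizer.1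
          (le_bot_iff.1 ((commutator_le_inf _ _).trans ((inf_comm _ _).trans e).le)) hm)
      rw [mem_bot.1 (e.le ⟨h8, hm⟩), orderOf_one] at ho
      exact hbp.one_lt.ne ho
    obtain ⟨ρ, hρ, hρo⟩ := exists_orderOf_mem hbp (dvd_card_of_ne_bot hRp hne)
    have hnorm := normal_zpowers_of_not_ell hbp hRp (fun e => hn' (e.mono inf_le_right)) hρ hρo
    have h9 := mem_zpowers_of_not_ell hbp (hRp.to_sup_of_normal_left (isPGroup_zpowers ho))
      (fun e => hn' (e.mono (sup_le inf_le_right (zpowers_le.2 hm)))) (mem_sup_left hρ)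
      (mem_sup_right (mem_zpowers _)) hρo (by rw [← map_pow, h5 e₀ he₀, map_one])
    rw [← zpowers_eq_of_mem ho hρo h9, ← MonoidHom.map_zpowers] at hnorm
    have hX := hnorm.comap π
    rw [comap_map_eq, hπ, QuotientGroup.ker_mk'] at hX
    have := sup_normalizer_sylow (s := b) (T := zpowers e₀) (D := zpowers e₀ ⊔ pPrimeCore b M)
      ⟨le_sup_left, isPGroup_zpowers he₀o, fun hd => hK (by
        have h10 := Solv.card_sup_mul_card_inf_of_le_normalizer (le_normalizer_of_normal :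
          zpowers e₀ ≤ normalizer (pPrimeCore b M : Set M))
        rw [sup_comm, ← card_mul_relIndex (le_sup_left : zpowers e₀ ≤ _ ⊔ pPrimeCore b M),
          mul_assoc, mul_comm] at h10
        exact Nat.eq_of_mul_eq_mul_right Nat.card_pos h10 ▸ hd.mul_right _)⟩
    rw [eq_top_iff, ← this]
    exact sup_le (sup_le (le_normalizer.trans le_sup_right) le_sup_left) le_sup_right
  obtain ⟨U, hU1, hU2, hU3, hU4⟩ := Coprime.exists_invariant_sylow' (A := E) (K := pPrimeCore b M)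
    le_normalizer_of_normal (coprime_card_of_isPGroup (isPGroup_of_pow h5)
      (coprime_card_pPrimeCore b M)) (Or.inl inferInstance) c
  have hUc : U ≤ centralizer ((zpowers e₀ : Subgroup M) : Set M) := by
    refine Coprime.le_of_forall_centralizer_singleton h4 hU4
      (coprime_of_isPGroup hbp hcp hbc (isPGroup_of_pow h5) hU2) fun e he he1 => ?_
    have heo := orderOf_eq_of_pow hbp (h5 e he) he1
    have h6 : ∀ v ∈ U ⊓ centralizer {e}, orderOf v = c → v ∈ zpowers γ := fun v hv hvo =>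
      key v e hvo heo (mem_centralizer_singleton_iff.1 hv.2).symm
    have h7 := isCyclic_of_not_ell hcp hc2 (hU2.to_inf_left (K := centralizer {e})) fun hE' => by
      obtain ⟨v, hv, hvo, hvn⟩ := hE'.exists_ne hcp γ
      exact hvn (h6 v hv hvo)
    rw [le_centralizer_iff]
    refine Coprime.le_centralizer_of_pow_prime_eq_one (p := c) hU2.to_inf_left
      (zpowers_le.2 (mem_normalizer_inf (hU4 he₀)
        (congrArg Subtype.val (mul_comm' (⟨e₀, he₀⟩ : E) ⟨e, he⟩))))
      (by rw [Nat.card_zpowers, he₀o]; exact (Nat.coprime_primes hbp hcp).2 hbc) fun v hv hvc => ?_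
    by_cases hv1 : v = 1
    · rw [hv1]; exact one_mem _
    · exact fun x hx => (Commute.of_mem_zpowers he₀γ hx
        (h6 v hv (orderOf_eq_of_pow hcp hvc hv1))).eq
  have h9 : ¬ c ∣ (normalizer ((zpowers e₀ : Subgroup M) : Set M)).relIndex ⊤ := fun hd =>
    IsSylowIn.not_dvd_relIndex_of_le ⟨hU1, hU2, hU3⟩ (hUc.trans (centralizer_le_normalizer _)) (by
      rwa [← index_eq_relIndex hidx, ← relIndex_top_right])
  obtain ⟨v, hv, hvo, hvn⟩ := ((h.ell c hc).of_not_dvd hcp le_top h9).exists_ne hcp γ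
  exact hvn (key v e₀ hvo he₀o (mem_centralizer_of_isCyclic (isPGroup_zpowers he₀o) inferInstance hv
    (hvo ▸ (Nat.coprime_primes hcp hbp).2 hbc.symm) (hvo ▸ coprime_pred hbp hcp hlt) e₀
    (mem_zpowers e₀)))

theorem faithful (h : Cf2 φ σ) (hk : φ.ker = ⊥) : False := by
  have hsol := h.solv
  obtain ⟨b₀, hb₀, -⟩ := h.ex 0 0
  have : Nontrivial M := by
    by_contra hM
    rw [not_nontrivial_iff_subsingleton] at hM
    exact (h.ell b₀ hb₀).not_isCyclic inferInstance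
  have h1 := fitting_ne_bot_of_isSolvable M
  rw [Ne, fitting_eq_bot_iff_forall_pCore] at h1
  obtain ⟨a, h1⟩ := not_forall.1 h1
  obtain ⟨⟨ha⟩, h1⟩ := not_forall.1 h1
  by_cases h0 : ∀ t : ℕ, t.Prime → t ≠ a → pCore t M = ⊥
  · obtain ⟨b, hb, hba, -⟩ := h.ex a a
    obtain ⟨c, hc, hca, hcb⟩ := h.ex a b
    obtain ⟨y, z, hy, hz, hyz⟩ := h.pairs b hb c hc hcb.symm
    by_cases hyv : Vis φ y
    · by_cases hzv : Vis φ z
      · exact h1 (le_bot_iff.1 ((h.both_vis ha (h.prime b hb) (h.prime c hc) hba.symm hca.symm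
          hcb.symm hyz hy hz hyv hzv (pCore_isPGroup a M)).trans hk.le))
      · exact h.one hk ha hc hb hca.symm hba.symm hcb h1 h0 hz hzv
    · exact h.one hk ha hb hc hba.symm hca.symm hcb.symm h1 h0 hy hyv
  · push Not at h0
    obtain ⟨c, hc, hca, h2⟩ := h0
    by_cases hE : Ell a (pCore a M)
    · obtain ⟨u, hu, huo, huv⟩ := h.exists_vis ha hE
      exact h.two hk ha hc hca.symm h1 h2 (h.not_ell ha hc hca.symm (huo ▸ dvd_rfl) huv
        fun x hx => mem_centralizer_singleton_iff.2 (commute_pCore hc ha hca hx hu).eq)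
    · exact h.two hk hc ha hca h2 h1 hE

end Cf2

end Cfsg.Lib.Char.Sq4
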