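import Cfsg.Agent.Char.SqFourD

/-! Four primes, pairwise but not triply joined, in a solvable group: the general case. -/

set_option autoImplicit false
set_option linter.unusedSectionVars false

namespace Cfsg.Lib.Char.Sq4

open Subgroup Cfsg Cfsg.Lib Cfsg.Lib.Solv Cfsg.Lib.Trans Cfsg.Lib.Char.Sq
open scoped commutatorElement Pointwise

variable {M V : Type*} [Group M] [Group V] [Finite M] [Finite V] {φ : M →* MulAut V} {σ : Set ℕ}

namespace Cf2

theorem fpf (h : Cf2 φ σ) {r : ℕ} (hr : r.Prime) (hD : ¬ r ∣ Nat.card φ.ker) {y : M}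
    (hy : orderOf y = r) (hv : Vis φ y) : φ.ker ⊓ centralizer {y} = ⊥ := by
  by_contra hne
  obtain ⟨d, hd, hdo⟩ := Coprime.exists_prime_orderOf_of_ne_bot hne
  obtain ⟨v, hv1, hv⟩ := hv
  refine h.mix' hr hdo (fun h1 => hD (h1 ▸ φ.ker.orderOf_dvd_natCard hd.1))
    (mem_centralizer_singleton_iff.1 hd.2).symm (hy ▸ dvd_rfl) dvd_rfl hv1 hv ?_
  rw [MonoidHom.mem_ker.1 hd.1]; rfl

theorem d1 (h : Cf2 φ σ) (hk : φ.ker ≠ ⊥) : ∃ a : ℕ, a.Prime ∧ IsPGroup a φ.ker := by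
  have hsol := h.solv
  have h1 : ∃ t ∈ σ, ¬ t ∣ Nat.card φ.ker := by
    by_contra hn
    push Not at hn
    obtain ⟨r, hr, -⟩ := h.ex 0 0
    obtain ⟨s, hs, hsr, -⟩ := h.ex r r
    obtain ⟨t, ht, htr, hts⟩ := h.ex r s
    have hrp := h.prime r hr
    have hsp := h.prime s hs
    have htp := h.prime t ht
    obtain ⟨x, hx⟩ := lucido (G := φ.ker) inferInstance hrp hsp htp hsr.symm htr.symm hts.symm
      (hn r hr) (hn s hs) (hn t ht)
    rw [← orderOf_coe] at hx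
    rcases hx with hx | hx | hx
    · exact h.mix _ _ _ hrp hsp hsr.symm hx (h.vis_of_mem_ker x.2)
    · exact h.mix _ _ _ hrp htp htr.symm hx (h.vis_of_mem_ker x.2)
    · exact h.mix _ _ _ hsp htp hts.symm hx (h.vis_of_mem_ker x.2)
  obtain ⟨t, ht, htD⟩ := h1
  have htp := h.prime t ht
  obtain ⟨e, -, heo, hev⟩ := h.exists_vis htp (h.ell t ht)
  have hnil : Group.IsNilpotent φ.ker := Fpf.isNilpotent_of_prime htp
    (by rw [normalizer_eq_top]; trivial) (heo ▸ pow_orderOf_eq_one e) (h.fpf htp htD heo hev)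
  obtain ⟨d, hd, hdo⟩ := Coprime.exists_prime_orderOf_of_ne_bot hk
  have := Fact.mk hdo
  refine ⟨orderOf d, hdo, isPiSubgroup_singleton_iff.1 fun s hs hsd => ?_⟩
  by_contra hne
  have := Fact.mk hs
  obtain ⟨x, hx, hxo⟩ := exists_orderOf_mem hs hsd
  have h2 : Commute (⟨x, hx⟩ : φ.ker) ⟨d, hd⟩ := commute_pCore hs hdo hne
    (mem_pCore_iff_of_isNilpotent.2 ⟨1, by rw [orderOf_mk, hxo, pow_one]⟩)
    (mem_pCore_iff_of_isNilpotent.2 ⟨1, by rw [orderOf_mk, pow_one]⟩)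
  obtain ⟨v, hv1, hv⟩ := h.vis_of_mem_ker hd
  refine h.mix' hs hdo hne (congrArg Subtype.val h2) (hxo ▸ dvd_rfl) dvd_rfl hv1 ?_ hv
  rw [MonoidHom.mem_ker.1 hx]; rfl

section

variable (h : Cf2 φ σ) (hk : φ.ker ≠ ⊥) {a : ℕ} (ha : a.Prime) (hD : IsPGroup a φ.ker)
include h hk ha hD

theorem d3 {r : ℕ} (hr : r ∈ σ) (hra : r ≠ a) :
    ∃ e : M, orderOf e = r ∧ ¬ Vis φ e ∧ φ.ker ⊓ centralizer {e} ≠ ⊥ := by
  have hrp := h.prime r hr
  have h1 := not_dvd_of_isPGroup hrp ha hra hD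
  obtain ⟨e, -, heo, d, hd, hd1, hc⟩ := (h.ell r hr).exists_fix hrp le_normalizer_of_normal h1 hk
  have h2 : φ.ker ⊓ centralizer {e} ≠ ⊥ := fun h2 =>
    hd1 (mem_bot.1 (h2 ▸ (⟨hd, mem_centralizer_singleton_iff.2 hc.symm⟩ :
      d ∈ φ.ker ⊓ centralizer {e})))
  exact ⟨e, heo, fun hv => h2 (h.fpf hrp h1 heo hv), h2⟩

theorem orderOf_mk' {r : ℕ} (hr : r.Prime) (hra : r ≠ a) {y : M} (hy : orderOf y = r) :
    orderOf (QuotientGroup.mk' φ.ker y) = r := by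
  refine orderOf_eq_of_pow hr (by rw [← map_pow, ← hy, pow_orderOf_eq_one, map_one]) fun h1 => ?_
  exact not_dvd_of_isPGroup hr ha hra hD
    (hy ▸ φ.ker.orderOf_dvd_natCard ((QuotientGroup.eq_one_iff y).1 h1))

theorem fa' {r : ℕ} (hr : r ∈ σ) (hra : r ≠ a) (h0 : pCore r (M ⧸ φ.ker) = ⊥) :
    Fer r ∧ ∀ s : ℕ, s.Prime → s ≠ 2 → pCore s (M ⧸ φ.ker) = ⊥ := by
  obtain ⟨e, heo, hev, -⟩ := h.d3 hk ha hD hr hra
  exact h.quot.fa ((MonoidHom.ker_eq_bot_iff _).2 (QuotientGroup.kerLift_injective φ))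
    (h.prime r hr) (h.orderOf_mk' hk ha hD (h.prime r hr) hra heo) hev h0

theorem ne_bot {b c : ℕ} (hb : b ∈ σ) (hc : c ∈ σ) (hba : b ≠ a) (hca : c ≠ a) (hbc : b ≠ c)
    (hc2 : c ≠ 2) : pCore b (M ⧸ φ.ker) ≠ ⊥ := fun h0 => by
  have hbp := h.prime b hb
  have hcp := h.prime c hc
  obtain ⟨hF, h1⟩ := h.fa' hk ha hD hb hba h0
  obtain ⟨y, z, hy, hz, hyz⟩ := h.pairs b hb c hc hbc
  obtain ⟨u, hu, hu', -⟩ := h.d3 hk ha hD hb hba
  obtain ⟨w, hw, hw', -⟩ := h.d3 hk ha hD hc hca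
  have ho := h.orderOf_mk' hk ha hD hbp hba hu
  have h2 := h.quot.two_invis ((MonoidHom.ker_eq_bot_iff _).2 (QuotientGroup.kerLift_injective φ))
    hbp hcp hF.ne_two hc2 hbc (h.orderOf_mk' hk ha hD hbp hba hy)
    (h.orderOf_mk' hk ha hD hcp hca hz) (hyz.map _) ho hu' (h.orderOf_mk' hk ha hD hcp hca hw) hw'
  have := mem_pCore_of_forall h.quot.solv hbp ho fun s hs => mem_centralizer_bot (by
    by_cases hs2 : s = 2
    · exact hs2 ▸ h2
    · exact h1 s hs hs2)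
  rw [h0, mem_bot] at this
  rw [this, orderOf_one] at ho
  exact hbp.one_lt.ne ho

theorem d4 : pCore a (M ⧸ φ.ker) = ⊥ := by
  by_contra hne
  obtain ⟨b, hb, hba, -⟩ := h.ex a a
  obtain ⟨c, hc, hca, hcb⟩ := h.ex a b
  have key : ∀ r ∈ σ, ∀ s ∈ σ, r ≠ a → s ≠ a → r ≠ s → pCore r (M ⧸ φ.ker) ≠ ⊥ := by
    intro r hr s hs hra hsa hrs h0
    have ha2 : a = 2 := by
      by_contra ha2
      exact hne ((h.fa' hk ha hD hr hra h0).2 a ha ha2)
    exact h.ne_bot hk ha hD hr hs hra hsa hrs (ha2 ▸ hsa) h0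
  exact hne (h.quot.pCore_eq_bot (h.prime b hb) (h.prime c hc) ha hcb.symm hba hca
    (key b hb c hc hba hca hcb.symm) (key c hc b hb hca hba hcb))

theorem cent_le : centralizer (φ.ker : Set M) ≤ φ.ker := by
  have hsol := h.solv
  have h1 : fittingSubgroup M ≤ φ.ker := by
    refine fitting_le_of_forall_pCore_le fun r hr => ?_
    by_cases hra : r = a
    · subst hra
      rw [← comap_pCore_quotient φ.ker hD, h.d4 hk ha hD, MonoidHom.comap_bot,
        QuotientGroup.ker_mk']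
    · refine le_of_eq_of_le ?_ bot_le
      by_contra hne
      obtain ⟨s, hs, hsa, hsr⟩ := h.ex a r
      obtain ⟨e, heo, -, h2⟩ := h.d3 hk ha hD hs hsa
      have := Fact.mk ha
      obtain ⟨d, hd, hdo⟩ := exists_orderOf_mem ha (dvd_card_of_ne_bot hD.to_inf_left h2)
      obtain ⟨β, hβ, hβo⟩ := exists_orderOf_mem hr.out (dvd_card_of_ne_bot (pCore_isPGroup r M) hne)
      exact h.luc d β e a r s ha hr.out (h.prime s hs) (Ne.symm hra) hsa.symm hsr.symm hdo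
        (h.vis_of_mem_ker hd.1) (commute_of_normal (coprime_of_isPGroup ha hr.out (Ne.symm hra) hD
          (pCore_isPGroup r M)) hd.1 hβ) (mem_centralizer_singleton_iff.1 hd.2) (hβo ▸ dvd_rfl)
        (heo ▸ dvd_rfl)
  exact (FH.centralizer_anti h1).trans ((centralizer_fitting_le M).trans h1)

theorem d5 {b : ℕ} (hb : b ∈ σ) (hba : b ≠ a) : b ≠ 2 := by
  rintro rfl
  obtain ⟨c, hc, hca, hc2⟩ := h.ex a 2
  have hcp := h.prime c hc
  obtain ⟨t₁, -, h1, hv1⟩ := h.exists_vis Nat.prime_two (h.ell 2 hb)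
  obtain ⟨t₂, h2, hv2, -⟩ := h.d3 hk ha hD hb hba
  obtain ⟨z, -, hz, hzv⟩ := h.exists_vis hcp (h.ell c hc)
  set π := QuotientGroup.mk' φ.ker with hπ
  have hs1 : t₁ * t₁ = 1 := by rw [← pow_two, ← h1, pow_orderOf_eq_one]
  have hs2 : t₂ * t₂ = 1 := by rw [← pow_two, ← h2, pow_orderOf_eq_one]
  have hinv : ∀ k ∈ φ.ker, t₁ * k * t₁⁻¹ = k⁻¹ := fun k hk' =>
    Fpf.conj_eq_inv_of_involution (by rw [normalizer_eq_top]; trivial)
      (h.fpf Nat.prime_two (not_dvd_of_isPGroup Nat.prime_two ha hba hD) h1 hv1) hs1 hk'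
  have hc1 : ∀ g : M, Commute (π t₁) (π g) := fun g => by
    have h3 : t₁⁻¹ * (g * t₁ * g⁻¹) ∈ φ.ker := by
      refine h.cent_le hk ha hD fun k hk' => ?_
      have h4 := hinv (g⁻¹ * k * g) (by simpa using φ.normal_ker.conj_mem k hk' g⁻¹)
      have h5 := hinv k hk'
      calc k * (t₁⁻¹ * (g * t₁ * g⁻¹)) = t₁⁻¹ * (t₁ * k * t₁⁻¹) * (g * t₁ * g⁻¹) := by group
        _ = t₁⁻¹ * g * (g⁻¹ * k * g)⁻¹ * t₁ * g⁻¹ := by rw [h5]; group
        _ = _ := by rw [← h4]; group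
    have h4 : π t₁ = π (g * t₁ * g⁻¹) := QuotientGroup.eq.2 h3
    rw [map_mul, map_mul, map_inv, eq_mul_inv_iff_mul_eq] at h4
    exact h4
  have hinv2 : ∀ v, φ t₂ v = v⁻¹ := congrFun (MonoidHom.FixedPointFree.coe_eq_inv_of_involutive
    (φ := φ t₂) (fun v hv => by
      by_contra hv'
      exact hv2 ⟨v, hv', hv⟩) fun v => by rw [← MulAut.mul_apply, ← map_mul, hs2, map_one]; rfl)
  have hc2' : ∀ g : M, Commute (π t₂) (π g) := fun g => by
    have h3 : φ t₂ = φ (g * t₂ * g⁻¹) := by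
      ext v
      simp [hinv2]
    have h4 : π t₂ = π (g * t₂ * g⁻¹) := QuotientGroup.kerLift_injective φ h3
    rw [map_mul, map_mul, map_inv, eq_mul_inv_iff_mul_eq] at h4
    exact h4
  refine h.quot.not_ell hcp Nat.prime_two hc2 (y := π z)
    ((h.orderOf_mk' hk ha hD hcp hca hz).symm ▸ dvd_rfl) hzv le_rfl
    (ell_of_commute (mem_centralizer_singleton_iff.2 (hc1 z))
      (mem_centralizer_singleton_iff.2 (hc2' z)) (h.orderOf_mk' hk ha hD Nat.prime_two hba h1)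
      (by rw [pow_two, ← map_mul, hs2, map_one]) (hc1 t₂) fun h3 => ?_)
  obtain ⟨v, hv, h4⟩ := hv1
  exact hv2 ⟨v, hv, fix_of_mem_zpowers (φ := QuotientGroup.kerLift φ) (y := π t₁) h4 h3⟩

theorem d6 {b c : ℕ} (hb : b ∈ σ) (hc : c ∈ σ) (hba : b ≠ a) (hca : c ≠ a) (hbc : b ≠ c) :
    ¬ Ell b (pCore b (M ⧸ φ.ker)) := by
  intro hE
  have hsol := h.solv
  have hbp := h.prime b hb
  have hcp := h.prime c hc
  obtain ⟨e, heo, hev, h1⟩ := h.d3 hk ha hD hc hca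
  have h2 := h.quot.cent_of_invis
    ((MonoidHom.ker_eq_bot_iff _).2 (QuotientGroup.kerLift_injective φ)) hcp hbp hbc.symm
    (h.orderOf_mk' hk ha hD hcp hca heo) hev (Or.inl (h.d5 hk ha hD hb hba)) (pCore_isPGroup b _)
  have h3 : pCore b (M ⧸ φ.ker) ≤
      (centralizer ((zpowers e : Subgroup M) : Set M)).map (QuotientGroup.mk' φ.ker) := by
    rw [Coprime.map_mk'_centralizer _ (coprime_of_isPGroup hcp ha hca (isPGroup_zpowers heo) hD)
      (Or.inl inferInstance), le_centralizer_iff, MonoidHom.map_zpowers]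
    exact zpowers_le.2 h2
  have h4 := Ell.of_map hbp _ (by
    rw [QuotientGroup.ker_mk']; exact not_dvd_of_isPGroup hbp ha hba hD) (hE.mono h3)
  obtain ⟨y, hy, hyo, k, hk', hk1, hyk⟩ := h4.exists_fix hbp (K := φ.ker ⊓ centralizer {e})
    (fun x hx => mem_normalizer_inf (by rw [normalizer_eq_top]; trivial)
      (hx e (mem_zpowers e)).symm) (not_dvd_of_isPGroup hbp ha hba hD.to_inf_left) h1
  exact h.trip' hcp hbp ha hbc.symm hca hba (hy e (mem_zpowers e))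
    (mem_centralizer_singleton_iff.1 hk'.2).symm hyk (heo ▸ dvd_rfl) (hyo ▸ dvd_rfl)
    (dvd_orderOf_of_mem ha hD hk'.1 hk1)

theorem d7 {b c : ℕ} (hb : b ∈ σ) (hc : c ∈ σ) (hba : b ≠ a) (hca : c ≠ a) (hbc : b < c) :
    False := by
  have hbp := h.prime b hb
  have hcp := h.prime c hc
  have hb2 := h.d5 hk ha hD hb hba
  have hc2 := h.d5 hk ha hD hc hca
  have h1 := h.ne_bot hk ha hD hb hc hba hca hbc.ne hc2
  have h2 := h.ne_bot hk ha hD hc hb hca hba hbc.ne' hb2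
  have h3 := h.d6 hk ha hD hb hc hba hca hbc.ne
  have h4 := h.d6 hk ha hD hc hb hca hba hbc.ne'
  have := Fact.mk hcp
  obtain ⟨γ, hγ, hγo⟩ := exists_orderOf_mem hcp (dvd_card_of_ne_bot (pCore_isPGroup c _) h2)
  obtain ⟨e, -, heo, hen⟩ := ((h.ell c hc).map hcp (QuotientGroup.mk' φ.ker) (by
    rw [QuotientGroup.ker_mk']; exact not_dvd_of_isPGroup hcp ha hca hD)).exists_ne hcp γ
  refine hen (mem_zpowers_of_cyc h.quot.solv hcp hc2 h4 (N := ⊤) trivial heo hγ hγo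
    fun t ht htc => ?_)
  by_cases htb : t = b
  · subst htb
    have := isCyclic_of_not_ell ht hb2 (pCore_isPGroup t _) h3
    have := Fact.mk ht
    exact ⟨mem_centralizer_of_isCyclic (pCore_isPGroup t _) inferInstance
      (by rw [normalizer_eq_top]; trivial) (heo ▸ (Nat.coprime_primes hcp ht).2 hbc.ne')
      (heo ▸ coprime_pred ht hcp hbc), comm_le_cent_of_isCyclic _ _⟩
  · have h5 := h.quot.pCore_eq_bot hbp hcp ht hbc.ne (Ne.symm htb) htc.symm h1 h2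
    exact ⟨mem_centralizer_bot h5, fun _ _ => mem_centralizer_bot h5⟩

end

theorem false (h : Cf2 φ σ) : False := by
  by_cases hk : φ.ker = ⊥
  · exact h.faithful hk
  obtain ⟨a, ha, hD⟩ := h.d1 hk
  obtain ⟨b, hb, hba, -⟩ := h.ex a a
  obtain ⟨c, hc, hca, hcb⟩ := h.ex a b
  rcases lt_or_gt_of_ne hcb with h1 | h1
  · exact h.d7 hk ha hD hc hb hca hba h1
  · exact h.d7 hk ha hD hb hc hba hca h1

end Cf2

section Main

variable {G : Type*} [Group G] [Finite G]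

theorem four_aux (hG : Group.IsSolvable G) (τ : Finset ℕ) (hτ : τ.card = 4)
    (hp : ∀ r ∈ τ, r.Prime) (hmem : ∀ r : ℕ, r.Prime → r ∣ Nat.card G → r ∈ τ)
    (hpair : ∀ r ∈ τ, ∀ s ∈ τ, r ≠ s → ∃ g : G, orderOf g = r * s)
    (htrip : ∀ (g : G) (r s t : ℕ), r.Prime → s.Prime → t.Prime → r ≠ s → r ≠ t → s ≠ t →
      orderOf g ≠ r * s * t) : False := by
  classical
  have trip' : ∀ {r s t : ℕ}, r.Prime → s.Prime → t.Prime → r ≠ s → r ≠ t → s ≠ t →
      ∀ {x y z : G}, Commute x y → Commute x z → Commute y z → r ∣ orderOf x → s ∣ orderOf y →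
      t ∣ orderOf z → False := by
    intro r s t hr hs ht hrs hrt hst x y z h1 h2 h3 h4 h5 h6
    obtain ⟨g, hg⟩ := exists_triple hr hs ht hrs hrt hst h1 h2 h3 h4 h5 h6
    exact htrip g r s t hr hs ht hrs hrt hst hg
  have luc : ∀ {r s t u : ℕ}, r.Prime → s.Prime → t.Prime → u.Prime → r ≠ s → r ≠ t → r ≠ u →
      s ≠ t → s ≠ u → t ≠ u → ∀ {y a b c : G}, r ∣ orderOf y → Commute y a → Commute y b →
      Commute y c → s ∣ orderOf a → t ∣ orderOf b → u ∣ orderOf c → False := by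
    intro r s t u hr hs ht hu h1 h2 h3 h4 h5 h6 y a b c hy ha hb hc h7 h8 h9
    obtain ⟨x, hx, h | h | h⟩ :=
      exists_triple_of_cent inferInstance hs ht hu h4 h5 h6 ha hb hc h7 h8 h9
    · exact trip' hr hs ht h1 h2 h4 hx hx (Commute.refl x) hy (h ▸ dvd_mul_right _ _)
        (h ▸ dvd_mul_left _ _)
    · exact trip' hr hs hu h1 h3 h5 hx hx (Commute.refl x) hy (h ▸ dvd_mul_right _ _)
        (h ▸ dvd_mul_left _ _)
    · exact trip' hr ht hu h2 h3 h6 hx hx (Commute.refl x) hy (h ▸ dvd_mul_right _ _)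
        (h ▸ dvd_mul_left _ _)
  have hex : ∀ p r s : ℕ, ∃ t ∈ τ, t ≠ p ∧ t ≠ r ∧ t ≠ s := by
    intro p r s
    obtain ⟨t, ht, hn⟩ := Finset.exists_mem_notMem_of_card_lt_card (s := {p, r, s}) (t := τ)
      (lt_of_le_of_lt Finset.card_le_three (by omega))
    simp only [Finset.mem_insert, Finset.mem_singleton, not_or] at hn
    exact ⟨t, ht, hn⟩
  have hell : ∀ r ∈ τ, Ell r (⊤ : Subgroup G) := by
    intro r hr
    by_contra hn
    obtain ⟨s, hs, hsr, -⟩ := hex r r r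
    obtain ⟨t, ht, htr, hts, -⟩ := hex r s s
    obtain ⟨u, hu, hur, hus, hut⟩ := hex r s t
    have key : ∀ v ∈ τ, v ≠ r → ∀ x : G, orderOf x = r → ∃ w : G, orderOf w = v ∧ Commute x w := by
      intro v hv hvr x hx
      obtain ⟨g, hg⟩ := hpair r hr v hv hvr.symm
      obtain ⟨y, z, hy, hz, hyz⟩ := exists_pair (hp r hr) (hp v hv) hg
      exact hz ▸ exists_commute_of_not_ell (hp r hr) hn hx hy hyz
    obtain ⟨g, hg⟩ := hpair r hr s hs hsr.symm
    obtain ⟨x, a, hx, ha, hxa⟩ := exists_pair (hp r hr) (hp s hs) hg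
    obtain ⟨b, hb, hxb⟩ := key t ht htr x hx
    obtain ⟨c, hc, hxc⟩ := key u hu hur x hx
    exact luc (hp r hr) (hp s hs) (hp t ht) (hp u hu) hsr.symm htr.symm hur.symm hts.symm hus.symm
      hut.symm (hx ▸ dvd_rfl) hxa hxb hxc (ha ▸ dvd_rfl) (hb ▸ dvd_rfl) (hc ▸ dvd_rfl)
  obtain ⟨b₀, hb₀, -⟩ := hex 0 0 0
  have : Nontrivial G := by
    by_contra hM
    rw [not_nontrivial_iff_subsingleton] at hM
    exact (hell b₀ hb₀).not_isCyclic inferInstance
  have h1 := fitting_ne_bot_of_isSolvable G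
  rw [Ne, fitting_eq_bot_iff_forall_pCore] at h1
  obtain ⟨p, h1⟩ := not_forall.1 h1
  obtain ⟨⟨hpp⟩, h1⟩ := not_forall.1 h1
  have := Fact.mk hpp
  have hpτ : p ∈ τ := hmem p hpp
    ((dvd_card_of_ne_bot (pCore_isPGroup p G) h1).trans (card_subgroup_dvd_card _))
  obtain ⟨H, hH⟩ := exists_isPiHall {p}ᶜ G
  have hHp : ∀ {r : ℕ}, r.Prime → ∀ {g : H}, r ∣ orderOf g → r ≠ p := fun hr g hg =>
    hH.1 _ hr (hg.trans (orderOf_dvd_natCard g))
  set Z := pCore p G ⊓ centralizer (pCore p G : Set G) with hZ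
  have hZp : IsPGroup p Z := (pCore_isPGroup p G).to_inf_left
  set φ : H →* MulAut Z := (MulAut.conjNormal (H := Z)).comp H.subtype with hφ
  have hvis : ∀ y : H, Vis φ y → ∃ v : G, p ∣ orderOf v ∧ Commute (y : G) v := by
    rintro y ⟨v, hv, hyv⟩
    refine ⟨v, dvd_orderOf_of_mem hpp hZp v.2 fun h => hv (Subtype.ext h), ?_⟩
    exact mul_inv_eq_iff_eq_mul.1 (congrArg Subtype.val hyv)
  refine Cf2.false (φ := φ) (σ := {r | r ∈ τ ∧ r ≠ p})
    { solv := inferInstance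
      vsolv := inferInstance
      vcomm := fun a b => Subtype.ext (b.2.2 a a.2.1)
      vne := (Subgroup.nontrivial_iff_ne_bot _).2 (cent_facts hpp (pCore_isPGroup p G) h1)
      cop := coprime_card_of_isPGroup hZp
        ((Nat.Prime.coprime_iff_not_dvd hpp).2 fun hd => hH.1 p hpp hd rfl).symm
      prime := fun r hr => hp r hr.1
      mem := fun r hr hd => ⟨hmem r hr (hd.trans (card_subgroup_dvd_card H)), hH.1 r hr hd⟩
      three := ?_
      trip := fun g r s t hr hs ht h1 h2 h3 hg =>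
        htrip g r s t hr hs ht h1 h2 h3 (by rw [orderOf_coe, hg])
      mix := ?_
      ex := fun r s => by
        obtain ⟨t, ht, h1, h2⟩ := hex p r s
        exact ⟨t, ⟨ht, h1⟩, h2⟩
      pairs := ?_
      ell := ?_ }
  · rintro r ⟨hr, hrp⟩ s ⟨hs, hsp⟩ t ⟨ht, htp⟩ u ⟨hu, hup⟩ hrs hrt hst
    have h5 : ({p, r, s, t} : Finset ℕ) = τ := by
      refine Finset.eq_of_subset_of_card_le (by
        intro x hx
        simp only [Finset.mem_insert, Finset.mem_singleton] at hx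
        rcases hx with rfl | rfl | rfl | rfl <;> assumption) ?_
      rw [hτ, Finset.card_insert_of_notMem (by simp [hrp.symm, hsp.symm, htp.symm]),
        Finset.card_eq_three.2 ⟨r, s, t, hrs, hrt, hst, rfl⟩]
    rw [← h5] at hu
    simpa [hup] using hu
  · intro g r s hr hs hrs hg hv
    obtain ⟨v, hv, hc⟩ := hvis g hv
    have h5 : r ∣ orderOf g := hg ▸ dvd_mul_right r s
    have h6 : s ∣ orderOf g := hg ▸ dvd_mul_left s r
    exact trip' hr hs hpp hrs (hHp hr h5) (hHp hs h6) (Commute.refl _) hc hc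
      (by rwa [orderOf_coe]) (by rwa [orderOf_coe]) hv
  · rintro r ⟨hr, hrp⟩ s ⟨hs, hsp⟩ hrs
    obtain ⟨g, hg⟩ := hpair r hr s hs hrs
    obtain ⟨x, hx⟩ := exists_orderOf_mem_hall hH (g := g) fun t ht hd => by
      rw [hg] at hd
      rcases (Nat.Prime.dvd_mul ht).1 hd with h5 | h5
      · exact ((Nat.prime_dvd_prime_iff_eq ht (hp r hr)).1 h5) ▸ hrp
      · exact ((Nat.prime_dvd_prime_iff_eq ht (hp s hs)).1 h5) ▸ hsp
    exact exists_pair (hp r hr) (hp s hs) (hx.trans hg)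
  · rintro r ⟨hr, hrp⟩
    refine Ell.of_map (hp r hr) H.subtype (by
      rw [H.ker_subtype, card_bot, Nat.dvd_one]; exact (hp r hr).one_lt.ne') ?_
    rw [← MonoidHom.range_eq_map, H.range_subtype]
    exact (hell r hr).of_not_dvd (hp r hr) le_top
      (by rw [relIndex_top_right]; exact hH.2 r (hp r hr) hrp)

/-- The four prime criterion for non-solvability. -/
theorem four (hG : Group.IsSolvable G) (τ : Finset ℕ) (hτ : τ.card = 4)
    (hp : ∀ r ∈ τ, r.Prime)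
    (hpair : ∀ r ∈ τ, ∀ s ∈ τ, r ≠ s → ∃ g : G, orderOf g = r * s)
    (htrip : ∀ (g : G), ∀ r ∈ τ, ∀ s ∈ τ, ∀ t ∈ τ, r ≠ s → r ≠ t → s ≠ t →
      orderOf g ≠ r * s * t) : False := by
  obtain ⟨H, hH⟩ := exists_isPiHall (τ : Set ℕ) G
  refine four_aux (G := H) inferInstance τ hτ hp hH.1 (fun r hr s hs hrs => ?_)
    fun g r s t hr hs ht h1 h2 h3 hg => ?_
  · obtain ⟨g, hg⟩ := hpair r hr s hs hrs
    obtain ⟨x, hx⟩ := exists_orderOf_mem_hall hH (g := g) fun t ht hd => by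
      rw [hg] at hd
      rcases (Nat.Prime.dvd_mul ht).1 hd with h5 | h5
      · exact ((Nat.prime_dvd_prime_iff_eq ht (hp r hr)).1 h5) ▸ hr
      · exact ((Nat.prime_dvd_prime_iff_eq ht (hp s hs)).1 h5) ▸ hs
    exact ⟨x, hx.trans hg⟩
  · have h4 := hg ▸ orderOf_dvd_natCard g
    exact htrip g r (hH.1 r hr (((dvd_mul_right r s).mul_right t).trans h4))
      s (hH.1 s hs (((dvd_mul_left s r).mul_right t).trans h4))
      t (hH.1 t ht ((dvd_mul_left t _).trans h4)) h1 h2 h3 (by rw [orderOf_coe, hg])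

end Main

end Cfsg.Lib.Char.Sq4
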