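import Cfsg.Agent.Char.SymIrr
import Cfsg.Agent.Char.Degree
import Mathlib.Data.Nat.Prime.Factorial

/-!
# Cores and weights of exponent tuples

The abacus with `p` runners: rank of a bead on its runner, the core, the weight, and the number
`np` of ways to slide the beads up to the core.
-/

set_option autoImplicit false

open Equiv Finset Cfsg Cfsg.Lib.Char

namespace Cfsg.Lib.SymChar

variable {ι : Type*} [Fintype ι] [DecidableEq ι] {Ω : Type*} [Fintype Ω] [DecidableEq Ω]
  {p : ℕ} {β κ κ' : ι → ℕ}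

/-- The number of beads below the `i`-th bead on its runner. -/
def rk (p : ℕ) (β : ι → ℕ) (i : ι) : ℕ := #(univ.filter fun k => β k % p = β i % p ∧ β k < β i)

/-- The core tuple. -/
def core (p : ℕ) (β : ι → ℕ) (i : ι) : ℕ := p * rk p β i + β i % p

/-- The weight. -/
def wt (p : ℕ) (β : ι → ℕ) : ℕ := ∑ i, (β i / p - rk p β i)

/-- The number of beads on runner `j`. -/
def cnt (p : ℕ) (β : ι → ℕ) (j : ℕ) : ℕ := #(univ.filter fun i => β i % p = j)

/-- No bead can slide. -/
def IsCore (p : ℕ) (κ : ι → ℕ) : Prop :=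
  Function.Injective κ ∧ ∀ i, p ≤ κ i → ∃ k, κ k = κ i - p

theorem eq_of_mod_div {a b : ℕ} (h1 : a % p = b % p) (h2 : a / p = b / p) : a = b := by
  rw [← Nat.div_add_mod a p, ← Nat.div_add_mod b p, h1, h2]

theorem div_lt_div_iff_of_mod (hp : 0 < p) {a b : ℕ} (h : a % p = b % p) :
    a / p < b / p ↔ a < b := by
  constructor
  · intro h'
    rw [← Nat.div_add_mod a p, ← Nat.div_add_mod b p, h]
    exact Nat.add_lt_add_right ((Nat.mul_lt_mul_left hp).2 h') _
  · intro h'
    refine lt_of_le_of_ne (Nat.div_le_div_right h'.le) fun e => h'.ne (eq_of_mod_div h e)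

theorem add_le_of_mod (hp : 0 < p) {a b : ℕ} (h : a % p = b % p) (h' : a < b) : a + p ≤ b := by
  have h1 := (div_lt_div_iff_of_mod hp h).2 h'
  have h2 := Nat.div_add_mod a p
  have h3 := Nat.div_add_mod b p
  have h4 : p * (a / p + 1) ≤ p * (b / p) := Nat.mul_le_mul_left _ h1
  rw [mul_add] at h4
  omega

theorem sub_mod_of_le {a r : ℕ} (h : p * r ≤ a) : (a - p * r) % p = a % p := by
  conv_rhs => rw [← Nat.sub_add_cancel h, Nat.add_mul_mod_self_left]

theorem sub_div_of_le (hp : 0 < p) {a r : ℕ} (h : p * r ≤ a) : (a - p * r) / p + r = a / p := by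
  conv_rhs => rw [← Nat.sub_add_cancel h, Nat.add_mul_div_left _ _ hp]

omit [DecidableEq ι] in
theorem card_le_div (hp : 0 < p) (hβ : Function.Injective β) (v : ℕ) :
    #(univ.filter fun k => β k % p = v % p ∧ β k < v) ≤ v / p := by
  rw [← Finset.card_range (v / p)]
  refine Finset.card_le_card_of_injOn (fun k => β k / p) (fun k hk => ?_) fun k hk l hl h => ?_
  · simp only [Finset.coe_filter, Finset.mem_univ, true_and, Set.mem_ofPred_eq] at hk
    simpa using (div_lt_div_iff_of_mod hp hk.1).2 hk.2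
  · simp only [Finset.coe_filter, Finset.mem_univ, true_and, Set.mem_ofPred_eq] at hk hl
    exact hβ (eq_of_mod_div (hk.1.trans hl.1.symm) h)

omit [DecidableEq ι] in
theorem rk_le (hp : 0 < p) (hβ : Function.Injective β) (i : ι) : rk p β i ≤ β i / p :=
  card_le_div hp hβ _

omit [DecidableEq ι] in
theorem rk_lt_rk {i k : ι} (h : β k % p = β i % p) (h' : β k < β i) : rk p β k < rk p β i := by
  refine Finset.card_lt_card ⟨fun l hl => ?_, fun hs => ?_⟩
  · simp only [Finset.mem_filter, Finset.mem_univ, true_and] at hl ⊢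
    exact ⟨hl.1.trans h, hl.2.trans h'⟩
  · have := hs (Finset.mem_filter.2 ⟨Finset.mem_univ k, h, h'⟩)
    simp at this

omit [DecidableEq ι] in
theorem rk_lt_cnt (i : ι) : rk p β i < cnt p β (β i % p) := by
  refine Finset.card_lt_card ⟨fun l hl => ?_, fun hs => ?_⟩
  · simp only [Finset.mem_filter, Finset.mem_univ, true_and] at hl ⊢
    exact hl.1
  · have := hs (Finset.mem_filter.2 ⟨Finset.mem_univ i, rfl⟩)
    simp at this

omit [DecidableEq ι] in
theorem core_mod (β : ι → ℕ) (i : ι) : core p β i % p = β i % p := by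
  simp [core]

omit [DecidableEq ι] in
theorem core_div (hp : 0 < p) (β : ι → ℕ) (i : ι) : core p β i / p = rk p β i := by
  rw [core, Nat.mul_add_div hp, Nat.div_eq_of_lt (Nat.mod_lt _ hp), add_zero]

omit [DecidableEq ι] in
theorem core_add (hp : 0 < p) (hβ : Function.Injective β) (i : ι) :
    core p β i + p * (β i / p - rk p β i) = β i := by
  have := rk_le hp hβ i
  rw [core, add_right_comm, ← mul_add, Nat.add_sub_cancel' this, Nat.div_add_mod]

omit [DecidableEq ι] in
theorem sum_core_add (hp : 0 < p) (hβ : Function.Injective β) :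
    ∑ i, core p β i + p * wt p β = ∑ i, β i := by
  rw [wt, Finset.mul_sum, ← Finset.sum_add_distrib]
  exact Finset.sum_congr rfl fun i _ => core_add hp hβ i

omit [DecidableEq ι] in
theorem cnt_congr {β γ : ι → ℕ} (h : ∀ i, β i % p = γ i % p) : cnt p β = cnt p γ := by
  funext j; simp only [cnt, h]

omit [DecidableEq ι] in
theorem cnt_core (β : ι → ℕ) : cnt p (core p β) = cnt p β := cnt_congr (core_mod β)

omit [DecidableEq ι] in
theorem cnt_comp (β : ι → ℕ) (w : Perm ι) : cnt p (β ∘ w) = cnt p β := by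
  funext j
  exact Finset.card_equiv w fun i => by simp

theorem cnt_up (β : ι → ℕ) (i : ι) (r : ℕ) : cnt p (up β i (p * r)) = cnt p β :=
  cnt_congr fun k => by
    rcases eq_or_ne k i with rfl | h
    · simp
    · rw [up_of_ne _ h]

theorem cnt_dn {i : ι} {r : ℕ} (h : p * r ≤ β i) : cnt p (dn β i (p * r)) = cnt p β := by
  conv_rhs => rw [← up_dn β i h, cnt_up]

omit [DecidableEq ι] in
theorem core_lt_core_iff (hp : 0 < p) {i k : ι} (hβ : Function.Injective β)
    (h : β k % p = β i % p) : core p β k < core p β i ↔ β k < β i := by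
  rw [← div_lt_div_iff_of_mod hp (by rw [core_mod, core_mod, h]), core_div hp, core_div hp]
  refine ⟨fun h' => ?_, rk_lt_rk h⟩
  by_contra hle
  rcases (not_lt.1 hle).eq_or_lt with e | e
  · rw [hβ e] at h'; exact lt_irrefl _ h'
  · exact lt_asymm h' (rk_lt_rk h.symm e)

omit [DecidableEq ι] in
theorem core_injective (hp : 0 < p) (hβ : Function.Injective β) :
    Function.Injective (core p β) := by
  intro i k h
  have hm : β i % p = β k % p := by rw [← core_mod, h, core_mod]
  rcases lt_trichotomy (β i) (β k) with e | e | e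
  · exact absurd h ((core_lt_core_iff hp hβ hm).2 e).ne
  · exact hβ e
  · exact absurd h ((core_lt_core_iff hp hβ hm.symm).2 e).ne'

omit [DecidableEq ι] in
theorem rk_core (hp : 0 < p) (hβ : Function.Injective β) : rk p (core p β) = rk p β := by
  funext i
  unfold rk
  congr 1
  refine Finset.filter_congr fun k _ => ?_
  rw [core_mod, core_mod]
  exact and_congr_right fun h => core_lt_core_iff hp hβ h

omit [DecidableEq ι] in
theorem wt_core (hp : 0 < p) (hβ : Function.Injective β) : wt p (core p β) = 0 :=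
  Finset.sum_eq_zero fun i _ => by rw [core_div hp, rk_core hp hβ, Nat.sub_self]

omit [DecidableEq ι] in
theorem core_eq_self (hp : 0 < p) (hβ : Function.Injective β) (h : wt p β = 0) : core p β = β := by
  funext i
  have h1 := core_add hp hβ i
  rw [(Finset.sum_eq_zero_iff.1 h) i (Finset.mem_univ i)] at h1
  simpa using h1

omit [DecidableEq ι] in
/-- A bead with a gap below it yields a bead on the same runner with a gap just below. -/
theorem exists_gap (hp : 0 < p) {i : ι} (h : rk p β i < β i / p) :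
    ∃ k, β k % p = β i % p ∧ p ≤ β k ∧ ∀ l, β l ≠ β k - p := by
  obtain ⟨k, hk, hmin⟩ := Finset.exists_min_image
    (univ.filter fun k => β k % p = β i % p ∧ rk p β k < β k / p) β
    ⟨i, Finset.mem_filter.2 ⟨Finset.mem_univ _, rfl, h⟩⟩
  simp only [Finset.mem_filter, Finset.mem_univ, true_and] at hk hmin
  have hpk : p ≤ β k := by
    by_contra h'
    rw [Nat.div_eq_of_lt (not_le.1 h')] at hk
    exact Nat.not_lt_zero _ hk.2
  refine ⟨k, hk.1, hpk, fun l hl => ?_⟩
  have hm : β l % p = β k % p := by rw [hl]; simpa using sub_mod_of_le (p := p) (r := 1) (by simpa)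
  have hd : β l / p + 1 = β k / p := by
    rw [hl]; simpa using sub_div_of_le hp (r := 1) (by simpa)
  have h1 := rk_lt_rk hm (by omega)
  have := hmin l ⟨hm.trans hk.1, by
    by_contra h2
    omega⟩
  omega

omit [Fintype ι] in
theorem injective_dn_iff (hβ : Function.Injective β) {i : ι} {r : ℕ} (hr : 0 < r) (h : r ≤ β i) :
    Function.Injective (dn β i r) ↔ ∀ l, β l ≠ β i - r := by
  constructor
  · intro hi l hl
    have hli : l ≠ i := by rintro rfl; omega
    exact hli (hi (by rw [dn_of_ne _ hli, dn_self, hl]))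
  · intro hl a b hab
    rcases eq_or_ne a i with rfl | ha <;> rcases eq_or_ne b a with rfl | hb
    · rfl
    · rw [dn_self, dn_of_ne _ hb] at hab; exact (hl b hab.symm).elim
    · rfl
    · rcases eq_or_ne b i with rfl | hb'
      · rw [dn_self, dn_of_ne _ ha] at hab; exact (hl a hab).elim
      · rw [dn_of_ne _ ha, dn_of_ne _ hb'] at hab; exact hβ hab

theorem exists_move (hp : 0 < p) (hβ : Function.Injective β) (h : wt p β ≠ 0) :
    ∃ k, p ≤ β k ∧ Function.Injective (dn β k p) := by
  obtain ⟨i, -, hi⟩ := Finset.exists_ne_zero_of_sum_ne_zero h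
  obtain ⟨k, -, hk, hl⟩ := exists_gap hp (β := β) (i := i) (by omega)
  exact ⟨k, hk, (injective_dn_iff hβ hp hk).2 hl⟩

omit [DecidableEq ι] in
theorem IsCore.wt_eq_zero (hp : 0 < p) (h : IsCore p κ) : wt p κ = 0 := by
  by_contra h0
  obtain ⟨i, -, hi⟩ := Finset.exists_ne_zero_of_sum_ne_zero h0
  obtain ⟨k, -, hk, hl⟩ := exists_gap hp (β := κ) (i := i) (by omega)
  obtain ⟨l, hl'⟩ := h.2 k hk
  exact hl l hl'

omit [Fintype ι] in
theorem dn_mod {i : ι} (h : p ≤ β i) (k : ι) : dn β i p k % p = β k % p := by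
  rcases eq_or_ne k i with rfl | hk
  · rw [dn_self]; simpa using sub_mod_of_le (p := p) (r := 1) (by simpa)
  · rw [dn_of_ne _ hk]

theorem rk_dn (hp : 0 < p) (hβ : Function.Injective β) {i : ι} (h : p ≤ β i)
    (hi : Function.Injective (dn β i p)) : rk p (dn β i p) = rk p β := by
  funext l
  unfold rk
  congr 1
  refine Finset.filter_congr fun k _ => ?_
  rw [dn_mod h, dn_mod h]
  refine and_congr_right fun hm => ?_
  have hne := (injective_dn_iff hβ hp h).1 hi
  rcases eq_or_ne k i with rfl | hk <;> rcases eq_or_ne l k with rfl | hl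
  · simp
  · rw [dn_self, dn_of_ne _ hl]
    refine ⟨fun h' => ?_, fun h' => by omega⟩
    have h1 := add_le_of_mod hp (a := β k - p) (b := β l)
      (by rw [← hm]; simpa using sub_mod_of_le (p := p) (r := 1) (by simpa)) h'
    have h2 : β l ≠ β k := fun e => hl (hβ e)
    omega
  · simp
  · rw [dn_of_ne _ hk]
    rcases eq_or_ne l i with rfl | hl'
    · rw [dn_self]
      refine ⟨fun h' => by omega, fun h' => ?_⟩
      have h1 := add_le_of_mod hp hm h'
      have h2 := hne k
      omega
    · rw [dn_of_ne _ hl']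

theorem core_dn (hp : 0 < p) (hβ : Function.Injective β) {i : ι} (h : p ≤ β i)
    (hi : Function.Injective (dn β i p)) : core p (dn β i p) = core p β := by
  funext k; rw [core, core, rk_dn hp hβ h hi, dn_mod h]

theorem wt_dn (hp : 0 < p) (hβ : Function.Injective β) {i : ι} (h : p ≤ β i)
    (hi : Function.Injective (dn β i p)) : wt p (dn β i p) + 1 = wt p β := by
  have h1 := sum_core_add hp hβ
  have h2 := sum_core_add hp hi
  have h3 := sum_dn β i h
  rw [core_dn hp hβ h hi] at h2
  refine Nat.eq_of_mul_eq_mul_left hp ?_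
  rw [mul_add]; omega

theorem isCore_of_wt (hp : 0 < p) (hβ : Function.Injective β) (h : wt p β = 0) : IsCore p β := by
  refine ⟨hβ, fun i hi => ?_⟩
  by_contra hne
  push Not at hne
  have := wt_dn hp hβ hi ((injective_dn_iff hβ hp hi).2 hne)
  omega

theorem isCore_core (hp : 0 < p) (hβ : Function.Injective β) : IsCore p (core p β) :=
  isCore_of_wt hp (core_injective hp hβ) (wt_core hp hβ)

omit [Fintype ι] [DecidableEq ι] in
theorem IsCore.exists_eq_sub (h : IsCore p κ) (i : ι) {r : ℕ} (hr : p * r ≤ κ i) :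
    ∃ k, κ k = κ i - p * r := by
  induction r with
  | zero => exact ⟨i, by simp⟩
  | succ r ih =>
    rw [Nat.mul_succ] at hr ⊢
    obtain ⟨k, hk⟩ := ih (by omega)
    obtain ⟨l, hl⟩ := h.2 k (by omega)
    exact ⟨l, by omega⟩

omit [Fintype ι] [DecidableEq ι] in
theorem IsCore.exists_eq_of_le (h : IsCore p κ) (i : ι) {v : ℕ} (hm : v % p = κ i % p)
    (hv : v ≤ κ i) : ∃ k, κ k = v := by
  obtain ⟨r, hr⟩ := (Nat.modEq_iff_dvd' hv).1 hm
  obtain ⟨k, hk⟩ := h.exists_eq_sub i (r := r) (by omega)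
  exact ⟨k, by omega⟩

omit [DecidableEq ι] in
theorem IsCore.rk_eq (hp : 0 < p) (h : IsCore p κ) (i : ι) : rk p κ i = κ i / p := by
  rw [← core_div hp, core_eq_self hp h.1 (h.wt_eq_zero hp)]

omit [DecidableEq ι] in
theorem IsCore.exists_eq_iff (hp : 0 < p) (h : IsCore p κ) (v : ℕ) :
    (∃ i, κ i = v) ↔ v / p < cnt p κ (v % p) := by
  constructor
  · rintro ⟨i, rfl⟩
    rw [← h.rk_eq hp]; exact rk_lt_cnt i
  · intro hv
    by_contra hne
    refine absurd hv (not_lt.2 (le_trans (le_of_eq ?_) (card_le_div hp h.1 v)))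
    unfold cnt
    congr 1
    refine Finset.filter_congr fun k _ => ⟨fun hk => ⟨hk, ?_⟩, fun hk => hk.1⟩
    by_contra hle
    exact hne (h.exists_eq_of_le k hk.symm (not_lt.1 hle))

omit [DecidableEq ι] in
theorem exists_perm_of_range (hκ' : Function.Injective κ') (h : ∀ i, ∃ k, κ k = κ' i) :
    ∃ w : Perm ι, κ' = κ ∘ w := by
  choose w hw using h
  have hinj : Function.Injective w := fun a b e => hκ' (by rw [← hw, ← hw, e])
  exact ⟨Equiv.ofBijective w hinj.bijective_of_finite, funext fun i => (hw i).symm⟩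

omit [DecidableEq ι] in
theorem IsCore.exists_perm (hp : 0 < p) (h : IsCore p κ) (h' : IsCore p κ')
    (hc : cnt p κ' = cnt p κ) : ∃ w : Perm ι, κ' = κ ∘ w :=
  exists_perm_of_range h'.1 fun i => by
    rw [h.exists_eq_iff hp, ← hc, ← h'.exists_eq_iff hp]; exact ⟨i, rfl⟩

theorem IsCore.sum_add (hp : 0 < p) (h : IsCore p κ) (hβ : Function.Injective β)
    (hc : cnt p β = cnt p κ) : ∑ i, κ i + p * wt p β = ∑ i, β i := by
  obtain ⟨w, hw⟩ := h.exists_perm hp (isCore_core hp hβ) (by rw [cnt_core, hc])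
  rw [← sum_core_add hp hβ, hw, sum_comp_perm]

theorem IsCore.exists_perm_of_sum (hp : 0 < p) (h : IsCore p κ) (hβ : Function.Injective β)
    (hc : cnt p β = cnt p κ) (hs : ∑ i, β i ≤ ∑ i, κ i) : ∃ w : Perm ι, β = κ ∘ w := by
  have h1 := h.sum_add hp hβ hc
  have h2 : wt p β = 0 := by
    by_contra h0
    have : p * 1 ≤ p * wt p β := Nat.mul_le_mul_left _ (Nat.pos_of_ne_zero h0)
    omega
  exact h.exists_perm hp (isCore_of_wt hp hβ h2) hc

omit [DecidableEq ι] in
theorem isCore_del : IsCore 1 (del ι) :=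
  ⟨del_injective, fun i _ => exists_del_eq (lt_of_le_of_lt (Nat.sub_le _ _) (del_lt i))⟩

omit [DecidableEq ι] in
theorem cnt_one_eq (β γ : ι → ℕ) : cnt 1 β = cnt 1 γ := cnt_congr fun i => by simp [Nat.mod_one]

theorem sum_del_add (hβ : Function.Injective β) : ∑ i, del ι i + wt 1 β = ∑ i, β i := by
  simpa using isCore_del.sum_add one_pos hβ (cnt_one_eq _ _)

/-- The character of a core vanishes on shapes with a part divisible by `p`. -/
theorem IsCore.F_eq_zero (h : IsCore p κ) {μ : Multiset ℕ} {r : ℕ} (hr : r ∈ μ) (h0 : 0 < r)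
    (hpr : p ∣ r) : F μ κ = 0 := by
  obtain ⟨ν, rfl⟩ := Multiset.exists_cons_of_mem hr
  obtain ⟨s, rfl⟩ := hpr
  rw [F_cons]
  by_contra hne
  obtain ⟨i, hi, h'⟩ := exists_of_A_ne_zero hne
  obtain ⟨k, hk⟩ := h.exists_eq_sub i hi
  exact (injective_dn_iff h.1 h0 hi).1 ((anti_F _).injective h') k hk

open Classical in
/-- The number of ways to slide beads `w` times by one position. -/
noncomputable def np (p : ℕ) : ℕ → (ι → ℕ) → ℕ
  | 0, _ => 1
  | w + 1, β => ∑ i, if p ≤ β i ∧ Function.Injective (dn β i p) then np p w (dn β i p) else 0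

/-- The number of ways to slide the beads up to the core. -/
noncomputable def NP (p : ℕ) (β : ι → ℕ) : ℕ := np p (wt p β) β

open Classical in
theorem NP_eq_sum (hp : 0 < p) (hβ : Function.Injective β) (h : wt p β ≠ 0) :
    NP p β = ∑ i, if p ≤ β i ∧ Function.Injective (dn β i p) then NP p (dn β i p) else 0 := by
  obtain ⟨w, hw⟩ := Nat.exists_eq_succ_of_ne_zero h
  rw [NP, hw, np]
  refine Finset.sum_congr rfl fun i _ => ?_
  split_ifs with hi
  · have := wt_dn hp hβ hi.1 hi.2
    rw [NP]; congr 1; omega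
  · rfl

theorem NP_of_wt (h : wt p β = 0) : NP p β = 1 := by rw [NP, h, np]

theorem NP_pos (hp : 0 < p) (hβ : Function.Injective β) : 0 < NP p β := by
  generalize hw : wt p β = w
  induction w generalizing β with
  | zero => rw [NP_of_wt hw]; exact one_pos
  | succ w ih =>
    obtain ⟨k, hk, hk'⟩ := exists_move hp hβ (by omega)
    rw [NP_eq_sum hp hβ (by omega)]
    refine Finset.sum_pos' (fun _ _ => Nat.zero_le _) ⟨k, Finset.mem_univ _, ?_⟩
    rw [if_pos ⟨hk, hk'⟩]
    exact ih hk' (by have := wt_dn hp hβ hk hk'; omega)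

/-- Removing `wt` cycles of length `p`. -/
theorem F_replicate_add (hp : 0 < p) (hβ : Function.Injective β) (μ : Multiset ℕ) :
    F (Multiset.replicate (wt p β) p + μ) β = (NP p β : ℂ) * F μ (core p β) := by
  generalize hw : wt p β = w
  induction w generalizing β with
  | zero => rw [NP_of_wt hw, core_eq_self hp hβ hw]; simp
  | succ w ih =>
    rw [Multiset.replicate_succ, Multiset.cons_add, F_cons, A, NP_eq_sum hp hβ (by omega),
      Nat.cast_sum, Finset.sum_mul]
    refine Finset.sum_congr rfl fun i _ => ?_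
    by_cases h1 : p ≤ β i
    · by_cases h2 : Function.Injective (dn β i p)
      · rw [if_pos h1, if_pos ⟨h1, h2⟩, ih h2 (by have := wt_dn hp hβ h1 h2; omega),
          core_dn hp hβ h1 h2]
      · rw [if_pos h1, if_neg (fun h => h2 h.2), (anti_F _).eq_zero h2]; simp
    · rw [if_neg h1, if_neg (fun h => h1 h.1)]; simp

omit [DecidableEq Ω] in
theorem wt_one_of_mem_TT (hβ : Function.Injective β) (h : β ∈ TT ι Ω) :
    wt 1 β = Fintype.card Ω := by
  have := sum_del_add hβ
  rw [mem_T] at h
  omega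

theorem chi_one (hβ : Function.Injective β) (h : β ∈ TT ι Ω) :
    ∃ w : Perm ι, chi Ω β 1 = (NP 1 β : ℂ) * sg w := by
  obtain ⟨w, hw⟩ := isCore_del.exists_perm one_pos (isCore_core one_pos hβ) (cnt_one_eq _ _)
  refine ⟨w, ?_⟩
  have := F_replicate_add one_pos hβ 0
  rw [add_zero, wt_one_of_mem_TT hβ h, hw, F_zero, alt_comp del_injective] at this
  rw [chi_apply, parts_one, this]

theorem chi_one_ne_zero (hβ : Function.Injective β) (h : β ∈ TT ι Ω) : chi Ω β 1 ≠ 0 := by
  obtain ⟨w, hw⟩ := chi_one hβ h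
  rw [hw]
  exact mul_ne_zero (Nat.cast_ne_zero.2 (NP_pos one_pos hβ).ne') (sg_ne_zero w)

theorem chi_ne_zero (hβ : Function.Injective β) (h : β ∈ TT ι Ω) : chi Ω β ≠ 0 := fun h' =>
  chi_one_ne_zero hβ h (by rw [h']; rfl)

theorem exists_lab_of_injective (hN : Fintype.card Ω ≤ Fintype.card ι)
    (hβ : Function.Injective β) (h : β ∈ TT ι Ω) : ∃ ψ : IrrCharacter (Perm Ω), Lab ψ β :=
  exists_lab_of_ne_zero hN (chi_ne_zero hβ h)

theorem Lab.apply_one {ψ : IrrCharacter (Perm Ω)} (h : Lab ψ β) :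
    (ψ : Perm Ω → ℂ) 1 = NP 1 β := by
  obtain ⟨w, hw⟩ := chi_one h.injective h.mem_TT
  obtain ⟨e, he, hψ⟩ := h.exists_eq'
  obtain ⟨n, hn, hn'⟩ := ψ.2.exists_nat_degree_pos
  have hpos := NP_pos one_pos h.injective
  have h1 : (ψ : Perm Ω → ℂ) 1 = e * sg w * NP 1 β := by
    rw [hψ, Pi.smul_apply, hw, smul_eq_mul]; ring
  have h2 : e * sg w = 1 ∨ e * sg w = -1 := by
    rcases he with rfl | rfl <;> rcases sg_eq w with h' | h' <;> simp [h']
  rcases h2 with h2 | h2
  · rw [h1, h2, one_mul]
  · rw [h2, hn'] at h1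
    have : ((n + NP 1 β : ℕ) : ℂ) = 0 := by push_cast; rw [h1]; ring
    have : n + NP 1 β = 0 := by exact_mod_cast this
    omega

theorem NP_one_dvd (hβ : Function.Injective β) (hN : wt 1 β ≤ Fintype.card ι) :
    NP 1 β ∣ (wt 1 β).factorial := by
  have hT : β ∈ TT ι (Fin (wt 1 β)) := by rw [mem_T, Fintype.card_fin, sum_del_add hβ]
  obtain ⟨ψ, hψ⟩ := exists_lab_of_injective (by rwa [Fintype.card_fin]) hβ hT
  have := irr_degree_dvd_card ψ.2 hψ.apply_one
  rwa [Nat.card_eq_fintype_card, Fintype.card_perm, Fintype.card_fin] at this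

/-! ### Runners -/

/-- The positions of the beads on runner `j`, for the residue pattern `ρ`. -/
def run (p : ℕ) (ρ : ι → ℕ) (j : ℕ) (β : ι → ℕ) : {i // ρ i = j} → ℕ := fun i => β i / p

section Run

variable {ρ : ι → ℕ}

omit [Fintype ι] [DecidableEq ι] in
theorem run_injective (hβ : Function.Injective β) (hρ : ∀ i, β i % p = ρ i) (j : ℕ) :
    Function.Injective (run p ρ j β) := fun a b h =>
  Subtype.ext (hβ (eq_of_mod_div (by rw [hρ, hρ, a.2, b.2]) h))

omit [DecidableEq ι] in
theorem rk_run (hp : 0 < p) (hρ : ∀ i, β i % p = ρ i) (j : ℕ) (i : {i // ρ i = j}) :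
    rk 1 (run p ρ j β) i = rk p β i := by
  unfold rk
  refine Finset.card_bij (fun k _ => (k : ι)) ?_ (fun _ _ _ _ h => Subtype.ext h) ?_
  · intro k hk
    simp only [Finset.mem_filter, Finset.mem_univ, true_and] at hk ⊢
    have hm : β k % p = β i % p := by rw [hρ, hρ, k.2, i.2]
    exact ⟨hm, (div_lt_div_iff_of_mod hp hm).1 hk.2⟩
  · intro k hk
    simp only [Finset.mem_filter, Finset.mem_univ, true_and] at hk
    refine ⟨⟨k, by rw [← hρ, hk.1, hρ, i.2]⟩, ?_, rfl⟩
    simp only [Finset.mem_filter, Finset.mem_univ, true_and, Nat.mod_one]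
    exact (div_lt_div_iff_of_mod hp hk.1).2 hk.2

omit [DecidableEq ι] in
theorem sum_eq_sum_run (hρ : ∀ i, ρ i < p) {R : Type*} [AddCommMonoid R] (g : ι → R) :
    ∑ i, g i = ∑ j ∈ range p, ∑ i : {i // ρ i = j}, g i := by
  rw [← Finset.sum_fiberwise_of_maps_to (s := univ) (t := range p) (g := ρ)
    (fun i _ => Finset.mem_range.2 (hρ i))]
  exact Finset.sum_congr rfl fun j _ => Finset.sum_subtype _ (by simp) _

omit [DecidableEq ι] in
theorem wt_run (hp : 0 < p) (hρ : ∀ i, β i % p = ρ i) (j : ℕ) :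
    wt 1 (run p ρ j β) = ∑ i : {i // ρ i = j}, (β i / p - rk p β i) :=
  Finset.sum_congr rfl fun i _ => by rw [rk_run hp hρ, Nat.div_one]; rfl

omit [DecidableEq ι] in
theorem wt_eq_sum_run (hp : 0 < p) (hρ : ∀ i, β i % p = ρ i) :
    wt p β = ∑ j ∈ range p, wt 1 (run p ρ j β) := by
  rw [wt, sum_eq_sum_run (ρ := ρ) (p := p) fun i => by rw [← hρ]; exact Nat.mod_lt _ hp]
  exact Finset.sum_congr rfl fun j _ => (wt_run hp hρ j).symm

omit [Fintype ι] in
theorem run_dn_self (hp : 0 < p) {j : ℕ} (i : {i // ρ i = j}) (h : p ≤ β i) :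
    run p ρ j (dn β i p) = dn (run p ρ j β) i 1 := by
  funext k
  rcases eq_or_ne k i with rfl | hk
  · have := sub_div_of_le hp (r := 1) (a := β k) (by simpa)
    simp only [run, dn_self, mul_one] at this ⊢
    rw [← this, Nat.add_sub_cancel]
  · rw [dn_of_ne _ hk, run, run, dn_of_ne _ fun e => hk (Subtype.ext e)]

omit [Fintype ι] in
theorem run_dn_ne {j : ℕ} {i : ι} (hi : ρ i ≠ j) (r : ℕ) :
    run p ρ j (dn β i r) = run p ρ j β := by
  funext k
  rw [run, run, dn_of_ne _ fun e : (k : ι) = i => hi (e ▸ k.2)]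

omit [Fintype ι] in
theorem move_run_iff (hp : 0 < p) (hβ : Function.Injective β) (hρ : ∀ i, β i % p = ρ i) {j : ℕ}
    (i : {i // ρ i = j}) : (p ≤ β i ∧ Function.Injective (dn β i p)) ↔
      (1 ≤ run p ρ j β i ∧ Function.Injective (dn (run p ρ j β) i 1)) := by
  have e : p ≤ β i ↔ 1 ≤ run p ρ j β i := by rw [run, Nat.le_div_iff_mul_le hp, one_mul]
  rw [← e]
  refine and_congr_right fun h => ?_
  constructor
  · intro h'
    rw [← run_dn_self hp i h]
    exact run_injective h' (fun k => by rw [dn_mod h, hρ]) j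
  · intro h'
    rw [injective_dn_iff hβ hp h]
    intro l hl
    have hm : β l % p = β i % p := by
      rw [hl]; simpa using sub_mod_of_le (p := p) (r := 1) (by simpa)
    have hd : β l / p + 1 = β i / p := by
      rw [hl]; simpa using sub_div_of_le hp (r := 1) (by simpa)
    refine (injective_dn_iff (run_injective hβ hρ j) one_pos (e.1 h)).1 h'
      ⟨l, by rw [← hρ, hm, hρ, i.2]⟩ ?_
    simp only [run]; rw [← hd, Nat.add_sub_cancel]

/-- The product formula for the number of slides. -/
theorem NP_mul_prod (hp : 0 < p) (hβ : Function.Injective β) (hρ : ∀ i, β i % p = ρ i) :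
    NP p β * ∏ j ∈ range p, (wt 1 (run p ρ j β)).factorial =
      (wt p β).factorial * ∏ j ∈ range p, NP 1 (run p ρ j β) := by
  classical
  generalize hw : wt p β = w
  induction w generalizing β with
  | zero =>
    have h0 : ∀ j ∈ range p, wt 1 (run p ρ j β) = 0 := by
      rw [wt_eq_sum_run hp hρ] at hw
      exact Finset.sum_eq_zero_iff.1 hw
    rw [NP_of_wt hw, Finset.prod_congr rfl fun j hj => by rw [h0 j hj],
      Finset.prod_congr rfl fun j hj => NP_of_wt (h0 j hj)]
    simp
  | succ w ih =>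
    rw [NP_eq_sum hp hβ (by omega), Finset.sum_mul,
      sum_eq_sum_run (ρ := ρ) (p := p) fun i => by rw [← hρ]; exact Nat.mod_lt _ hp,
      Nat.factorial_succ, ← hw, wt_eq_sum_run hp hρ, Finset.sum_mul, Finset.sum_mul]
    refine Finset.sum_congr rfl fun j hj => ?_
    have key : ∀ i : {i // ρ i = j},
        (if p ≤ β i ∧ Function.Injective (dn β i p) then NP p (dn β i p) else 0) *
          ∏ j ∈ range p, (wt 1 (run p ρ j β)).factorial =
        (wt 1 (run p ρ j β) * w.factorial * ∏ k ∈ (range p).erase j, NP 1 (run p ρ k β)) *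
          if 1 ≤ run p ρ j β i ∧ Function.Injective (dn (run p ρ j β) i 1) then
            NP 1 (dn (run p ρ j β) i 1) else 0 := by
      intro i
      by_cases h : p ≤ β i ∧ Function.Injective (dn β i p)
      · have h' := (move_run_iff hp hβ hρ i).1 h
        have h1 := ih h.2 (fun k => by rw [dn_mod h.1, hρ])
          (by have := wt_dn hp hβ h.1 h.2; omega)
        have e : ∀ k ∈ (range p).erase j, run p ρ k (dn β i p) = run p ρ k β := fun k hk =>
          run_dn_ne (by rw [i.2]; exact (ne_of_mem_erase hk).symm) p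
        rw [← Finset.mul_prod_erase _ _ hj, ← Finset.mul_prod_erase _ _ hj, run_dn_self hp i h.1,
          Finset.prod_congr rfl (f := fun k => (wt 1 (run p ρ k (dn β i p))).factorial)
            fun k hk => by rw [e k hk],
          Finset.prod_congr rfl (f := fun k => NP 1 (run p ρ k (dn β i p)))
            fun k hk => by rw [e k hk]] at h1
        have h2 := wt_dn one_pos (run_injective hβ hρ j) h'.1 h'.2
        rw [if_pos h, if_pos h', ← Finset.mul_prod_erase _ _ hj, ← h2, Nat.factorial_succ]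
        calc _ = (wt 1 (dn (run p ρ j β) i 1) + 1) * (NP p (dn β i p) *
              ((wt 1 (dn (run p ρ j β) i 1)).factorial *
                ∏ k ∈ (range p).erase j, (wt 1 (run p ρ k β)).factorial)) := by ring
          _ = _ := by rw [h1]; ring
      · rw [if_neg h, if_neg fun h' => h ((move_run_iff hp hβ hρ i).2 h')]; simp
    rw [Finset.sum_congr rfl fun i _ => key i, ← Finset.mul_sum, ← Finset.mul_prod_erase _ _ hj]
    by_cases h0 : wt 1 (run p ρ j β) = 0
    · simp [h0]
    · rw [NP_eq_sum one_pos (run_injective hβ hρ j) h0]; ring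

end Run

omit [DecidableEq ι] in
theorem card_subtype_mod (β : ι → ℕ) (j : ℕ) : Fintype.card {i // β i % p = j} = cnt p β j := by
  rw [Fintype.card_subtype]; rfl

/-- Below weight `p` the number of slides is prime to `p`. -/
theorem not_dvd_NP (hp : p.Prime) (hβ : Function.Injective β) (hw : wt p β < p)
    (hc : ∀ j < p, wt p β ≤ cnt p β j) : ¬ p ∣ NP p β := by
  intro h
  have h1 := NP_mul_prod (ρ := fun i => β i % p) hp.pos hβ fun _ => rfl
  have h2 : p ∣ (wt p β).factorial * ∏ j ∈ range p, NP 1 (run p (fun i => β i % p) j β) :=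
    h1 ▸ h.mul_right _
  rcases (Nat.Prime.dvd_mul hp).1 h2 with h3 | h3
  · exact absurd ((Nat.Prime.dvd_factorial hp).1 h3) (not_le.2 hw)
  · obtain ⟨j, hj, h4⟩ := (Prime.dvd_finsetProd_iff hp.prime _).1 h3
    have h5 : wt 1 (run p (fun i => β i % p) j β) ≤ wt p β := by
      rw [wt_eq_sum_run (ρ := fun i => β i % p) hp.pos fun _ => rfl]
      exact Finset.single_le_sum (f := fun j => wt 1 (run p (fun i => β i % p) j β))
        (fun _ _ => Nat.zero_le _) hj
    have h6 := NP_one_dvd (run_injective (ρ := fun i => β i % p) hβ (fun _ => rfl) j)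
      (by rw [card_subtype_mod]; exact h5.trans (hc j (Finset.mem_range.1 hj)))
    have := (Nat.Prime.dvd_factorial hp).1 (h4.trans h6)
    omega

end Cfsg.Lib.SymChar
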