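import Mathlib.RingTheory.MvPolynomial.Symmetric.Defs
import Mathlib.Algebra.Order.Antidiag.Pi
import Mathlib.GroupTheory.Perm.Sign
import Mathlib.Analysis.Complex.Basic

/-!
# The Frobenius formula in beta-numbers

For a multiset `μ` of positive integers, `F μ β` is the coefficient of `X ^ β` in the product of the
alternant of the staircase exponent with the power sums `p_r`, `r ∈ μ`.  We prove antisymmetry,
the removal rule (Murnaghan-Nakayama), its adjoint form, and the orthogonality relations.
-/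

set_option autoImplicit false

open Equiv Finset MvPolynomial
open scoped ComplexConjugate

namespace Cfsg.Lib.SymChar

variable {ι : Type*} [Fintype ι] [DecidableEq ι]

/-- The staircase exponent. -/
noncomputable def del (ι : Type*) [Fintype ι] : ι → ℕ := fun i => (Fintype.equivFin ι i : ℕ)

omit [DecidableEq ι] in
theorem del_injective : Function.Injective (del ι) := fun _ _ h =>
  (Fintype.equivFin ι).injective (Fin.ext h)

omit [DecidableEq ι] in
theorem del_lt (i : ι) : del ι i < Fintype.card ι := (Fintype.equivFin ι i).2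

omit [DecidableEq ι] in
theorem exists_del_eq {v : ℕ} (hv : v < Fintype.card ι) : ∃ i, del ι i = v :=
  ⟨(Fintype.equivFin ι).symm ⟨v, hv⟩, by simp [del]⟩

/-- The sign of a permutation as a complex number. -/
noncomputable def sg (w : Perm ι) : ℂ := ((Perm.sign w : ℤ) : ℂ)

@[simp] theorem sg_one : sg (1 : Perm ι) = 1 := by simp [sg]

theorem sg_mul (v w : Perm ι) : sg (v * w) = sg v * sg w := by simp [sg]

@[simp] theorem sg_inv (w : Perm ι) : sg w⁻¹ = sg w := by simp [sg]

theorem sg_mul_self (w : Perm ι) : sg w * sg w = 1 := by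
  rw [← sg_inv w, sg_inv, ← sg_inv w]
  conv_lhs => rw [sg_inv w]; arg 2; rw [← sg_inv w]
  rw [← sg_mul]; simp

theorem sg_ne_zero (w : Perm ι) : sg w ≠ 0 := fun h => by
  have := sg_mul_self w; rw [h, zero_mul] at this; exact zero_ne_one this

theorem sg_swap {i k : ι} (h : i ≠ k) : sg (swap i k) = -1 := by simp [sg, Perm.sign_swap h]

theorem conj_sg (w : Perm ι) : conj (sg w) = sg w := by simp [sg]

theorem sg_eq (w : Perm ι) : sg w = 1 ∨ sg w = -1 := by
  rcases Int.units_eq_one_or (Perm.sign w) with h | h <;> simp [sg, h]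

/-- Antisymmetric functions of exponent tuples. -/
def Anti (f : (ι → ℕ) → ℂ) : Prop := ∀ (β : ι → ℕ) (w : Perm ι), f (β ∘ w) = sg w * f β

theorem Anti.eq_zero {f : (ι → ℕ) → ℂ} (hf : Anti f) {β : ι → ℕ} (h : ¬ Function.Injective β) :
    f β = 0 := by
  simp only [Function.Injective, not_forall] at h
  obtain ⟨i, k, hik, hne⟩ := h
  have h1 : β ∘ (swap i k) = β := by
    funext x
    simp only [Function.comp]
    rcases eq_or_ne x i with rfl | hx
    · rw [swap_apply_left, hik]
    rcases eq_or_ne x k with rfl | hx'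
    · rw [swap_apply_right, hik]
    rw [swap_apply_of_ne_of_ne hx hx']
  have h2 := hf β (swap i k)
  rw [h1, sg_swap hne] at h2
  linear_combination (1 / 2 : ℂ) * h2

theorem Anti.injective {f : (ι → ℕ) → ℂ} (hf : Anti f) {β : ι → ℕ} (h : f β ≠ 0) :
    Function.Injective β := by
  by_contra h'; exact h (hf.eq_zero h')

theorem anti_zero : Anti (0 : (ι → ℕ) → ℂ) := fun _ _ => by simp

theorem Anti.add {f g : (ι → ℕ) → ℂ} (hf : Anti f) (hg : Anti g) : Anti (f + g) := fun β w => by
  simp only [Pi.add_apply, hf β w, hg β w]; ring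

theorem Anti.sub {f g : (ι → ℕ) → ℂ} (hf : Anti f) (hg : Anti g) : Anti (f - g) := fun β w => by
  simp only [Pi.sub_apply, hf β w, hg β w]; ring

theorem Anti.smul {f : (ι → ℕ) → ℂ} (hf : Anti f) (c : ℂ) : Anti (c • f) := fun β w => by
  simp only [Pi.smul_apply, smul_eq_mul, hf β w]; ring

/-- The alternating indicator of the orbit of `κ`. -/
noncomputable def alt (κ β : ι → ℕ) : ℂ := ∑ w : Perm ι, if β = κ ∘ w then sg w else 0

theorem anti_alt (κ : ι → ℕ) : Anti (alt κ) := by
  intro β v
  unfold alt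
  rw [Finset.mul_sum, ← Equiv.sum_comp (Equiv.mulRight v)]
  refine Finset.sum_congr rfl fun w _ => ?_
  have : (β ∘ v = κ ∘ (Equiv.mulRight v w : Perm ι)) ↔ β = κ ∘ w := by
    simp only [Equiv.coe_mulRight, Perm.coe_mul]
    rw [← Function.comp_assoc]
    exact v.surjective.injective_comp_right.eq_iff
  simp only [this]
  split_ifs
  · simp [sg_mul, mul_comm]
  · simp

omit [Fintype ι] [DecidableEq ι] in
theorem comp_perm_injective {κ : ι → ℕ} (hκ : Function.Injective κ) :
    Function.Injective fun w : Perm ι => κ ∘ w := fun v w h => by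
  ext x; exact hκ (congrFun h x)

theorem alt_self {κ : ι → ℕ} (hκ : Function.Injective κ) : alt κ κ = 1 := by
  unfold alt
  rw [Finset.sum_eq_single 1]
  · simp
  · intro w _ hw
    rw [if_neg]
    intro h
    exact hw (comp_perm_injective hκ (a₁ := w) (a₂ := 1) (by simpa using h.symm))
  · simp

theorem alt_comp {κ : ι → ℕ} (hκ : Function.Injective κ) (w : Perm ι) : alt κ (κ ∘ w) = sg w := by
  rw [anti_alt, alt_self hκ, mul_one]

theorem exists_of_alt_ne_zero {κ β : ι → ℕ} (h : alt κ β ≠ 0) : ∃ w : Perm ι, β = κ ∘ w := by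
  obtain ⟨w, -, hw⟩ := Finset.exists_ne_zero_of_sum_ne_zero h
  exact ⟨w, by by_contra h'; exact hw (if_neg h')⟩

theorem conj_alt (κ β : ι → ℕ) : conj (alt κ β) = alt κ β := by
  unfold alt
  rw [map_sum]
  refine Finset.sum_congr rfl fun w _ => ?_
  split_ifs
  · exact conj_sg w
  · simp

/-- Raise the `i`-th exponent by `r`. -/
def up (β : ι → ℕ) (i : ι) (r : ℕ) : ι → ℕ := Function.update β i (β i + r)

/-- Lower the `i`-th exponent by `r`. -/
def dn (β : ι → ℕ) (i : ι) (r : ℕ) : ι → ℕ := Function.update β i (β i - r)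

omit [Fintype ι] in
@[simp] theorem up_self (β : ι → ℕ) (i : ι) (r : ℕ) : up β i r i = β i + r := by simp [up]

omit [Fintype ι] in
@[simp] theorem dn_self (β : ι → ℕ) (i : ι) (r : ℕ) : dn β i r i = β i - r := by simp [dn]

omit [Fintype ι] in
theorem up_of_ne (β : ι → ℕ) {i k : ι} (h : k ≠ i) (r : ℕ) : up β i r k = β k := by simp [up, h]

omit [Fintype ι] in
theorem dn_of_ne (β : ι → ℕ) {i k : ι} (h : k ≠ i) (r : ℕ) : dn β i r k = β k := by simp [dn, h]

omit [Fintype ι] in
theorem dn_up (β : ι → ℕ) (i : ι) (r : ℕ) : dn (up β i r) i r = β := by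
  funext k; rcases eq_or_ne k i with rfl | h
  · simp
  · rw [dn_of_ne _ h, up_of_ne _ h]

omit [Fintype ι] in
theorem up_dn (β : ι → ℕ) (i : ι) {r : ℕ} (h : r ≤ β i) : up (dn β i r) i r = β := by
  funext k; rcases eq_or_ne k i with rfl | hk
  · simp [Nat.sub_add_cancel h]
  · rw [up_of_ne _ hk, dn_of_ne _ hk]

omit [Fintype ι] in
theorem up_comp (β : ι → ℕ) (w : Perm ι) (i : ι) (r : ℕ) : up (β ∘ w) i r = up β (w i) r ∘ w := by
  funext k; rcases eq_or_ne k i with rfl | h
  · simp
  · rw [up_of_ne _ h, Function.comp_apply, Function.comp_apply, up_of_ne _ (w.injective.ne h)]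

omit [Fintype ι] in
theorem dn_comp (β : ι → ℕ) (w : Perm ι) (i : ι) (r : ℕ) : dn (β ∘ w) i r = dn β (w i) r ∘ w := by
  funext k; rcases eq_or_ne k i with rfl | h
  · simp
  · rw [dn_of_ne _ h, Function.comp_apply, Function.comp_apply, dn_of_ne _ (w.injective.ne h)]

theorem sum_up (β : ι → ℕ) (i : ι) (r : ℕ) : ∑ k, up β i r k = ∑ k, β k + r := by
  rw [← Finset.add_sum_erase _ _ (mem_univ i), ← Finset.add_sum_erase _ β (mem_univ i), up_self,
    Finset.sum_congr rfl fun k hk => up_of_ne β (ne_of_mem_erase hk) r]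
  ring

theorem sum_dn (β : ι → ℕ) (i : ι) {r : ℕ} (h : r ≤ β i) : ∑ k, dn β i r k + r = ∑ k, β k := by
  rw [← sum_up _ i, up_dn _ _ h]

omit [Fintype ι] in
theorem up_up_comm (β : ι → ℕ) (i k : ι) (r s : ℕ) : up (up β i r) k s = up (up β k s) i r := by
  funext x
  rcases eq_or_ne i k with rfl | hik
  · rcases eq_or_ne x i with rfl | h
    · simp; ring
    · simp [up_of_ne _ h]
  rcases eq_or_ne x i with rfl | h
  · simp [up_of_ne _ hik]
  rcases eq_or_ne x k with rfl | h'
  · simp [up_of_ne _ h]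
  simp [up_of_ne _ h, up_of_ne _ h']

omit [Fintype ι] in
theorem dn_up_comm (β : ι → ℕ) {i k : ι} (hik : i ≠ k) (r s : ℕ) :
    dn (up β i r) k s = up (dn β k s) i r := by
  funext x
  rcases eq_or_ne x i with rfl | h
  · simp [dn_of_ne _ hik]
  rcases eq_or_ne x k with rfl | h'
  · simp [up_of_ne _ h]
  simp [up_of_ne _ h, dn_of_ne _ h']

/-- Multiplication by the power sum `p_r`, on coefficient functions. -/
noncomputable def A (r : ℕ) (f : (ι → ℕ) → ℂ) (β : ι → ℕ) : ℂ :=
  ∑ i, if r ≤ β i then f (dn β i r) else 0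

/-- The adjoint of `A r`. -/
noncomputable def L (r : ℕ) (f : (ι → ℕ) → ℂ) (β : ι → ℕ) : ℂ := ∑ i, f (up β i r)

theorem Anti.A {f : (ι → ℕ) → ℂ} (hf : Anti f) (r : ℕ) : Anti (A r f) := by
  intro β w
  unfold SymChar.A
  rw [Finset.mul_sum, ← Equiv.sum_comp w (fun i => sg w * _)]
  refine Finset.sum_congr rfl fun i _ => ?_
  rw [dn_comp, hf, Function.comp_apply]
  split_ifs <;> simp

theorem Anti.L {f : (ι → ℕ) → ℂ} (hf : Anti f) (r : ℕ) : Anti (L r f) := by
  intro β w
  unfold SymChar.L
  rw [Finset.mul_sum, ← Equiv.sum_comp w (fun i => sg w * _)]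
  refine Finset.sum_congr rfl fun i _ => ?_
  rw [up_comp, hf]

/-- Exponent tuples as finitely supported functions. -/
noncomputable def toF (β : ι → ℕ) : ι →₀ ℕ := Finsupp.equivFunOnFinite.symm β

omit [DecidableEq ι] in
@[simp] theorem toF_apply (β : ι → ℕ) (i : ι) : toF β i = β i := rfl

omit [DecidableEq ι] in
theorem toF_injective : Function.Injective (toF : (ι → ℕ) → ι →₀ ℕ) :=
  Finsupp.equivFunOnFinite.symm.injective

/-- The alternant of the staircase exponent. -/
noncomputable def aDel (ι : Type*) [Fintype ι] [DecidableEq ι] : MvPolynomial ι ℂ :=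
  ∑ w : Perm ι, monomial (toF (del ι ∘ w)) (sg w)

/-- The Frobenius coefficient. -/
noncomputable def F (μ : Multiset ℕ) (β : ι → ℕ) : ℂ :=
  coeff (toF β) (aDel ι * (μ.map (psum ι ℂ)).prod)

theorem F_zero : F (ι := ι) 0 = alt (del ι) := by
  funext β
  simp only [F, Multiset.map_zero, Multiset.prod_zero, mul_one, aDel, coeff_sum, coeff_monomial,
    alt, toF_injective.eq_iff]
  exact Finset.sum_congr rfl fun w _ => by simp only [eq_comm]

/-- The removal rule. -/
theorem F_cons (r : ℕ) (μ : Multiset ℕ) : F (ι := ι) (r ::ₘ μ) = A r (F μ) := by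
  funext β
  simp only [F, Multiset.map_cons, Multiset.prod_cons, A]
  rw [mul_comm (psum ι ℂ r), ← mul_assoc, psum, Finset.mul_sum, coeff_sum]
  refine Finset.sum_congr rfl fun i _ => ?_
  rw [X_pow_eq_monomial, coeff_mul_monomial', mul_one]
  simp only [Finsupp.single_le_iff, toF_apply]
  split_ifs with h
  · congr 1
    ext k
    rcases eq_or_ne k i with rfl | hk
    · simp
    · simp [dn_of_ne _ hk, hk]
  · rfl

theorem anti_F (μ : Multiset ℕ) : Anti (F (ι := ι) μ) := by
  induction μ using Multiset.induction_on with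
  | empty => rw [F_zero]; exact anti_alt _
  | cons r μ ih => rw [F_cons]; exact ih.A r

theorem conj_F (μ : Multiset ℕ) (β : ι → ℕ) : conj (F μ β) = F μ β := by
  induction μ using Multiset.induction_on generalizing β with
  | empty => rw [F_zero]; exact conj_alt _ _
  | cons r μ ih =>
    rw [F_cons, A, map_sum]
    refine Finset.sum_congr rfl fun i _ => ?_
    split_ifs
    · exact ih _
    · simp

theorem exists_of_A_ne_zero {r : ℕ} {f : (ι → ℕ) → ℂ} {β : ι → ℕ} (h : A r f β ≠ 0) :
    ∃ i, r ≤ β i ∧ f (dn β i r) ≠ 0 := by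
  obtain ⟨i, -, hi⟩ := Finset.exists_ne_zero_of_sum_ne_zero h
  by_cases h' : r ≤ β i
  · exact ⟨i, h', by rwa [if_pos h'] at hi⟩
  · exact (hi (if_neg h')).elim

omit [DecidableEq ι] in
theorem sum_comp_perm (β : ι → ℕ) (w : Perm ι) : ∑ i, (β ∘ w) i = ∑ i, β i :=
  Equiv.sum_comp w β

theorem sum_eq_of_F_ne_zero {μ : Multiset ℕ} {β : ι → ℕ} (h : F μ β ≠ 0) :
    ∑ i, β i = ∑ i, del ι i + μ.sum := by
  induction μ using Multiset.induction_on generalizing β with
  | empty =>
    rw [F_zero] at h
    obtain ⟨w, rfl⟩ := exists_of_alt_ne_zero h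
    rw [sum_comp_perm]; simp
  | cons r μ ih =>
    rw [F_cons] at h
    obtain ⟨i, hi, h'⟩ := exists_of_A_ne_zero h
    rw [← sum_dn β i hi, ih h', Multiset.sum_cons]; ring

theorem exists_eq_of_F_ne_zero {μ : Multiset ℕ} {β : ι → ℕ} (h : F μ β ≠ 0) {v : ℕ}
    (hv : v + μ.sum < Fintype.card ι) : ∃ i, β i = v := by
  induction μ using Multiset.induction_on generalizing β v with
  | empty =>
    rw [F_zero] at h
    obtain ⟨w, rfl⟩ := exists_of_alt_ne_zero h
    obtain ⟨i, hi⟩ := exists_del_eq (ι := ι) (v := v) (by simpa using hv)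
    exact ⟨w.symm i, by simpa using hi⟩
  | cons r μ ih =>
    have hinj := (anti_F _).injective h
    rw [F_cons] at h
    obtain ⟨i, hi, h'⟩ := exists_of_A_ne_zero h
    rw [Multiset.sum_cons] at hv
    obtain ⟨k, hk⟩ := ih h' (v := v) (by omega)
    rcases eq_or_ne k i with rfl | hki
    · obtain ⟨l, hl⟩ := ih h' (v := v + r) (by omega)
      rw [dn_self] at hk
      rcases eq_or_ne l k with rfl | hlk
      · rw [dn_self] at hl; exact ⟨l, by omega⟩
      · rw [dn_of_ne _ hlk] at hl
        exact (hlk (hinj (by omega))).elim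
    · exact ⟨k, by rwa [dn_of_ne _ hki] at hk⟩

theorem lt_of_F_ne_zero {μ : Multiset ℕ} {β : ι → ℕ} (h : F μ β ≠ 0) (i : ι) :
    β i < Fintype.card ι + μ.sum := by
  induction μ using Multiset.induction_on generalizing β with
  | empty =>
    rw [F_zero] at h
    obtain ⟨w, rfl⟩ := exists_of_alt_ne_zero h
    simpa using del_lt _
  | cons r μ ih =>
    rw [F_cons] at h
    obtain ⟨k, hk, h'⟩ := exists_of_A_ne_zero h
    have := ih h'
    rw [Multiset.sum_cons]
    rcases eq_or_ne i k with rfl | hik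
    · rw [dn_self] at this; omega
    · rw [dn_of_ne _ hik] at this; omega

/-- The commutator of `L r` and `A s` on a deep antisymmetric function. -/
theorem L_A {f : (ι → ℕ) → ℂ} (hf : Anti f) {r s : ℕ}
    (hd : ∀ γ, f γ ≠ 0 → ∀ v < s, ∃ i, γ i = v) :
    L r (A s f) = A s (L r f) + (if r = s then (r : ℂ) else 0) • f := by
  have key : ∀ β, L r (A s f) β - A s (L r f) β =
      ∑ i, if β i < s ∧ s ≤ β i + r then f (Function.update β i (β i + r - s)) else 0 := by
    intro β
    have e1 : A s (L r f) β = ∑ i, ∑ k, if s ≤ β k then f (up (dn β k s) i r) else 0 := by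
      rw [Finset.sum_comm]
      refine Finset.sum_congr rfl fun k _ => ?_
      split_ifs
      · rfl
      · simp
    rw [e1, L, ← Finset.sum_sub_distrib]
    refine Finset.sum_congr rfl fun i _ => ?_
    rw [A, ← Finset.sum_sub_distrib, Finset.sum_eq_single i]
    · rw [up_self]
      have e2 : dn (up β i r) i s = Function.update β i (β i + r - s) := by simp [dn, up]
      by_cases h1 : s ≤ β i
      · have e3 : up (dn β i s) i r = Function.update β i (β i + r - s) := by
          simp only [dn, up, Function.update_self, Function.update_idem]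
          congr 1; omega
        rw [if_pos (by omega), if_pos h1, if_neg (by omega), e2, e3, sub_self]
      · rw [if_neg h1, sub_zero, e2]
        by_cases h2 : s ≤ β i + r
        · rw [if_pos h2, if_pos ⟨by omega, h2⟩]
        · rw [if_neg h2, if_neg (by omega)]
    · intro k _ hk
      rw [up_of_ne _ hk, dn_up_comm _ hk.symm, sub_self]
    · simp
  funext β
  simp only [Pi.add_apply, Pi.smul_apply, smul_eq_mul]
  rw [← sub_eq_iff_eq_add']
  by_cases hβ : Function.Injective β
  swap
  · have h1 := ((hf.A s).L r).eq_zero hβ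
    have h2 := ((hf.L r).A s).eq_zero hβ
    rw [h1, h2, hf.eq_zero hβ]; simp
  rw [key]
  split_ifs with hrs
  · subst hrs
    by_cases h0 : f β = 0
    · rw [h0, mul_zero]
      refine Finset.sum_eq_zero fun i _ => ?_
      simp [h0]
    have e : ∀ i, (if β i < r ∧ r ≤ β i + r then f (Function.update β i (β i + r - r)) else 0) =
        if β i < r then f β else 0 := fun i => by simp
    rw [Finset.sum_congr rfl fun i _ => e i, ← Finset.sum_filter, Finset.sum_const, nsmul_eq_mul]
    congr 2
    rw [← Finset.card_range r]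
    refine Finset.card_bij (fun i _ => β i) (fun i hi => by simpa using hi)
      (fun i _ k _ h => hβ h) fun v hv => ?_
    obtain ⟨i, hi⟩ := hd β h0 v (by simpa using hv)
    exact ⟨i, by simpa [hi] using hv, hi⟩
  · rw [zero_mul]
    refine Finset.sum_eq_zero fun i _ => ?_
    split_ifs with h
    · by_contra h0
      obtain ⟨k, hk⟩ := hd _ h0 (β i) h.1
      rcases eq_or_ne k i with rfl | hki
      · rw [Function.update_self] at hk; omega
      · rw [Function.update_of_ne hki] at hk
        exact hki (hβ hk)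
    · rfl

theorem A_smul (r : ℕ) (c : ℂ) (f : (ι → ℕ) → ℂ) : A r (c • f) = c • A r f := by
  funext β
  simp only [A, Pi.smul_apply, smul_eq_mul, Finset.mul_sum]
  exact Finset.sum_congr rfl fun i _ => by split_ifs <;> simp

/-- The adjoint removal rule. -/
theorem L_F {μ : Multiset ℕ} (hμ : μ.sum ≤ Fintype.card ι) {r : ℕ} (hr : 0 < r) :
    L r (F (ι := ι) μ) = ((r : ℂ) * (μ.count r : ℂ)) • F (μ.erase r) := by
  induction μ using Multiset.induction_on with
  | empty =>
    funext β
    simp only [Multiset.count_zero, Nat.cast_zero, mul_zero, zero_smul, Pi.zero_apply]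
    by_contra h
    have hinj := ((anti_F (ι := ι) 0).L r).injective h
    obtain ⟨i, -, hi⟩ := Finset.exists_ne_zero_of_sum_ne_zero h
    have h1 := lt_of_F_ne_zero hi i
    rw [up_self, Multiset.sum_zero] at h1
    obtain ⟨k, hk⟩ := exists_eq_of_F_ne_zero hi (v := β i) (by rw [Multiset.sum_zero]; omega)
    rcases eq_or_ne k i with rfl | hki
    · rw [up_self] at hk; omega
    · rw [up_of_ne _ hki] at hk; exact hki (hinj hk)
  | cons s μ ih =>
    rw [Multiset.sum_cons] at hμ
    rw [F_cons, L_A (anti_F μ) fun γ hγ v hv => exists_eq_of_F_ne_zero hγ (by omega),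
      ih (by omega), A_smul, ← F_cons]
    split_ifs with h
    · subst h
      rw [Multiset.count_cons_self, Multiset.erase_cons_head]
      by_cases hm : r ∈ μ
      · rw [Multiset.cons_erase hm, ← add_smul]; congr 1; push_cast; ring
      · rw [Multiset.count_eq_zero.2 hm]; simp
    · rw [Multiset.count_cons_of_ne h, Multiset.erase_cons_tail _ (Ne.symm h), zero_smul, add_zero]

/-- The tuples of total degree `d`. -/
noncomputable def T (ι : Type*) [Fintype ι] [DecidableEq ι] (d : ℕ) : Finset (ι → ℕ) :=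
  Finset.piAntidiag Finset.univ d

theorem mem_T {d : ℕ} {β : ι → ℕ} : β ∈ T ι d ↔ ∑ i, β i = d := by simp [T]

theorem comp_mem_T {d : ℕ} {β : ι → ℕ} (h : β ∈ T ι d) (w : Perm ι) : β ∘ w ∈ T ι d := by
  rw [mem_T] at h ⊢; rw [sum_comp_perm, h]

/-- Adjointness of `A r` and `L r`. -/
theorem sum_A_mul (r d : ℕ) (f g : (ι → ℕ) → ℂ) :
    ∑ β ∈ T ι (d + r), A r f β * g β = ∑ γ ∈ T ι d, f γ * L r g γ := by
  simp only [A, L, Finset.sum_mul, Finset.mul_sum]
  rw [Finset.sum_comm, Finset.sum_comm (s := T ι d)]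
  refine Finset.sum_congr rfl fun i _ => ?_
  simp only [ite_mul, zero_mul]
  rw [← Finset.sum_filter]
  refine Finset.sum_bij' (fun β _ => dn β i r) (fun γ _ => up γ i r) ?_ ?_ ?_ ?_ ?_
  · intro β hβ
    rw [Finset.mem_filter, mem_T] at hβ
    have := sum_dn β i hβ.2
    rw [mem_T]; omega
  · intro γ hγ
    rw [mem_T] at hγ
    rw [Finset.mem_filter, mem_T, sum_up, hγ, up_self]
    exact ⟨rfl, by omega⟩
  · intro β hβ; exact up_dn _ _ (Finset.mem_filter.1 hβ).2
  · intro γ _; exact dn_up _ _ _
  · intro β hβ; rw [up_dn _ _ (Finset.mem_filter.1 hβ).2]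

theorem sum_alt_mul {κ : ι → ℕ} {d : ℕ} (hd : κ ∈ T ι d) {g : (ι → ℕ) → ℂ} (hg : Anti g) :
    ∑ β ∈ T ι d, alt κ β * g β = ((Fintype.card ι).factorial : ℂ) * g κ := by
  simp only [alt, Finset.sum_mul, ite_mul, zero_mul]
  rw [Finset.sum_comm]
  rw [Finset.sum_congr rfl fun w _ => (show _ = g κ from ?_)]
  · simp [Fintype.card_perm]
  · rw [Finset.sum_ite_eq' , if_pos (comp_mem_T hd w), hg, ← mul_assoc, sg_mul_self, one_mul]

/-- The centralizer order attached to a cycle shape. -/
def zz (μ : Multiset ℕ) : ℕ := μ.prod * ∏ r ∈ μ.toFinset, (μ.count r).factorial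

theorem zz_cons (r : ℕ) (μ : Multiset ℕ) : zz (r ::ₘ μ) = r * (μ.count r + 1) * zz μ := by
  unfold zz
  rw [Multiset.prod_cons, Multiset.toFinset_cons]
  have e : ∀ ν : Multiset ℕ, ∏ x ∈ insert r μ.toFinset, (ν.count x).factorial =
      (ν.count r).factorial * ∏ x ∈ μ.toFinset.erase r, (ν.count x).factorial := fun ν => by
    rw [← Finset.mul_prod_erase _ _ (Finset.mem_insert_self r _), Finset.erase_insert_eq_erase]
  have e2 : ∏ x ∈ μ.toFinset, (μ.count x).factorial =
      ∏ x ∈ insert r μ.toFinset, (μ.count x).factorial := by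
    by_cases h : r ∈ μ.toFinset
    · rw [Finset.insert_eq_of_mem h]
    · rw [Finset.prod_insert h, Multiset.count_eq_zero.2 (by simpa using h)]; simp
  rw [e2, e, e, Multiset.count_cons_self, Nat.factorial_succ,
    Finset.prod_congr rfl fun x hx => by rw [Multiset.count_cons_of_ne (ne_of_mem_erase hx)]]
  ring

@[simp] theorem zz_zero : zz 0 = 1 := by simp [zz]

/-- Column orthogonality. -/
theorem sum_F_mul_F {μ ν : Multiset ℕ} (hμ : 0 ∉ μ) (hν : 0 ∉ ν) (hs : ν.sum = μ.sum)
    (hN : μ.sum ≤ Fintype.card ι) :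
    ∑ β ∈ T ι (∑ i, del ι i + μ.sum), F μ β * F ν β =
      if μ = ν then ((Fintype.card ι).factorial : ℂ) * (zz μ : ℂ) else 0 := by
  induction μ using Multiset.induction_on generalizing ν with
  | empty =>
    have : ν = 0 := by
      rw [Multiset.eq_zero_iff_forall_notMem]
      intro a ha
      have := Multiset.single_le_sum (fun x _ => Nat.zero_le x) a ha
      rw [hs, Multiset.sum_zero] at this
      exact hν (by rwa [← Nat.le_zero.1 this])
    subst this
    rw [if_pos rfl, F_zero, sum_alt_mul (mem_T.2 (by simp)) (anti_alt _), alt_self del_injective]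
    simp
  | cons r μ ih =>
    have hr : 0 < r := Nat.pos_of_ne_zero fun h => hμ (h ▸ Multiset.mem_cons_self _ _)
    rw [Multiset.sum_cons] at hs hN
    rw [Multiset.sum_cons, F_cons, add_comm r, ← add_assoc, sum_A_mul, L_F (by omega) hr]
    simp only [Pi.smul_apply, smul_eq_mul]
    by_cases hm : r ∈ ν
    · obtain ⟨ν', rfl⟩ := Multiset.exists_cons_of_mem hm
      rw [Multiset.sum_cons] at hs
      rw [Multiset.erase_cons_head, Finset.sum_congr rfl fun γ _ => mul_left_comm _ _ _,
        ← Finset.mul_sum, ih (fun h => hμ (Multiset.mem_cons_of_mem h))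
          (fun h => hν (Multiset.mem_cons_of_mem h)) (by omega) (by omega)]
      simp only [Multiset.cons_inj_right]
      split_ifs with h
      · subst h; rw [zz_cons, Multiset.count_cons_self]; push_cast; ring
      · simp
    · rw [Multiset.count_eq_zero.2 hm, if_neg (fun h : r ::ₘ μ = ν => hm (h ▸ Multiset.mem_cons_self _ _))]
      simp

end Cfsg.Lib.SymChar
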