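import Cfsg.Agent.Char.SymF
import Cfsg.Agent.Char.Irr
import Mathlib.GroupTheory.Perm.Centralizer
import Mathlib.GroupTheory.Perm.Cycle.PossibleTypes

/-!
# The irreducible characters of the symmetric groups

`chi Ω β` is the class function `σ ↦ F (parts σ) β` of `Perm Ω`.  It is a generalized character;
for an injective tuple `β` of the right degree it is an irreducible character up to sign, and all
irreducible characters arise in this way.
-/

set_option autoImplicit false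

open Equiv Finset MvPolynomial Cfsg Cfsg.Lib.Char
open scoped ComplexConjugate

namespace Cfsg.Lib.SymChar

variable {ι : Type*} [Fintype ι] [DecidableEq ι] {Ω : Type*} [Fintype Ω] [DecidableEq Ω]

/-- The cycle shape of a permutation, fixed points included. -/
def parts (σ : Perm Ω) : Multiset ℕ := σ.partition.parts

theorem parts_def (σ : Perm Ω) :
    parts σ = σ.cycleType + Multiset.replicate (Fintype.card Ω - #σ.support) 1 := rfl

theorem sum_parts (σ : Perm Ω) : (parts σ).sum = Fintype.card Ω := σ.partition.parts_sum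

theorem zero_notMem_parts (σ : Perm Ω) : 0 ∉ parts σ := fun h =>
  lt_irrefl 0 (σ.partition.parts_pos h)

theorem isConj_iff_parts_eq {σ τ : Perm Ω} : IsConj σ τ ↔ parts σ = parts τ := by
  rw [Perm.partition_eq_of_isConj, Nat.Partition.ext_iff]; rfl

theorem parts_one : parts (1 : Perm Ω) = Multiset.replicate (Fintype.card Ω) 1 := by
  simp [parts_def]

theorem one_notMem_cycleType (σ : Perm Ω) : 1 ∉ σ.cycleType := fun h =>
  lt_irrefl 1 (Perm.one_lt_of_mem_cycleType h)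

theorem zz_add_replicate {μ : Multiset ℕ} {r : ℕ} (h : r ∉ μ) (k : ℕ) :
    zz (Multiset.replicate k r + μ) = r ^ k * k.factorial * zz μ := by
  induction k with
  | zero => simp
  | succ k ih =>
    rw [Multiset.replicate_succ, Multiset.cons_add, zz_cons, ih, Multiset.count_add,
      Multiset.count_replicate_self, Multiset.count_eq_zero.2 h, Nat.factorial_succ]
    ring

theorem card_centralizer_eq_zz (σ : Perm Ω) :
    Nat.card (Subgroup.centralizer ({σ} : Set (Perm Ω))) = zz (parts σ) := by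
  rw [Perm.nat_card_centralizer, parts_def, add_comm,
    zz_add_replicate (one_notMem_cycleType σ), Perm.sum_cycleType, zz]
  ring

theorem dvd_orderOf_iff {p : ℕ} (hp : p.Prime) (σ : Perm Ω) :
    p ∣ orderOf σ ↔ ∃ r ∈ parts σ, p ∣ r := by
  constructor
  · intro h
    rw [← Perm.lcm_cycleType] at h
    have : ∀ s : Multiset ℕ, p ∣ s.lcm → ∃ r ∈ s, p ∣ r := by
      intro s
      induction s using Multiset.induction_on with
      | empty => intro h; simp at h; exact absurd h hp.one_lt.ne'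
      | cons a s ih =>
        intro h
        rw [Multiset.lcm_cons] at h
        rcases (Nat.Prime.dvd_mul hp).1 (h.trans (Nat.lcm_dvd_mul a s.lcm)) with h | h
        · exact ⟨a, Multiset.mem_cons_self _ _, h⟩
        · obtain ⟨r, hr, h⟩ := ih h
          exact ⟨r, Multiset.mem_cons_of_mem hr, h⟩
    obtain ⟨r, hr, h⟩ := this _ h
    exact ⟨r, Multiset.mem_add.2 (Or.inl hr), h⟩
  · rintro ⟨r, hr, h⟩
    rcases Multiset.mem_add.1 hr with hr | hr
    · exact h.trans (Perm.dvd_of_mem_cycleType hr)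
    · rw [Multiset.eq_of_mem_replicate hr] at h
      exact absurd (Nat.dvd_one.1 h) hp.one_lt.ne'

theorem exists_parts_eq {μ : Multiset ℕ} (h0 : 0 ∉ μ) (hs : μ.sum = Fintype.card Ω) :
    ∃ σ : Perm Ω, parts σ = μ := by
  have e : μ = μ.filter (fun a => 2 ≤ a) + Multiset.replicate (μ.count 1) 1 := by
    conv_lhs => rw [← Multiset.filter_add_not (fun a => 2 ≤ a) μ]
    congr 1
    rw [← Multiset.filter_eq']
    refine Multiset.filter_congr fun a ha => ?_
    have : a ≠ 0 := fun h => h0 (h ▸ ha)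
    omega
  have hs' : (μ.filter (fun a => 2 ≤ a)).sum + μ.count 1 = Fintype.card Ω := by
    rw [← hs]; conv_rhs => rw [e]
    simp
  obtain ⟨σ, hσ⟩ := (Perm.exists_with_cycleType_iff Ω (m := μ.filter (fun a => 2 ≤ a))).2
    ⟨by omega, fun a ha => (Multiset.mem_filter.1 ha).2⟩
  refine ⟨σ, ?_⟩
  rw [parts_def, ← Perm.sum_cycleType, hσ]
  conv_rhs => rw [e]
  congr 2; omega

theorem sg_eq_parts (σ : Perm Ω) :
    sg σ = (-1) ^ (Fintype.card Ω + Multiset.card (parts σ)) := by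
  have h1 : #σ.support ≤ Fintype.card Ω := Finset.card_le_univ _
  rw [sg, Perm.sign_of_cycleType, parts_def, Perm.sum_cycleType]
  simp only [Multiset.card_add, Multiset.card_replicate]
  have : Fintype.card Ω + (Multiset.card σ.cycleType + (Fintype.card Ω - #σ.support)) =
      (#σ.support + Multiset.card σ.cycleType) + 2 * (Fintype.card Ω - #σ.support) := by omega
  rw [this, pow_add (-1 : ℂ) _ (2 * _), pow_mul]
  simp

/-! ### The power sum product as a sum over invariant colourings -/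

theorem sum_fixed_eq_prod {J : Type*} [Fintype J] [DecidableEq J] (σ : Perm Ω) (π : Ω → J)
    (hs : Function.Surjective π) (hπ : ∀ x y, π x = π y ↔ σ.SameCycle x y) :
    ∑ f ∈ univ.filter (fun f : Ω → ι => f ∘ σ = f), ∏ x, (X (f x) : MvPolynomial ι ℂ) =
      ∏ j, psum ι ℂ #(univ.filter fun x => π x = j) := by
  simp only [psum]
  rw [Finset.prod_univ_sum, Fintype.piFinset_univ]
  symm
  refine Finset.sum_bij (fun g _ => g ∘ π) ?_ ?_ ?_ ?_
  · intro g _
    simp only [Finset.mem_filter, Finset.mem_univ, true_and]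
    funext x
    simp only [Function.comp]
    rw [(hπ (σ x) x).2 (Perm.sameCycle_apply_left.2 (Perm.SameCycle.refl _ _))]
  · intro g _ g' _ h
    exact hs.injective_comp_right h
  · intro f hf
    simp only [Finset.mem_filter, Finset.mem_univ, true_and] at hf
    refine ⟨fun j => f (Function.surjInv hs j), Finset.mem_univ _, ?_⟩
    funext x
    simp only [Function.comp]
    obtain ⟨k, -, hk⟩ := ((hπ _ _).1 (Function.surjInv_eq hs (π x))).exists_pow_eq'
    have : ∀ (k : ℕ) (y : Ω), f ((σ ^ k) y) = f y := by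
      intro k
      induction k with
      | zero => simp
      | succ k ih => intro y; rw [pow_succ', Perm.mul_apply, ← ih y]; exact congrFun hf _
    rw [← this k, hk]
  · intro g _
    rw [← Finset.prod_fiberwise Finset.univ π]
    refine Finset.prod_congr rfl fun j _ => ?_
    rw [← Finset.prod_const]
    exact Finset.prod_congr rfl fun x hx => by rw [Function.comp_apply, (Finset.mem_filter.1 hx).2]

theorem sum_fixed_eq_psum (σ : Perm Ω) :
    ∑ f ∈ univ.filter (fun f : Ω → ι => f ∘ σ = f), ∏ x, (X (f x) : MvPolynomial ι ℂ) =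
      ((parts σ).map (psum ι ℂ)).prod := by
  let π : Ω → σ.cycleFactorsFinset ⊕ {x // x ∉ σ.support} := fun x =>
    if h : x ∈ σ.support then Sum.inl ⟨σ.cycleOf x, Perm.cycleOf_mem_cycleFactorsFinset_iff.2 h⟩
    else Sum.inr ⟨x, h⟩
  have h1 : ∀ (c : σ.cycleFactorsFinset) x, π x = Sum.inl c ↔ x ∈ (c : Perm Ω).support := by
    intro c x
    simp only [π]
    split_ifs with h
    · rw [Sum.inl.injEq, Subtype.ext_iff]
      constructor
      · intro e; rw [← e, Perm.mem_support_cycleOf_iff]; exact ⟨Perm.SameCycle.refl _ _, h⟩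
      · intro e; exact (Perm.cycle_is_cycleOf e c.2).symm
    · simp only [false_iff]
      exact fun e => h (Perm.mem_cycleFactorsFinset_support_le c.2 e)
  have h2 : ∀ (y : {x // x ∉ σ.support}) x, π x = Sum.inr y ↔ x = y := by
    intro y x
    simp only [π]
    split_ifs with h
    · simp only [false_iff]; rintro rfl; exact y.2 h
    · rw [Sum.inr.injEq, Subtype.ext_iff]
  rw [sum_fixed_eq_prod σ π]
  · rw [Fintype.prod_sum_type, parts_def, Multiset.map_add, Multiset.prod_add]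
    congr 1
    · rw [Perm.cycleType_def, Multiset.map_map, ← Finset.prod_eq_multiset_prod,
        ← Finset.prod_coe_sort σ.cycleFactorsFinset]
      refine Finset.prod_congr rfl fun c _ => ?_
      congr 2
      ext x; simp [h1]
    · rw [Multiset.map_replicate, Multiset.prod_replicate,
        Finset.prod_congr rfl (g := fun _ => psum ι ℂ 1), Finset.prod_const, Finset.card_univ,
        Fintype.card_subtype_compl, Fintype.card_coe]
      intro y _
      congr 1
      simp only [h2]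
      rw [Finset.filter_eq' , if_pos (Finset.mem_univ _), Finset.card_singleton]
  · rintro (c | y)
    · obtain ⟨x, hx⟩ := (Perm.mem_cycleFactorsFinset_iff.1 c.2).1.nonempty_support
      exact ⟨x, (h1 c x).2 hx⟩
    · exact ⟨y, (h2 y y).2 rfl⟩
  · intro x y
    by_cases hy : y ∈ σ.support
    · have : π y = Sum.inl ⟨σ.cycleOf y, Perm.cycleOf_mem_cycleFactorsFinset_iff.2 hy⟩ :=
        dif_pos hy
      rw [this, h1, Perm.mem_support_cycleOf_iff]
      exact ⟨fun h => h.1.symm, fun h => ⟨h.symm, hy⟩⟩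
    · have : π y = Sum.inr ⟨y, hy⟩ := dif_neg hy
      rw [this, h2]
      exact ⟨fun h => h ▸ Perm.SameCycle.refl _ _,
        fun h => h.eq_of_right (Perm.notMem_support.1 hy)⟩

/-- The content of a colouring. -/
noncomputable def cont (f : Ω → ι) : ι →₀ ℕ := ∑ x, Finsupp.single (f x) 1

omit [Fintype ι] [DecidableEq ι] [DecidableEq Ω] in
theorem cont_comp (f : Ω → ι) (σ : Perm Ω) : cont (f ∘ σ) = cont f :=
  Equiv.sum_comp σ fun x => Finsupp.single (f x) 1

/-- The colourings of given content. -/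
def Col (Ω : Type*) [Fintype Ω] (α : ι →₀ ℕ) : Type _ := {f : Ω → ι // cont f = α}

instance instFiniteCol (α : ι →₀ ℕ) : Finite (Col Ω α) := by unfold Col; infer_instance

instance instMulActionCol (α : ι →₀ ℕ) : MulAction (Perm Ω) (Col Ω α) where
  smul σ f := ⟨f.1 ∘ (σ⁻¹ : Perm Ω), by rw [cont_comp, f.2]⟩
  one_smul _ := rfl
  mul_smul _ _ _ := rfl

theorem coeff_psum_parts (σ : Perm Ω) (α : ι →₀ ℕ) :
    coeff α ((parts σ).map (psum ι ℂ)).prod = (Nat.card (MulAction.fixedBy (Col Ω α) σ) : ℂ) := by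
  rw [← sum_fixed_eq_psum, coeff_sum]
  have e : ∀ f : Ω → ι, ∏ x, (X (f x) : MvPolynomial ι ℂ) = monomial (cont f) 1 := fun f => by
    rw [cont, monomial_sum_one]; rfl
  simp only [e, coeff_monomial]
  rw [← Finset.sum_filter, Finset.sum_const, nsmul_eq_mul, mul_one, Finset.filter_filter,
    ← Fintype.card_subtype, ← Nat.card_eq_fintype_card]
  congr 1
  refine Nat.card_congr ⟨fun f => ⟨⟨f.1, f.2.2⟩, Subtype.ext ?_⟩, fun f => ⟨f.1.1, ?_, f.1.2⟩,
    fun _ => rfl, fun _ => rfl⟩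
  · change f.1 ∘ (σ⁻¹ : Perm Ω) = f.1
    conv_lhs => rw [← f.2.1]
    funext x; simp
  · have h : f.1.1 ∘ (σ⁻¹ : Perm Ω) = f.1.1 := congrArg Subtype.val f.2
    conv_lhs => rw [← h]
    funext x; simp

/-- The class function of `Perm Ω` attached to the exponent tuple `β`. -/
noncomputable def chi (Ω : Type*) [Fintype Ω] [DecidableEq Ω] (β : ι → ℕ) : Perm Ω → ℂ :=
  fun σ => F (parts σ) β

theorem chi_apply (β : ι → ℕ) (σ : Perm Ω) : chi Ω β σ = F (parts σ) β := rfl

theorem isGeneralizedCharacter_chi (β : ι → ℕ) : IsGeneralizedCharacter (Perm Ω) (chi Ω β) := by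
  have e : chi Ω β = ∑ w : Perm ι, if toF (del ι ∘ w) ≤ toF β then
      (((Perm.sign w : ℤ) : ℂ) • fun σ : Perm Ω =>
        (Nat.card (MulAction.fixedBy (Col Ω (toF β - toF (del ι ∘ w))) σ) : ℂ)) else 0 := by
    funext σ
    rw [chi_apply, F, aDel, Finset.sum_mul, coeff_sum, Finset.sum_apply]
    refine Finset.sum_congr rfl fun w _ => ?_
    rw [coeff_monomial_mul']
    split_ifs
    · rw [coeff_psum_parts]; rfl
    · rfl
  rw [e]
  refine isGeneralizedCharacter_sum _ fun w _ => ?_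
  split_ifs
  · exact (isCharacter_card_fixedBy _ _).isGeneralizedCharacter.intCast_smul _
  · exact isGeneralizedCharacter_zero

theorem isClassFunction_chi (β : ι → ℕ) : IsClassFunction (Perm Ω) (chi Ω β) :=
  (isGeneralizedCharacter_chi β).isClassFunction

theorem conj_chi (β : ι → ℕ) (σ : Perm Ω) : conj (chi Ω β σ) = chi Ω β σ := conj_F _ _

theorem chi_comp (β : ι → ℕ) (w : Perm ι) : chi Ω (β ∘ w) = sg w • chi Ω β := by
  funext σ; exact anti_F _ β w

theorem chi_eq_zero {β : ι → ℕ} (h : ¬ Function.Injective β) : chi Ω β = 0 := by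
  funext σ; exact (anti_F _).eq_zero h

theorem injective_of_chi_ne_zero {β : ι → ℕ} (h : chi Ω β ≠ 0) : Function.Injective β := by
  by_contra h'; exact h (chi_eq_zero h')

/-- The tuples of the degree that belongs to `Perm Ω`. -/
noncomputable abbrev TT (ι : Type*) [Fintype ι] [DecidableEq ι] (Ω : Type*) [Fintype Ω] :
    Finset (ι → ℕ) := T ι (∑ i, del ι i + Fintype.card Ω)

theorem mem_TT_of_chi_ne_zero {β : ι → ℕ} (h : chi Ω β ≠ 0) : β ∈ TT ι Ω := by
  obtain ⟨σ, hσ⟩ := Function.ne_iff.1 h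
  rw [mem_T, sum_eq_of_F_ne_zero hσ, sum_parts]

/-- The coefficient function of a function on `Perm Ω`. -/
noncomputable def cf (ι : Type*) [Fintype ι] [DecidableEq ι] (φ : Perm Ω → ℂ) (β : ι → ℕ) : ℂ :=
  classInner φ (chi Ω β)

theorem anti_cf (φ : Perm Ω → ℂ) : Anti (cf ι φ) := by
  intro β w
  rw [cf, chi_comp, classInner_smul_right, conj_sg, cf]

theorem mem_TT_of_cf_ne_zero {φ : Perm Ω → ℂ} {β : ι → ℕ} (h : cf ι φ β ≠ 0) : β ∈ TT ι Ω :=
  mem_TT_of_chi_ne_zero fun h' => h (by rw [cf, h', classInner_zero_right])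

theorem sum_chi_mul_chi (hN : Fintype.card Ω ≤ Fintype.card ι) (σ τ : Perm Ω) :
    ∑ β ∈ TT ι Ω, chi Ω β σ * chi Ω β τ = ((Fintype.card ι).factorial : ℂ) *
      ∑ ψ : IrrCharacter (Perm Ω), (ψ : Perm Ω → ℂ) σ * conj ((ψ : Perm Ω → ℂ) τ) := by
  have := sum_F_mul_F (ι := ι) (zero_notMem_parts σ) (zero_notMem_parts τ)
    (by rw [sum_parts, sum_parts]) (by rwa [sum_parts])
  rw [sum_parts] at this
  simp only [chi_apply]
  rw [this]
  split_ifs with h
  · rw [sum_irr_mul_conj_of_isConj (isConj_iff_parts_eq.2 h), card_centralizer_eq_zz]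
  · rw [sum_irr_mul_conj_of_not_isConj (fun h' => h (isConj_iff_parts_eq.1 h')), mul_zero]

/-- Expansion of a class function. -/
theorem sum_cf_smul_chi (hN : Fintype.card Ω ≤ Fintype.card ι) {φ : Perm Ω → ℂ}
    (hφ : IsClassFunction (Perm Ω) φ) :
    ∑ β ∈ TT ι Ω, cf ι φ β • chi Ω β = ((Fintype.card ι).factorial : ℂ) • φ := by
  funext σ
  conv_rhs => rw [Pi.smul_apply, hφ.apply_eq_sum_irr σ]
  simp only [Finset.sum_apply, Pi.smul_apply, smul_eq_mul, cf, classInner, conj_chi,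
    Finset.mul_sum, Finset.sum_mul]
  rw [Finset.sum_comm, Finset.sum_comm (s := (Finset.univ : Finset (IrrCharacter (Perm Ω))))]
  refine Finset.sum_congr rfl fun τ _ => ?_
  have := sum_chi_mul_chi (ι := ι) hN σ τ
  rw [Finset.mul_sum] at this
  calc _ = ((Nat.card (Perm Ω) : ℂ)⁻¹ * φ τ) * ∑ β ∈ TT ι Ω, chi Ω β σ * chi Ω β τ := by
        rw [Finset.mul_sum]; exact Finset.sum_congr rfl fun β _ => by ring
    _ = _ := by rw [this, Finset.mul_sum]; exact Finset.sum_congr rfl fun β _ => by ring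

theorem eq_zero_of_cf (hN : Fintype.card Ω ≤ Fintype.card ι) {φ : Perm Ω → ℂ}
    (hφ : IsClassFunction (Perm Ω) φ) (h : ∀ β, cf ι φ β = 0) : φ = 0 := by
  have := sum_cf_smul_chi (ι := ι) hN hφ
  simp only [h, zero_smul, Finset.sum_const_zero] at this
  exact (smul_eq_zero.1 this.symm).resolve_left (Nat.cast_ne_zero.2 (Nat.factorial_ne_zero _))

theorem sum_cf_mul_conj (hN : Fintype.card Ω ≤ Fintype.card ι) {φ : Perm Ω → ℂ}
    (hφ : IsClassFunction (Perm Ω) φ) (ψ : Perm Ω → ℂ) :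
    ∑ β ∈ TT ι Ω, cf ι φ β * conj (cf ι ψ β) =
      ((Fintype.card ι).factorial : ℂ) * classInner φ ψ := by
  rw [← classInner_smul_left, ← sum_cf_smul_chi hN hφ, classInner_sum_left]
  exact Finset.sum_congr rfl fun β _ => by rw [classInner_smul_left, cf, cf, conj_classInner]

section Int

variable {a b : (ι → ℕ) → ℤ} {d : ℕ}

theorem sum_orbit_int (ha : Anti fun β => (a β : ℂ)) (hb : Anti fun β => (b β : ℂ)) {β : ι → ℕ}
    (hβ : Function.Injective β) :
    ∑ γ ∈ univ.image (fun w : Perm ι => β ∘ w), a γ * b γ =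
      ((Fintype.card ι).factorial : ℤ) * (a β * b β) := by
  rw [Finset.sum_image fun v _ w _ h => comp_perm_injective hβ h,
    Finset.sum_congr rfl (g := fun _ => a β * b β)]
  · simp [Fintype.card_perm]
  · intro w _
    have h1 := ha β w
    have h2 := hb β w
    have : ((a (β ∘ w) * b (β ∘ w) : ℤ) : ℂ) = ((a β * b β : ℤ) : ℂ) := by
      push_cast
      simp only at h1 h2
      rw [h1, h2]
      linear_combination (a β * b β : ℂ) * sg_mul_self w
    exact_mod_cast this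

theorem orbit_subset_T {β : ι → ℕ} (hβ : β ∈ T ι d) :
    univ.image (fun w : Perm ι => β ∘ w) ⊆ T ι d := fun γ hγ => by
  obtain ⟨w, -, rfl⟩ := Finset.mem_image.1 hγ
  exact comp_mem_T hβ w

theorem unit_of_sum_sq (ha : Anti fun β => (a β : ℂ))
    (hs : ∑ γ ∈ T ι d, a γ * a γ = ((Fintype.card ι).factorial : ℤ)) {β : ι → ℕ}
    (hβ : β ∈ T ι d) (h0 : a β ≠ 0) :
    a β * a β = 1 ∧ ∀ γ ∈ T ι d, a γ ≠ 0 → ∃ w : Perm ι, γ = β ∘ w := by
  have hinj : Function.Injective β := ha.injective (by exact_mod_cast h0)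
  rw [← Finset.sum_sdiff (orbit_subset_T hβ), sum_orbit_int ha ha hinj] at hs
  have h1 : 0 ≤ ∑ γ ∈ T ι d \ univ.image (fun w : Perm ι => β ∘ w), a γ * a γ :=
    Finset.sum_nonneg fun γ _ => mul_self_nonneg _
  have h2 : 0 < a β * a β := mul_self_pos.2 h0
  have h3 : (0 : ℤ) < (Fintype.card ι).factorial := by exact_mod_cast Nat.factorial_pos _
  have h4 : a β * a β = 1 := by nlinarith
  refine ⟨h4, fun γ hγ hγ0 => ?_⟩
  by_contra hne
  have h5 : ∑ γ ∈ T ι d \ univ.image (fun w : Perm ι => β ∘ w), a γ * a γ = 0 := by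
    rw [h4] at hs; linarith
  rw [Finset.sum_eq_zero_iff_of_nonneg fun γ _ => mul_self_nonneg _] at h5
  refine hγ0 (mul_self_eq_zero.1 (h5 γ (Finset.mem_sdiff.2 ⟨hγ, fun h => hne ?_⟩)))
  obtain ⟨w, -, rfl⟩ := Finset.mem_image.1 h
  exact ⟨w, rfl⟩

end Int

theorem exists_int_cf (ψ : IrrCharacter (Perm Ω)) :
    ∃ a : (ι → ℕ) → ℤ, cf ι (ψ : Perm Ω → ℂ) = fun β => (a β : ℂ) := by
  choose a ha using fun β : ι → ℕ =>
    ψ.2.isGeneralizedCharacter.exists_int_classInner (isGeneralizedCharacter_chi (Ω := Ω) β)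
  exact ⟨a, funext ha⟩

theorem cf_irr_aux (hN : Fintype.card Ω ≤ Fintype.card ι) (ψ : IrrCharacter (Perm Ω)) {β : ι → ℕ}
    (h0 : cf ι (ψ : Perm Ω → ℂ) β ≠ 0) :
    (cf ι (ψ : Perm Ω → ℂ) β = 1 ∨ cf ι (ψ : Perm Ω → ℂ) β = -1) ∧
      (∀ γ, cf ι (ψ : Perm Ω → ℂ) γ ≠ 0 → ∃ w : Perm ι, γ = β ∘ w) ∧
      ∀ ψ' : IrrCharacter (Perm Ω), cf ι (ψ' : Perm Ω → ℂ) β ≠ 0 → ψ' = ψ := by
  obtain ⟨a, ha⟩ := exists_int_cf (ι := ι) ψ
  have hA : Anti fun β => (a β : ℂ) := ha ▸ anti_cf _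
  have hs : ∑ γ ∈ TT ι Ω, a γ * a γ = ((Fintype.card ι).factorial : ℤ) := by
    have := sum_cf_mul_conj (ι := ι) hN ψ.2.isClassFunction (ψ : Perm Ω → ℂ)
    rw [ψ.2.classInner_self, mul_one, ha] at this
    simp only [map_intCast] at this
    exact_mod_cast this
  have hβ := mem_TT_of_cf_ne_zero h0
  have h0' : a β ≠ 0 := by rw [ha] at h0; simpa using h0
  obtain ⟨h1, h2⟩ := unit_of_sum_sq hA hs hβ h0'
  refine ⟨?_, fun γ hγ => h2 γ (mem_TT_of_cf_ne_zero hγ) (by rw [ha] at hγ; simpa using hγ),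
    fun ψ' h' => ?_⟩
  · rw [ha]
    rcases Int.eq_one_or_neg_one_of_mul_eq_one h1 with h | h <;> simp [h]
  · by_contra hne
    obtain ⟨b, hb⟩ := exists_int_cf (ι := ι) ψ'
    have hB : Anti fun β => (b β : ℂ) := hb ▸ anti_cf _
    have hs' : ∑ γ ∈ TT ι Ω, a γ * b γ = 0 := by
      have := sum_cf_mul_conj (ι := ι) hN ψ.2.isClassFunction (ψ' : Perm Ω → ℂ)
      rw [classInner_irr, if_neg (Ne.symm hne), mul_zero, ha, hb] at this
      simp only [map_intCast] at this
      exact_mod_cast this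
    rw [← Finset.sum_sdiff (orbit_subset_T hβ),
      sum_orbit_int hA hB (hA.injective (by exact_mod_cast h0')), Finset.sum_eq_zero, zero_add]
      at hs'
    · have hb0 : b β ≠ 0 := by rw [hb] at h'; simpa using h'
      exact mul_ne_zero (Nat.cast_ne_zero.2 (Nat.factorial_ne_zero _)) (mul_ne_zero h0' hb0) hs'
    · intro γ hγ
      rw [Finset.mem_sdiff] at hγ
      by_contra hγ0
      obtain ⟨w, rfl⟩ := h2 γ hγ.1 (left_ne_zero_of_mul hγ0)
      exact hγ.2 (Finset.mem_image.2 ⟨w, Finset.mem_univ _, rfl⟩)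

/-- `β` labels the irreducible character `ψ`. -/
def Lab (ψ : IrrCharacter (Perm Ω)) (β : ι → ℕ) : Prop :=
  chi Ω β = (ψ : Perm Ω → ℂ) ∨ chi Ω β = -(ψ : Perm Ω → ℂ)

theorem Lab.exists_eq {ψ : IrrCharacter (Perm Ω)} {β : ι → ℕ} (h : Lab ψ β) :
    ∃ e : ℂ, (e = 1 ∨ e = -1) ∧ chi Ω β = e • (ψ : Perm Ω → ℂ) := by
  rcases h with h | h
  · exact ⟨1, Or.inl rfl, by rw [h, one_smul]⟩
  · exact ⟨-1, Or.inr rfl, by rw [h, neg_one_smul]⟩

theorem Lab.exists_eq' {ψ : IrrCharacter (Perm Ω)} {β : ι → ℕ} (h : Lab ψ β) :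
    ∃ e : ℂ, (e = 1 ∨ e = -1) ∧ (ψ : Perm Ω → ℂ) = e • chi Ω β := by
  rcases h with h | h
  · exact ⟨1, Or.inl rfl, by rw [h, one_smul]⟩
  · exact ⟨-1, Or.inr rfl, by rw [h, neg_one_smul, neg_neg]⟩

theorem Lab.chi_ne_zero {ψ : IrrCharacter (Perm Ω)} {β : ι → ℕ} (h : Lab ψ β) : chi Ω β ≠ 0 := by
  rcases h with h | h <;> rw [h]
  · exact ψ.2.ne_zero
  · exact neg_ne_zero.2 ψ.2.ne_zero

theorem Lab.injective {ψ : IrrCharacter (Perm Ω)} {β : ι → ℕ} (h : Lab ψ β) :
    Function.Injective β := injective_of_chi_ne_zero h.chi_ne_zero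

theorem Lab.mem_TT {ψ : IrrCharacter (Perm Ω)} {β : ι → ℕ} (h : Lab ψ β) : β ∈ TT ι Ω :=
  mem_TT_of_chi_ne_zero h.chi_ne_zero

theorem Lab.cf_ne_zero {ψ : IrrCharacter (Perm Ω)} {β : ι → ℕ} (h : Lab ψ β) :
    cf ι (ψ : Perm Ω → ℂ) β ≠ 0 := by
  rcases h with h | h <;> rw [cf, h]
  · rw [ψ.2.classInner_self]; exact one_ne_zero
  · rw [classInner_neg_right, ψ.2.classInner_self]; exact neg_ne_zero.2 one_ne_zero

theorem Lab.comp {ψ : IrrCharacter (Perm Ω)} {β : ι → ℕ} (h : Lab ψ β) (w : Perm ι) :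
    Lab ψ (β ∘ w) := by
  unfold Lab at h ⊢
  rw [chi_comp]
  rcases h with h | h <;> rcases sg_eq w with h' | h' <;> simp [h, h']

theorem lab_of_cf_ne_zero (hN : Fintype.card Ω ≤ Fintype.card ι) {ψ : IrrCharacter (Perm Ω)}
    {β : ι → ℕ} (h0 : cf ι (ψ : Perm Ω → ℂ) β ≠ 0) : Lab ψ β := by
  obtain ⟨h1, -, h3⟩ := cf_irr_aux hN ψ h0
  have e : chi Ω β = conj (cf ι (ψ : Perm Ω → ℂ) β) • (ψ : Perm Ω → ℂ) := by
    conv_lhs => rw [(isClassFunction_chi β).eq_sum_irr]
    rw [Finset.sum_eq_single ψ, cf, conj_classInner]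
    · intro ψ' _ hne
      have : cf ι (ψ' : Perm Ω → ℂ) β = 0 := by by_contra h; exact hne (h3 ψ' h)
      rw [← conj_classInner, ← cf, this, map_zero, zero_smul]
    · simp
  rcases h1 with h | h <;> rw [h] at e
  · left; simpa using e
  · right; simpa using e

theorem lab_iff_cf (hN : Fintype.card Ω ≤ Fintype.card ι) {ψ : IrrCharacter (Perm Ω)}
    {β : ι → ℕ} : Lab ψ β ↔ cf ι (ψ : Perm Ω → ℂ) β ≠ 0 :=
  ⟨Lab.cf_ne_zero, lab_of_cf_ne_zero hN⟩

/-- Every irreducible character has a label. -/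
theorem exists_lab (hN : Fintype.card Ω ≤ Fintype.card ι) (ψ : IrrCharacter (Perm Ω)) :
    ∃ β : ι → ℕ, Lab ψ β := by
  by_contra h
  push Not at h
  exact ψ.2.ne_zero (eq_zero_of_cf (ι := ι) hN ψ.2.isClassFunction fun β => by
    by_contra h'; exact h β (lab_of_cf_ne_zero hN h'))

theorem exists_lab_of_ne_zero (hN : Fintype.card Ω ≤ Fintype.card ι) {β : ι → ℕ}
    (h : chi Ω β ≠ 0) : ∃ ψ : IrrCharacter (Perm Ω), Lab ψ β := by
  obtain ⟨ψ, hψ, h'⟩ := (isClassFunction_chi β).exists_irr_classInner_ne_zero h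
  exact ⟨⟨ψ, hψ⟩, lab_of_cf_ne_zero hN fun h'' => h' (classInner_eq_zero_comm.1 h'')⟩

theorem Lab.exists_perm (hN : Fintype.card Ω ≤ Fintype.card ι) {ψ : IrrCharacter (Perm Ω)}
    {β γ : ι → ℕ} (h : Lab ψ β) (h' : Lab ψ γ) : ∃ w : Perm ι, γ = β ∘ w :=
  (cf_irr_aux hN ψ h.cf_ne_zero).2.1 γ h'.cf_ne_zero

theorem Lab.unique (hN : Fintype.card Ω ≤ Fintype.card ι) {ψ ψ' : IrrCharacter (Perm Ω)}
    {β : ι → ℕ} (h : Lab ψ β) (h' : Lab ψ' β) : ψ' = ψ :=
  (cf_irr_aux hN ψ h.cf_ne_zero).2.2 ψ' h'.cf_ne_zero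

theorem classInner_chi_eq_alt (hN : Fintype.card Ω ≤ Fintype.card ι) {β : ι → ℕ}
    (h : chi Ω β ≠ 0) (γ : ι → ℕ) : classInner (chi Ω β) (chi Ω γ) = alt β γ := by
  obtain ⟨ψ, hψ⟩ := exists_lab_of_ne_zero hN h
  obtain ⟨e, he, hβ⟩ := hψ.exists_eq
  by_cases hγ : ∃ w : Perm ι, γ = β ∘ w
  · obtain ⟨w, rfl⟩ := hγ
    rw [alt_comp hψ.injective, chi_comp, classInner_smul_right, conj_sg, hβ, classInner_smul_left,
      classInner_smul_right, ψ.2.classInner_self]
    rcases he with rfl | rfl <;> simp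
  · have h1 : alt β γ = 0 := by by_contra h'; exact hγ (exists_of_alt_ne_zero h')
    have h2 : cf ι (ψ : Perm Ω → ℂ) γ = 0 := by
      by_contra h'; exact hγ (hψ.exists_perm hN (lab_of_cf_ne_zero hN h'))
    rw [h1, hβ, classInner_smul_left, ← cf, h2, mul_zero]

/-- The adjoint removal rule for coefficient functions: a function vanishing on the permutations
with an `r`-cycle is killed by `L r`. -/
theorem L_cf_eq_zero (hN : Fintype.card Ω ≤ Fintype.card ι) {φ : Perm Ω → ℂ} {r : ℕ} (hr : 0 < r)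
    (h : ∀ σ, r ∈ parts σ → φ σ = 0) : L r (cf ι φ) = 0 := by
  funext β
  simp only [L, cf, classInner, chi_apply, Pi.zero_apply, ← Finset.mul_sum]
  rw [Finset.sum_comm, Finset.sum_eq_zero, mul_zero]
  intro σ _
  rw [← Finset.mul_sum]
  by_cases hσ : r ∈ parts σ
  · rw [h σ hσ, zero_mul]
  · have := congrFun (L_F (ι := ι) (μ := parts σ) (by rwa [sum_parts]) hr) β
    rw [L, Multiset.count_eq_zero.2 hσ] at this
    simp only [conj_F]
    rw [this]; simp

end Cfsg.Lib.SymChar
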