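import Cfsg.Agent.Char.TripleCorr
import Cfsg.Agent.Char.Primitive

/-!
# Primitivity and quasi-primitivity are invariants of character triples
-/

set_option autoImplicit false

open scoped ComplexConjugate
open Cfsg

namespace Cfsg.Lib.Char

/-- A constituent of a character that restricts to a multiple of `θ` lies over `θ`. -/
theorem over_of_constituent {G N : Type*} [Group G] [Group N] [Fintype G] [Fintype N] (f : N →* G)
    {χ ψ : G → ℂ} {θ : N → ℂ} (hχ : IsCharacter G χ) (hθ : IsIrrCharacter N θ) {c : ℂ}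
    (he : ∀ n, χ (f n) = c * θ n) (hψ : IsIrrCharacter G ψ) (hne : classInner χ ψ ≠ 0) :
    classInner (fun n => ψ (f n)) θ ≠ 0 := by
  intro h0
  have h1 := hχ.sub_of_classInner_ne_zero hψ hne
  obtain ⟨τ, hτ, hτ'⟩ := (hψ.isCharacter.comp f).isClassFunction.exists_irr_classInner_ne_zero
    (fun h2 => hψ.apply_one_ne_zero (by simpa using congrFun h2 1))
  have h3 : (fun n => χ (f n)) = (fun n => ψ (f n)) + fun n => (χ - ψ) (f n) := by
    funext n; simp
  have h4 : (fun n => χ (f n)) = c • θ := funext he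
  have hne' : θ ≠ τ := fun h5 => hτ' (h5 ▸ h0)
  have h5 : classInner (fun n => χ (f n)) τ = 0 := by
    rw [h4, classInner_smul_left, hθ.classInner_of_ne hτ hne', mul_zero]
  obtain ⟨a, ha⟩ := (hψ.isCharacter.comp f).exists_nat_classInner hτ.isCharacter
  obtain ⟨c, hc⟩ := (h1.comp f).exists_nat_classInner hτ.isCharacter
  rw [h3, classInner_add_left, ha, hc] at h5
  have h6 : a + c = 0 := by exact_mod_cast h5
  exact hτ' (by rw [ha, (Nat.add_eq_zero_iff.mp h6).1, Nat.cast_zero])

/-- Functions over different linear characters are orthogonal. -/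
theorem LiesOverLin.eq_of_classInner_ne_zero {A K : Type*} [Group A] [Group K] [Fintype K]
    [Finite A] {ι : A →* K} {lam mu : A →* ℂˣ} {β η : K → ℂ} (h : LiesOverLin ι lam β)
    (h' : LiesOverLin ι mu η) (hne : classInner β η ≠ 0) : lam = mu := by
  refine MonoidHom.ext fun a => Units.ext ?_
  have h1 : classInner β η = lam a * conj (mu a : ℂ) * classInner β η := by
    unfold classInner
    rw [mul_left_comm, Finset.mul_sum Finset.univ (fun k => β k * conj (η k)) (_ * _),
      ← Equiv.sum_comp (Equiv.mulLeft (ι a)) (fun k => β k * conj (η k))]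
    congr 1
    refine Finset.sum_congr rfl fun k _ => ?_
    rw [Equiv.coe_mulLeft, h, h', map_mul]
    ring
  have h2 : (lam a : ℂ) * conj (mu a : ℂ) = 1 := (mul_eq_right₀ hne).mp h1.symm
  rw [← monoidHom_apply_inv, ← Units.val_mul, map_inv, Units.val_eq_one, mul_inv_eq_one] at h2
  rw [h2]

/-- An irreducible constituent of a function over `lam` lies over `lam`. -/
theorem LiesOverLin.of_classInner_ne_zero {A K : Type*} [Group A] [Group K] [Fintype K]
    [Finite A] {ι : A →* K} {lam : A →* ℂˣ} {β η : K → ℂ} (h : LiesOverLin ι lam β)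
    (hc : ∀ a k, ι a * k = k * ι a) (hη : IsIrrCharacter K η) (hne : classInner β η ≠ 0) :
    LiesOverLin ι lam η := by
  obtain ⟨mu, hmu⟩ := exists_liesOverLin hc hη
  rwa [h.eq_of_classInner_ne_zero hmu hne]

theorem classInner_res_ne_zero_of_indFun_eq {G : Type*} [Group G] [Fintype G] {H : Subgroup G}
    [Fintype H] {ψ : H → ℂ} {χ : G → ℂ} (hχ : IsIrrCharacter G χ) (h : indFun H ψ = χ) :
    classInner (fun x : H => χ x) ψ ≠ 0 := by
  rw [← classInner_indFun_right H ψ hχ.isClassFunction, h, hχ.classInner_self]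
  exact one_ne_zero

namespace CTriple

variable {N G A K : Type*} [Group N] [Group G] [Group A] [Group K]
  {i : N →* G} {θ : N → ℂ} {ι : A →* K} {lam : A →* ℂˣ} {T : CTriple i θ ι lam}
  {χ : G → ℂ} {β : K → ℂ} {H : Subgroup G} {L : Subgroup K}

/-- Homogeneity of restrictions is preserved. -/
theorem Corr.homogeneous_iff (hc : T.Corr χ β) (hχ : IsIrrCharacter G χ) (h : T.Rel H L) :
    (∃ (φ : H → ℂ) (e : ℕ), IsIrrCharacter H φ ∧ (fun m : H => χ m) = (e : ℂ) • φ) ↔
      ∃ (η : L → ℂ) (e : ℕ), IsIrrCharacter L η ∧ (fun l : L => β l) = (e : ℂ) • η := by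
  have hβ := hc.isIrrCharacter_iff.mp hχ
  constructor
  · rintro ⟨φ, e, hφ, he⟩
    have he0 : (e : ℂ) ≠ 0 := fun h0 => hχ.apply_one_ne_zero (by simpa [h0] using congrFun he 1)
    obtain ⟨η, -, hη⟩ := (restrict h).exists_corr_of_char hφ.isCharacter (e := β 1 / e)
      (fun n => by
        have h1 := congrFun he (i.codRestrict H h.i_mem n)
        simp only [MonoidHom.codRestrict_apply, Pi.smul_apply, smul_eq_mul, hc.apply_i] at h1
        rw [MonoidHom.codRestrict_apply, div_mul_eq_mul_div, eq_div_iff he0, mul_comm _ (e : ℂ),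
          ← h1, mul_comm])
    exact ⟨η, e, hη.isIrrCharacter_iff.mp hφ, ((hc.res h).eq_iff (hη.smul e)).mp he⟩
  · rintro ⟨η, e, hη, he⟩
    have he0 : (e : ℂ) ≠ 0 := fun h0 => hβ.apply_one_ne_zero (by simpa [h0] using congrFun he 1)
    obtain ⟨φ, hφ⟩ := (restrict h).exists_corr_of_liesOver (β := η) (fun a k => by
      apply mul_left_cancel₀ he0
      have h1 := (he ▸ (hc.res h).liesOver :) a k
      simpa only [Pi.smul_apply, smul_eq_mul, mul_left_comm] using h1)
    exact ⟨φ, e, hφ.isIrrCharacter_iff.mpr hη, ((hc.res h).eq_iff (hφ.smul e)).mpr he⟩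

theorem Corr.isRelQuasiPrimitive_iff (hc : T.Corr χ β) (hχ : IsIrrCharacter G χ)
    (h : T.Rel H L) : IsRelQuasiPrimitive H χ ↔ IsRelQuasiPrimitive L β := by
  constructor
  · intro hq U hU hLU
    have h' := T.rel_unstar (L := U) fun a => hLU (h.ι_mem a)
    exact (hc.homogeneous_iff hχ h').mp (hq _ (h'.normal_iff.mpr hU) ((h.le_iff h').mpr hLU))
  · intro hq U hU hHU
    have h' := T.rel_star (H := U) fun n => hHU (h.i_mem n)
    exact (hc.homogeneous_iff hχ h').mpr (hq _ (h'.normal_iff.mp hU) ((h.le_iff h').mp hHU))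

/-- A character inducing `χ` corresponds to a character inducing `β`. -/
theorem Corr.exists_corr_of_indFun_eq [Fintype G] [Fintype K] (hc : T.Corr χ β)
    (hχ : IsIrrCharacter G χ) (h : T.Rel H L) {ψ : H → ℂ} (hψ : IsIrrCharacter H ψ)
    (he : indFun H ψ = χ) :
    ∃ η : L → ℂ, IsIrrCharacter L η ∧ (restrict h).Corr ψ η ∧ indFun L η = β := by
  have := Fintype.ofFinite H
  have := T.finite_N
  have := Fintype.ofFinite N
  obtain ⟨η, hη, hcη⟩ := (restrict h).exists_corr_of_irr hψ
    (over_of_constituent (i.codRestrict H h.i_mem) (hχ.isCharacter.res H) T.irr (c := β 1)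
      (fun n => by rw [MonoidHom.codRestrict_apply, hc.apply_i, mul_comm]) hψ
      (classInner_res_ne_zero_of_indFun_eq hχ he))
  exact ⟨η, hη, hcη, ((Corr.ind h hcη).eq_iff hc).mp he⟩

theorem Corr.exists_corr_of_indFun_eq' [Fintype G] [Fintype K] (hc : T.Corr χ β)
    (hχ : IsIrrCharacter G χ) (h : T.Rel H L) {η : L → ℂ} (hη : IsIrrCharacter L η)
    (he : indFun L η = β) :
    ∃ ψ : H → ℂ, IsIrrCharacter H ψ ∧ (restrict h).Corr ψ η ∧ indFun H ψ = χ := by
  have := Fintype.ofFinite L
  have := T.finite_A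
  obtain ⟨ψ, hψ⟩ := (restrict h).exists_corr_of_liesOver
    ((hc.res h).liesOver.of_classInner_ne_zero (restrict h).central hη
      (classInner_res_ne_zero_of_indFun_eq (hc.isIrrCharacter_iff.mp hχ) he))
  exact ⟨ψ, hψ.isIrrCharacter_iff.mpr hη, hψ, ((Corr.ind h hψ).eq_iff hc).mpr he⟩

theorem Corr.isRelPrimitive_iff [Fintype G] [Fintype K] (hc : T.Corr χ β)
    (hχ : IsIrrCharacter G χ) (h : T.Rel H L) : IsRelPrimitive H χ ↔ IsRelPrimitive L β := by
  constructor
  · intro hp U η hLU hη he
    have h' := T.rel_unstar (L := U) fun a => hLU (h.ι_mem a)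
    obtain ⟨ψ, hψ, -, hψ'⟩ := hc.exists_corr_of_indFun_eq' hχ h' hη he
    exact (h'.eq_iff T.rel_top).mp (hp _ ψ ((h.le_iff h').mpr hLU) hψ hψ')
  · intro hp U ψ hHU hψ he
    have h' := T.rel_star (H := U) fun n => hHU (h.i_mem n)
    obtain ⟨η, hη, -, hη'⟩ := hc.exists_corr_of_indFun_eq hχ h' hψ he
    exact (h'.eq_iff T.rel_top).mpr (hp _ η ((h.le_iff h').mp hHU) hη hη')

/-- The triple isomorphism given by a surjective homomorphism (inflation). -/
def ofSurjective [Finite G] (f : G →* K) (hf : Function.Surjective f) :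
    CTriple f.ker.subtype (fun _ => 1) (⊥ : Subgroup K).subtype 1 where
  Γ := G
  π := MonoidHom.id G
  q := f
  j := f.ker.subtype
  b := 1
  Θ := fun _ => 1
  π_surj := Function.surjective_id
  q_surj := hf
  i_inj := f.ker.subtype_injective
  ι_inj := Subgroup.subtype_injective _
  π_j := fun _ => rfl
  q_b := fun a => by simp [Subgroup.mem_bot.mp a.2]
  range_j := f.ker.range_subtype
  range_b := by simp
  central := fun a k => by simp [Subgroup.mem_bot.mp a.2]
  isChar := isCharacter_one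
  irr := isIrrCharacter_one
  Θ_j := fun _ => rfl
  Θ_b := fun _ _ => by simp

theorem ofSurjective_corr [Finite G] (f : G →* K) (hf : Function.Surjective f) (β : K → ℂ) :
    (ofSurjective f hf).Corr (fun g => β (f g)) β := fun γ => (one_mul _).symm

theorem ofSurjective_rel [Finite G] (f : G →* K) (hf : Function.Surjective f) (L : Subgroup K) :
    (ofSurjective f hf).Rel (L.comap f) L := fun _ => Iff.rfl

end CTriple

section Surj

variable {G K : Type*} [Group G] [Group K]

theorem isRelPrimitive_comp_iff [Fintype G] [Fintype K] (f : G →* K) (hf : Function.Surjective f)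
    {β : K → ℂ} (hβ : IsIrrCharacter K β) (L : Subgroup K) :
    IsRelPrimitive (L.comap f) (fun g => β (f g)) ↔ IsRelPrimitive L β :=
  (CTriple.ofSurjective_corr f hf β).isRelPrimitive_iff (hβ.comp_of_surjective f hf)
    (CTriple.ofSurjective_rel f hf L)

theorem isRelQuasiPrimitive_comp_iff [Finite G] (f : G →* K) (hf : Function.Surjective f)
    {β : K → ℂ} (hβ : IsIrrCharacter K β) (L : Subgroup K) :
    IsRelQuasiPrimitive (L.comap f) (fun g => β (f g)) ↔ IsRelQuasiPrimitive L β :=
  (CTriple.ofSurjective_corr f hf β).isRelQuasiPrimitive_iff (hβ.comp_of_surjective f hf)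
    (CTriple.ofSurjective_rel f hf L)

theorem IsRelPrimitive.mono [Fintype G] {N M : Subgroup G} {χ : G → ℂ} (h : IsRelPrimitive N χ)
    (hNM : N ≤ M) : IsRelPrimitive M χ := fun T ζ hT => h T ζ (hNM.trans hT)

theorem IsRelQuasiPrimitive.mono {N M : Subgroup G} {χ : G → ℂ} (h : IsRelQuasiPrimitive N χ)
    (hNM : N ≤ M) : IsRelQuasiPrimitive M χ := fun T hT hMT => h T hT (hNM.trans hMT)

/-- The factors of an irreducible product are irreducible. -/
theorem isIrrCharacter_of_mul_left [Finite G] {α γ : G → ℂ} (hα : IsCharacter G α)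
    (hγ : IsCharacter G γ) (h : IsIrrCharacter G (α * γ)) : IsIrrCharacter G α := by
  have := Fintype.ofFinite G
  have h0 : α ≠ 0 := fun h0 => h.ne_zero (by rw [h0, zero_mul])
  obtain ⟨τ, hτ, hτ'⟩ := hα.isClassFunction.exists_irr_classInner_ne_zero h0
  have h1 := hα.sub_of_classInner_ne_zero hτ hτ'
  have hγ1 : γ 1 ≠ 0 := fun h2 => h.apply_one_ne_zero (by simp [h2])
  rcases h.eq_zero_or_eq_zero_of_eq_add (hτ.isCharacter.mul hγ) (h1.mul hγ) (by ring) with h2 | h2
  · exact absurd (congrFun h2 1) (mul_ne_zero hτ.apply_one_ne_zero hγ1)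
  · have h3 := h1.eq_zero_of_apply_one ((mul_eq_zero.mp (congrFun h2 1)).resolve_right hγ1)
    rwa [sub_eq_zero.mp h3]

/-- The factors of a primitive product are primitive. -/
theorem IsRelPrimitive.of_mul_left [Fintype G] {N : Subgroup G} {α γ : G → ℂ}
    (hγ : IsCharacter G γ) (hirr : IsIrrCharacter G (α * γ)) (h : IsRelPrimitive N (α * γ)) :
    IsRelPrimitive N α := by
  intro T ζ hT hζ he
  have h1 : indFun T (fun t => ζ t * γ t) = α * γ := by
    rw [indFun_mul_res T ζ hγ.isClassFunction, he]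
  exact h T _ hT (isIrrCharacter_of_indFun (hζ.isCharacter.mul (hγ.res T)) (h1 ▸ hirr)) h1

end Surj

end Cfsg.Lib.Char
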