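import Cfsg.Agent.Trans.GenFitting
import Cfsg.Agent.Trans.Tate
import Cfsg.Agent.Trans.CentralTransfer
import Cfsg.Agent.Solv.TransOrderP
import Cfsg.Agent.Solv.CoprimeAbelian
import Cfsg.Agent.Solv.Subnormal
import Cfsg.Agent.S4145

/-! # Groups with a two-generated non-abelian Sylow subgroup (Navarro–Sambale) -/

set_option autoImplicit false

namespace Cfsg.Lib.Char

open Subgroup Cfsg.Lib.Solv Cfsg.Lib.Trans
open scoped Pointwise

variable {G : Type*} [Group G] [Finite G] {p : ℕ} [hp : Fact p.Prime]

theorem isCyclic_of_not_ker_le {H : Type*} [Group H] (hG : IsPGroup p G)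
    (h2 : (frattini G).index = p ^ 2) (f : G →* H) (hf : Function.Surjective f)
    (h : ¬ f.ker ≤ frattini G) : IsCyclic H := by
  have := Finite.of_surjective f hf
  rw [isCyclic_iff_index_frattini_le (hG.of_surjective f hf),
    ← map_frattini_of_surjective_of_isPGroup hG hf, index_map, f.range_eq_top_of_surjective hf,
    index_top, mul_one]
  obtain ⟨i, hi, e⟩ := (Nat.dvd_prime_pow hp.out).1
    (h2 ▸ index_dvd_of_le (le_sup_left : frattini G ≤ frattini G ⊔ f.ker))
  have : i ≠ 2 := by
    rintro rfl
    have h3 := relIndex_mul_index (le_sup_left : frattini G ≤ frattini G ⊔ f.ker)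
    rw [e, h2, mul_eq_right₀ (pow_ne_zero 2 hp.out.ne_zero), relIndex_eq_one] at h3
    exact h (le_sup_right.trans h3)
  rw [e]
  exact (Nat.pow_le_pow_right hp.out.pos (by omega)).trans_eq (pow_one p)

theorem isPGroup_of_inf_le_frattini (P : Sylow p G) (hcore : pPrimeCore p G = ⊥) {N : Subgroup G}
    (hN : N.IsSubnormal) (hP : (P : Subgroup G) ≤ normalizer (N : Set G))
    (h : N ⊓ P ≤ (frattini P).map (P : Subgroup G).subtype) : IsPGroup p N := by
  have hn := (normal_subgroupOf_iff_le_normalizer (le_sup_left : N ≤ N ⊔ P)).2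
    (sup_le le_normalizer hP)
  have h1 := hasNormalPComplement_of_inf_le_frattini (P.subtype (le_sup_right : _ ≤ N ⊔ P))
    (N.subgroupOf (N ⊔ P)) (by
      rw [← map_le_map_iff_of_injective (subtype_injective _),
        map_frattini_map_subtype_of_injective _ (subtype_injective _), Sylow.coe_subtype,
        map_subgroupOf_eq_of_le le_sup_right]
      rintro _ ⟨x, hx, rfl⟩
      exact h hx)
  rw [hasNormalPComplement_subgroupOf_iff le_sup_left, hasNormalPComplement_iff_coprime] at h1
  rw [← pResidual_eq_bot_iff, ← map_eq_bot_iff_of_injective _ N.subtype_injective, eq_bot_iff,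
    ← hcore]
  exact le_pPrimeCore_of_isSubnormal ((SubnormalIn.of_le_normalizer (map_subtype_le _)
    (le_normalizer_map_subtype _)).isSubnormal hN) (by rwa [card_map_subtype])

theorem commutator_le_of_not_le {P N : Subgroup G} (hP : IsPGroup p P)
    (h2 : (frattini P).index = p ^ 2) (hn : P ≤ normalizer (N : Set G))
    (h : ¬ N ⊓ P ≤ (frattini P).map P.subtype) : ⁅P, P⁆ ≤ N := by
  have := normal_subgroupOf_of_le_normalizer hn
  have := isCyclic_of_not_ker_le hP h2 _ (QuotientGroup.mk'_surjective (N.subgroupOf P)) fun h' => h (by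
    rw [QuotientGroup.ker_mk'] at h'
    rw [← subgroupOf_map_subtype]; exact map_mono h')
  rw [← Subgroup.map_subtype_commutator, map_le_iff_le_comap]
  exact (Normal.quotient_commutative_iff_commutator_le (N := N.subgroupOf P)).1 this.isMulCommutative

/-- The structure theorem. -/
theorem two_gen_sylow (P : Sylow p G) (hna : ¬ IsMulCommutative (P : Subgroup G))
    (hgen : (frattini (P : Subgroup G)).index = p ^ 2) (hcore : pPrimeCore p G = ⊥)
    (hfrat : ((frattini (P : Subgroup G)).map (P : Subgroup G).subtype).normalCore = ⊥) :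
    (generalizedFittingSubgroup G ≠ ⊥ ∧
      ∀ K : Subgroup G, K.Normal → K ≠ ⊥ → generalizedFittingSubgroup G ≤ K) ∧
      ¬ generalizedFittingSubgroup G ⊓ P ≤ (frattini P).map (P : Subgroup G).subtype ∧
      ∀ K L : Subgroup G, IsComponent K → IsComponent L →
        ∃ x ∈ (P : Subgroup G), L = K.map (MulAut.conj x).toMonoidHom := by
  have hP := P.isPGroup'
  have hP' : ⁅(P : Subgroup G), (P : Subgroup G)⁆ ≠ ⊥ := fun h =>
    hna (le_centralizer_iff_isMulCommutative.1 (commutator_eq_bot_iff_le_centralizer.1 h))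
  have h0 : ∀ N : Subgroup G, N.Normal → N ≤ (frattini P).map (P : Subgroup G).subtype → N = ⊥ :=
    fun N _ h => eq_bot_iff.2 (hfrat ▸ normal_le_normalCore.2 h)
  have h1 : ∀ N : Subgroup G, N.Normal → N ≠ ⊥ →
      ¬ N ⊓ P ≤ (frattini P).map (P : Subgroup G).subtype := fun N hN hne h => hne (h0 N hN (by
    have := (le_pCore hN (isPGroup_of_inf_le_frattini P hcore hN.isSubnormal
      le_normalizer_of_normal h)).trans (pCore_le_sylow P)
    rwa [inf_of_le_left this] at h))
  set N := normalClosure ((⁅(P : Subgroup G), (P : Subgroup G)⁆ : Subgroup G) : Set G)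
  have hN0 : N ≠ ⊥ := fun h => hP' (eq_bot_iff.2 (h ▸ le_normalClosure))
  have hN : ∀ K : Subgroup G, K.Normal → K ≠ ⊥ → N ≤ K := fun K hK h =>
    normalClosure_le_normal (commutator_le_of_not_le hP hgen le_normalizer_of_normal (h1 K hK h))
  have hF0 : generalizedFittingSubgroup G ≠ ⊥ := fun h =>
    hN0 (by have := genFitting_eq_bot_iff.1 h; exact Subsingleton.elim _ _)
  have hQP := pCore_le_sylow P
  have hE : layer G ≠ ⊥ → pCore p G = ⊥ := fun hE => by
    by_contra hQ
    refine h1 N inferInstance hN0 (inf_le_left.trans (le_trans ?_ (commutator_le_map_frattini hP)))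
    have h2 := map_mono (f := (layer G).subtype)
      (center_inf_commutator_inf_sylow_le (sylowInfNormal P (layer G)))
    rw [map_commutator, coe_sylowInfNormal, subgroupOf_map_subtype] at h2
    refine le_trans (fun x hx => ?_) (h2.trans (commutator_mono inf_le_left inf_le_left))
    have hx1 := hN _ inferInstance hE hx
    have hx2 := hN _ inferInstance hQ hx
    refine ⟨⟨x, hx1⟩, ⟨⟨mem_center_iff.2 fun g => Subtype.ext ?_, ?_⟩, hQP hx2⟩, rfl⟩
    · exact (commutator_eq_bot_iff_le_centralizer.1 (commutator_layer_pCore p G) g.2 x hx2).symm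
    · have : _root_.commutator (layer G) = ⊤ := map_injective (layer G).subtype_injective (by
        rw [Subgroup.map_subtype_commutator, layer_perfect, ← MonoidHom.range_eq_map, range_subtype])
      exact this ▸ mem_top _
  have hZ : layer G ≠ ⊥ → ∀ X : Subgroup G, X ≤ layer G → X ≤ centralizer (layer G : Set G) →
      X = ⊥ := fun h X a b => eq_bot_iff.2 (hE h ▸ le_pCore_of_commutator_eq_bot hcore
    (commutator_eq_bot_iff_le_centralizer.2 b) (by rw [hE h, commutator_bot_right]))
  suffices h : generalizedFittingSubgroup G ≤ N by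
    refine ⟨⟨hF0, fun K a b => h.trans (hN K a b)⟩, h1 _ inferInstance hF0, fun K L hK hL => ?_⟩
    by_contra! hc
    let q : Subgroup G → Prop := fun M => ∃ x ∈ (P : Subgroup G), M = MulAut.conj x • K
    have key : ∀ S : Set (Subgroup G), (∀ M ∈ S, IsComponent M) → S.Nonempty →
        (∀ g ∈ (P : Subgroup G), ∀ U ∈ S, MulAut.conj g • U ∈ S) →
        ⁅(P : Subgroup G), (P : Subgroup G)⁆ ≤ sSup S := fun S a ⟨M, hM⟩ c =>
      commutator_le_of_not_le hP hgen (le_normalizer_sSup c) fun h => by
        have := (isPGroup_of_inf_le_frattini P hcore (isSubnormal_sSup_components a)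
          (le_normalizer_sSup c) h).isNilpotent
        exact IsComponent.not_le_of_isSolvable (a M hM) inferInstance (le_sSup hM)
    have e1 := key {M | IsComponent M ∧ q M} (fun _ h => h.1) ⟨K, hK, 1, one_mem _, by simp⟩ (by
      rintro g hg _ ⟨a, x, hx, rfl⟩
      exact ⟨IsComponent.conj_smul a g, g * x, mul_mem hg hx, conj_smul_conj_smul ..⟩)
    have e2 := key {M | IsComponent M ∧ ¬ q M} (fun _ h => h.1) ⟨L, hL, fun ⟨x, a, b⟩ => hc x a b⟩ (by
      rintro g hg U ⟨a, b⟩
      exact ⟨IsComponent.conj_smul a g, fun ⟨x, hx, e⟩ => b ⟨g⁻¹ * x, mul_mem (inv_mem hg) hx, by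
        rw [conj_mul_smul, ← e, conj_inv_smul_conj_smul]⟩⟩)
    have e3 := commutator_eq_bot_iff_le_centralizer.1 (commutator_sSup_components_eq_bot q)
    refine hP' (hZ (fun h => IsComponent.ne_bot hK (eq_bot_iff.2 (h ▸ IsComponent.le_layer hK))) _
      (e1.trans (le_sup_left.trans (layer_eq_sup q).ge)) (le_centralizer_iff.1 ?_))
    rw [layer_eq_sup q]
    exact sup_le (e3.trans (centralizer_le e2)) ((le_centralizer_iff.1 e3).trans (centralizer_le e1))
  rw [genFitting_eq_layer_sup_pCore hcore]
  by_cases hL : layer G = ⊥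
  swap
  · rw [hE hL, sup_bot_eq, layer_le_iff]
    refine fun K hK => (IsComponent.le_or_commutator_eq_bot hK
      (Normal.isSubnormal inferInstance)).resolve_right fun h => ?_
    have h2 := hN (centralizer (N : Set G)) inferInstance fun e => IsComponent.ne_bot hK
      (eq_bot_iff.2 (e ▸ commutator_eq_bot_iff_le_centralizer.1 h))
    have := le_centralizer_iff_isMulCommutative.1 h2
    exact hN0 (hZ hL N (hN _ inferInstance hL) (commutator_eq_bot_iff_le_centralizer'.1
      (commutator_layer_eq_bot_of_normal_isSolvable 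
        (haveI := isNilpotent_of_isMulCommutative N; inferInstance))))
  rw [hL, bot_sup_eq]
  by_contra hQN
  have hC := genFitting_eq_pCore_iff.1 (genFitting_eq_pCore_iff'.2 ⟨hL, hcore⟩)
  have hQ : IsMulCommutative (pCore p G) := le_centralizer_iff_isMulCommutative.1
    (commutator_eq_bot_iff_le_centralizer.1 (h0 _ inferInstance
      ((commutator_mono hQP hQP).trans (commutator_le_map_frattini hP))))
  have hNQ := hN (pCore p G) inferInstance fun e => hQN (e ▸ bot_le)
  obtain ⟨H, a, b, c⟩ := exists_complement_pCore_frattini G p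
  have hcop := coprime_card_of_isPGroup (pCore_isPGroup p G) a
  let π := QuotientGroup.mk' N
  have hπ := QuotientGroup.mk'_surjective N
  let X := (pPrimeCore p (G ⧸ pCore p G)).comap (QuotientGroup.mk' (pCore p G))
  have hQX : pCore p G ≤ X := (QuotientGroup.ker_mk' _).ge.trans (ker_le_comap _ _)
  have hXn := Normal.map (inferInstance : X.Normal) π hπ
  have hPX : ¬ (P : Subgroup G) ≤ X := fun h => by
    have h2 := inf_eq_bot_of_coprime_of_isPGroup (coprime_card_pPrimeCore p (G ⧸ pCore p G))
      (hP.map (QuotientGroup.mk' (pCore p G)))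
    rw [inf_of_le_right (map_le_iff_le_comap.2 h), Subgroup.map_eq_bot_iff, QuotientGroup.ker_mk'] at h2
    exact hna (le_antisymm h2 hQP ▸ hQ)
  have hQ' := (pCore_isPGroup p G).map π
  obtain ⟨d, e⟩ := Agent.S4145.result p (P.mapSurjective hπ)
    (isCyclic_of_not_ker_le hP hgen _ (π.subgroupMap_surjective P) fun h => h1 N inferInstance hN0
      fun x hx => ⟨⟨x, hx.2⟩, h (Subtype.ext ((QuotientGroup.eq_one_iff x).2 hx.1)), rfl⟩)
    (X.map π) (by
      obtain ⟨z, hz, hzp⟩ := PG.exists_orderOf_eq_prime hQ' fun h => hQN (by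
        rwa [Subgroup.map_eq_bot_iff, QuotientGroup.ker_mk'] at h)
      exact hzp.symm.dvd.trans (orderOf_dvd_natCard _ (map_mono hQX hz))) (by
      rw [index_map_eq _ hπ ((QuotientGroup.ker_mk' N).trans_le (hNQ.trans hQX))]
      by_contra h
      refine hPX ((QuotientGroup.ker_mk' X).le.trans' ((Subgroup.map_eq_bot_iff _).1 ?_))
      exact card_eq_one.1 ((hP.map _).card_eq_or_dvd.resolve_right
        fun h' => h (h'.trans (card_subgroup_dvd_card _))))
  have hG := IsPSolvable.extension N (.of_isPGroup ((pCore_isPGroup p G).to_le hNQ)) e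
  have hn : ∀ Y : Subgroup G, Y ≤ pCore p G → normalizer (H : Set G) ≤ normalizer (Y : Set G) →
      Y.Normal := fun Y h h' => normalizer_eq_top_iff.1 (top_unique (c.ge.trans (sup_le h'
    ((le_centralizer _).trans ((centralizer_le h).trans (centralizer_le_normalizer _))))))
  have h3 := Coprime.centralizer_inf_commutator_eq_bot (V := pCore p G) le_normalizer_of_normal hcop.symm
  have h4 := Coprime.centralizer_sup_commutator_of_comm (V := pCore p G) le_normalizer_of_normal hcop.symm
  have h5 : ⁅pCore p G, H⁆ ≤ N := commutator_le.2 fun x hx y hy => by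
    rw [← QuotientGroup.eq_one_iff, ← QuotientGroup.mk'_apply, map_commutatorElement,
      commutatorElement_eq_one_iff_mul_comm]
    exact mem_centralizer_of_hasNormalPComplement_subgroup d hQ' (map_mono hQX)
      (mem_map_of_mem π (show y ∈ X from b.le (mem_map_of_mem _ hy)))
      (map_mono (le_normalizer_of_normal (H := pCore p G)) |>.trans (le_normalizer_map π)
        (mem_map_of_mem π (mem_top y)))
      (a.coprime_dvd_left ((orderOf_map_dvd π y).trans (orderOf_dvd_natCard _ hy))) _
      (mem_map_of_mem π hx)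
  by_cases h6 : ⁅pCore p G, H⁆ = ⊥
  · have h7 : H = ⊥ := by
      rw [← inf_eq_bot_of_coprime_card hcop, inf_of_le_right
        ((commutator_eq_bot_iff_le_centralizer'.1 h6).trans hC)]
    rw [h7, Subgroup.map_bot] at b
    have h8 := IsPSolvable.eq_bot_of_cores (K := ⊤) ((hG.quotient (pCore p G)).subgroup ⊤)
      (pCore_quotient_pCore p G) b.symm
    exact hPX fun x _ => by
      rw [mem_comap, ← b, ← h8]; trivial
  · have h7 := hN _ (hn _ (commutator_le_left _ _)
      (le_normalizer_commutator le_normalizer_of_normal le_rfl)) h6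
    have h8 : pCore p G ⊓ centralizer (H : Set G) = ⊥ := by
      by_contra h
      exact hN0 (eq_bot_iff.2 (h3 ▸ le_inf (hN _ (hn _ inf_le_left
        (le_normalizer_inf_centralizer le_normalizer_of_normal le_rfl)) h) h7))
    rw [h8, bot_sup_eq] at h4
    exact hQN (h4 ▸ h5)

end Cfsg.Lib.Char
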