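import Mathlib.GroupTheory.GroupAction.Jordan
import Mathlib.GroupTheory.SpecificGroups.Alternating
import Mathlib.GroupTheory.Perm.Fin
import Mathlib.Tactic

/-! The stabiliser of a uniform partition in the symmetric and alternating groups. -/

set_option autoImplicit false

namespace Cfsg.Lib.Char.Wreath

open Equiv Equiv.Perm

variable {Ω ι : Type*}

/-- The stabiliser of the partition of `Ω` into the fibres of `f`. -/
def partStab (f : Ω → ι) : Subgroup (Perm Ω) where
  carrier := {g | ∀ x y : Ω, f x = f y ↔ f (g x) = f (g y)}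
  one_mem' := fun _ _ => Iff.rfl
  mul_mem' := fun {g h} hg hh x y => (hh x y).trans (hg _ _)
  inv_mem' := fun {g} hg x y => by
    have := hg (g⁻¹ x) (g⁻¹ y)
    simpa using this.symm

theorem closure_eq (f : Ω → ι) :
    Subgroup.closure {g : Perm Ω | ∀ x y : Ω, f x = f y ↔ f (g x) = f (g y)} = partStab f :=
  Subgroup.closure_eq (partStab f)

theorem mem_partStab {f : Ω → ι} {g : Perm Ω} :
    g ∈ partStab f ↔ ∀ x y : Ω, f x = f y ↔ f (g x) = f (g y) := Iff.rfl

theorem mem_of_lift {f : Ω → ι} {g : Perm Ω} (σ : Perm ι) (h : ∀ z, f (g z) = σ (f z)) :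
    g ∈ partStab f := fun x y => by rw [h, h, σ.injective.eq_iff]

theorem apply_swap [DecidableEq Ω] {f : Ω → ι} {x y : Ω} (h : f x = f y) (z : Ω) :
    f (swap x y z) = f z := by
  rw [swap_apply_def]; split_ifs with h1 h2
  · rw [h1, h]
  · rw [h2, h]
  · rfl

theorem swap_mem [DecidableEq Ω] {f : Ω → ι} {x y : Ω} (h : f x = f y) : swap x y ∈ partStab f :=
  mem_of_lift 1 fun z => apply_swap h z

/-- A uniform partition is a product. -/
theorem exists_equiv [Finite Ω] {a : ℕ} {f : Ω → ι} (hf : ∀ i, Nat.card {x : Ω // f x = i} = a) :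
    ∃ e : Ω ≃ ι × Fin a, ∀ x, (e x).1 = f x := by
  have e : ∀ i, {x : Ω // f x = i} ≃ Fin a := fun i => Finite.equivFinOfCardEq (hf i)
  exact ⟨(Equiv.sigmaFiberEquiv f).symm.trans ((Equiv.sigmaCongrRight e).trans
    (Equiv.sigmaEquivProd _ _)), fun x => rfl⟩

theorem exists_lift [Finite Ω] {a : ℕ} {f : Ω → ι} (hf : ∀ i, Nat.card {x : Ω // f x = i} = a)
    (σ : Perm ι) : ∃ g : Perm Ω, ∀ z, f (g z) = σ (f z) := by
  obtain ⟨e, he⟩ := exists_equiv hf
  refine ⟨e.trans ((Equiv.prodCongr σ (Equiv.refl _)).trans e.symm), fun z => ?_⟩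
  rw [← he, ← he z]; simp

theorem exists_fibre [Finite Ω] {a : ℕ} {f : Ω → ι} (hf : ∀ i, Nat.card {x : Ω // f x = i} = a)
    (s : Finset Ω) (hs : s.card < a) (i : ι) : ∃ x, f x = i ∧ x ∉ s := by
  classical
  by_contra! h
  have : Nat.card {x : Ω // f x = i} ≤ Nat.card s :=
    Nat.card_le_card_of_injective (fun x => ⟨x.1, h x.1 x.2⟩)
      (fun x y hxy => Subtype.ext (by simpa using hxy))
  rw [hf, Nat.card_eq_fintype_card, Fintype.card_coe] at this
  omega

theorem exists_two [Finite Ω] {a : ℕ} (ha : 2 ≤ a) {f : Ω → ι}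
    (hf : ∀ i, Nat.card {x : Ω // f x = i} = a) (i : ι) : ∃ u v, u ≠ v ∧ f u = i ∧ f v = i := by
  obtain ⟨u, hu, -⟩ := exists_fibre hf ∅ (by simp; omega) i
  obtain ⟨v, hv, h⟩ := exists_fibre hf {u} (by simp; omega) i
  exact ⟨u, v, fun e => h (by simp [e]), hu, hv⟩

theorem exists_perm_two [DecidableEq ι] {i j k l : ι} (h : i ≠ j) (h' : k ≠ l) :
    ∃ σ : Perm ι, σ i = k ∧ σ j = l := by
  refine ⟨swap (swap i k j) l * swap i k, ?_, by simp⟩
  have : swap i k j ≠ k := fun e => h ((swap i k).injective (by rw [e]; simp))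
  simp [swap_apply_of_ne_of_ne this.symm h']

/-- The partition stabiliser is transitive on pairs of points of the same type. -/
theorem exists_pair [Finite Ω] [DecidableEq Ω] {a : ℕ} {f : Ω → ι}
    (hf : ∀ i, Nat.card {x : Ω // f x = i} = a) {x y u v : Ω} (hxy : x ≠ y) (huv : u ≠ v)
    (h : f x = f y ↔ f u = f v) : ∃ g ∈ partStab f, g x = u ∧ g y = v := by
  classical
  obtain ⟨σ, h1, h2⟩ : ∃ σ : Perm ι, σ (f x) = f u ∧ σ (f y) = f v := by
    by_cases e : f x = f y
    · exact ⟨swap (f x) (f u), by simp, by rw [← e, ← h.1 e]; simp⟩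
    · exact exists_perm_two e (fun e' => e (h.2 e'))
  obtain ⟨g, hg⟩ := exists_lift hf σ
  have e1 : f (g x) = f u := by rw [hg, h1]
  have e2 : f (swap (g x) u (g y)) = f v := by rw [apply_swap e1, hg, h2]
  refine ⟨swap (swap (g x) u (g y)) v * (swap (g x) u * g), mul_mem (swap_mem e2)
    (mul_mem (swap_mem e1) (mem_of_lift σ hg)), ?_, by simp⟩
  have : swap (g x) u (g y) ≠ u := fun e =>
    hxy (g.injective ((swap (g x) u).injective (by rw [e]; simp)))
  simp [swap_apply_of_ne_of_ne this.symm huv]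

/-- The even version of `exists_pair`. -/
theorem exists_pair_even [Fintype Ω] [DecidableEq Ω] {a b : ℕ} (ha : 2 ≤ a) (hb : 2 ≤ b)
    (hab : 3 ≤ a ∨ 3 ≤ b) {f : Ω → Fin b}
    (hf : ∀ i, Nat.card {x : Ω // f x = i} = a) {x y u v : Ω} (hxy : x ≠ y) (huv : u ≠ v)
    (h : f x = f y ↔ f u = f v) :
    ∃ g ∈ partStab f ⊓ alternatingGroup Ω, g x = u ∧ g y = v := by
  obtain ⟨g, hg, h1, h2⟩ := exists_pair hf hxy huv h
  obtain ⟨p, q, hpq, e, hp, hq⟩ : ∃ p q, p ≠ q ∧ f p = f q ∧ (u ≠ p ∧ v ≠ p) ∧ (u ≠ q ∧ v ≠ q) := by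
    by_cases hi : ∃ i, i ≠ f u ∧ i ≠ f v
    · obtain ⟨i, h1, h2⟩ := hi
      obtain ⟨p, q, hpq, hp, hq⟩ := exists_two ha hf i
      refine ⟨p, q, hpq, hp.trans hq.symm, ⟨?_, ?_⟩, ?_, ?_⟩ <;> rintro rfl <;> simp_all
    · push Not at hi
      have hb3 : ¬ 3 ≤ b := fun h3 => by
        have : (Finset.univ : Finset (Fin b)) ⊆ {f u, f v} := fun i _ => by
          by_cases h : i = f u
          · simp [h]
          · simp [hi i h]
        have h4 := (Finset.card_le_card this).trans Finset.card_le_two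
        simp at h4; omega
      have hne : f u ≠ f v := fun e => by
        have : (Finset.univ : Finset (Fin b)) ⊆ {f u} := fun i _ => by
          by_cases h : i = f u
          · simp [h]
          · simp [hi i h, e]
        have h4 := Finset.card_le_card this
        simp at h4; omega
      have ha3 : 3 ≤ a := hab.resolve_right hb3
      obtain ⟨p, hp, hp'⟩ := exists_fibre hf {u} (by simp; omega) (f u)
      obtain ⟨q, hq, hq'⟩ := exists_fibre hf {u, p} (Finset.card_le_two.trans_lt ha3) (f u)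
      simp only [Finset.mem_singleton, Finset.mem_insert, not_or] at hp' hq'
      exact ⟨p, q, Ne.symm hq'.2, hp.trans hq.symm, ⟨Ne.symm hp', fun e => hne (by rw [e, hp])⟩,
        Ne.symm hq'.1, fun e => hne (by rw [e, hq])⟩
  rcases Int.units_eq_one_or (sign g) with hs | hs
  · exact ⟨g, ⟨hg, hs⟩, h1, h2⟩
  · refine ⟨swap p q * g, ⟨mul_mem (swap_mem e) hg, ?_⟩, ?_, ?_⟩
    · simp [sign_swap hpq, hs]
    · simp [h1, swap_apply_of_ne_of_ne hp.1 hq.1]
    · simp [h2, swap_apply_of_ne_of_ne hp.2 hq.2]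

theorem exists_bad [Finite Ω] {f : Ω → ι} {h : Perm Ω} (hh : h ∉ partStab f) :
    ∃ x y, x ≠ y ∧ f x = f y ∧ f (h x) ≠ f (h y) := by
  by_contra! hc
  have h1 : ∀ x y, f x = f y → f (h x) = f (h y) := fun x y e => by
    by_cases hxy : x = y
    · rw [hxy]
    · exact hc x y hxy e
  have h2 : ∀ (n : ℕ) x y, f x = f y → f ((h ^ n) x) = f ((h ^ n) y) := fun n => by
    induction n with
    | zero => exact fun x y e => e
    | succ n ih => exact fun x y e => by rw [pow_succ']; exact h1 _ _ (ih x y e)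
  refine hh fun x y => ⟨h1 x y, fun e => ?_⟩
  have h3 := h2 (orderOf h - 1) _ _ e
  have h4 : h ^ (orderOf h - 1) * h = 1 := by
    rw [← pow_succ, Nat.sub_add_cancel (orderOf_pos h), pow_orderOf_eq_one]
  have h5 : ∀ z, (h ^ (orderOf h - 1)) (h z) = z := fun z => by
    rw [← Perm.mul_apply, h4]; rfl
  rwa [h5, h5] at h3

/-- An overgroup of a rank three subgroup `W` of the partition stabiliser which does not
preserve the partition is primitive. -/
theorem isPreprimitive_of [Finite Ω] {f : Ω → ι} {H : Subgroup (Perm Ω)}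
    (hW : ∀ {x y u v : Ω}, x ≠ y → u ≠ v → (f x = f y ↔ f u = f v) → ∃ g ∈ H, g x = u ∧ g y = v)
    (hH : ¬ H ≤ partStab f) : MulAction.IsPreprimitive H Ω := by
  obtain ⟨h, hh, hh'⟩ := SetLike.not_le_iff_exists.1 hH
  obtain ⟨x, y, hxy, e, e'⟩ := exists_bad hh'
  have key : ∀ {u v : Ω}, u ≠ v → ∃ g ∈ H, g x = u ∧ g y = v := fun {u v} huv => by
    by_cases e1 : f u = f v
    · exact hW hxy huv (by simp [e, e1])
    · obtain ⟨g, hg, h1, h2⟩ := hW (h.injective.ne hxy) huv (by simp [e', e1])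
      exact ⟨g * h, mul_mem hg hh, h1, h2⟩
  apply MulAction.isPreprimitive_of_is_two_pretransitive
  rw [MulAction.is_two_pretransitive_iff]
  intro p q r s hpq hrs
  obtain ⟨g, hg, h1, h2⟩ := key hpq
  obtain ⟨g', hg', h1', h2'⟩ := key hrs
  refine ⟨⟨g' * g⁻¹, mul_mem hg' (inv_mem hg)⟩, ?_, ?_⟩
  · show g' (g⁻¹ p) = r
    rw [← h1]; simpa using h1'
  · show g' (g⁻¹ q) = s
    rw [← h2]; simpa using h2'

theorem isCoatom_partStab [Fintype Ω] [DecidableEq Ω] {a b : ℕ} (ha : 2 ≤ a) (hb : 2 ≤ b)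
    {f : Ω → Fin b} (hf : ∀ i, Nat.card {x : Ω // f x = i} = a) : IsCoatom (partStab f) := by
  obtain ⟨u, v, huv, hu, hv⟩ := exists_two ha hf ⟨0, by omega⟩
  obtain ⟨w, -, -, hw, -⟩ := exists_two ha hf ⟨1, by omega⟩
  refine ⟨fun h => ?_, fun H hH => ?_⟩
  · have h1 : swap v w ∈ partStab f := h ▸ Subgroup.mem_top _
    have h2 := (h1 u v).1 (hu.trans hv.symm)
    have h3 : u ≠ w := fun e => by rw [e, hw] at hu; simp at hu
    rw [swap_apply_of_ne_of_ne huv h3, swap_apply_left, hu, hw] at h2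
    simp at h2
  · refine subgroup_eq_top_of_isPreprimitive_of_isSwap_mem (isPreprimitive_of (f := f)
      (fun hxy huv h => ?_) hH.not_ge) (swap u v) ⟨u, v, huv, rfl⟩
      (hH.le (swap_mem (hu.trans hv.symm)))
    obtain ⟨g, hg, h⟩ := exists_pair hf hxy huv h
    exact ⟨g, hH.le hg, h⟩

theorem exists_partner [Finite Ω] {f : Ω → ι} (hf : ∀ i, Nat.card {x : Ω // f x = i} = 2) (x : Ω) :
    ∃ x', x' ≠ x ∧ f x' = f x ∧ ∀ z, f z = f x → z = x ∨ z = x' := by
  obtain ⟨⟨x', hx'⟩, h1, h2⟩ := (Nat.card_eq_two_iff' (⟨x, rfl⟩ : {z // f z = f x})).1 (hf _)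
  refine ⟨x', fun e => h1 (Subtype.ext e), hx', fun z hz => ?_⟩
  by_cases e : z = x
  · exact .inl e
  · exact .inr (congrArg Subtype.val (h2 ⟨z, hz⟩ fun e' => e (congrArg Subtype.val e')))

theorem exists_threeCycle [Fintype Ω] [DecidableEq Ω] {b : ℕ} (hb : 3 ≤ b) (hb4 : b ≠ 4)
    {f : Ω → Fin b} (hf : ∀ i, Nat.card {x : Ω // f x = i} = 2) {H : Subgroup (Perm Ω)}
    (hW : partStab f ⊓ alternatingGroup Ω ≤ H) (hH : ¬ H ≤ partStab f) :
    ∃ g ∈ H, IsThreeCycle g := by
  obtain ⟨h, hh, hh'⟩ := SetLike.not_le_iff_exists.1 hH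
  obtain ⟨x, x', hx, e, e'⟩ := exists_bad hh'
  obtain ⟨p', hp1, hp2, hp3⟩ := exists_partner hf (h x)
  have avoid : ∀ s : Finset (Fin b), s.card < b → ∃ i, i ∉ s := fun s hs => by
    by_contra! hc
    have := Finset.card_le_card (fun i _ => hc i : Finset.univ ⊆ s)
    simp at this; omega
  have dbl : ∀ {u u' v v' : Ω}, u ≠ u' → v ≠ v' → f u = f u' → f v = f v' →
      swap u u' * swap v v' ∈ H := fun h1 h2 h3 h4 =>
    hW ⟨mul_mem (swap_mem h3) (swap_mem h4), by simp [sign_swap h1, sign_swap h2]⟩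
  have cj : ∀ {u u' v v' : Ω}, swap u u' * swap v v' ∈ H →
      swap (h u) (h u') * swap (h v) (h v') ∈ H := fun {u u' v v'} h1 => by
    have := mul_mem (mul_mem hh h1) (inv_mem hh)
    rwa [swap_apply_apply, swap_apply_apply, mul_assoc _ _ (h * _ * _), ← mul_assoc h⁻¹,
      ← mul_assoc h⁻¹, inv_mul_cancel, one_mul, ← mul_assoc, mul_assoc h]
  obtain ⟨i, hi⟩ := avoid {f x, f (h⁻¹ p')} (Finset.card_le_two.trans_lt hb)
  simp only [Finset.mem_insert, Finset.mem_singleton, not_or] at hi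
  obtain ⟨y, y', hy, hy1, hy2⟩ := exists_two le_rfl hf i
  have hq : p' ≠ h x' := fun e1 => e' (by rw [← e1, hp2])
  have hr : ∀ z, f z = i → p' ≠ h z ∧ h x ≠ h z ∧ h x' ≠ h z := fun z hz =>
    ⟨fun e1 => hi.2 (by rw [e1]; simpa using hz.symm),
      h.injective.ne fun e1 => hi.1 (by rw [← hz, e1]),
      h.injective.ne fun e1 => hi.1 (by rw [← hz, e, e1])⟩
  -- two elements of `H` sharing a transposition
  have two : ∀ {u v w : Ω}, u ≠ v → f u = f v → h x ≠ w → p' ≠ w →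
      swap u v * swap (h x) w ∈ H → ∃ g ∈ H, IsThreeCycle g := fun {u v w} h1 h2 h3 h4 h5 => by
    have h6 := mul_mem (inv_mem h5) (dbl h1 hp1.symm h2 hp2.symm)
    refine ⟨_, h6, ?_⟩
    have : (swap u v * swap (h x) w)⁻¹ * (swap u v * swap (h x) p') = swap (h x) w * swap (h x) p' := by
      rw [mul_inv_rev, swap_inv, swap_inv, mul_assoc, ← mul_assoc (swap u v), swap_mul_self, one_mul]
    rw [this]
    exact isThreeCycle_swap_mul_swap_same h3 hp1.symm h4.symm
  have cross : ∀ {y y' : Ω}, y ≠ y' → f y = i → f y' = i → swap x' y * swap x y' ∈ H :=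
    fun {y y'} hy hy1 hy2 => by
      have n1 : ∀ z, f z = i → x ≠ z ∧ x' ≠ z := fun z hz =>
        ⟨fun e1 => hi.1 (by rw [← hz, e1]), fun e1 => hi.1 (by rw [← hz, e, e1])⟩
      refine hW ⟨mem_of_lift (swap (f x) i) fun z => ?_,
        by simp [sign_swap (n1 y hy1).2, sign_swap (n1 y' hy2).1]⟩
      obtain ⟨x1, -, -, hx1⟩ := exists_partner hf x
      obtain ⟨y1, -, -, hy1'⟩ := exists_partner hf y
      have a1 := (hx1 x' e.symm).resolve_left hx.symm
      have a2 := (hy1' y' (hy2.trans hy1.symm)).resolve_left hy.symm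
      subst a1 a2
      have b1 := n1 y hy1
      have b2 := n1 y' hy2
      by_cases c1 : f z = f x
      · rcases hx1 z c1 with rfl | rfl
        · simp [swap_apply_of_ne_of_ne b2.2.symm hy.symm, hy2]
        · simp [swap_apply_of_ne_of_ne hx.symm b2.2, hy1, ← e]
      by_cases c2 : f z = i
      · rcases hy1' z (c2.trans hy1.symm) with rfl | rfl
        · simp [swap_apply_of_ne_of_ne b1.1.symm hy, c2, ← e]
        · simp [swap_apply_of_ne_of_ne hx b1.1, c2]
      · have d1 : z ≠ x := fun e1 => c1 (by rw [e1])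
        have d2 : z ≠ x' := fun e1 => c1 (by rw [e1, e])
        have d3 : z ≠ y := fun e1 => c2 (by rw [e1, hy1])
        have d4 : z ≠ y' := fun e1 => c2 (by rw [e1, hy2])
        simp [swap_apply_of_ne_of_ne d1 d4, swap_apply_of_ne_of_ne d2 d3,
          swap_apply_of_ne_of_ne c1 c2]
  have hc := cj (dbl hx hy e (hy1.trans hy2.symm))
  by_cases c1 : f (h y) = f (h y')
  · exact two (h.injective.ne hy) c1 (h.injective.ne hx) hq
      (cj (dbl hy hx (hy1.trans hy2.symm) e))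
  by_cases c2 : f (h x') = f (h y)
  · exact two (hr y hy1).2.2 c2 (hr y' hy2).2.1 (hr y' hy2).1 (cj (cross hy hy1 hy2))
  by_cases c3 : f (h x') = f (h y')
  · exact two (hr y' hy2).2.2 c3 (hr y hy1).2.1 (hr y hy1).1 (cj (cross hy.symm hy2 hy1))
  have c4 : ∀ z, f z = i → f (h z) ≠ f (h x) := fun z hz e1 =>
    (hp3 _ e1).elim (hr z hz).2.1.symm (hr z hz).1.symm
  have hb5 : 4 < b := by
    have : ({f (h x), f (h x'), f (h y), f (h y')} : Finset (Fin b)).card = 4 := by
      rw [Finset.card_insert_of_notMem (by simp [e', (c4 y hy1).symm, (c4 y' hy2).symm]),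
        Finset.card_insert_of_notMem (by simp [c2, c3]), Finset.card_pair c1]
    have h5 := Finset.card_le_univ ({f (h x), f (h x'), f (h y), f (h y')} : Finset (Fin b))
    simp only [Fintype.card_fin] at h5; omega
  obtain ⟨j, hj⟩ := avoid {f (h x), f (h x'), f (h y), f (h y')} (Finset.card_le_four.trans_lt hb5)
  simp only [Finset.mem_insert, Finset.mem_singleton, not_or] at hj
  obtain ⟨u, u', hu, hu1, hu2⟩ := exists_two le_rfl hf j
  have hd := dbl hp1.symm hu hp2.symm (hu1.trans hu2.symm)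
  have fix : ∀ z, f z ≠ j → swap u u' z = z := fun z hz =>
    swap_apply_of_ne_of_ne (fun e1 => hz (by rw [e1, hu1])) (fun e1 => hz (by rw [e1, hu2]))
  refine ⟨_, mul_mem (mul_mem (mul_mem hd hc) (inv_mem hd)) (inv_mem hc), ?_⟩
  have k1 : swap (h x) p' * swap u u' * (swap (h x) (h x') * swap (h y) (h y')) *
      (swap (h x) p' * swap u u')⁻¹ = swap p' (h x') * swap (h y) (h y') := by
    set d := swap (h x) p' * swap u u'
    have : d * (swap (h x) (h x') * swap (h y) (h y')) * d⁻¹ =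
      swap (d (h x)) (d (h x')) * swap (d (h y)) (d (h y')) := by
      rw [swap_apply_apply d, swap_apply_apply d]; group
    rw [this]
    simp only [d, Perm.mul_apply, fix _ (Ne.symm hj.1), fix _ (Ne.symm hj.2.1),
      fix _ (Ne.symm hj.2.2.1), fix _ (Ne.symm hj.2.2.2), swap_apply_left,
      swap_apply_of_ne_of_ne (h.injective.ne hx).symm hq.symm,
      swap_apply_of_ne_of_ne (hr y hy1).2.1.symm (hr y hy1).1.symm,
      swap_apply_of_ne_of_ne (hr y' hy2).2.1.symm (hr y' hy2).1.symm]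
  rw [k1, mul_inv_rev, swap_inv, swap_inv, mul_assoc, ← mul_assoc (swap (h y) (h y')),
    swap_mul_self, one_mul, swap_comm p', swap_comm (h x)]
  exact isThreeCycle_swap_mul_swap_same hq.symm (h.injective.ne hx).symm hp1

set_option synthInstance.maxSize 2000 in
theorem four_aux : ∀ h g : Perm (Fin 2 × Fin 2), sign h = 1 → sign g = 1 →
    ¬ (∀ x y : Fin 2 × Fin 2, x.1 = y.1 ↔ (h x).1 = (h y).1) →
    (∀ x y : Fin 2 × Fin 2, x.1 = y.1 ↔ (g x).1 = (g y).1) ∨
    (∀ x y : Fin 2 × Fin 2, x.1 = y.1 ↔ (h (g x)).1 = (h (g y)).1) ∨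
    (∀ x y : Fin 2 × Fin 2, x.1 = y.1 ↔ (h (h (g x))).1 = (h (h (g y))).1) := by
  decide +kernel

theorem alternating_le [Fintype Ω] [DecidableEq Ω] (h8 : Fintype.card Ω ≠ 8) {a b : ℕ}
    (ha : 2 ≤ a) (hb : 2 ≤ b) {f : Ω → Fin b} (hf : ∀ i, Nat.card {x : Ω // f x = i} = a)
    {H : Subgroup (Perm Ω)} (hW : partStab f ⊓ alternatingGroup Ω ≤ H)
    (hA : H ≤ alternatingGroup Ω) (hH : ¬ H ≤ partStab f) : alternatingGroup Ω ≤ H := by
  obtain ⟨e, he⟩ := exists_equiv hf
  by_cases hab : 3 ≤ a ∨ 3 ≤ b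
  · have hp : MulAction.IsPreprimitive H Ω := isPreprimitive_of (f := f) (fun hxy huv h => by
      obtain ⟨g, hg, h⟩ := exists_pair_even ha hb hab hf hxy huv h
      exact ⟨g, hW hg, h⟩) hH
    obtain ⟨g, hg, h3⟩ : ∃ g ∈ H, IsThreeCycle g := by
      by_cases ha3 : 3 ≤ a
      · obtain ⟨u, v, huv, hu, hv⟩ := exists_two ha hf ⟨0, by omega⟩
        obtain ⟨w, hw, hw'⟩ := exists_fibre hf {u, v} (Finset.card_le_two.trans_lt ha3) ⟨0, by omega⟩
        simp only [Finset.mem_insert, Finset.mem_singleton, not_or] at hw'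
        have h3 := isThreeCycle_swap_mul_swap_same huv (Ne.symm hw'.1) (Ne.symm hw'.2)
        exact ⟨_, hW ⟨mul_mem (swap_mem (hu.trans hv.symm)) (swap_mem (hu.trans hw.symm)),
          h3.mem_alternatingGroup⟩, h3⟩
      · obtain rfl : a = 2 := by omega
        refine exists_threeCycle (by omega) ?_ hf hW hH
        rintro rfl
        exact h8 (by rw [Fintype.card_congr e]; simp)
    exact alternatingGroup_le_of_isPreprimitive_of_isThreeCycle_mem hp h3 hg
  · obtain rfl : a = 2 := by omega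
    obtain rfl : b = 2 := by omega
    obtain ⟨h, hh, hh'⟩ := SetLike.not_le_iff_exists.1 hH
    intro g hg
    have tr : ∀ k : Perm Ω, (∀ x y : Fin 2 × Fin 2, x.1 = y.1 ↔
        (e (k (e.symm x))).1 = (e (k (e.symm y))).1) ↔ k ∈ partStab f := fun k => by
      rw [mem_partStab, e.surjective.forall₂]; simp [he]
    have hhA := hA hh
    rcases four_aux (e.permCongr h) (e.permCongr g) (by simpa using hhA) (by simpa using hg)
      (fun hc => hh' ((tr h).1 hc)) with h1 | h1 | h1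
    · exact hW ⟨(tr g).1 h1, hg⟩
    · have := hW ⟨(tr (h * g)).1 (by simpa using h1), mul_mem hhA hg⟩
      exact (mul_mem_cancel_left hh).1 this
    · have := hW ⟨(tr (h * (h * g))).1 (by simpa using h1), mul_mem hhA (mul_mem hhA hg)⟩
      exact (mul_mem_cancel_left hh).1 ((mul_mem_cancel_left hh).1 this)

theorem isCoatom_alt [Fintype Ω] [DecidableEq Ω] (h8 : Fintype.card Ω ≠ 8) {a b : ℕ}
    (ha : 2 ≤ a) (hb : 2 ≤ b) {f : Ω → Fin b} (hf : ∀ i, Nat.card {x : Ω // f x = i} = a) :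
    IsCoatom ((partStab f ⊓ alternatingGroup Ω).subgroupOf (alternatingGroup Ω)) := by
  obtain ⟨u, v, huv, hu, hv⟩ := exists_two ha hf ⟨0, by omega⟩
  obtain ⟨w, -, -, hw, -⟩ := exists_two ha hf ⟨1, by omega⟩
  refine ⟨fun h => ?_, fun H hH => ?_⟩
  · have h3 : u ≠ w := fun e => by rw [e, hw] at hu; simp at hu
    have h4 : v ≠ w := fun e => by rw [e, hw] at hv; simp at hv
    have h0 : swap v w * swap v u ∈ alternatingGroup Ω := by
      simp [sign_swap h4, sign_swap huv.symm]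
    have h1 : (⟨_, h0⟩ : alternatingGroup Ω) ∈ (partStab f ⊓ alternatingGroup Ω).subgroupOf
      (alternatingGroup Ω) := h ▸ Subgroup.mem_top _
    have h2 := (h1.1 u v).1 (hu.trans hv.symm)
    simp [swap_apply_of_ne_of_ne huv h3, hu, hw] at h2
  · have h1 : partStab f ⊓ alternatingGroup Ω ≤ H.map (alternatingGroup Ω).subtype :=
      fun g hg => ⟨⟨g, hg.2⟩, hH.le hg, rfl⟩
    have h2 := alternating_le h8 ha hb hf h1 (Subgroup.map_subtype_le _) fun hc =>
      hH.not_ge fun g hg => ⟨hc ⟨g, hg, rfl⟩, g.2⟩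
    refine top_le_iff.1 fun g _ => ?_
    obtain ⟨k, hk, e⟩ := h2 g.2
    rwa [← Subtype.ext e]

end Cfsg.Lib.Char.Wreath
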